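/-
Helper library (helper54): reducedness along étale / smooth / flat surjective morphisms.

* `isReduced_of_flat_of_geometricallyReduced`: a flat algebra with geometrically reduced fibres over a reduced ring
  is reduced (no Noetherian hypothesis).
* `isReduced_of_etale`: an étale algebra over a reduced ring is reduced.
* `isReduced_of_etale_scheme`, `isReduced_of_smooth_scheme`: schemes étale / smooth over a reduced scheme are reduced.
* `isReduced_of_flat_of_surjective`: reducedness descends along flat surjective morphisms of schemes.
-/
import Mathlib.AlgebraicGeometry.Morphisms.Etale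
import Mathlib.AlgebraicGeometry.Morphisms.Smooth
import Mathlib.AlgebraicGeometry.Morphisms.Flat
import Mathlib.RingTheory.Unramified.Field
import Mathlib.RingTheory.Smooth.Flat
import Mathlib.RingTheory.Localization.BaseChange
import Mathlib.RingTheory.LocalProperties.Reduced
import Mathlib.RingTheory.RingHom.StandardSmooth
import Mathlib.Algebra.MvPolynomial.Nilpotent

set_option autoImplicit false
universe u

open TensorProduct CategoryTheory AlgebraicGeometry

namespace Groth.Agent.Lib.Helper54

/-- Reducedness is local on the base: if all localizations `P_q ⊗[P] C` at primes `q` of `P` are reduced then so is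
`C`. -/
theorem isReduced_of_forall_localization_tensor {P C : Type u} [CommRing P] [CommRing C] [Algebra P C]
    (h : ∀ (q : Ideal P) [q.IsPrime], IsReduced (Localization.AtPrime q ⊗[P] C)) : IsReduced C := by
  constructor
  intro x hx
  by_contra hx0
  let I : Ideal C := LinearMap.ker (LinearMap.toSpanSingleton C C x)
  have hI : I ≠ ⊤ := by
    intro hI
    have : (1 : C) ∈ I := hI ▸ Submodule.mem_top
    have h1 : (1 : C) • x = 0 := by simpa [I, LinearMap.mem_ker] using this
    exact hx0 (by simpa using h1)
  obtain ⟨m, hm, hIm⟩ := Ideal.exists_le_maximal I hI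
  let q : Ideal P := m.comap (algebraMap P C)
  have : q.IsPrime := Ideal.comap_isPrime _ _
  have := h q
  have h0 : (1 : Localization.AtPrime q) ⊗ₜ[P] x = 0 := by
    apply IsNilpotent.eq_zero
    obtain ⟨n, hn⟩ := hx
    exact ⟨n, by rw [Algebra.TensorProduct.tmul_pow, hn, one_pow, tmul_zero]⟩
  have hloc : IsLocalizedModule q.primeCompl (TensorProduct.mk P (Localization.AtPrime q) C 1) :=
    (isLocalizedModule_iff_isBaseChange q.primeCompl (Localization.AtPrime q) _).2
      (TensorProduct.isBaseChange P C _)
  obtain ⟨s, hs⟩ := (IsLocalizedModule.eq_zero_iff q.primeCompl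
    (TensorProduct.mk P (Localization.AtPrime q) C 1)).1 h0
  have hsI : algebraMap P C s ∈ I := by
    simp only [I, LinearMap.mem_ker, LinearMap.toSpanSingleton_apply]
    rw [smul_eq_mul, ← Algebra.smul_def]
    exact hs
  exact s.2 (hIm hsI)

/-- In an absolutely flat ring (every element `x` is of the form `x² y`), the localization at any prime ideal is a
field. -/
theorem isField_localization_atPrime_of_absolutelyFlat {P : Type u} [CommRing P]
    (hP : ∀ x : P, ∃ y, x = x * x * y) (q : Ideal P) [q.IsPrime] :
    IsField (Localization.AtPrime q) := by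
  rw [IsLocalRing.isField_iff_maximalIdeal_eq, eq_bot_iff]
  intro z hz
  obtain ⟨a, s, rfl⟩ := IsLocalization.exists_mk'_eq q.primeCompl z
  rw [IsLocalization.AtPrime.mk'_mem_maximal_iff (Localization.AtPrime q) q] at hz
  obtain ⟨b, hb⟩ := hP a
  rw [Submodule.mem_bot, IsLocalization.mk'_eq_zero_iff]
  have h1 : 1 - a * b ∈ q.primeCompl := by
    intro h
    have : (1 : P) ∈ q := by
      have := q.add_mem h (q.mul_mem_right b hz)
      simpa using this
    exact (Ideal.IsPrime.ne_top ‹_›) ((Ideal.eq_top_iff_one _).2 this)
  refine ⟨⟨_, h1⟩, ?_⟩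
  change (1 - a * b) * a = 0
  linear_combination hb

/-- A product of fields is absolutely flat. -/
theorem absolutelyFlat_pi {ι : Type u} (K : ι → Type u) [∀ i, Field (K i)] (x : ∀ i, K i) :
    ∃ y : ∀ i, K i, x = x * x * y := by
  refine ⟨fun i => (x i)⁻¹, ?_⟩
  funext i
  by_cases h : x i = 0
  · simp [h]
  · simp only [Pi.mul_apply]; field_simp

/-- A flat algebra with geometrically reduced fibres over a reduced ring is reduced. -/
theorem isReduced_of_flat_of_geometricallyReduced (A B : Type u) [CommRing A] [CommRing B] [Algebra A B]
    [IsReduced A] [Module.Flat A B]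
    (h : ∀ (K : Type u) [CommRing K] [Algebra A K], IsField K → IsReduced (K ⊗[A] B)) : IsReduced B := by
  let P : Type u := ∀ p : PrimeSpectrum A, p.asIdeal.ResidueField
  have hinj : Function.Injective (algebraMap A P) := by
    rw [injective_iff_map_eq_zero]
    intro a ha
    have : a ∈ nilradical A := by
      rw [nilradical_eq_sInf, Ideal.mem_sInf]
      intro p hp
      have := congrFun ha ⟨p, hp⟩
      simpa [P, Ideal.algebraMap_residueField_eq_zero] using this
    rw [nilradical_eq_bot_iff.mpr inferInstance] at this
    exact this
  have hinj' : Function.Injective (Algebra.TensorProduct.includeRight : B →ₐ[A] P ⊗[A] B) :=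
    Algebra.TensorProduct.includeRight_injective hinj
  have : IsReduced (P ⊗[A] B) := by
    apply isReduced_of_forall_localization_tensor (P := P)
    intro q _
    have hK := isField_localization_atPrime_of_absolutelyFlat
      (absolutelyFlat_pi fun p : PrimeSpectrum A => p.asIdeal.ResidueField) q
    have := h (Localization.AtPrime q) hK
    exact isReduced_of_injective
      (Algebra.TensorProduct.cancelBaseChange A P P (Localization.AtPrime q) B).toRingEquiv
      (Algebra.TensorProduct.cancelBaseChange A P P (Localization.AtPrime q) B).injective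
  exact isReduced_of_injective _ hinj'

/-- An étale algebra over a reduced ring is reduced. -/
theorem isReduced_of_etale (A B : Type u) [CommRing A] [CommRing B] [Algebra A B]
    [IsReduced A] [Algebra.Etale A B] : IsReduced B := by
  have : Module.Flat A B := Algebra.Smooth.flat A B
  refine isReduced_of_flat_of_geometricallyReduced A B fun K _ _ hK => ?_
  let := hK.toField
  exact Algebra.FormallyUnramified.isReduced_of_field K (K ⊗[A] B)

/-- Reducedness descends along flat surjective morphisms of schemes. -/
theorem isReduced_of_flat_of_surjective {X Y : Scheme.{u}} (f : X ⟶ Y) [Flat f] [Surjective f]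
    [AlgebraicGeometry.IsReduced X] : AlgebraicGeometry.IsReduced Y := by
  apply +allowSynthFailures isReduced_of_isReduced_stalk
  intro y
  obtain ⟨x, rfl⟩ := f.surjective y
  algebraize [(f.stalkMap x).hom]
  have : Module.FaithfullyFlat (Y.presheaf.stalk (f x)) (X.presheaf.stalk x) :=
    @Module.FaithfullyFlat.of_flat_of_isLocalHom _ _ _ _ _ _ _
      (Flat.stalkMap f x) (f.toLRSHom.prop x)
  exact isReduced_of_injective (f.stalkMap x).hom ‹RingHom.FaithfullyFlat _›.injective

theorem isReduced_of_etale_of_isAffine {X Y : Scheme.{u}} (f : X ⟶ Y) [Etale f] [IsAffine X] [IsAffine Y]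
    [AlgebraicGeometry.IsReduced Y] : AlgebraicGeometry.IsReduced X := by
  have h : (f.appTop).hom.Etale := (HasRingHomProperty.iff_of_isAffine (P := @Etale)).1 ‹_›
  algebraize [f.appTop.hom]
  have : _root_.IsReduced Γ(X, ⊤) := isReduced_of_etale Γ(Y, ⊤) Γ(X, ⊤)
  exact isReduced_of_isAffine_isReduced X

/-- A scheme étale over a reduced scheme is reduced. -/
theorem isReduced_of_etale_scheme {X Y : Scheme.{u}} (f : X ⟶ Y) [Etale f]
    [AlgebraicGeometry.IsReduced Y] : AlgebraicGeometry.IsReduced X := by
  refine @AlgebraicGeometry.IsReduced.of_openCover _ (Y.affineCover.pullback₁ f)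
    (fun (i : Y.affineCover.I₀) => ?_)
  change AlgebraicGeometry.IsReduced (Limits.pullback f (Y.affineCover.f i))
  refine @AlgebraicGeometry.IsReduced.of_openCover _ (Limits.pullback f (Y.affineCover.f i)).affineCover
    (fun j => ?_)
  have h1 : Etale (Limits.pullback.snd f (Y.affineCover.f i)) := inferInstance
  have h2 : Etale ((Limits.pullback f (Y.affineCover.f i)).affineCover.f j) := inferInstance
  have : Etale (((Limits.pullback f (Y.affineCover.f i)).affineCover.f j) ≫
      Limits.pullback.snd f (Y.affineCover.f i)) := inferInstance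
  exact isReduced_of_etale_of_isAffine
    (((Limits.pullback f (Y.affineCover.f i)).affineCover.f j) ≫ Limits.pullback.snd f (Y.affineCover.f i))

/-- A scheme smooth over a reduced scheme is reduced. -/
theorem isReduced_of_smooth_scheme {X Y : Scheme.{u}} (f : X ⟶ Y) [Smooth f]
    [AlgebraicGeometry.IsReduced Y] : AlgebraicGeometry.IsReduced X := by
  apply +allowSynthFailures isReduced_of_isReduced_stalk
  intro x
  obtain ⟨U, hU, V, hV, hxV, e, hst⟩ := Smooth.exists_isStandardSmooth f x
  obtain ⟨n, g, hg, hge⟩ := hst.exists_etale_mvPolynomial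
  have hred : _root_.IsReduced Γ(X, V) := by
    algebraize [g]
    exact isReduced_of_etale (MvPolynomial (Fin n) Γ(Y, U)) Γ(X, V)
  let := X.presheaf.algebra_section_stalk (U := V) ⟨x, hxV⟩
  have hloc := hV.isLocalization_stalk ⟨x, hxV⟩
  exact isReduced_localizationPreserves (hV.primeIdealOf ⟨x, hxV⟩).asIdeal.primeCompl _ hred

end Groth.Agent.Lib.Helper54
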