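/-
Helper library (helper54): field-valued points of fppf sheaves, points of fibre products,
residue-field points of schemes; descent of "decent point" conditions along representable morphisms.
-/
import Groth.Prelude.Def_AlgSpDec

set_option autoImplicit false
universe u
open CategoryTheory CategoryTheory.Limits AlgebraicGeometry Opposite

namespace Groth.Agent.Lib.Helper54

open AlgSp

variable {S : Scheme.{u}}

/-- The field-valued point of `F` defined by a morphism `h_{Spec K} ⟶ F`. -/
noncomputable abbrev fieldPtOfHom {F : Sp S} (K : Type u) [Field K] (str : Spec (CommRingCat.of K) ⟶ S)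
    (m : (yon S).obj (Over.mk str) ⟶ F) : FieldPt F :=
  ⟨K, str, (J S).uliftYonedaEquiv m⟩

@[simp] theorem fieldPtOfHom_toHom {F : Sp S} (K : Type u) [Field K]
    (str : Spec (CommRingCat.of K) ⟶ S) (m : (yon S).obj (Over.mk str) ⟶ F) :
    (fieldPtOfHom K str m).toHom = m :=
  Equiv.symm_apply_apply _ _

/-- Restriction of the section of a field valued point along `a`, in terms of `toHom`. -/
theorem uliftYonedaEquiv_map_comp_toHom {F : Sp S} (p : FieldPt F) {Y : Over S} (a : Y ⟶ p.pt) :
    (J S).uliftYonedaEquiv ((yon S).map a ≫ p.toHom) = F.obj.map a.op p.val := by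
  rw [GrothendieckTopology.uliftYonedaEquiv_comp, GrothendieckTopology.uliftYonedaEquiv_uliftYoneda_map]
  exact FieldPt.toHom_app p a

/-- The relation on field valued points in terms of the associated morphisms. -/
theorem rel_iff_toHom {F : Sp S} (p q : FieldPt F) :
    FieldPt.Rel p q ↔ ∃ (Ω : Type u) (_ : Field Ω) (w : Spec (CommRingCat.of Ω) ⟶ S)
      (a : Over.mk w ⟶ p.pt) (b : Over.mk w ⟶ q.pt),
        (yon S).map a ≫ p.toHom = (yon S).map b ≫ q.toHom := by
  constructor
  · rintro ⟨Ω, _, w, a, b, h⟩
    refine ⟨Ω, inferInstance, w, a, b, ?_⟩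
    apply (J S).uliftYonedaEquiv.injective
    rw [uliftYonedaEquiv_map_comp_toHom, uliftYonedaEquiv_map_comp_toHom, h]
  · rintro ⟨Ω, _, w, a, b, h⟩
    refine ⟨Ω, inferInstance, w, a, b, ?_⟩
    rw [← uliftYonedaEquiv_map_comp_toHom, ← uliftYonedaEquiv_map_comp_toHom, h]


/-- A field valued point restricted along a field extension defines the same point. -/
theorem mk_fieldPtOfHom_comp {F : Sp S} (p : FieldPt F) {Ω : Type u} [Field Ω]
    (w : Spec (CommRingCat.of Ω) ⟶ S) (a : Over.mk w ⟶ p.pt) :
    Points.mk (fieldPtOfHom Ω w ((yon S).map a ≫ p.toHom)) = Points.mk p := by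
  apply Points.sound
  rw [rel_iff_toHom]
  exact ⟨Ω, inferInstance, w, 𝟙 _, a, by rw [fieldPtOfHom_toHom]; erw [(yon S).map_id]; rw [Category.id_comp]⟩

theorem map_fieldPtOfHom {F G : Sp S} (f : F ⟶ G) (K : Type u) [Field K]
    (str : Spec (CommRingCat.of K) ⟶ S) (m : (yon S).obj (Over.mk str) ⟶ F) :
    (fieldPtOfHom K str m).map f = fieldPtOfHom K str (m ≫ f) := by
  change (⟨K, str, f.hom.app _ ((J S).uliftYonedaEquiv m)⟩ : FieldPt G) =
    ⟨K, str, (J S).uliftYonedaEquiv (m ≫ f)⟩
  exact congrArg (fun v => (⟨K, str, v⟩ : FieldPt G)) (GrothendieckTopology.uliftYonedaEquiv_comp _ _ _).symm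

/-- Points of a fibre product of sheaves surject onto the fibre product of the sets of points
(field-valued point version). -/
theorem exists_fieldPt_of_isPullback {F G H P : Sp S} {fst : P ⟶ F} {snd : P ⟶ H} {f : F ⟶ G}
    {g : H ⟶ G} (sq : IsPullback fst snd f g) (p : FieldPt F) (q : FieldPt H)
    (h : Points.map f (Points.mk p) = Points.map g (Points.mk q)) :
    ∃ w : FieldPt P, Points.mk (w.map fst) = Points.mk p ∧ Points.mk (w.map snd) = Points.mk q := by
  rw [Points.map_mk, Points.map_mk, Points.mk_eq_mk_iff, rel_iff_toHom] at h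
  obtain ⟨Ω, _, w, a, b, hab⟩ := h
  rw [FieldPt.toHom_map, FieldPt.toHom_map] at hab
  change Over.mk w ⟶ p.pt at a
  change Over.mk w ⟶ q.pt at b
  have hab' : ((yon S).map a ≫ p.toHom) ≫ f = ((yon S).map b ≫ q.toHom) ≫ g := by
    rw [Category.assoc, Category.assoc]; exact hab
  refine ⟨fieldPtOfHom Ω w (sq.lift _ _ hab'), ?_, ?_⟩
  · rw [map_fieldPtOfHom, sq.lift_fst]
    exact mk_fieldPtOfHom_comp p w a
  · rw [map_fieldPtOfHom, sq.lift_snd]
    exact mk_fieldPtOfHom_comp q w b

/-- Points of a fibre product of sheaves surject onto the fibre product of the sets of points. -/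
theorem exists_point_of_isPullback {F G H P : Sp S} {fst : P ⟶ F} {snd : P ⟶ H} {f : F ⟶ G}
    {g : H ⟶ G} (sq : IsPullback fst snd f g) (x : Points F) (z : Points H)
    (h : Points.map f x = Points.map g z) :
    ∃ w : Points P, Points.map fst w = x ∧ Points.map snd w = z := by
  induction x using Points.ind with
  | h p =>
    induction z using Points.ind with
    | h q =>
      obtain ⟨w, h1, h2⟩ := exists_fieldPt_of_isPullback sq p q h
      exact ⟨Points.mk w, h1, h2⟩


/-- The spectrum of the residue field of a point `t` of a scheme `T` over `S`, as a scheme over `S`. -/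
noncomputable abbrev residuePt (T : Over S) (t : ↥T.left) : Over S :=
  Over.mk (T.left.fromSpecResidueField t ≫ T.hom)

/-- The canonical morphism `Spec κ(t) ⟶ T` over `S`. -/
noncomputable abbrev residueHom (T : Over S) (t : ↥T.left) : residuePt T t ⟶ T :=
  Over.homMk (T.left.fromSpecResidueField t) rfl

theorem toHom_ofPt' {F : Sp S} {T : Over S} (g : (yon S).obj T ⟶ F) (t : ↥T.left) :
    (FieldPt.ofPt g t).toHom = (yon S).map (residueHom T t) ≫ g :=
  FieldPt.toHom_ofPt g t

instance mono_residueHom (T : Over S) (t : ↥T.left) : Mono (residueHom T t) := by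
  have : Mono ((Over.forget S).map (residueHom T t)) := by
    change Mono (T.left.fromSpecResidueField t)
    infer_instance
  exact (Over.forget S).mono_of_mono_map this

instance mono_yon_map_residueHom (T : Over S) (t : ↥T.left) :
    Mono ((yon S).map (residueHom T t)) :=
  inferInstance

theorem quasiCompact_of_subsingleton {X Y : Scheme.{u}} (f : X ⟶ Y) [Subsingleton ↥X] :
    QuasiCompact f :=
  ⟨fun U _ _ => (Set.subsingleton_of_subsingleton (s := f ⁻¹' U)).isCompact⟩

instance quasiCompact_fromSpecResidueField (X : Scheme.{u}) (x : ↥X) :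
    QuasiCompact (X.fromSpecResidueField x) :=
  quasiCompact_of_subsingleton _

theorem repWith_quasiCompact_residueHom (T : Over S) (t : ↥T.left) :
    RepWith @QuasiCompact ((yon S).map (residueHom T t)) :=
  (repWith_yon_map_iff _ _).2 (quasiCompact_fromSpecResidueField T.left t)


/-- Every point of `h_V` comes from a point of the scheme `V`. -/
theorem exists_ofScheme_eq (V : Over S) (w : Points ((yon S).obj V)) :
    ∃ v : ↥V.left, Points.ofScheme V v = w :=
  ⟨Points.toScheme V w, Points.ofScheme_toScheme V w⟩

/-- Lifting a point of `F` to a scheme representing a base change of `F`. -/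
theorem exists_pt_of_isPullback_yon {F G : Sp S} {U V : Over S} {fst : (yon S).obj V ⟶ F}
    {snd : V ⟶ U} {f : F ⟶ G} {g : (yon S).obj U ⟶ G}
    (sq : IsPullback fst ((yon S).map snd) f g) (x : Points F) (u : ↥U.left)
    (h : Points.map f x = Points.ofPt g u) :
    ∃ v : ↥V.left, Points.ofPt fst v = x ∧ snd.left v = u := by
  rw [Points.ofPt_eq_map_ofScheme] at h
  obtain ⟨w, hw1, hw2⟩ := exists_point_of_isPullback sq x _ h
  obtain ⟨v, rfl⟩ := exists_ofScheme_eq V w
  refine ⟨v, ?_, ?_⟩
  · rw [Points.ofPt_eq_map_ofScheme]; exact hw1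
  · have := congrArg (Points.toScheme U) hw2
    rw [Points.toScheme_ofScheme] at this
    rw [← this]
    change _ = Points.toScheme U (Points.map ((yon S).map snd) (Points.ofPt (𝟙 _) v))
    rw [Points.map_ofPt, Category.id_comp, Points.toScheme_ofPt]

/-- Lifting a point along a base change of a field-valued point. -/
theorem exists_pt_of_isPullback_fieldPt {F G : Sp S} {V : Over S} {fst : (yon S).obj V ⟶ F}
    (q : FieldPt G) {snd : V ⟶ q.pt} {f : F ⟶ G}
    (sq : IsPullback fst ((yon S).map snd) f q.toHom) (x : Points F)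
    (h : Points.map f x = Points.mk q) :
    ∃ v : ↥V.left, Points.ofPt fst v = x := by
  have s0 : ↥(Spec (CommRingCat.of q.K)) := IsLocalRing.closedPoint q.K
  have h' : Points.map f x = Points.ofPt q.toHom s0 := by
    rw [h]; exact (Points.ofPt_toHom q s0).symm
  obtain ⟨v, hv, -⟩ := exists_pt_of_isPullback_yon sq x s0 h'
  exact ⟨v, hv⟩

/-- Main lemma: a condition `W` on morphisms of sheaves, stable under base change and composition, and satisfied by
the residue field points of schemes, ascends along representable morphisms: if the image of `x` under the representable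
morphism `f` is the class of a field-valued point `q` with `W q.toHom`, then `x` is the class of a field-valued point `p`
with `W p.toHom`. -/
theorem exists_fieldPt_of_representable (W : MorphismProperty (Sp S)) [W.IsStableUnderBaseChange]
    [W.IsStableUnderComposition]
    (hW : ∀ (T : Over S) (t : ↥T.left), W ((yon S).map (residueHom T t)))
    {F G : Sp S} (f : F ⟶ G) (hf : Representable f) (x : Points F) (q : FieldPt G)
    (hq : Points.mk q = Points.map f x) (hWq : W q.toHom) :
    ∃ p : FieldPt F, Points.mk p = x ∧ W p.toHom := by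
  have sq := hf.isPullback q.toHom
  obtain ⟨v, hv⟩ := exists_pt_of_isPullback_fieldPt q sq x hq.symm
  refine ⟨FieldPt.ofPt (hf.fst q.toHom) v, hv, ?_⟩
  rw [toHom_ofPt']
  exact W.comp_mem _ _ (hW _ v) (W.of_isPullback sq.flip hWq)


instance repWith_quasiCompact_isStableUnderBaseChange :
    (RepWith (S := S) @QuasiCompact).IsStableUnderBaseChange := repWith_isStableUnderBaseChange _

instance repWith_quasiCompact_isMultiplicative :
    (RepWith (S := S) @QuasiCompact).IsMultiplicative := repWith_isMultiplicative _

/-- The property "monomorphism, representable and quasi-compact" of morphisms of sheaves. -/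
abbrev QcMono : MorphismProperty (Sp S) :=
  MorphismProperty.monomorphisms (Sp S) ⊓ RepWith @QuasiCompact

theorem qcMono_iff {F G : Sp S} (f : F ⟶ G) : QcMono f ↔ Mono f ∧ RepWith @QuasiCompact f := Iff.rfl

theorem qcMono_residueHom (T : Over S) (t : ↥T.left) : QcMono ((yon S).map (residueHom T t)) :=
  ⟨mono_yon_map_residueHom T t, repWith_quasiCompact_residueHom T t⟩

theorem monomorphisms_residueHom (T : Over S) (t : ↥T.left) :
    MorphismProperty.monomorphisms (Sp S) ((yon S).map (residueHom T t)) :=
  mono_yon_map_residueHom T t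

theorem isDecent_iff_qcMono (F : Sp S) :
    IsDecent F ↔ ∀ x : Points F, ∃ p : FieldPt F, Points.mk p = x ∧ QcMono p.toHom := Iff.rfl

/-- Decency ascends along representable morphisms of sheaves. -/
theorem isDecent_of_representable {F G : Sp S} (f : F ⟶ G) (hf : Representable f) (hG : IsDecent G) :
    IsDecent F := by
  intro x
  obtain ⟨q, hq, hWq⟩ := (isDecent_iff_qcMono G).1 hG (Points.map f x)
  exact exists_fieldPt_of_representable QcMono qcMono_residueHom f hf x q hq hWq

/-- Schemes are decent. -/
theorem isDecent_yon_obj (T : Over S) : IsDecent ((yon S).obj T) := by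
  intro x
  obtain ⟨t, rfl⟩ := exists_ofScheme_eq T x
  refine ⟨FieldPt.ofPt (𝟙 _) t, rfl, ?_⟩
  rw [toHom_ofPt', Category.comp_id]
  exact qcMono_residueHom T t

/-- Decency ascends along decent morphisms of sheaves. -/
theorem isDecent_of_isDecentMor {F G : Sp S} (f : F ⟶ G) (hf : IsDecentMor f) (hG : IsDecent G) :
    IsDecent F := by
  intro x
  obtain ⟨q, hq, hWq⟩ := (isDecent_iff_qcMono G).1 hG (Points.map f x)
  have sq : IsPullback (pullback.fst f q.toHom) (pullback.snd f q.toHom) f q.toHom :=
    IsPullback.of_hasPullback f q.toHom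
  have hdec : IsDecent (pullback f q.toHom) := hf q.toHom _ _ sq
  have s0 : ↥(Spec (CommRingCat.of q.K)) := IsLocalRing.closedPoint q.K
  have hq' : Points.map f x = Points.map q.toHom (Points.ofScheme q.pt s0) := by
    rw [← Points.ofPt_eq_map_ofScheme, ← hq]; exact (Points.ofPt_toHom q s0).symm
  obtain ⟨x', hx', -⟩ := exists_point_of_isPullback sq x _ hq'
  obtain ⟨p', hp', hWp'⟩ := (isDecent_iff_qcMono _).1 hdec x'
  refine ⟨p'.map (pullback.fst f q.toHom), ?_, ?_⟩
  · rw [← Points.map_mk, hp', hx']
  · rw [FieldPt.toHom_map]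
    exact QcMono.comp_mem _ _ hWp' (QcMono.of_isPullback sq.flip hWq)

/-- Decent morphisms are stable under base change. -/
theorem isDecentMor_of_isPullback {F G F' G' : Sp S} {f : F ⟶ G} {g : G' ⟶ G} {fst : F' ⟶ F}
    {snd : F' ⟶ G'} (sq : IsPullback fst snd f g) (hf : IsDecentMor f) : IsDecentMor snd := by
  intro T P t a b sq'
  exact hf (t ≫ g) (a ≫ fst) b (sq'.paste_horiz sq)

/-- The base change of a decent morphism to a decent sheaf has decent source. -/
theorem isDecent_of_isPullback_of_isDecentMor {F G F' G' : Sp S} {f : F ⟶ G} {g : G' ⟶ G}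
    {fst : F' ⟶ F} {snd : F' ⟶ G'} (sq : IsPullback fst snd f g) (hf : IsDecentMor f)
    (hG' : IsDecent G') : IsDecent F' :=
  isDecent_of_isDecentMor snd (isDecentMor_of_isPullback sq hf) hG'

/-- Composition of decent morphisms. -/
theorem isDecentMor_comp {F G H : Sp S} (f : F ⟶ G) (g : G ⟶ H) (hf : IsDecentMor f)
    (hg : IsDecentMor g) : IsDecentMor (f ≫ g) := by
  intro T P t a b sq
  -- the base change of `g`
  have sq1 : IsPullback (pullback.fst g t) (pullback.snd g t) g t := IsPullback.of_hasPullback g t
  have hdec1 : IsDecent (pullback g t) := hg t _ _ sq1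
  exact isDecent_of_isPullback_of_isDecentMor (IsPullback.of_bot' sq sq1) hf hdec1


/-- A morphism with decent source into a sheaf all of whose scheme-points are representable (e.g. an algebraic space)
is a decent morphism. -/
theorem isDecentMor_of_isDecent_source {F G : Sp S} (f : F ⟶ G)
    (hG : ∀ (T : Over S) (g : (yon S).obj T ⟶ G), Representable g) (hF : IsDecent F) :
    IsDecentMor f := by
  intro T F' g fst snd sq
  have hfst : Representable fst := MorphismProperty.of_isPullback sq.flip (hG T g)
  exact isDecent_of_representable fst hfst hF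

/-- A fibre product of decent sheaves over an algebraic space is decent. -/
theorem isDecent_of_isPullback_of_isDecent {F G H P : Sp S} {fst : P ⟶ F} {snd : P ⟶ H} {f : F ⟶ G}
    {g : H ⟶ G} (sq : IsPullback fst snd f g)
    (hG : ∀ (T : Over S) (t : (yon S).obj T ⟶ G), Representable t) (hF : IsDecent F)
    (hH : IsDecent H) : IsDecent P :=
  isDecent_of_isPullback_of_isDecentMor sq (isDecentMor_of_isDecent_source f hG hF) hH

end Groth.Agent.Lib.Helper54
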