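/-
Helper library (helper54): the "chart square" of a morphism of sheaves `f : X ⟶ Y` to an algebraic space, used to transfer
étale-local properties along `f`.

Given étale charts `p : h_U ⟶ X` and `q : h_W ⟶ Y`, the fibre product `h_U ×_Y h_W` is a scheme `V`, étale over `U`,
and `V ⟶ W` is a chart of `f` in the sense of `AlgSp.LocP`.
-/
import Groth.Agent.Lib.Helper54.Points
import Groth.Agent.H52.Points

set_option autoImplicit false
universe u
open CategoryTheory CategoryTheory.Limits AlgebraicGeometry

namespace Groth.Agent.Lib.Helper54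

open AlgSp

variable {S : Scheme.{u}}

/-- The chart square: for `f : X ⟶ Y` and étale charts `p : h_U ⟶ X`, `q : h_W ⟶ Y`, there are a
scheme `V` with an étale map `a : V ⟶ U` and a map `h : V ⟶ W` such that `h_V = h_U ×_Y h_W`; the composite
`h_V ⟶ h_U ⟶ X` is again an étale chart. -/
theorem exists_chart_square {X Y : Sp S} (f : X ⟶ Y) {U W : Over S}
    (p : (yon S).obj U ⟶ X) (hp : RepWith @Etale p) (q : (yon S).obj W ⟶ Y) (hq : RepWith @Etale q) :
    ∃ (V : Over S) (a : V ⟶ U) (h : V ⟶ W), Etale a.left ∧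
      IsPullback ((yon S).map a) ((yon S).map h) (p ≫ f) q ∧ RepWith @Etale ((yon S).map a ≫ p) := by
  have hrep := hq.rep
  let g : (yon S).obj U ⟶ Y := p ≫ f
  obtain ⟨h, hh⟩ := (yon S).map_surjective (hrep.fst g)
  have sq : IsPullback ((yon S).map (hrep.snd g)) ((yon S).map h) g q := by
    rw [hh]
    exact (hrep.isPullback g).flip
  have ha : Etale (hrep.snd g).left := hq.property_snd g
  refine ⟨hrep.pullback g, hrep.snd g, h, ha, sq, ?_⟩
  have : (RepWith (S := S) @Etale).IsMultiplicative := repWith_isMultiplicative _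
  exact (RepWith @Etale).comp_mem _ _ ((repWith_yon_map_iff _ _).2 ha) hp

/-- In a chart square, the map `V ⟶ W` satisfies every property that `f` has étale locally. -/
theorem locP_of_chart_square {P : MorphismProperty Scheme.{u}} {X Y : Sp S} {f : X ⟶ Y} (hf : LocP P f)
    {U W V : Over S} {p : (yon S).obj U ⟶ X} {q : (yon S).obj W ⟶ Y} (hq : RepWith @Etale q)
    {a : V ⟶ U} {h : V ⟶ W} (sq : IsPullback ((yon S).map a) ((yon S).map h) (p ≫ f) q)
    (hrep : RepWith @Etale ((yon S).map a ≫ p)) : P h.left :=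
  hf _ q h hrep hq (by rw [Category.assoc]; exact sq.w)

/-- In a chart square with `p` and `f` surjective on points, the map `V ⟶ W` is surjective. -/
theorem surjective_of_chart_square {X Y : Sp S} {f : X ⟶ Y}
    {U W V : Over S} {p : (yon S).obj U ⟶ X} {q : (yon S).obj W ⟶ Y}
    {a : V ⟶ U} {h : V ⟶ W} (sq : IsPullback ((yon S).map a) ((yon S).map h) (p ≫ f) q)
    (hp : Function.Surjective (Points.map p)) (hf : Function.Surjective (Points.map f)) :
    Function.Surjective h.left := by
  intro w
  obtain ⟨x, hx⟩ := hf (Points.ofPt q w)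
  obtain ⟨u', rfl⟩ := hp x
  have hu : Points.map (p ≫ f) u' = Points.map q (Points.ofScheme W w) := by
    rw [Points.map_comp, ← Points.ofPt_eq_map_ofScheme]
    exact hx
  obtain ⟨v', -, hv2⟩ := exists_point_of_isPullback sq u' _ hu
  obtain ⟨v, rfl⟩ := exists_ofScheme_eq V v'
  refine ⟨v, ?_⟩
  apply (Points.schemeEquiv W).injective
  exact (Groth.Agent.H52.points_map_ofScheme h v).symm.trans hv2

/-- In a chart square where `q` is a surjective chart, `V ⟶ U` is surjective. -/
theorem surjective_left_of_chart_square {X Y : Sp S} {f : X ⟶ Y}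
    {U W V : Over S} {p : (yon S).obj U ⟶ X} {q : (yon S).obj W ⟶ Y} (hqs : RepWith @Surjective q)
    {a : V ⟶ U} {h : V ⟶ W} (sq : IsPullback ((yon S).map a) ((yon S).map h) (p ≫ f) q) :
    Surjective a.left :=
  hqs.property _ _ _ sq.flip

/-- In a chart square where `p` and `q` are surjective charts, the composite `h_V ⟶ h_U ⟶ X` is a surjective chart. -/
theorem repWith_surjective_of_chart_square {X Y : Sp S} {f : X ⟶ Y}
    {U W V : Over S} {p : (yon S).obj U ⟶ X} {q : (yon S).obj W ⟶ Y}
    (hps : RepWith @Surjective p) (hqs : RepWith @Surjective q)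
    {a : V ⟶ U} {h : V ⟶ W} (sq : IsPullback ((yon S).map a) ((yon S).map h) (p ≫ f) q) :
    RepWith @Surjective ((yon S).map a ≫ p) := by
  have : (RepWith (S := S) @Surjective).IsMultiplicative := repWith_isMultiplicative _
  exact (RepWith @Surjective).comp_mem _ _
    ((repWith_yon_map_iff _ _).2 (surjective_left_of_chart_square hqs sq)) hps

/-- Transfer of étale-local properties from the target to the source: if `f : X ⟶ Y` has `P` étale locally, `X` is an
algebraic space, `Y` has `Q` étale locally, and `Q` ascends along morphisms with `P`, then `X` has `Q'` étale locally. -/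
theorem etaleLocally_of_locP {P : MorphismProperty Scheme.{u}} {Q Q' : Scheme.{u} → Prop}
    (hPQ : ∀ ⦃V W : Scheme.{u}⦄ (h : V ⟶ W), P h → Q W → Q' V) {X Y : Sp S} (hX : IsAlgSpace X)
    (f : X ⟶ Y) (hf : LocP P f) (hY : EtaleLocally Q Y) : EtaleLocally Q' X := by
  obtain ⟨W, q, hqe, hqs, hW⟩ := hY
  obtain ⟨U, p, hpe, hps⟩ := hX.atlas
  obtain ⟨V, a, h, ha, sq, hrep⟩ := exists_chart_square f p hpe q hqe
  exact ⟨V, (yon S).map a ≫ p, hrep, repWith_surjective_of_chart_square hps hqs sq,
    hPQ h.left (locP_of_chart_square hf hqe sq hrep) hW⟩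

end Groth.Agent.Lib.Helper54
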