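/-
Helper library (helper54): `AlgSp.LocP P` of a composite `h_T ⟶ h_W ⟶ Z` of a morphism of schemes with `P` followed by an
étale chart.
-/
import Groth.Agent.Lib.Helper54.Transfer
import Mathlib.AlgebraicGeometry.Morphisms.Etale
import Mathlib.AlgebraicGeometry.Morphisms.FormallyUnramified

set_option autoImplicit false
universe u
open CategoryTheory CategoryTheory.Limits AlgebraicGeometry

namespace Groth.Agent.Lib.Helper54

open AlgSp

variable {S : Scheme.{u}}

/-- A property of morphisms of schemes that contains étale morphisms, is stable under base change and composition, can be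
cancelled on the right by étale morphisms. -/
theorem hasOfPostcompProperty_etale (P : MorphismProperty Scheme.{u}) [P.IsMultiplicative]
    [P.IsStableUnderBaseChange] (hP : ∀ ⦃A B : Scheme.{u}⦄ (φ : A ⟶ B), Etale φ → P φ) :
    P.HasOfPostcompProperty @Etale := by
  rw [MorphismProperty.hasOfPostcompProperty_iff_le_diagonal]
  intro X Y f hf
  have : Etale f := hf
  exact hP _ (inferInstanceAs (Etale (pullback.diagonal f)))

/-- If `g : T ⟶ W` is a morphism of schemes over `S` with `P`, and `q : h_W ⟶ Z` is representable étale, then the composite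
`h_T ⟶ h_W ⟶ Z` has `P` étale locally on source and target. -/
theorem locP_yon_map_comp (P : MorphismProperty Scheme.{u}) [P.IsMultiplicative]
    [P.IsStableUnderBaseChange] (hP : ∀ ⦃A B : Scheme.{u}⦄ (φ : A ⟶ B), Etale φ → P φ)
    {Z : Sp S} {T W : Over S} (g : T ⟶ W) (hg : P g.left) (q : (yon S).obj W ⟶ Z)
    (hq : RepWith @Etale q) : LocP P ((yon S).map g ≫ q) := by
  intro U V a b h ha hb comm
  have := hasOfPostcompProperty_etale P hP
  obtain ⟨a', rfl⟩ := (yon S).map_surjective a
  have ha' : Etale a'.left := (repWith_yon_map_iff _ _).1 ha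
  have hrep := hq.rep
  have sq := hrep.isPullback b
  obtain ⟨e₁, he₁⟩ := (yon S).map_surjective (hrep.fst b)
  have sq' : IsPullback ((yon S).map (hrep.snd b)) ((yon S).map e₁) b q := by
    rw [he₁]; exact sq.flip
  have hsnd : Etale (hrep.snd b).left := hq.property_snd b
  have he₁e : Etale e₁.left := hb.property _ _ _ sq'
  have comm' : (yon S).map (a' ≫ g) ≫ q = (yon S).map h ≫ b := by
    rw [Functor.map_comp, Category.assoc]; exact comm
  obtain ⟨l, hl⟩ := (yon S).map_surjective (sq.lift ((yon S).map (a' ≫ g)) ((yon S).map h) comm')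
  have e1 : l ≫ e₁ = a' ≫ g := by
    apply (yon S).map_injective
    rw [Functor.map_comp, hl, he₁, sq.lift_fst]
  have e2 : l ≫ hrep.snd b = h := by
    apply (yon S).map_injective
    rw [Functor.map_comp, hl, sq.lift_snd]
  have hcomp : P (l.left ≫ e₁.left) := by
    rw [← Over.comp_left, e1, Over.comp_left]
    exact P.comp_mem _ _ (hP _ ha') hg
  have hl' : P l.left := P.of_postcomp (W' := @Etale) l.left e₁.left he₁e hcomp
  rw [← e2, Over.comp_left]
  exact P.comp_mem _ _ hl' (hP _ hsnd)

end Groth.Agent.Lib.Helper54
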