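/-
Helper library (helper54): a monomorphism of sheaves into the spectrum of a field, whose source receives an étale map from a
nonempty scheme, is an isomorphism.
-/
import Groth.Agent.Lib.Helper54.Transfer
import Groth.Agent.H52.Epi
import Groth.Agent.H52.QC
import Mathlib.AlgebraicGeometry.Morphisms.LocalFlatDescent
import Mathlib.CategoryTheory.Sites.LeftExact

set_option autoImplicit false
universe u
open CategoryTheory CategoryTheory.Limits AlgebraicGeometry

namespace Groth.Agent.Lib.Helper54

open AlgSp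

/-- Postcomposing the two legs of a pullback square with a monomorphism keeps it a pullback square. -/
theorem isPullback_comp_mono {C : Type*} [Category C] {P X Y Z W : C} {fst : P ⟶ X} {snd : P ⟶ Y}
    {f : X ⟶ Z} {g : Y ⟶ Z} (sq : IsPullback fst snd f g) (m : Z ⟶ W) [Mono m] :
    IsPullback fst snd (f ≫ m) (g ≫ m) := by
  refine ⟨⟨by rw [← Category.assoc, sq.w, Category.assoc]⟩, ⟨PullbackCone.IsLimit.mk _
    (fun s => sq.lift s.fst s.snd ((cancel_mono m).1 (by simpa using s.condition)))
    (fun s => sq.lift_fst _ _ _) (fun s => sq.lift_snd _ _ _)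
    (fun s l h1 h2 => sq.hom_ext (by simpa using h1) (by simpa using h2))⟩⟩

variable {S : Scheme.{u}}

/-- A pullback square of representable sheaves comes from a pullback square of schemes. -/
theorem isPullback_left_of_isPullback_yon {A B C D : Over S} {f' : A ⟶ B} {g' : A ⟶ C} {h : B ⟶ D}
    {i : C ⟶ D} (sq : IsPullback ((yon S).map f') ((yon S).map g') ((yon S).map h) ((yon S).map i)) :
    IsPullback f'.left g'.left h.left i.left := by
  have e : f' ≫ h = g' ≫ i := by
    apply (yon S).map_injective
    rw [Functor.map_comp, Functor.map_comp]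
    exact sq.w
  have sq' : IsPullback f' g' h i := IsPullback.of_map (yon S) e sq
  exact sq'.map (Over.forget S)

/-- If `m : T ⟶ h_K` is a monomorphism of sheaves to the spectrum `K` of a field and `a₀ : h_{U₀} ⟶ T` is representable étale
from a nonempty affine scheme, then `U₀ ⟶ K` is étale. -/
theorem etale_of_mono_of_etale_chart {k : Type u} [Field k] {str : Spec (CommRingCat.of k) ⟶ S} {T : Sp S}
    (m : T ⟶ (yon S).obj (Over.mk str)) [Mono m] {U₀ : Over S} [IsAffine U₀.left] [Nonempty ↥U₀.left]
    (a₀ : (yon S).obj U₀ ⟶ T) (ha : RepWith @Etale a₀) (c : U₀ ⟶ Over.mk str)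
    (hc : (yon S).map c = a₀ ≫ m) : Etale c.left := by
  have hrep := ha.rep
  have sq := hrep.isPullback a₀
  obtain ⟨v₁, hv₁⟩ := (yon S).map_surjective (hrep.fst a₀)
  have hsnd : Etale (hrep.snd a₀).left := ha.property_snd a₀
  have sq' : IsPullback ((yon S).map (hrep.snd a₀)) ((yon S).map v₁) ((yon S).map c) ((yon S).map c) := by
    rw [hc, hv₁]
    exact isPullback_comp_mono sq.flip m
  have sq'' := isPullback_left_of_isPullback_yon sq'
  obtain ⟨c', hc'⟩ : ∃ c' : U₀.left ⟶ Spec (CommRingCat.of k), c' = c.left := ⟨c.left, rfl⟩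
  have hQ : (@Surjective ⊓ @Flat ⊓ @QuasiCompact : MorphismProperty Scheme.{u}) c' := by
    refine ⟨⟨?_, ?_⟩, ?_⟩
    · refine ⟨fun x => ?_⟩
      obtain ⟨u⟩ := ‹Nonempty ↥U₀.left›
      exact ⟨u, Subsingleton.elim (α := PrimeSpectrum k) _ _⟩
    · change Flat c'
      infer_instance
    · change QuasiCompact c'
      infer_instance
  rw [hc'] at hQ
  exact MorphismProperty.of_isPullback_of_descendsAlong (P := @Etale)
    (Q := @Surjective ⊓ @Flat ⊓ @QuasiCompact) sq'' hQ hsnd

/-- A monomorphism of sheaves `m : T ⟶ h_{Spec k}`, where `T` receives a representable étale map from a nonempty affine scheme,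
is an isomorphism. -/
theorem isIso_of_mono_to_field {k : Type u} [Field k] {str : Spec (CommRingCat.of k) ⟶ S} {T : Sp S}
    (m : T ⟶ (yon S).obj (Over.mk str)) [Mono m] {U₀ : Over S} [IsAffine U₀.left] [Nonempty ↥U₀.left]
    (a₀ : (yon S).obj U₀ ⟶ T) (ha : RepWith @Etale a₀) : IsIso m := by
  obtain ⟨c, hc⟩ := (yon S).map_surjective (a₀ ≫ m)
  have hce : Etale c.left := etale_of_mono_of_etale_chart m a₀ ha c hc
  have hcs : Surjective c.left := by
    refine ⟨fun x => ?_⟩
    obtain ⟨u⟩ := ‹Nonempty ↥U₀.left›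
    exact ⟨u, Subsingleton.elim (α := PrimeSpectrum k) _ _⟩
  have hepi : Epi ((yon S).map c) := Groth.Agent.H52.epi_yon_map_of_fppf c
  rw [hc] at hepi
  have : Epi m := epi_of_epi a₀ m
  exact isIso_of_mono_of_epi m

/-- A monomorphism from an algebraic space with a point to the spectrum of a field is an isomorphism. -/
theorem isIso_of_mono_to_field_of_isAlgSpace {k : Type u} [Field k] {str : Spec (CommRingCat.of k) ⟶ S}
    {T : Sp S} (hT : IsAlgSpace T) (t : Points T) (m : T ⟶ (yon S).obj (Over.mk str)) [Mono m] :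
    IsIso m := by
  obtain ⟨U, a, hae, has⟩ := hT.atlas
  obtain ⟨u', -⟩ := Groth.Agent.H52.surjective_points_of_repWith_surjective a has t
  obtain ⟨u, -⟩ := exists_ofScheme_eq U u'
  obtain ⟨_, ⟨V, hV : IsAffineOpen V, rfl⟩, huV, -⟩ :=
    U.left.isBasis_affineOpens.exists_subset_of_mem_open (Set.mem_univ u) isOpen_univ
  have : IsAffine (Groth.Agent.H52.overOpen U V).left := hV
  have : Nonempty ↥(Groth.Agent.H52.overOpen U V).left := ⟨⟨u, huV⟩⟩
  have : (RepWith (S := S) @Etale).IsMultiplicative := repWith_isMultiplicative _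
  exact isIso_of_mono_to_field m ((yon S).map (Groth.Agent.H52.overOpenι U V) ≫ a)
    ((RepWith @Etale).comp_mem _ _ (Groth.Agent.H52.repWith_etale_overOpenι U V) hae)

end Groth.Agent.Lib.Helper54
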