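/-
Helper library (helper54): families of flat lfp jointly surjective maps are covering for the fppf topology; a quasi-compact flat
surjective monomorphism of algebraic spaces is an isomorphism.
-/
import Groth.Agent.Lib.Helper54.MonoField
import Groth.Agent.H52.Compact

set_option autoImplicit false
universe u
open CategoryTheory CategoryTheory.Limits AlgebraicGeometry

namespace Groth.Agent.Lib.Helper54

open AlgSp

variable {S : Scheme.{u}}

/-- The sieve generated by a jointly surjective family of flat morphisms locally of finite presentation over `S` is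
covering for `AlgSp.J S`. -/
theorem generate_ofArrows_mem_J {T : Over S} {ι : Type*} (T' : ι → Over S) (φ : ∀ i, T' i ⟶ T)
    (hflat : ∀ i, Flat (φ i).left) (hlfp : ∀ i, LocallyOfFinitePresentation (φ i).left)
    (hsurj : ∀ t : ↥T.left, ∃ i, t ∈ Set.range (φ i).left) :
    Sieve.generate (Presieve.ofArrows T' φ) ∈ AlgSp.J S T := by
  rw [GrothendieckTopology.mem_over_iff]
  have hmem : Presieve.ofArrows (fun i => (T' i).left) (fun i => (φ i).left) ∈
      Scheme.fppfPrecoverage T.left := by
    rw [Scheme.fppfPrecoverage, Scheme.ofArrows_mem_precoverage_iff]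
    exact ⟨hsurj, fun i => ⟨hflat i, hlfp i⟩⟩
  refine GrothendieckTopology.superset_covering _ ?_ (Precoverage.generate_mem_toGrothendieck hmem)
  rw [Sieve.overEquiv_generate, Sieve.generate_le_iff]
  rintro Z g ⟨i⟩
  exact Sieve.le_generate _ _ _ ⟨T' i, φ i, 𝟙 _, Presieve.ofArrows.mk i, by simp⟩

/-- Two morphisms out of `h_T` which agree on a flat lfp jointly surjective family are equal. -/
theorem yon_hom_ext_of_cover {T : Over S} {ι : Type*} (T' : ι → Over S) (φ : ∀ i, T' i ⟶ T)
    (hflat : ∀ i, Flat (φ i).left) (hlfp : ∀ i, LocallyOfFinitePresentation (φ i).left)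
    (hsurj : ∀ t : ↥T.left, ∃ i, t ∈ Set.range (φ i).left) {G : Sp S}
    (a b : (yon S).obj T ⟶ G) (hab : ∀ i, (yon S).map (φ i) ≫ a = (yon S).map (φ i) ≫ b) : a = b := by
  apply (AlgSp.J S).uliftYonedaEquiv.injective
  have hG : Presieve.IsSheaf (AlgSp.J S) G.obj := (isSheaf_iff_isSheaf_of_type _ _).1 G.property
  have hsep := (hG _ (generate_ofArrows_mem_J T' φ hflat hlfp hsurj)).isSeparatedFor
  refine hsep.ext ?_
  rintro Y f ⟨W, u, v, ⟨i⟩, rfl⟩
  have h1 : G.obj.map (φ i).op ((AlgSp.J S).uliftYonedaEquiv a) =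
      G.obj.map (φ i).op ((AlgSp.J S).uliftYonedaEquiv b) := by
    rw [GrothendieckTopology.uliftYonedaEquiv_naturality,
      GrothendieckTopology.uliftYonedaEquiv_naturality]
    exact congrArg _ (hab i)
  rw [op_comp, Functor.map_comp]
  change G.obj.map u.op (G.obj.map (φ i).op _) = G.obj.map u.op (G.obj.map (φ i).op _)
  rw [h1]

/-- Two morphisms out of `h_T` which agree on all affine opens of `T` are equal. -/
theorem yon_hom_ext_of_affineOpens {T : Over S} {G : Sp S} (a b : (yon S).obj T ⟶ G)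
    (hab : ∀ V : T.left.affineOpens, (yon S).map (Groth.Agent.H52.overOpenι T V.1) ≫ a =
      (yon S).map (Groth.Agent.H52.overOpenι T V.1) ≫ b) : a = b := by
  refine yon_hom_ext_of_cover (ι := T.left.affineOpens) (fun V => Groth.Agent.H52.overOpen T V.1)
    (fun V => Groth.Agent.H52.overOpenι T V.1) (fun V => ?_) (fun V => ?_) (fun t => ?_) a b hab
  · change Flat V.1.ι
    infer_instance
  · change LocallyOfFinitePresentation V.1.ι
    infer_instance
  · obtain ⟨_, ⟨V, hV : IsAffineOpen V, rfl⟩, htV, -⟩ :=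
      T.left.isBasis_affineOpens.exists_subset_of_mem_open (Set.mem_univ t) isOpen_univ
    refine ⟨⟨V, hV⟩, ?_⟩
    change t ∈ Set.range (Scheme.Opens.ι (X := T.left) V)
    rw [Scheme.Opens.range_ι]
    exact htV

/-- If `m : T ⟶ h_W` is a monomorphism of sheaves and `a₀ : h_{U₀} ⟶ T` is representable étale such that the composite
`c : U₀ ⟶ W` is surjective, flat and quasi-compact, then `c` is étale. -/
theorem etale_of_mono_of_etale_chart_fpqc {W : Over S} {T : Sp S}
    (m : T ⟶ (yon S).obj W) [Mono m] {U₀ : Over S}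
    (a₀ : (yon S).obj U₀ ⟶ T) (ha : RepWith @Etale a₀) (c : U₀ ⟶ W)
    (hc : (yon S).map c = a₀ ≫ m) (h1 : Surjective c.left) (h2 : Flat c.left)
    (h3 : QuasiCompact c.left) : Etale c.left := by
  have hrep := ha.rep
  have sq := hrep.isPullback a₀
  obtain ⟨v₁, hv₁⟩ := (yon S).map_surjective (hrep.fst a₀)
  have hsnd : Etale (hrep.snd a₀).left := ha.property_snd a₀
  have sq' : IsPullback ((yon S).map (hrep.snd a₀)) ((yon S).map v₁) ((yon S).map c) ((yon S).map c) := by
    rw [hc, hv₁]
    exact isPullback_comp_mono sq.flip m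
  have sq'' := isPullback_left_of_isPullback_yon sq'
  have hQ : (@Surjective ⊓ @Flat ⊓ @QuasiCompact : MorphismProperty Scheme.{u}) c.left :=
    ⟨⟨h1, h2⟩, h3⟩
  exact MorphismProperty.of_isPullback_of_descendsAlong (P := @Etale)
    (Q := @Surjective ⊓ @Flat ⊓ @QuasiCompact) sq'' hQ hsnd

/-- Surjectivity on points is stable under base change. -/
theorem surjective_points_snd_of_isPullback {X Y Z P : Sp S} {f : X ⟶ Y} {g : Z ⟶ Y} {fst : P ⟶ X}
    {snd : P ⟶ Z} (sq : IsPullback fst snd f g) (hf : Function.Surjective (Points.map f)) :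
    Function.Surjective (Points.map snd) := by
  intro z
  obtain ⟨x, hx⟩ := hf (Points.map g z)
  obtain ⟨p, -, hp⟩ := exists_point_of_isPullback sq x z hx
  exact ⟨p, hp⟩

/-- Affine-local lifting: for a quasi-compact flat surjective monomorphism `f : X ⟶ Y` of algebraic spaces, every
representable étale map from an affine scheme to `Y` factors through `f`. -/
theorem exists_lift_of_qc_flat_surjective_mono {X Y : Sp S} (hX : IsAlgSpace X) (hY : IsAlgSpace Y)
    (f : X ⟶ Y) (hqc : IsQuasiCompactMor f) (hflat : LocP @Flat f) (hsurj : IsSurjectiveMor f) [Mono f]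
    {W₀ : Over S} [IsAffine W₀.left] (b₀ : (yon S).obj W₀ ⟶ Y) (hb₀ : RepWith @Etale b₀) :
    ∃ s : (yon S).obj W₀ ⟶ X, s ≫ f = b₀ := by
  have sq : IsPullback (pullback.fst f b₀) (pullback.snd f b₀) f b₀ := IsPullback.of_hasPullback f b₀
  have hX₀ : IsAlgSpace (pullback f b₀) :=
    Groth.Agent.H52.isAlgSpace_of_isPullback sq hX hY (IsAlgSpace.yon_obj W₀)
  obtain ⟨U₁, a₁, ha₁e, ha₁s, hU₁⟩ := hqc (IsAlgSpace.yon_obj W₀)
    (Groth.Agent.H52.isQuasiCompactSp_yon W₀) b₀ _ _ sq
  have hU₁' : CompactSpace ↥U₁.left := hU₁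
  have hfst : RepWith @Etale (pullback.fst f b₀) := MorphismProperty.of_isPullback sq.flip hb₀
  have : Mono (pullback.snd f b₀) := inferInstance
  obtain ⟨h₁, hh₁⟩ := (yon S).map_surjective (a₁ ≫ pullback.snd f b₀)
  have : (RepWith (S := S) @Etale).IsMultiplicative := repWith_isMultiplicative _
  have hflat₁ : Flat h₁.left := by
    refine hflat (a₁ ≫ pullback.fst f b₀) b₀ h₁ ((RepWith @Etale).comp_mem _ _ ha₁e hfst) hb₀ ?_
    rw [Category.assoc, sq.w, ← Category.assoc, hh₁]
  have hsurj₁ : Surjective h₁.left := by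
    refine ⟨fun w => ?_⟩
    obtain ⟨p, hp⟩ := surjective_points_snd_of_isPullback sq hsurj (Points.ofScheme W₀ w)
    obtain ⟨u', rfl⟩ := Groth.Agent.H52.surjective_points_of_repWith_surjective a₁ ha₁s p
    obtain ⟨u, rfl⟩ := exists_ofScheme_eq U₁ u'
    refine ⟨u, ?_⟩
    apply (Points.schemeEquiv W₀).injective
    change Points.ofScheme W₀ (h₁.left u) = Points.ofScheme W₀ w
    rw [← Groth.Agent.H52.points_map_ofScheme, hh₁, Points.map_comp]
    exact hp
  have hqc₁ : QuasiCompact h₁.left := by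
    have : QuasiSeparatedSpace ↥W₀.left := inferInstance
    exact quasiCompact_of_compactSpace _
  have het₁ : Etale h₁.left :=
    etale_of_mono_of_etale_chart_fpqc (pullback.snd f b₀) a₁ ha₁e h₁ hh₁ hsurj₁ hflat₁ hqc₁
  have hepi : Epi ((yon S).map h₁) := Groth.Agent.H52.epi_yon_map_of_fppf h₁
  rw [hh₁] at hepi
  have : Epi (pullback.snd f b₀) := epi_of_epi a₁ _
  have : IsIso (pullback.snd f b₀) := isIso_of_mono_of_epi _
  refine ⟨inv (pullback.snd f b₀) ≫ pullback.fst f b₀, ?_⟩
  rw [Category.assoc, sq.w, IsIso.inv_hom_id_assoc]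

/-- A quasi-compact, flat, surjective monomorphism of algebraic spaces is an isomorphism. -/
theorem isIso_of_qc_flat_surjective_mono {X Y : Sp S} (hX : IsAlgSpace X) (hY : IsAlgSpace Y)
    (f : X ⟶ Y) (hqc : IsQuasiCompactMor f) (hflat : LocP @Flat f) (hsurj : IsSurjectiveMor f) [Mono f] :
    IsIso f := by
  have hepi : Epi f := by
    constructor
    intro G a b hab
    obtain ⟨W, q, hqe, hqs⟩ := hY.atlas
    have : Epi q := Groth.Agent.H52.epi_of_repWith_etale_surjective q hqe hqs
    rw [← cancel_epi q]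
    refine yon_hom_ext_of_affineOpens _ _ fun V => ?_
    have : IsAffine (Groth.Agent.H52.overOpen W V.1).left := V.2
    have : (RepWith (S := S) @Etale).IsMultiplicative := repWith_isMultiplicative _
    obtain ⟨s, hs⟩ := exists_lift_of_qc_flat_surjective_mono hX hY f hqc hflat hsurj
      ((yon S).map (Groth.Agent.H52.overOpenι W V.1) ≫ q)
      ((RepWith @Etale).comp_mem _ _ (Groth.Agent.H52.repWith_etale_overOpenι W V.1) hqe)
    rw [← Category.assoc, ← Category.assoc, ← hs, Category.assoc, Category.assoc, hab]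
  exact isIso_of_mono_of_epi f

end Groth.Agent.Lib.Helper54
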