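/-
Helper library (helper54): the calculus of `AlgSp.LocP P` for properties `P` of morphisms of schemes which are étale local
on the source-and-target (`EtLocal P`): one chart suffices, cancellation for `RepWith`, composition, base change.
-/
import Groth.Agent.Lib.Helper54.LocPChart
import Groth.Agent.H52.LocP
import Groth.Agent.Lib.Helper7.FlatDescent

set_option autoImplicit false
universe u
open CategoryTheory CategoryTheory.Limits AlgebraicGeometry

namespace Groth.Agent.Lib.Helper54

open AlgSp

variable {S : Scheme.{u}}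

/-- The hypotheses on a property `P` of morphisms of schemes under which `AlgSp.LocP P` is well behaved: `P` is stable under
composition and base change, contains étale morphisms, and descends along étale surjective morphisms on the source. -/
structure EtLocal (P : MorphismProperty Scheme.{u}) : Prop where
  mult : P.IsMultiplicative
  bc : P.IsStableUnderBaseChange
  of_etale : ∀ ⦃A B : Scheme.{u}⦄ (φ : A ⟶ B), Etale φ → P φ
  descend : ∀ ⦃A B C : Scheme.{u}⦄ (e : A ⟶ B) (g : B ⟶ C), Etale e → Surjective e → P (e ≫ g) → P g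

/-- Flatness is étale local on the source-and-target. -/
theorem etLocal_flat : EtLocal (@Flat : MorphismProperty Scheme.{u}) where
  mult := inferInstance
  bc := inferInstance
  of_etale := fun _ _ φ hφ => by
    have : Etale φ := hφ
    infer_instance
  descend := fun _ _ _ e g he hes heg => by
    have : Etale e := he
    have : Surjective e := hes
    have : Flat (e ≫ g) := heg
    exact Groth.Agent.Lib.Helper7.flat_of_flat_comp_of_flat_surjective e g

/-- Cancellation for representable morphisms with a property: if `j ≫ pr` is representable with `P`, `pr` is representable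
with `Q`, and `P` can be cancelled against `Q` for schemes, then `j` is representable with `P`. -/
theorem repWith_of_postcomp (P Q : MorphismProperty Scheme.{u}) [P.IsStableUnderBaseChange]
    [P.HasOfPostcompProperty Q] {F G H : Sp S} (j : F ⟶ G) (pr : G ⟶ H)
    (hpr : RepWith Q pr) (hj : RepWith P (j ≫ pr)) : RepWith P j := by
  have : P.RespectsIso := MorphismProperty.IsStableUnderBaseChange.respectsIso
  apply MorphismProperty.relative.of_exists
  intro Z z
  have hrep2 := hpr.rep
  have sq2 := hrep2.isPullback (z ≫ pr)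
  have hQ : Q (hrep2.snd (z ≫ pr)).left := hpr.property_snd _
  obtain ⟨σ, hσ⟩ := (yon S).map_surjective (sq2.lift z (𝟙 _) (by simp))
  have hσ1 : (yon S).map σ ≫ hrep2.fst (z ≫ pr) = z := by rw [hσ, sq2.lift_fst]
  have hrep1 := hj.rep
  have sq1 := hrep1.isPullback (z ≫ pr)
  have hP1 : P (hrep1.snd (z ≫ pr)).left := hj.property_snd _
  obtain ⟨k, hk⟩ := (yon S).map_surjective (sq2.lift (hrep1.fst (z ≫ pr) ≫ j)
    ((yon S).map (hrep1.snd (z ≫ pr))) (by rw [Category.assoc]; exact sq1.w))
  have hk1 : (yon S).map k ≫ hrep2.fst (z ≫ pr) = hrep1.fst (z ≫ pr) ≫ j := by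
    rw [hk, sq2.lift_fst]
  have hk2 : k ≫ hrep2.snd (z ≫ pr) = hrep1.snd (z ≫ pr) := by
    apply (yon S).map_injective
    rw [Functor.map_comp, hk, sq2.lift_snd]
  have hPk : P k.left := by
    refine P.of_postcomp (W' := Q) k.left (hrep2.snd (z ≫ pr)).left hQ ?_
    rw [← Over.comp_left, hk2]
    exact hP1
  have sqL : IsPullback (hrep1.fst (z ≫ pr)) ((yon S).map k) j (hrep2.fst (z ≫ pr)) := by
    refine IsPullback.of_bot ?_ hk1.symm sq2
    rw [← Functor.map_comp, hk2]
    exact sq1
  have sqW := (IsPullback.of_hasPullback k σ).map (yon S)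
  have big := sqW.paste_horiz sqL
  rw [hσ1] at big
  refine ⟨_, _, _, big, ?_⟩
  have sqW' := (IsPullback.of_hasPullback k σ).map (Over.forget S)
  exact P.of_isPullback sqW' hPk

/-- Cancellation for representable étale morphisms. -/
theorem repWith_etale_of_postcomp {F G H : Sp S} (j : F ⟶ G) (pr : G ⟶ H)
    (hpr : RepWith @Etale pr) (hj : RepWith @Etale (j ≫ pr)) : RepWith @Etale j :=
  repWith_of_postcomp @Etale @Etale j pr hpr hj

/-- If one chart diagram of `f`, with representable étale surjective source chart, has top arrow in `P`, then `f` has `P` étale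
locally on the source and target. -/
theorem locP_of_one_chart {P : MorphismProperty Scheme.{u}} (hP : EtLocal P) {X Y : Sp S} (f : X ⟶ Y)
    {U V : Over S} (a : (yon S).obj U ⟶ X) (b : (yon S).obj V ⟶ Y) (h : U ⟶ V)
    (ha : RepWith @Etale a) (has : RepWith @Surjective a) (hb : RepWith @Etale b)
    (comm : a ≫ f = (yon S).map h ≫ b) (hh : P h.left) : LocP P f := by
  have := hP.mult
  have := hP.bc
  have := hasOfPostcompProperty_etale P hP.of_etale
  intro U' V' a' b' h' ha' hb' comm'
  have sqU := ha.rep.isPullback a'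
  obtain ⟨r, hr⟩ := (yon S).map_surjective (ha.rep.fst a')
  rw [← hr] at sqU
  have hs_et : Etale (ha.rep.snd a').left := ha.property_snd a'
  have hs_surj : Surjective (ha.rep.snd a').left := has.property _ _ _ sqU
  have hr_et : Etale r.left := ha'.property _ _ _ sqU.flip
  have sqV := hb.rep.isPullback b'
  obtain ⟨r', hr'⟩ := (yon S).map_surjective (hb.rep.fst b')
  rw [← hr'] at sqV
  have hs'_et : Etale (hb.rep.snd b').left := hb.property_snd b'
  have hr'_et : Etale r'.left := hb'.property _ _ _ sqV.flip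
  obtain ⟨k, hk⟩ := (yon S).map_surjective (sqV.lift ((yon S).map (r ≫ h))
    ((yon S).map (ha.rep.snd a' ≫ h')) (by
      rw [Functor.map_comp, Functor.map_comp, Category.assoc, Category.assoc, ← comm, ← comm',
        ← Category.assoc, ← Category.assoc, sqU.w]))
  have hk1 : k ≫ r' = r ≫ h := by
    apply (yon S).map_injective
    rw [Functor.map_comp, hk, sqV.lift_fst]
  have hk2 : k ≫ hb.rep.snd b' = ha.rep.snd a' ≫ h' := by
    apply (yon S).map_injective
    rw [Functor.map_comp, hk, sqV.lift_snd]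
  have hPk : P k.left := by
    refine P.of_postcomp (W' := @Etale) k.left r'.left hr'_et ?_
    rw [← Over.comp_left, hk1, Over.comp_left]
    exact P.comp_mem _ _ (hP.of_etale _ hr_et) hh
  refine hP.descend (ha.rep.snd a').left h'.left hs_et hs_surj ?_
  rw [← Over.comp_left, ← hk2, Over.comp_left]
  exact P.comp_mem _ _ hPk (hP.of_etale _ hs'_et)

/-- A morphism `π : Z ⟶ h_T` to a representable sheaf has `P` on all étale charts of the source. -/
def PT (P : MorphismProperty Scheme.{u}) {Z : Sp S} {T : Over S} (π : Z ⟶ (yon S).obj T) : Prop :=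
  ∀ ⦃A : Over S⦄ (a : (yon S).obj A ⟶ Z), RepWith @Etale a → ∀ k : A ⟶ T, a ≫ π = (yon S).map k → P k.left

/-- The base change of a morphism with `P` étale locally to an étale chart of the target has `P` on all étale charts of the
source. -/
theorem pT_of_locP {P : MorphismProperty Scheme.{u}} {X Y : Sp S} {f : X ⟶ Y} (hf : LocP P f) {V : Over S}
    {q : (yon S).obj V ⟶ Y} (hq : RepWith @Etale q) {XV : Sp S} {π₁ : XV ⟶ X}
    {π₂ : XV ⟶ (yon S).obj V} (sq : IsPullback π₁ π₂ f q) : PT P π₂ := by
  intro A a ha k hk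
  have hπ₁ : RepWith @Etale π₁ := MorphismProperty.of_isPullback sq.flip hq
  have : (RepWith (S := S) @Etale).IsMultiplicative := repWith_isMultiplicative _
  refine hf (a ≫ π₁) q k ((RepWith @Etale).comp_mem _ _ ha hπ₁) hq ?_
  rw [Category.assoc, sq.w, ← Category.assoc, hk]

/-- `PT P` is stable under base change along morphisms of schemes, for sources with an étale atlas. -/
theorem pT_baseChange {P : MorphismProperty Scheme.{u}} (hP : EtLocal P) {Z : Sp S} {T : Over S}
    {π : Z ⟶ (yon S).obj T} (hπ : PT P π) {A : Over S} (z : (yon S).obj A ⟶ Z) (hze : RepWith @Etale z)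
    (hzs : RepWith @Surjective z) {T' : Over S} {t : T' ⟶ T} {Z' : Sp S} {θ : Z' ⟶ Z}
    {π' : Z' ⟶ (yon S).obj T'} (sq : IsPullback θ π' π ((yon S).map t)) : PT P π' := by
  have := hP.mult
  have := hP.bc
  obtain ⟨k, hk⟩ := (yon S).map_surjective (z ≫ π)
  have hPk : P k.left := hπ z hze k hk.symm
  -- the scheme `A' = A ×_T T'`
  have sqA := IsPullback.of_hasPullback k t
  have hPk' : P (pullback.snd k t).left := P.of_isPullback (sqA.map (Over.forget S)) hPk
  have sqA' := sqA.map (yon S)
  let z' : (yon S).obj (pullback k t) ⟶ Z' :=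
    sq.lift ((yon S).map (pullback.fst k t) ≫ z) ((yon S).map (pullback.snd k t)) (by
      rw [Category.assoc, ← hk]; exact sqA'.w)
  have hz'1 : z' ≫ θ = (yon S).map (pullback.fst k t) ≫ z := sq.lift_fst _ _ _
  have hz'2 : z' ≫ π' = (yon S).map (pullback.snd k t) := sq.lift_snd _ _ _
  have sqz : IsPullback z' ((yon S).map (pullback.fst k t)) θ z := by
    refine IsPullback.of_right ?_ hz'1 sq.flip
    rw [hz'2, ← hk]
    exact sqA'.flip
  have hz'e : RepWith @Etale z' := MorphismProperty.of_isPullback sqz.flip hze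
  have hz's : RepWith @Surjective z' := MorphismProperty.of_isPullback sqz.flip hzs
  intro A'' a' ha' k'' hk''
  have sq3 := hz'e.rep.isPullback a'
  obtain ⟨m₂, hm₂⟩ := (yon S).map_surjective (hz'e.rep.fst a')
  rw [← hm₂] at sq3
  have hm₁e : Etale (hz'e.rep.snd a').left := hz'e.property_snd a'
  have hm₁s : Surjective (hz'e.rep.snd a').left := hz's.property _ _ _ sq3
  have hm₂e : Etale m₂.left := ha'.property _ _ _ sq3.flip
  have hcomm : m₂ ≫ pullback.snd k t = hz'e.rep.snd a' ≫ k'' := by
    apply (yon S).map_injective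
    rw [Functor.map_comp, Functor.map_comp, ← hz'2, ← Category.assoc, sq3.w, Category.assoc, hk'']
  refine hP.descend (hz'e.rep.snd a').left k''.left hm₁e hm₁s ?_
  rw [← Over.comp_left, ← hcomm, Over.comp_left]
  exact P.comp_mem _ _ (hP.of_etale _ hm₂e) hPk'

/-- `PT P` descends along étale surjective base change of the target scheme. -/
theorem pT_descend {P : MorphismProperty Scheme.{u}} (hP : EtLocal P) {Z : Sp S} {T : Over S}
    {π : Z ⟶ (yon S).obj T} {T₁ : Over S} {s₁ : T₁ ⟶ T} (hs₁e : Etale s₁.left)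
    (hs₁s : Surjective s₁.left) {Z₁ : Sp S} {ρ₁ : Z₁ ⟶ Z} {ρ₂ : Z₁ ⟶ (yon S).obj T₁}
    (sq : IsPullback ρ₁ ρ₂ π ((yon S).map s₁)) (h : PT P ρ₂) : PT P π := by
  have := hP.mult
  have := hP.bc
  intro U' a' ha' h' hh'
  have sqU := IsPullback.of_hasPullback h' s₁
  have sqU' := sqU.map (yon S)
  have sqUl := sqU.map (Over.forget S)
  have he₁e : Etale (pullback.fst h' s₁).left :=
    MorphismProperty.of_isPullback (P := @Etale) sqUl.flip hs₁e
  have he₁s : Surjective (pullback.fst h' s₁).left :=
    MorphismProperty.of_isPullback (P := @Surjective) sqUl.flip hs₁s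
  let a'₁ : (yon S).obj (pullback h' s₁) ⟶ Z₁ :=
    sq.lift ((yon S).map (pullback.fst h' s₁) ≫ a') ((yon S).map (pullback.snd h' s₁)) (by
      rw [Category.assoc, hh']; exact sqU'.w)
  have ha1 : a'₁ ≫ ρ₁ = (yon S).map (pullback.fst h' s₁) ≫ a' := sq.lift_fst _ _ _
  have ha2 : a'₁ ≫ ρ₂ = (yon S).map (pullback.snd h' s₁) := sq.lift_snd _ _ _
  have sqa : IsPullback a'₁ ((yon S).map (pullback.fst h' s₁)) ρ₁ a' := by
    refine IsPullback.of_right ?_ ha1 sq.flip
    rw [ha2, hh']
    exact sqU'.flip
  have ha'₁e : RepWith @Etale a'₁ := MorphismProperty.of_isPullback sqa.flip ha'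
  have hP1 : P (pullback.snd h' s₁).left := h a'₁ ha'₁e _ ha2
  refine hP.descend (pullback.fst h' s₁).left h'.left he₁e he₁s ?_
  rw [← Over.comp_left, sqU.w, Over.comp_left]
  exact P.comp_mem _ _ hP1 (hP.of_etale _ hs₁e)

/-- `f` has `P` on étale charts of the source after every base change to a scheme. -/
def LocPU (P : MorphismProperty Scheme.{u}) {X Y : Sp S} (f : X ⟶ Y) : Prop :=
  ∀ ⦃T : Over S⦄ (g : (yon S).obj T ⟶ Y) ⦃XT : Sp S⦄ (fst : XT ⟶ X) (fT : XT ⟶ (yon S).obj T),
    IsPullback fst fT f g → PT P fT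

/-- `LocPU` is stable under arbitrary base change. -/
theorem locPU_of_isPullback {P : MorphismProperty Scheme.{u}} {X Y X' Y' : Sp S} {f : X ⟶ Y} {g : Y' ⟶ Y}
    {fst : X' ⟶ X} {f' : X' ⟶ Y'} (sq : IsPullback fst f' f g) (hf : LocPU P f) : LocPU P f' :=
  fun _ t _ a b sq' => hf (t ≫ g) (a ≫ fst) b (sq'.paste_horiz sq)

/-- `LocPU P f` implies `LocP P f`. -/
theorem locP_of_locPU {P : MorphismProperty Scheme.{u}} {X Y : Sp S} {f : X ⟶ Y} (hf : LocPU P f) :
    LocP P f := by
  intro U V a b h ha hb comm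
  have sqV := IsPullback.of_hasPullback f b
  have hπ₁ : RepWith @Etale (pullback.fst f b) := MorphismProperty.of_isPullback sqV.flip hb
  have hj : RepWith @Etale (sqV.lift a ((yon S).map h) comm) := by
    refine repWith_etale_of_postcomp _ (pullback.fst f b) hπ₁ ?_
    rw [sqV.lift_fst]
    exact ha
  exact hf b _ _ sqV _ hj h (sqV.lift_snd _ _ _)

/-- For sheaves with étale atlases, `LocP P f` implies `LocPU P f`. -/
theorem locPU_of_locP {P : MorphismProperty Scheme.{u}} (hP : EtLocal P) {X Y : Sp S} {f : X ⟶ Y}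
    (hf : LocP P f) {U : Over S} (p : (yon S).obj U ⟶ X) (hpe : RepWith @Etale p)
    (hps : RepWith @Surjective p) {V : Over S} (q : (yon S).obj V ⟶ Y) (hqe : RepWith @Etale q)
    (hqs : RepWith @Surjective q) : LocPU P f := by
  intro T g XT fst fT sq
  have sqV := IsPullback.of_hasPullback f q
  have hπ₂ : PT P (pullback.snd f q) := pT_of_locP hf hqe sqV
  -- an atlas of `X ×_Y V`
  obtain ⟨U₁, a₁, h₁, ha₁, sqc, hrep⟩ := exists_chart_square f p hpe q hqe
  let z : (yon S).obj U₁ ⟶ pullback f q :=
    sqV.lift ((yon S).map a₁ ≫ p) ((yon S).map h₁) (by rw [Category.assoc]; exact sqc.w)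
  have hz1 : z ≫ pullback.fst f q = (yon S).map a₁ ≫ p := sqV.lift_fst _ _ _
  have hz2 : z ≫ pullback.snd f q = (yon S).map h₁ := sqV.lift_snd _ _ _
  have sqz : IsPullback z ((yon S).map a₁) (pullback.fst f q) p := by
    refine IsPullback.of_right ?_ hz1 sqV.flip
    rw [hz2]
    exact sqc.flip
  have hze : RepWith @Etale z := MorphismProperty.of_isPullback sqz.flip hpe
  have hzs : RepWith @Surjective z := MorphismProperty.of_isPullback sqz.flip hps
  -- the étale cover `T₁ = T ×_Y V` of `T`
  have sqT := hqe.rep.isPullback g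
  obtain ⟨s₂, hs₂⟩ := (yon S).map_surjective (hqe.rep.fst g)
  rw [← hs₂] at sqT
  have hs₁e : Etale (hqe.rep.snd g).left := hqe.property_snd g
  have hs₁s : Surjective (hqe.rep.snd g).left := hqs.property _ _ _ sqT
  have sq1 := IsPullback.of_hasPullback fT ((yon S).map (hqe.rep.snd g))
  have big := sq1.paste_horiz sq
  let θ : pullback fT ((yon S).map (hqe.rep.snd g)) ⟶ pullback f q :=
    sqV.lift (pullback.fst _ _ ≫ fst) (pullback.snd _ _ ≫ (yon S).map s₂) (by
      rw [Category.assoc, Category.assoc, sqT.w]; exact big.w)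
  have hθ1 : θ ≫ pullback.fst f q = pullback.fst _ _ ≫ fst := sqV.lift_fst _ _ _
  have hθ2 : θ ≫ pullback.snd f q = pullback.snd _ _ ≫ (yon S).map s₂ := sqV.lift_snd _ _ _
  have sqθ : IsPullback θ (pullback.snd fT ((yon S).map (hqe.rep.snd g))) (pullback.snd f q)
      ((yon S).map s₂) := by
    refine IsPullback.of_right ?_ hθ2 sqV
    rw [hθ1, sqT.w]
    exact big
  exact pT_descend hP hs₁e hs₁s sq1 (pT_baseChange hP hπ₂ z hze hzs sqθ)

/-- `LocP P` is stable under base change, for `P` étale local on the source-and-target and sheaves with étale atlases. -/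
theorem locP_of_isPullback {P : MorphismProperty Scheme.{u}} (hP : EtLocal P) {X Y X' Y' : Sp S} {f : X ⟶ Y}
    {g : Y' ⟶ Y} {fst : X' ⟶ X} {f' : X' ⟶ Y'} (sq : IsPullback fst f' f g) (hf : LocP P f)
    {U : Over S} (p : (yon S).obj U ⟶ X) (hpe : RepWith @Etale p)
    (hps : RepWith @Surjective p) {V : Over S} (q : (yon S).obj V ⟶ Y) (hqe : RepWith @Etale q)
    (hqs : RepWith @Surjective q) : LocP P f' :=
  locP_of_locPU (locPU_of_isPullback sq (locPU_of_locP hP hf p hpe hps q hqe hqs))

/-- `LocP P` is stable under base change of algebraic spaces. -/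
theorem locP_of_isPullback_of_isAlgSpace {P : MorphismProperty Scheme.{u}} (hP : EtLocal P) {X Y X' Y' : Sp S}
    (hX : IsAlgSpace X) (hY : IsAlgSpace Y) {f : X ⟶ Y}
    {g : Y' ⟶ Y} {fst : X' ⟶ X} {f' : X' ⟶ Y'} (sq : IsPullback fst f' f g) (hf : LocP P f) :
    LocP P f' := by
  obtain ⟨U, p, hpe, hps⟩ := hX.atlas
  obtain ⟨V, q, hqe, hqs⟩ := hY.atlas
  exact locP_of_isPullback hP sq hf p hpe hps q hqe hqs

/-- Precomposing with an étale chart keeps `LocP P`. -/
theorem locP_precomp_chart {P : MorphismProperty Scheme.{u}} {X Y : Sp S} {f : X ⟶ Y} (hf : LocP P f)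
    {U : Over S} (a : (yon S).obj U ⟶ X) (ha : RepWith @Etale a) : LocP P (a ≫ f) := by
  intro A V a' b h ha' hb comm
  have : (RepWith (S := S) @Etale).IsMultiplicative := repWith_isMultiplicative _
  exact hf (a' ≫ a) b h ((RepWith @Etale).comp_mem _ _ ha' ha) hb (by rw [Category.assoc]; exact comm)

/-- `LocP P` can be checked after precomposing with an étale atlas of the source. -/
theorem locP_of_precomp_atlas {P : MorphismProperty Scheme.{u}} (hP : EtLocal P) {X Y : Sp S} (f : X ⟶ Y)
    {U : Over S} (a : (yon S).obj U ⟶ X) (hae : RepWith @Etale a) (has : RepWith @Surjective a)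
    {V : Over S} (q : (yon S).obj V ⟶ Y) (hqe : RepWith @Etale q) (hqs : RepWith @Surjective q)
    (h : LocP P (a ≫ f)) : LocP P f := by
  obtain ⟨U₁, a₁, h₁, ha₁, sqc, hrep⟩ := exists_chart_square f a hae q hqe
  have hP1 : P h₁.left := h ((yon S).map a₁) q h₁ ((repWith_yon_map_iff _ _).2 ha₁) hqe sqc.w
  exact locP_of_one_chart hP f ((yon S).map a₁ ≫ a) q h₁ hrep
    (repWith_surjective_of_chart_square has hqs sqc) hqe (by rw [Category.assoc]; exact sqc.w) hP1

/-- `LocP P` is stable under composition, when the middle sheaf has an étale atlas. -/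
theorem locP_comp {P : MorphismProperty Scheme.{u}} (hP : EtLocal P) {X Y Z : Sp S} (f : X ⟶ Y) (g : Y ⟶ Z)
    {V : Over S} (q : (yon S).obj V ⟶ Y) (hqe : RepWith @Etale q) (hqs : RepWith @Surjective q)
    (hf : LocP P f) (hg : LocP P g) : LocP P (f ≫ g) := by
  have := hP.mult
  have : (RepWith (S := S) @Etale).IsMultiplicative := repWith_isMultiplicative _
  intro U W a c h ha hc comm
  have sqQ := IsPullback.of_hasPullback g c
  let u : (yon S).obj U ⟶ pullback g c :=
    sqQ.lift (a ≫ f) ((yon S).map h) (by rw [Category.assoc]; exact comm)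
  have hu1 : u ≫ pullback.fst g c = a ≫ f := sqQ.lift_fst _ _ _
  have hu2 : u ≫ pullback.snd g c = (yon S).map h := sqQ.lift_snd _ _ _
  have sqV := hc.rep.isPullback (q ≫ g)
  obtain ⟨k, hk⟩ := (yon S).map_surjective (hc.rep.fst (q ≫ g))
  rw [← hk] at sqV
  have hsnd : Etale (hc.rep.snd (q ≫ g)).left := hc.property_snd (q ≫ g)
  have hq₁ : RepWith @Etale ((yon S).map (hc.rep.snd (q ≫ g)) ≫ q) :=
    (RepWith @Etale).comp_mem _ _ ((repWith_yon_map_iff _ _).2 hsnd) hqe
  let v : (yon S).obj (hc.rep.pullback (q ≫ g)) ⟶ pullback g c :=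
    sqQ.lift ((yon S).map (hc.rep.snd (q ≫ g)) ≫ q) ((yon S).map k) (by
      rw [Category.assoc]; exact sqV.w.symm)
  have hv1 : v ≫ pullback.fst g c = (yon S).map (hc.rep.snd (q ≫ g)) ≫ q := sqQ.lift_fst _ _ _
  have hv2 : v ≫ pullback.snd g c = (yon S).map k := sqQ.lift_snd _ _ _
  have sqv : IsPullback v ((yon S).map (hc.rep.snd (q ≫ g))) (pullback.fst g c) q := by
    refine IsPullback.of_right ?_ hv1 sqQ.flip
    rw [hv2]
    exact sqV
  have hve : RepWith @Etale v := MorphismProperty.of_isPullback sqv.flip hqe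
  have hvs : RepWith @Surjective v := MorphismProperty.of_isPullback sqv.flip hqs
  have sqU := hve.rep.isPullback u
  obtain ⟨h₁, hh₁⟩ := (yon S).map_surjective (hve.rep.fst u)
  rw [← hh₁] at sqU
  have he : Etale (hve.rep.snd u).left := hve.property_snd u
  have hs : Surjective (hve.rep.snd u).left := hvs.property _ _ _ sqU
  have hP1 : P h₁.left := by
    refine hf ((yon S).map (hve.rep.snd u) ≫ a) _ h₁
      ((RepWith @Etale).comp_mem _ _ ((repWith_yon_map_iff _ _).2 he) ha) hq₁ ?_
    rw [Category.assoc, ← hu1, ← Category.assoc, ← sqU.w, Category.assoc, hv1]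
  have hP2 : P k.left := hg _ c k hq₁ hc (by rw [Category.assoc]; exact sqV.w.symm)
  have hcomm : h₁ ≫ k = hve.rep.snd u ≫ h := by
    apply (yon S).map_injective
    rw [Functor.map_comp, Functor.map_comp, ← hv2, ← Category.assoc, sqU.w, Category.assoc, hu2]
  refine hP.descend (hve.rep.snd u).left h.left he hs ?_
  rw [← Over.comp_left, ← hcomm, Over.comp_left]
  exact P.comp_mem _ _ hP1 hP2

end Groth.Agent.Lib.Helper54
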