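/-
Helper library (helper54): basic facts on fpqc coverings of sheaves (`AlgSp.IsFpqcCover`).
-/
import Groth.Agent.Lib.Helper54.LocPCalc
import Groth.Agent.Lib.Helper54.FlatMonoSp
import Groth.Prelude.Def_AlgSpCov

set_option autoImplicit false
universe u
open CategoryTheory CategoryTheory.Limits AlgebraicGeometry

namespace Groth.Agent.Lib.Helper54

open AlgSp

variable {S : Scheme.{u}}

/-- The refinement clause of `AlgSp.IsFpqcCover` may be given with any finite index type. -/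
theorem exists_fin_refinement_of_finite {Z : Over S} {X : Sp S} {ι : Type u} {Y : ι → Sp S}
    (g : ∀ i, Y i ⟶ X) (h : (yon S).obj Z ⟶ X) {κ : Type*} [Finite κ] (W : κ → Over S)
    (c : ∀ k, W k ⟶ Z) (haff : ∀ k, IsAffine (W k).left) (hflat : ∀ k, Flat (c k).left)
    (hsurj : ∀ z : ↥Z.left, ∃ k, z ∈ Set.range (c k).left)
    (hlift : ∀ k, ∃ (i : ι) (l : (yon S).obj (W k) ⟶ Y i), l ≫ g i = (yon S).map (c k) ≫ h) :
    ∃ (m : ℕ) (W : Fin m → Over S) (c : ∀ j, W j ⟶ Z),
      (∀ j, IsAffine (W j).left) ∧ (∀ j, Flat (c j).left) ∧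
      (∀ z : ↥Z.left, ∃ j, z ∈ Set.range (c j).left) ∧
      ∀ j, ∃ (i : ι) (l : (yon S).obj (W j) ⟶ Y i), l ≫ g i = (yon S).map (c j) ≫ h := by
  obtain ⟨m, ⟨e⟩⟩ := Finite.exists_equiv_fin κ
  refine ⟨m, fun j => W (e.symm j), fun j => c (e.symm j), fun j => haff _, fun j => hflat _,
    fun z => ?_, fun j => hlift _⟩
  obtain ⟨k, hk⟩ := hsurj z
  refine ⟨e k, ?_⟩
  change z ∈ Set.range ⇑(Over.Hom.left (c (e.symm (e k))))
  rw [e.symm_apply_apply]
  exact hk

/-- The refinement clause of `AlgSp.IsFpqcCover` at an affine test scheme `Z` with a map `t : h_Z ⟶ X`. -/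
def FpqcRefines {X : Sp S} {ι : Type u} {Y : ι → Sp S} (g : ∀ i, Y i ⟶ X) (Z : Over S)
    (t : (yon S).obj Z ⟶ X) : Prop :=
  ∃ (m : ℕ) (W : Fin m → Over S) (c : ∀ j, W j ⟶ Z),
    (∀ j, IsAffine (W j).left) ∧ (∀ j, Flat (c j).left) ∧
    (∀ z : ↥Z.left, ∃ j, z ∈ Set.range (c j).left) ∧
    ∀ j, ∃ (i : ι) (l : (yon S).obj (W j) ⟶ Y i), l ≫ g i = (yon S).map (c j) ≫ t

theorem isFpqcCover_iff {X : Sp S} {ι : Type u} (Y : ι → Sp S) (g : ∀ i, Y i ⟶ X) :
    IsFpqcCover Y g ↔ (∀ i, LocP @Flat (g i)) ∧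
      ∀ (Z : Over S), IsAffine Z.left → ∀ t : (yon S).obj Z ⟶ X, FpqcRefines g Z t := Iff.rfl

/-- A map from an affine scheme which lifts through a member of the family is refined by the identity. -/
theorem fpqcRefines_of_lift {X : Sp S} {ι : Type u} {Y : ι → Sp S} (g : ∀ i, Y i ⟶ X) (Z : Over S)
    [IsAffine Z.left] (t : (yon S).obj Z ⟶ X) (i : ι) (l : (yon S).obj Z ⟶ Y i) (hl : l ≫ g i = t) :
    FpqcRefines g Z t := by
  refine exists_fin_refinement_of_finite g t (κ := Unit) (fun _ => Z) (fun _ => 𝟙 Z)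
    (fun _ => inferInstance) (fun _ => ?_) (fun z => ⟨(), z, rfl⟩) (fun _ => ⟨i, l, ?_⟩)
  · change Flat (𝟙 Z.left)
    infer_instance
  · rw [hl]
    erw [(yon S).map_id]
    rw [Category.id_comp]

/-- Transitivity of refinements: a finite flat affine jointly surjective family each of whose members is refined gives a
refinement. -/
theorem fpqcRefines_trans {X : Sp S} {ι : Type u} {Y : ι → Sp S} (g : ∀ i, Y i ⟶ X) (Z : Over S)
    (t : (yon S).obj Z ⟶ X) {κ : Type*} [Finite κ] (V : κ → Over S) (v : ∀ k, V k ⟶ Z)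
    (hflat : ∀ k, Flat (v k).left) (hsurj : ∀ z : ↥Z.left, ∃ k, z ∈ Set.range (v k).left)
    (h : ∀ k, FpqcRefines g (V k) ((yon S).map (v k) ≫ t)) : FpqcRefines g Z t := by
  choose m' W' c' haff' hflat' hsurj' hlift' using h
  refine exists_fin_refinement_of_finite g t
    (κ := Σ k : κ, Fin (m' k)) (fun x => W' x.1 x.2) (fun x => c' x.1 x.2 ≫ v x.1)
    (fun x => haff' x.1 x.2) (fun x => ?_) (fun z => ?_) (fun x => ?_)
  · have : Flat (c' x.1 x.2).left := hflat' x.1 x.2
    have : Flat (v x.1).left := hflat x.1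
    change Flat ((c' x.1 x.2).left ≫ (v x.1).left)
    infer_instance
  · obtain ⟨k, w, hw⟩ := hsurj z
    obtain ⟨j, w', hw'⟩ := hsurj' k w
    refine ⟨⟨k, j⟩, w', ?_⟩
    change ((c' k j).left ≫ (v k).left) w' = z
    rw [Scheme.Hom.comp_apply, hw', hw]
  · obtain ⟨i, l, hl⟩ := hlift' x.1 x.2
    exact ⟨i, l, by rw [hl, Functor.map_comp, Category.assoc]⟩

/-- Refinement can be checked on the affine opens of a jointly surjective family of flat open maps to a quasi-compact
scheme. -/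
theorem fpqcRefines_of_open_cover {X : Sp S} {ι : Type u} {Y : ι → Sp S} (g : ∀ i, Y i ⟶ X) (Z : Over S)
    [CompactSpace ↥Z.left] (t : (yon S).obj Z ⟶ X) {κ : Type*} (E : κ → Over S) (e : ∀ k, E k ⟶ Z)
    (hflat : ∀ k, Flat (e k).left) (hopen : ∀ k, IsOpenMap (e k).left)
    (hsurj : ∀ z : ↥Z.left, ∃ k, z ∈ Set.range (e k).left)
    (h : ∀ (k : κ) (A : (E k).left.affineOpens), FpqcRefines g (Groth.Agent.H52.overOpen (E k) A.1)
      ((yon S).map (Groth.Agent.H52.overOpenι (E k) A.1 ≫ e k) ≫ t)) : FpqcRefines g Z t := by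
  have hcov : (Set.univ : Set ↥Z.left) ⊆
      ⋃ x : Σ k, (E k).left.affineOpens, (e x.1).left '' (x.2.1 : Set ↥(E x.1).left) := by
    intro z _
    obtain ⟨k, w, hw⟩ := hsurj z
    obtain ⟨_, ⟨A, hA : IsAffineOpen A, rfl⟩, hwA, -⟩ :=
      (E k).left.isBasis_affineOpens.exists_subset_of_mem_open (Set.mem_univ w) isOpen_univ
    exact Set.mem_iUnion.2 ⟨⟨k, ⟨A, hA⟩⟩, w, hwA, hw⟩
  obtain ⟨s, hs⟩ := isCompact_univ.elim_finite_subcover _
    (fun x : Σ k, (E k).left.affineOpens => hopen x.1 _ x.2.1.isOpen) hcov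
  refine fpqcRefines_trans g Z t (κ := ↥s)
    (fun x => Groth.Agent.H52.overOpen (E x.1.1) x.1.2.1)
    (fun x => Groth.Agent.H52.overOpenι (E x.1.1) x.1.2.1 ≫ e x.1.1) (fun x => ?_) (fun z => ?_)
    (fun x => h x.1.1 x.1.2)
  · have : Flat (e x.1.1).left := hflat x.1.1
    change Flat ((x.1.2.1 : (E x.1.1).left.Opens).ι ≫ (e x.1.1).left)
    infer_instance
  · obtain ⟨x, hx, w, hwA, hw⟩ : ∃ x ∈ s, z ∈ (e x.1).left '' (x.2.1 : Set ↥(E x.1).left) := by
      simpa using hs (Set.mem_univ z)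
    refine ⟨⟨x, hx⟩, ⟨w, hwA⟩, ?_⟩
    change ((x.2.1 : (E x.1).left.Opens).ι ≫ (e x.1).left) ⟨w, hwA⟩ = z
    rw [Scheme.Hom.comp_apply]
    exact hw

/-- Refinement for a family of flat open maps from schemes, jointly surjective onto an affine scheme, each of which lifts
through a member of the family. -/
theorem fpqcRefines_of_open_family {X : Sp S} {ι : Type u} {Y : ι → Sp S} (g : ∀ i, Y i ⟶ X) (Z : Over S)
    [CompactSpace ↥Z.left] (t : (yon S).obj Z ⟶ X) {κ : Type*} (E : κ → Over S) (e : ∀ k, E k ⟶ Z)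
    (hflat : ∀ k, Flat (e k).left) (hopen : ∀ k, IsOpenMap (e k).left)
    (hsurj : ∀ z : ↥Z.left, ∃ k, z ∈ Set.range (e k).left)
    (hlift : ∀ k, ∃ (i : ι) (l : (yon S).obj (E k) ⟶ Y i), l ≫ g i = (yon S).map (e k) ≫ t) :
    FpqcRefines g Z t := by
  refine fpqcRefines_of_open_cover g Z t E e hflat hopen hsurj fun k A => ?_
  obtain ⟨i, l, hl⟩ := hlift k
  have : IsAffine (Groth.Agent.H52.overOpen (E k) A.1).left := A.2
  refine fpqcRefines_of_lift g _ _ i ((yon S).map (Groth.Agent.H52.overOpenι (E k) A.1) ≫ l) ?_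
  rw [Category.assoc, hl, Functor.map_comp, Category.assoc]

/-- Refinements are transported along a morphism of families. -/
theorem fpqcRefines_map {X X' : Sp S} {ι : Type u} {Y Y' : ι → Sp S} (g : ∀ i, Y i ⟶ X)
    (g' : ∀ i, Y' i ⟶ X') (φ : X' ⟶ X) (φi : ∀ i, Y' i ⟶ Y i) (comm : ∀ i, g' i ≫ φ = φi i ≫ g i)
    {Z : Over S} {t' : (yon S).obj Z ⟶ X'} (h : FpqcRefines g' Z t') : FpqcRefines g Z (t' ≫ φ) := by
  obtain ⟨m, W, c, haff, hflat, hsurj, hlift⟩ := h
  refine ⟨m, W, c, haff, hflat, hsurj, fun j => ?_⟩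
  obtain ⟨i, l, hl⟩ := hlift j
  exact ⟨i, l ≫ φi i, by rw [Category.assoc, ← comm, ← Category.assoc, hl, Category.assoc]⟩

/-- For an fppf covering `{g i : Y i ⟶ X}` of an algebraic space by algebraic spaces and a map `t : h_T ⟶ X` from a scheme,
there is a family of flat, locally finitely presented morphisms of schemes `E i ⟶ T`, jointly surjective, lifting through
the `g i`. -/
theorem exists_fppf_family_of_isFppfCover {X : Sp S} (hX : IsAlgSpace X) {ι : Type u} {Y : ι → Sp S}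
    (hY : ∀ i, IsAlgSpace (Y i)) (g : ∀ i, Y i ⟶ X) (hcov : IsFppfCover Y g) (T : Over S)
    (t : (yon S).obj T ⟶ X) :
    ∃ (E : ι → Over S) (e : ∀ i, E i ⟶ T) (l : ∀ i, (yon S).obj (E i) ⟶ Y i),
      (∀ i, Flat (e i).left) ∧ (∀ i, LocallyOfFinitePresentation (e i).left) ∧
      (∀ z : ↥T.left, ∃ i, z ∈ Set.range (e i).left) ∧ ∀ i, l i ≫ g i = (yon S).map (e i) ≫ t := by
  obtain ⟨U, p, hpe, hps⟩ := hX.atlas
  have sqZ := hpe.rep.isPullback t
  obtain ⟨r, hr⟩ := (yon S).map_surjective (hpe.rep.fst t)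
  rw [← hr] at sqZ
  have hsnd_e : Etale (hpe.rep.snd t).left := hpe.property_snd t
  have hsnd_s : Surjective (hpe.rep.snd t).left := hps.property _ _ _ sqZ
  have key : ∀ i, ∃ (Ui Ui' : Over S) (pi : (yon S).obj Ui ⟶ Y i) (a : Ui' ⟶ Ui) (h : Ui' ⟶ U),
      RepWith @Surjective pi ∧ IsPullback ((yon S).map a) ((yon S).map h) (pi ≫ g i) p ∧
      Flat h.left ∧ LocallyOfFinitePresentation h.left := by
    intro i
    obtain ⟨Ui, pi, hpie, hpis⟩ := (hY i).atlas
    obtain ⟨Ui', a, h, ha, sqc, hrep⟩ := exists_chart_square (g i) pi hpie p hpe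
    exact ⟨Ui, Ui', pi, a, h, hpis, sqc, locP_of_chart_square (hcov.1 i).1 hpe sqc hrep,
      locP_of_chart_square (hcov.1 i).2 hpe sqc hrep⟩
  choose Ui Ui' pi a h hpis sqc hflat hlfp using key
  refine ⟨fun i => pullback (h i) r, fun i => pullback.snd (h i) r ≫ hpe.rep.snd t,
    fun i => (yon S).map (pullback.fst (h i) r ≫ a i) ≫ pi i, fun i => ?_, fun i => ?_, fun z => ?_,
    fun i => ?_⟩
  · have sql := (IsPullback.of_hasPullback (h i) r).map (Over.forget S)
    have : Flat (pullback.snd (h i) r).left :=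
      MorphismProperty.of_isPullback (P := @Flat) sql (hflat i)
    change Flat ((pullback.snd (h i) r).left ≫ (hpe.rep.snd t).left)
    infer_instance
  · have sql := (IsPullback.of_hasPullback (h i) r).map (Over.forget S)
    have : LocallyOfFinitePresentation (pullback.snd (h i) r).left :=
      MorphismProperty.of_isPullback (P := @LocallyOfFinitePresentation) sql (hlfp i)
    change LocallyOfFinitePresentation ((pullback.snd (h i) r).left ≫ (hpe.rep.snd t).left)
    infer_instance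
  · obtain ⟨z', hz'⟩ := hsnd_s.surj z
    obtain ⟨i, xi, hxi⟩ := hcov.2 (Points.ofPt p (r.left z'))
    obtain ⟨ui', rfl⟩ := Groth.Agent.H52.surjective_points_of_repWith_surjective (pi i) (hpis i) xi
    obtain ⟨ui, rfl⟩ := exists_ofScheme_eq (Ui i) ui'
    obtain ⟨w, -, hw2⟩ := exists_point_of_isPullback (sqc i) (Points.ofScheme (Ui i) ui)
      (Points.ofScheme U (r.left z')) (by
        rw [Points.map_comp, hxi, Points.ofPt_eq_map_ofScheme])
    obtain ⟨w', rfl⟩ := exists_ofScheme_eq (Ui' i) w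
    have hw3 : (h i).left w' = r.left z' := by
      apply (Points.schemeEquiv U).injective
      change Points.ofScheme U ((h i).left w') = Points.ofScheme U (r.left z')
      rw [← Groth.Agent.H52.points_map_ofScheme]
      exact hw2
    have sql := (IsPullback.of_hasPullback (h i) r).map (Over.forget S)
    obtain ⟨e₀, -, he₀⟩ := Scheme.exists_preimage_of_isPullback sql w' z' hw3
    refine ⟨i, e₀, ?_⟩
    change ((pullback.snd (h i) r).left ≫ (hpe.rep.snd t).left) e₀ = z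
    rw [Scheme.Hom.comp_apply]
    erw [he₀]
    exact hz'
  · have h1 : (yon S).map (pullback.fst (h i) r) ≫ (yon S).map (h i) =
        (yon S).map (pullback.snd (h i) r) ≫ (yon S).map r := by
      rw [← Functor.map_comp, ← Functor.map_comp, pullback.condition]
    change ((yon S).map (pullback.fst (h i) r ≫ a i) ≫ pi i) ≫ g i =
      (yon S).map (pullback.snd (h i) r ≫ hpe.rep.snd t) ≫ t
    rw [Functor.map_comp, Functor.map_comp, Category.assoc, Category.assoc, Category.assoc,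
      ← sqZ.w, (sqc i).w, ← Category.assoc, h1, Category.assoc]

end Groth.Agent.Lib.Helper54
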