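/-
Helper library (helper54): descent of properties of representable morphisms along fpqc coverings of sheaves.
-/
import Groth.Agent.Lib.Helper54.FpqcCover
import Groth.Agent.H52.AffineLocal
import Groth.Agent.H52.UnivInj
import Mathlib.AlgebraicGeometry.Morphisms.FlatDescent

set_option autoImplicit false
universe u
open CategoryTheory CategoryTheory.Limits AlgebraicGeometry

namespace Groth.Agent.Lib.Helper54

open AlgSp

/-- For a property respecting isomorphisms, the second legs of two pullback squares over the same cospan have the property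
simultaneously. -/
theorem snd_of_isPullback_of_isPullback {C : Type*} [Category C] (Q : MorphismProperty C) [Q.RespectsIso]
    {P₁ P₂ X Y Z : C} {f₁ : P₁ ⟶ X} {g₁ : P₁ ⟶ Y} {f₂ : P₂ ⟶ X} {g₂ : P₂ ⟶ Y} {s : X ⟶ Z} {c : Y ⟶ Z}
    (sq₁ : IsPullback f₁ g₁ s c) (sq₂ : IsPullback f₂ g₂ s c) (h : Q g₁) : Q g₂ := by
  rw [← sq₂.isoIsPullback_hom_snd _ _ sq₁]
  exact (Q.cancel_left_of_respectsIso _ _).2 h

/-- Descent along a finite jointly surjective family of flat morphisms from affine schemes to an affine scheme. -/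
theorem of_finite_flat_family (Q : MorphismProperty Scheme.{u}) [Q.IsStableUnderBaseChange]
    [IsZariskiLocalAtTarget Q] [Q.DescendsAlong (@Surjective ⊓ @Flat ⊓ @QuasiCompact)]
    {V T : Scheme.{u}} (s : V ⟶ T) [IsAffine T] {m : ℕ} (W : Fin m → Scheme.{u})
    [∀ j, IsAffine (W j)] (c : ∀ j, W j ⟶ T) (hflat : ∀ j, Flat (c j))
    (hsurj : ∀ t : ↥T, ∃ j, t ∈ Set.range (c j))
    (h : ∀ j, Q (pullback.snd s (c j))) : Q s := by
  have : Q.RespectsIso := MorphismProperty.IsStableUnderBaseChange.respectsIso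
  let c' : ∐ W ⟶ T := Sigma.desc c
  have hc'flat : Flat c' := by
    rw [IsZariskiLocalAtSource.iff_of_openCover (P := @Flat) (sigmaOpenCover W)]
    intro j
    change Flat (Sigma.ι W j ≫ Sigma.desc c)
    rw [Sigma.ι_desc]
    exact hflat j
  have hc'surj : Surjective c' := by
    refine ⟨fun t => ?_⟩
    obtain ⟨j, w, hw⟩ := hsurj t
    refine ⟨Sigma.ι W j w, ?_⟩
    rw [← Scheme.Hom.comp_apply, Sigma.ι_desc]
    exact hw
  have hc'qc : QuasiCompact c' := inferInstance
  refine MorphismProperty.of_pullback_snd_of_descendsAlong (P := Q)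
    (Q := @Surjective ⊓ @Flat ⊓ @QuasiCompact) (f := s) (g := c') ⟨⟨hc'surj, hc'flat⟩, hc'qc⟩ ?_
  rw [IsZariskiLocalAtTarget.iff_of_openCover (P := Q) (sigmaOpenCover W)]
  intro j
  change Q (pullback.snd (pullback.snd s c') (Sigma.ι W j))
  have sq1 := IsPullback.of_hasPullback (pullback.snd s c') (Sigma.ι W j)
  have sq2 := IsPullback.of_hasPullback s c'
  have big := sq1.paste_horiz sq2
  have hι : Sigma.ι W j ≫ c' = c j := Sigma.ι_desc _ _
  rw [hι] at big
  exact snd_of_isPullback_of_isPullback Q (IsPullback.of_hasPullback s (c j)) big (h j)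

variable {S : Scheme.{u}}

/-- A representable morphism has `Q` as soon as, for every map from an affine scheme to its target, it has `Q` after base
change to the members of a finite flat affine jointly surjective family (`Q` satisfying fpqc descent). -/
theorem repWith_of_fpqc_local (Q : MorphismProperty Scheme.{u}) [Q.IsStableUnderBaseChange]
    [IsZariskiLocalAtTarget Q] [Q.DescendsAlong (@Surjective ⊓ @Flat ⊓ @QuasiCompact)]
    {A B : Sp S} (φ : A ⟶ B) (hφ : Representable φ)
    (h : ∀ (T : Over S), IsAffine T.left → ∀ y : (yon S).obj T ⟶ B,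
      ∃ (m : ℕ) (W : Fin m → Over S) (c : ∀ j, W j ⟶ T),
        (∀ j, IsAffine (W j).left) ∧ (∀ j, Flat (c j).left) ∧
        (∀ t : ↥T.left, ∃ j, t ∈ Set.range (c j).left) ∧
        ∀ j, ∃ (A' : Sp S) (a : A' ⟶ A) (φ' : A' ⟶ (yon S).obj (W j)),
          IsPullback a φ' φ ((yon S).map (c j) ≫ y) ∧ RepWith Q φ') : RepWith Q φ := by
  have : Q.RespectsIso := MorphismProperty.IsStableUnderBaseChange.respectsIso
  refine Groth.Agent.H52.repWith_of_affine Q φ hφ ?_
  intro T V hT y fst snd sq
  obtain ⟨m, W, c, haff, hflat, hsurj, hloc⟩ := h T hT y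
  have : IsAffine T.left := hT
  have : ∀ j, IsAffine (W j).left := haff
  refine of_finite_flat_family Q snd.left (fun j => (W j).left) (fun j => (c j).left) hflat hsurj
    (fun j => ?_)
  obtain ⟨A', a, φ', sqA, hφ'⟩ := hloc j
  have sqO := IsPullback.of_hasPullback snd (c j)
  refine snd_of_isPullback_of_isPullback Q (sqO.map (Over.forget S))
    (IsPullback.of_hasPullback snd.left (c j).left) ?_
  have big := (sqO.map (yon S)).paste_horiz sq
  have he : (big.isoIsPullback _ _ sqA).hom ≫ φ' = (yon S).map (pullback.snd snd (c j)) :=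
    big.isoIsPullback_hom_snd _ _ sqA
  have sqe : IsPullback (big.isoIsPullback _ _ sqA).hom ((yon S).map (pullback.snd snd (c j))) φ'
      (𝟙 _) := IsPullback.of_horiz_isIso ⟨by rw [he, Category.comp_id]⟩
  exact hφ'.property (𝟙 _) _ (pullback.snd snd (c j)) sqe

/-- The diagonal of a morphism has `Q` (satisfying fpqc descent) as soon as the diagonals of its base changes to the members
of an fpqc covering of the target do. -/
theorem repWith_diagonal_of_fpqc_local (Q : MorphismProperty Scheme.{u}) [Q.IsStableUnderBaseChange]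
    [IsZariskiLocalAtTarget Q] [Q.DescendsAlong (@Surjective ⊓ @Flat ⊓ @QuasiCompact)]
    {X Y : Sp S} (f : X ⟶ Y) (hΔ : Representable (pullback.diagonal f)) {ι : Type u} {Yi : ι → Sp S}
    (g : ∀ i, Yi i ⟶ Y)
    (href : ∀ (Z : Over S), IsAffine Z.left → ∀ t : (yon S).obj Z ⟶ Y, FpqcRefines g Z t)
    {Xi : ι → Sp S} (p : ∀ i, Xi i ⟶ Yi i) (q : ∀ i, Xi i ⟶ X)
    (sq : ∀ i, IsPullback (q i) (p i) f (g i))
    (h : ∀ i, RepWith Q (pullback.diagonal (p i))) : RepWith Q (pullback.diagonal f) := by
  refine repWith_of_fpqc_local Q _ hΔ ?_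
  intro T hT y
  obtain ⟨m, W, c, haff, hflat, hsurj, hlift⟩ := href T hT (y ≫ pullback.fst f f ≫ f)
  refine ⟨m, W, c, haff, hflat, hsurj, fun j => ?_⟩
  obtain ⟨i, l, hl⟩ := hlift j
  obtain ⟨t', ht'def⟩ : ∃ t' : (yon S).obj (W j) ⟶ Y,
      t' = ((yon S).map (c j) ≫ y) ≫ pullback.fst f f ≫ f := ⟨_, rfl⟩
  have ht' : t' = l ≫ g i := by rw [ht'def, hl, Category.assoc]
  have sqF := IsPullback.of_hasPullback f t'
  have hcomp : pullback.fst f t' ≫ f = (pullback.snd f t' ≫ l) ≫ g i := by
    rw [Category.assoc, ← ht']; exact sqF.w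
  have hlift1 : (sq i).lift _ _ hcomp ≫ q i = pullback.fst f t' := (sq i).lift_fst _ _ _
  have hlift2 : (sq i).lift _ _ hcomp ≫ p i = pullback.snd f t' ≫ l := (sq i).lift_snd _ _ _
  have sqL : IsPullback ((sq i).lift _ _ hcomp) (pullback.snd f t') (p i) l := by
    refine IsPullback.of_right ?_ hlift2 (sq i)
    rw [hlift1, ← ht']
    exact sqF
  have hΔ' : RepWith Q (pullback.diagonal (pullback.snd f t')) :=
    Groth.Agent.H52.repWith_diagonal_of_isPullback Q sqL (h i)
  subst ht'def
  obtain ⟨E, a, b, sqE, hb⟩ := Groth.Agent.H52.exists_isPullback_diagonal_of_base_change Q f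
    ((yon S).map (c j) ≫ y) _ _ sqF hΔ'
  exact ⟨E, a, b, sqE, hb⟩

/-- A morphism of sheaves representable by isomorphisms is an isomorphism. -/
theorem isIso_of_repWith_isomorphisms {F G : Sp S} (φ : F ⟶ G)
    (hφ : RepWith (MorphismProperty.isomorphisms Scheme.{u}) φ) : IsIso φ := by
  have hmono : Mono φ := Groth.Agent.H52.mono_of_repWith φ _ (fun _ _ g hg => by
    have : IsIso g := hg
    infer_instance) hφ
  have hepi : Epi φ := by
    constructor
    intro H a b hab
    apply Groth.Agent.H52.sp_hom_ext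
    intro U x
    have sq := hφ.rep.isPullback x
    have hiso : IsIso (hφ.rep.snd x).left := hφ.property_snd x
    have hiso'' : IsIso ((Over.forget S).map (hφ.rep.snd x)) := hiso
    have hiso' : IsIso (hφ.rep.snd x) := isIso_of_reflects_iso _ (Over.forget S)
    have hx : x = (yon S).map (inv (hφ.rep.snd x)) ≫ hφ.rep.fst x ≫ φ := by
      rw [sq.w, ← Category.assoc, ← Functor.map_comp, IsIso.inv_hom_id]
      erw [(yon S).map_id]
      exact (Category.id_comp _).symm
    rw [hx, Category.assoc, Category.assoc, Category.assoc, Category.assoc, hab]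
  exact isIso_of_mono_of_epi φ

/-- Monomorphisms of sheaves out of an algebraic space can be checked fpqc locally on the target. -/
theorem mono_of_fpqc_local {X Y : Sp S} (hX : IsAlgSpace X) (f : X ⟶ Y) {ι : Type u} {Yi : ι → Sp S}
    (g : ∀ i, Yi i ⟶ Y)
    (href : ∀ (Z : Over S), IsAffine Z.left → ∀ t : (yon S).obj Z ⟶ Y, FpqcRefines g Z t)
    {Xi : ι → Sp S} (p : ∀ i, Xi i ⟶ Yi i) (q : ∀ i, Xi i ⟶ X)
    (sq : ∀ i, IsPullback (q i) (p i) f (g i)) (h : ∀ i, Mono (p i)) : Mono f := by
  have hΔ : RepWith (MorphismProperty.isomorphisms Scheme.{u}) (pullback.diagonal f) := by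
    refine repWith_diagonal_of_fpqc_local _ f (Groth.Agent.H52.diagonal_properties hX f).1 g href p q sq
      (fun i => ?_)
    have := h i
    have : IsIso (pullback.diagonal (p i)) := (pullback.isIso_diagonal_iff (p i)).mpr inferInstance
    exact Groth.Agent.H52.repWith_of_isIso _ _
  have := isIso_of_repWith_isomorphisms _ hΔ
  exact (pullback.isIso_diagonal_iff f).mp inferInstance

end Groth.Agent.Lib.Helper54
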