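/-
Helper library (helper54): locality on the source of `AlgSp.LocP P` for coverings of algebraic spaces.
-/
import Groth.Agent.Lib.Helper54.FpqcCover

set_option autoImplicit false
universe u
open CategoryTheory CategoryTheory.Limits AlgebraicGeometry

namespace Groth.Agent.Lib.Helper54

open AlgSp

variable {S : Scheme.{u}}

/-- An fpqc covering is jointly surjective on points. -/
theorem points_surjective_of_isFpqcCover {X : Sp S} {ι : Type u} {Y : ι → Sp S} (g : ∀ i, Y i ⟶ X)
    (h : IsFpqcCover Y g) (x : Points X) : ∃ i, x ∈ Set.range (Points.map (g i)) := by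
  induction x using Points.ind with
  | h p =>
    have haff : IsAffine p.pt.left := inferInstanceAs (IsAffine (Spec _))
    obtain ⟨m, W, c, -, -, hsurj, hlift⟩ := h.2 p.pt haff p.toHom
    obtain ⟨j, w, hw⟩ := hsurj (IsLocalRing.closedPoint p.K)
    obtain ⟨i, l, hl⟩ := hlift j
    refine ⟨i, Points.ofPt l w, ?_⟩
    rw [Points.map_ofPt, hl, Points.ofPt_eq_map_ofScheme, Points.map_comp,
      Groth.Agent.H52.points_map_ofScheme, ← Points.ofPt_eq_map_ofScheme, Points.ofPt_toHom]

/-- Flatness descends along a jointly surjective family of flat morphisms on the source. -/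
theorem flat_of_flat_comp_of_family {ι : Type*} {U V : Scheme.{u}} (Ui : ι → Scheme.{u})
    (k : ∀ i, Ui i ⟶ U) (h : U ⟶ V) (hk : ∀ i, Flat (k i))
    (hsurj : ∀ u : ↥U, ∃ i, u ∈ Set.range (k i)) (hkh : ∀ i, Flat (k i ≫ h)) : Flat h := by
  rw [Flat.iff_flat_stalkMap]
  intro y
  obtain ⟨i, x, rfl⟩ := hsurj y
  have := hk i
  have := hkh i
  have h1 : ((k i ≫ h).stalkMap x).hom.Flat := Flat.stalkMap (k i ≫ h) x
  rw [Scheme.Hom.stalkMap_comp] at h1
  have h2 : ((k i).stalkMap x).hom.Flat := Flat.stalkMap (k i) x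
  have h3 : ((k i).stalkMap x).hom.FaithfullyFlat := by
    algebraize [((k i).stalkMap x).hom]
    have : IsLocalHom (algebraMap (U.presheaf.stalk ((k i) x)) ((Ui i).presheaf.stalk x)) :=
      inferInstanceAs (IsLocalHom ((k i).stalkMap x).hom)
    exact Module.FaithfullyFlat.of_flat_of_isLocalHom
  exact Groth.Agent.Lib.Helper7.ringHom_flat_of_comp_of_faithfullyFlat _ _ h3 h1

/-- Locality on the source: if `{g i : X i ⟶ X}` is a family of morphisms of algebraic spaces with `Q` étale locally,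
jointly surjective on points, and `P` descends along jointly surjective families of `Q`-morphisms of schemes on the source,
then `f : X ⟶ Y` has `P` étale locally as soon as all `g i ≫ f` do. -/
theorem locP_of_source_cover {P Q : MorphismProperty Scheme.{u}} (hP : EtLocal P) (hQ : EtLocal Q)
    (hdesc : ∀ {ι : Type u} {U V : Scheme.{u}} (Ui : ι → Scheme.{u}) (k : ∀ i, Ui i ⟶ U) (h : U ⟶ V),
      (∀ i, Q (k i)) → (∀ u : ↥U, ∃ i, u ∈ Set.range (k i)) → (∀ i, P (k i ≫ h)) → P h)
    {X Y : Sp S} (hX : IsAlgSpace X) (hY : IsAlgSpace Y) {ι : Type u} {Xi : ι → Sp S}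
    (hXi : ∀ i, IsAlgSpace (Xi i)) (g : ∀ i, Xi i ⟶ X) (hg : ∀ i, LocP Q (g i))
    (hsurj : ∀ x : Points X, ∃ i, x ∈ Set.range (Points.map (g i))) (f : X ⟶ Y)
    (hf : ∀ i, LocP P (g i ≫ f)) : LocP P f := by
  have : (RepWith (S := S) @Etale).IsMultiplicative := repWith_isMultiplicative _
  obtain ⟨U, p, hpe, hps⟩ := hX.atlas
  obtain ⟨V, q, hqe, hqs⟩ := hY.atlas
  obtain ⟨U₁, a₁, h₁, ha₁, sqc, hrep⟩ := exists_chart_square f p hpe q hqe
  have hreps := repWith_surjective_of_chart_square hps hqs sqc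
  refine locP_of_one_chart hP f ((yon S).map a₁ ≫ p) q h₁ hrep hreps hqe
    (by rw [Category.assoc]; exact sqc.w) ?_
  have key : ∀ i, ∃ (A : Over S) (k : A ⟶ U₁), Q k.left ∧ P (k.left ≫ h₁.left) ∧
      ∀ u : ↥U₁.left, Points.map ((yon S).map a₁ ≫ p) (Points.ofScheme U₁ u) ∈
        Set.range (Points.map (g i)) → u ∈ Set.range k.left := by
    intro i
    have sqi := IsPullback.of_hasPullback (g i) ((yon S).map a₁ ≫ p)
    have hXiU : IsAlgSpace (pullback (g i) ((yon S).map a₁ ≫ p)) :=
      Groth.Agent.H52.isAlgSpace_of_isPullback sqi (hXi i) hX (IsAlgSpace.yon_obj U₁)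
    obtain ⟨A, z, hze, hzs⟩ := hXiU.atlas
    obtain ⟨k, hk⟩ := (yon S).map_surjective (z ≫ pullback.snd (g i) ((yon S).map a₁ ≫ p))
    have hsnd : LocP Q (pullback.snd (g i) ((yon S).map a₁ ≫ p)) :=
      locP_of_isPullback_of_isAlgSpace hQ (hXi i) hX sqi (hg i)
    have hfst : RepWith @Etale (pullback.fst (g i) ((yon S).map a₁ ≫ p)) :=
      MorphismProperty.of_isPullback sqi.flip hrep
    refine ⟨A, k, ?_, ?_, ?_⟩
    · exact hsnd z (𝟙 _) k hze (repWith_id _ U₁) (by rw [Category.comp_id, hk])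
    · have := hf i (z ≫ pullback.fst (g i) ((yon S).map a₁ ≫ p)) q (k ≫ h₁)
        ((RepWith @Etale).comp_mem _ _ hze hfst) hqe (by
          rw [Functor.map_comp, hk, Category.assoc, Category.assoc, Category.assoc,
            ← Category.assoc (pullback.fst _ _), sqi.w, Category.assoc, Category.assoc, sqc.w])
      exact this
    · rintro u ⟨xi, hxi⟩
      obtain ⟨w, -, hw⟩ := exists_point_of_isPullback sqi xi (Points.ofScheme U₁ u) hxi
      obtain ⟨a', rfl⟩ := Groth.Agent.H52.surjective_points_of_repWith_surjective z hzs w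
      obtain ⟨a, rfl⟩ := exists_ofScheme_eq A a'
      refine ⟨a, ?_⟩
      apply (Points.schemeEquiv U₁).injective
      change Points.ofScheme U₁ (k.left a) = Points.ofScheme U₁ u
      rw [← Groth.Agent.H52.points_map_ofScheme, hk, Points.map_comp]
      exact hw
  choose A k hQk hPk hrange using key
  refine hdesc (fun i => (A i).left) (fun i => (k i).left) h₁.left hQk (fun u => ?_) hPk
  obtain ⟨i, hi⟩ := hsurj (Points.map ((yon S).map a₁ ≫ p) (Points.ofScheme U₁ u))
  exact ⟨i, hrange i u hi⟩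

end Groth.Agent.Lib.Helper54
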