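/-
Helper library (helper54): topology of points and fpqc coverings: the space of points of the target of an fpqc covering carries
the final topology; descent of topological properties of morphisms along fpqc coverings of the base.
-/
import Groth.Agent.Lib.Helper54.SourceLocal
import Groth.Agent.H52.Top3
import Mathlib.AlgebraicGeometry.Morphisms.Flat

set_option autoImplicit false
universe u
open CategoryTheory CategoryTheory.Limits AlgebraicGeometry Topology

namespace Groth.Agent.Lib.Helper54

open AlgSp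

/-- Openness in an affine scheme can be checked on a finite flat jointly surjective family of affine schemes. -/
theorem isOpen_iff_of_finite_flat_family {T : Scheme.{u}} [IsAffine T] {m : ℕ} (W : Fin m → Scheme.{u})
    [∀ j, IsAffine (W j)] (c : ∀ j, W j ⟶ T) (hflat : ∀ j, Flat (c j))
    (hsurj : ∀ t : ↥T, ∃ j, t ∈ Set.range (c j)) (A : Set ↥T) :
    IsOpen A ↔ ∀ j, IsOpen ((c j) ⁻¹' A) := by
  constructor
  · intro hA j
    exact hA.preimage (c j).continuous
  · intro h
    let c' : ∐ W ⟶ T := Sigma.desc c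
    have hc'flat : Flat c' := by
      rw [IsZariskiLocalAtSource.iff_of_openCover (P := @Flat) (sigmaOpenCover W)]
      intro j
      change Flat (Sigma.ι W j ≫ Sigma.desc c)
      rw [Sigma.ι_desc]
      exact hflat j
    have hc'surj : Surjective c' := by
      refine ⟨fun t => ?_⟩
      obtain ⟨j, w, hw⟩ := hsurj t
      refine ⟨Sigma.ι W j w, ?_⟩
      rw [← Scheme.Hom.comp_apply, Sigma.ι_desc]
      exact hw
    have hc'qc : QuasiCompact c' := inferInstance
    rw [← (Flat.isQuotientMap_of_surjective c').isOpen_preimage]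
    have hB : c' ⁻¹' A = ⋃ j, (Sigma.ι W j) '' ((c j) ⁻¹' A) := by
      ext x
      constructor
      · intro hx
        obtain ⟨j, y, rfl⟩ := (sigmaOpenCover W).exists_eq x
        refine Set.mem_iUnion.2 ⟨j, y, ?_, rfl⟩
        have : c' ((Sigma.ι W j) y) ∈ A := hx
        rwa [← Scheme.Hom.comp_apply, Sigma.ι_desc] at this
      · intro hx
        obtain ⟨j, y, hy, rfl⟩ := Set.mem_iUnion.1 hx
        change c' ((Sigma.ι W j) y) ∈ A
        rw [← Scheme.Hom.comp_apply, Sigma.ι_desc]
        exact hy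
    rw [hB]
    exact isOpen_iUnion fun j => (Sigma.ι W j).isOpenEmbedding.isOpenMap _ (h j)

variable {S : Scheme.{u}}

theorem ofPt_yon_map_comp {F : Sp S} {T T' : Over S} (c : T ⟶ T') (g : (yon S).obj T' ⟶ F)
    (w : ↥T.left) : Points.ofPt ((yon S).map c ≫ g) w = Points.ofPt g (c.left w) := by
  rw [Points.ofPt_eq_map_ofScheme, Points.map_comp, Groth.Agent.H52.points_map_ofScheme,
    ← Points.ofPt_eq_map_ofScheme]

/-- Openness of a set of points can be tested on maps from affine schemes. -/
theorem isOpen_points_iff_affine {F : Sp S} (A : Set (Points F)) :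
    IsOpen A ↔ ∀ (Z : Over S), IsAffine Z.left → ∀ t : (yon S).obj Z ⟶ F, IsOpen (Points.ofPt t ⁻¹' A) := by
  constructor
  · intro hA Z _ t
    exact hA.preimage (Points.continuous_ofPt t)
  · intro h
    rw [Points.isOpen_iff]
    intro T g
    rw [isOpen_iff_forall_mem_open]
    intro t ht
    obtain ⟨_, ⟨U, hU : IsAffineOpen U, rfl⟩, htU, -⟩ :=
      T.left.isBasis_affineOpens.exists_subset_of_mem_open (Set.mem_univ t) isOpen_univ
    have hop := h (Groth.Agent.H52.overOpen T U) hU ((yon S).map (Groth.Agent.H52.overOpenι T U) ≫ g)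
    refine ⟨(Scheme.Opens.ι (X := T.left) U) ''
        (Points.ofPt ((yon S).map (Groth.Agent.H52.overOpenι T U) ≫ g) ⁻¹' A), ?_,
      (Scheme.Opens.ι (X := T.left) U).isOpenEmbedding.isOpenMap _ hop, ⟨⟨t, htU⟩, ?_, rfl⟩⟩
    · rintro _ ⟨w, hw, rfl⟩
      have := hw
      rw [Set.mem_preimage, ofPt_yon_map_comp] at this
      exact this
    · rw [Set.mem_preimage, ofPt_yon_map_comp]
      exact ht

/-- The points of the target of an fpqc covering carry the final topology. -/
theorem isOpen_points_of_fpqcRefines {X : Sp S} {ι : Type u} {Y : ι → Sp S} (g : ∀ i, Y i ⟶ X)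
    (href : ∀ (Z : Over S), IsAffine Z.left → ∀ t : (yon S).obj Z ⟶ X, FpqcRefines g Z t)
    (A : Set (Points X)) (hA : ∀ i, IsOpen (Points.map (g i) ⁻¹' A)) : IsOpen A := by
  rw [isOpen_points_iff_affine]
  intro Z hZ t
  obtain ⟨m, W, c, haff, hflat, hsurj, hlift⟩ := href Z hZ t
  have : IsAffine Z.left := hZ
  have : ∀ j, IsAffine (W j).left := haff
  rw [isOpen_iff_of_finite_flat_family (fun j => (W j).left) (fun j => (c j).left) hflat hsurj]
  intro j
  obtain ⟨i, l, hl⟩ := hlift j
  have : (c j).left ⁻¹' (Points.ofPt t ⁻¹' A) = Points.ofPt l ⁻¹' (Points.map (g i) ⁻¹' A) := by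
    ext w
    simp only [Set.mem_preimage]
    rw [← ofPt_yon_map_comp, ← hl, Points.map_ofPt]
  rw [this]
  exact (hA i).preimage (Points.continuous_ofPt l)

/-- Closedness of a map on points descends along a jointly surjective family inducing the final topology on the target. -/
theorem isClosedMap_points_of_family {P Z : Sp S} (snd : P ⟶ Z) {ι : Type u} (Zi : ι → Sp S)
    (g : ∀ i, Zi i ⟶ Z)
    (hfin : ∀ A : Set (Points Z), (∀ i, IsOpen (Points.map (g i) ⁻¹' A)) → IsOpen A)
    (_hsurj : ∀ z : Points Z, ∃ i, z ∈ Set.range (Points.map (g i)))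
    (Pi : ι → Sp S) (a : ∀ i, Pi i ⟶ P) (b : ∀ i, Pi i ⟶ Zi i)
    (sq : ∀ i, IsPullback (a i) (b i) snd (g i)) (h : ∀ i, IsClosedMap (Points.map (b i))) :
    IsClosedMap (Points.map snd) := by
  intro A hA
  rw [← isOpen_compl_iff]
  refine hfin _ fun i => ?_
  rw [Set.preimage_compl, isOpen_compl_iff, Groth.Agent.H52.preimage_image_eq_of_isPullback (sq i)]
  exact h i _ (hA.preimage (Points.continuous_map (a i)))

/-- Openness of a map on points descends along a jointly surjective family inducing the final topology on the target. -/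
theorem isOpenMap_points_of_family {P Z : Sp S} (snd : P ⟶ Z) {ι : Type u} (Zi : ι → Sp S)
    (g : ∀ i, Zi i ⟶ Z)
    (hfin : ∀ A : Set (Points Z), (∀ i, IsOpen (Points.map (g i) ⁻¹' A)) → IsOpen A)
    (_hsurj : ∀ z : Points Z, ∃ i, z ∈ Set.range (Points.map (g i)))
    (Pi : ι → Sp S) (a : ∀ i, Pi i ⟶ P) (b : ∀ i, Pi i ⟶ Zi i)
    (sq : ∀ i, IsPullback (a i) (b i) snd (g i)) (h : ∀ i, IsOpenMap (Points.map (b i))) :
    IsOpenMap (Points.map snd) := by
  intro A hA
  refine hfin _ fun i => ?_
  rw [Groth.Agent.H52.preimage_image_eq_of_isPullback (sq i)]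
  exact h i _ (hA.preimage (Points.continuous_map (a i)))

/-- Surjectivity on points descends along a jointly surjective family. -/
theorem surjective_points_of_family {P Z : Sp S} (snd : P ⟶ Z) {ι : Type u} (Zi : ι → Sp S)
    (g : ∀ i, Zi i ⟶ Z) (hsurj : ∀ z : Points Z, ∃ i, z ∈ Set.range (Points.map (g i)))
    (Pi : ι → Sp S) (a : ∀ i, Pi i ⟶ P) (b : ∀ i, Pi i ⟶ Zi i)
    (sq : ∀ i, IsPullback (a i) (b i) snd (g i))
    (h : ∀ i, Function.Surjective (Points.map (b i))) : Function.Surjective (Points.map snd) := by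
  intro z
  obtain ⟨i, zi, rfl⟩ := hsurj z
  obtain ⟨pi, rfl⟩ := h i zi
  refine ⟨Points.map (a i) pi, ?_⟩
  rw [← Points.map_comp, (sq i).w, Points.map_comp]

/-- Injectivity on points descends along a jointly surjective family. -/
theorem injective_points_of_family {P Z : Sp S} (snd : P ⟶ Z) {ι : Type u} (Zi : ι → Sp S)
    (g : ∀ i, Zi i ⟶ Z) (hsurj : ∀ z : Points Z, ∃ i, z ∈ Set.range (Points.map (g i)))
    (Pi : ι → Sp S) (a : ∀ i, Pi i ⟶ P) (b : ∀ i, Pi i ⟶ Zi i)
    (sq : ∀ i, IsPullback (a i) (b i) snd (g i))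
    (h : ∀ i, Function.Injective (Points.map (b i))) : Function.Injective (Points.map snd) := by
  intro x x' hxx'
  obtain ⟨i, zi, hzi⟩ := hsurj (Points.map snd x)
  obtain ⟨w, hw1, hw2⟩ := exists_point_of_isPullback (sq i) x zi hzi.symm
  obtain ⟨w', hw'1, hw'2⟩ := exists_point_of_isPullback (sq i) x' zi (by rw [← hxx', hzi])
  have : w = w' := h i (hw2.trans hw'2.symm)
  rw [← hw1, ← hw'1, this]

/-- Being a quotient map on points descends along a jointly surjective family inducing the final topology on the target. -/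
theorem isQuotientMap_points_of_family {P Z : Sp S} (snd : P ⟶ Z) {ι : Type u} (Zi : ι → Sp S)
    (g : ∀ i, Zi i ⟶ Z)
    (hfin : ∀ A : Set (Points Z), (∀ i, IsOpen (Points.map (g i) ⁻¹' A)) → IsOpen A)
    (hsurj : ∀ z : Points Z, ∃ i, z ∈ Set.range (Points.map (g i)))
    (Pi : ι → Sp S) (a : ∀ i, Pi i ⟶ P) (b : ∀ i, Pi i ⟶ Zi i)
    (sq : ∀ i, IsPullback (a i) (b i) snd (g i)) (h : ∀ i, IsQuotientMap (Points.map (b i))) :
    IsQuotientMap (Points.map snd) := by
  refine ⟨isCoinducing_iff.2 fun A => ⟨fun hA => ?_, fun hA => hA.preimage (Points.continuous_map snd)⟩,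
    surjective_points_of_family snd Zi g hsurj Pi a b sq fun i => (h i).surjective⟩
  refine hfin _ fun i => ?_
  rw [← (h i).isCoinducing.isOpen_preimage]
  have : Points.map (b i) ⁻¹' (Points.map (g i) ⁻¹' A) =
      Points.map (a i) ⁻¹' (Points.map snd ⁻¹' A) := by
    ext w
    simp only [Set.mem_preimage]
    rw [← Points.map_comp, ← Points.map_comp, (sq i).w]
  rw [this]
  exact hA.preimage (Points.continuous_map (a i))

/-- Being a homeomorphism on points descends along a jointly surjective family inducing the final topology on the target. -/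
theorem isHomeomorph_points_of_family {P Z : Sp S} (snd : P ⟶ Z) {ι : Type u} (Zi : ι → Sp S)
    (g : ∀ i, Zi i ⟶ Z)
    (hfin : ∀ A : Set (Points Z), (∀ i, IsOpen (Points.map (g i) ⁻¹' A)) → IsOpen A)
    (hsurj : ∀ z : Points Z, ∃ i, z ∈ Set.range (Points.map (g i)))
    (Pi : ι → Sp S) (a : ∀ i, Pi i ⟶ P) (b : ∀ i, Pi i ⟶ Zi i)
    (sq : ∀ i, IsPullback (a i) (b i) snd (g i)) (h : ∀ i, IsHomeomorph (Points.map (b i))) :
    IsHomeomorph (Points.map snd) :=
  ⟨Points.continuous_map snd,
    isOpenMap_points_of_family snd Zi g hfin hsurj Pi a b sq fun i => (h i).isOpenMap,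
    ⟨injective_points_of_family snd Zi g hsurj Pi a b sq fun i => (h i).injective,
      surjective_points_of_family snd Zi g hsurj Pi a b sq fun i => (h i).surjective⟩⟩

/-- A property holding universally is fpqc local on the base as soon as it descends along jointly surjective families
inducing the final topology. -/
theorem univSp_isLocalOnBase_fpqc (Q : MorphismProperty (Sp S))
    (hQ : ∀ {P Z : Sp S} (snd : P ⟶ Z) {ι : Type u} (Zi : ι → Sp S) (g : ∀ i, Zi i ⟶ Z),
      (∀ A : Set (Points Z), (∀ i, IsOpen (Points.map (g i) ⁻¹' A)) → IsOpen A) →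
      (∀ z : Points Z, ∃ i, z ∈ Set.range (Points.map (g i))) →
      ∀ (Pi : ι → Sp S) (a : ∀ i, Pi i ⟶ P) (b : ∀ i, Pi i ⟶ Zi i),
      (∀ i, IsPullback (a i) (b i) snd (g i)) → (∀ i, Q (b i)) → Q snd) :
    IsLocalOnBase (IsFpqcCover (S := S)) (UnivSp Q) := by
  intro ι Y Yi g hY hYi hcov X f hX Xi p q hXi sq
  constructor
  · intro hf i Z Z' hZ g' fst snd sq'
    exact hf hZ (g' ≫ g i) (fst ≫ q i) snd (sq'.paste_horiz (sq i))
  · intro hp Z Z' hZ t fst snd sq'
    refine hQ snd (fun i => pullback t (g i)) (fun i => pullback.fst t (g i)) ?_ ?_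
      (fun i => pullback snd (pullback.fst t (g i))) (fun i => pullback.fst _ _)
      (fun i => pullback.snd _ _) (fun i => IsPullback.of_hasPullback _ _) (fun i => ?_)
    · refine isOpen_points_of_fpqcRefines _ fun Z₀ hZ₀ t₀ => ?_
      obtain ⟨m, W, c, haff, hflat, hsurj, hlift⟩ := hcov.2 Z₀ hZ₀ (t₀ ≫ t)
      refine ⟨m, W, c, haff, hflat, hsurj, fun j => ?_⟩
      obtain ⟨i, l, hl⟩ := hlift j
      exact ⟨i, pullback.lift ((yon S).map (c j) ≫ t₀) l (by rw [Category.assoc, hl]),
        pullback.lift_fst _ _ _⟩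
    · intro z
      obtain ⟨i, yi, hyi⟩ := points_surjective_of_isFpqcCover g hcov (Points.map t z)
      obtain ⟨w, hw, -⟩ := exists_point_of_isPullback (IsPullback.of_hasPullback t (g i)) z yi hyi.symm
      exact ⟨i, w, hw⟩
    · have sqZ := IsPullback.of_hasPullback t (g i)
      have hZi : IsAlgSpace (pullback t (g i)) :=
        Groth.Agent.H52.isAlgSpace_of_isPullback sqZ hZ hY (hYi i)
      have sqP := IsPullback.of_hasPullback snd (pullback.fst t (g i))
      have big := sqP.paste_horiz sq'
      have hcomp : (pullback.fst snd (pullback.fst t (g i)) ≫ fst) ≫ f =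
          (pullback.snd snd (pullback.fst t (g i)) ≫ pullback.snd t (g i)) ≫ g i := by
        rw [Category.assoc, Category.assoc, ← sqZ.w]; exact big.w
      have hk1 : (sq i).lift _ _ hcomp ≫ q i = pullback.fst snd (pullback.fst t (g i)) ≫ fst :=
        (sq i).lift_fst _ _ _
      have hk2 : (sq i).lift _ _ hcomp ≫ p i =
          pullback.snd snd (pullback.fst t (g i)) ≫ pullback.snd t (g i) := (sq i).lift_snd _ _ _
      have sqL : IsPullback ((sq i).lift _ _ hcomp) (pullback.snd snd (pullback.fst t (g i))) (p i)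
          (pullback.snd t (g i)) := by
        refine IsPullback.of_right ?_ hk2 (sq i)
        rw [hk1, ← sqZ.w]
        exact big
      exact hp i hZi _ _ _ sqL

end Groth.Agent.Lib.Helper54
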