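/-
Helper library (helper54): `EtLocal` instances for locally of finite type, locally quasi-finite and unramified morphisms,
and fpqc descent of local quasi-finiteness.
-/
import Groth.Agent.Lib.Helper54.LocPCalc
import Groth.Agent.Lib.Helper24.SmoothSourceDescentScheme

set_option autoImplicit false
universe u
open CategoryTheory CategoryTheory.Limits AlgebraicGeometry TensorProduct

namespace Groth.Agent.Lib.Helper54

/-- Quasi-finiteness of algebras descends along faithfully flat base change. -/
theorem quasiFinite_of_faithfullyFlat_tensorProduct (R S T : Type*) [CommRing R] [CommRing S] [CommRing T]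
    [Algebra R S] [Algebra R T] [Module.FaithfullyFlat R S] [Algebra.QuasiFinite S (S ⊗[R] T)] :
    Algebra.QuasiFinite R T := by
  refine ⟨fun p hp => ?_⟩
  obtain ⟨P, hP⟩ := PrimeSpectrum.comap_surjective_of_faithfullyFlat (A := R) (B := S) ⟨p, hp⟩
  have hPp : P.asIdeal.under R = p := congrArg PrimeSpectrum.asIdeal hP
  subst hPp
  let P' := P.asIdeal
  let := Localization.AtPrime.algebraOfLiesOver (P'.under R) P'
  let e : P'.Fiber (S ⊗[R] T) ≃ₐ[P'.ResidueField]
      P'.ResidueField ⊗[(P'.under R).ResidueField] ((P'.under R).Fiber T) :=
    (Algebra.TensorProduct.cancelBaseChange _ _ _ _ _).trans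
      (Algebra.TensorProduct.cancelBaseChange _ _ _ _ _).symm
  have h1 : Module.Finite P'.ResidueField (P'.Fiber (S ⊗[R] T)) := inferInstance
  have h2 : Module.Finite P'.ResidueField
      (P'.ResidueField ⊗[(P'.under R).ResidueField] ((P'.under R).Fiber T)) :=
    .of_surjective e.toLinearMap e.surjective
  exact Module.Finite.of_finite_tensorProduct_of_faithfullyFlat P'.ResidueField

theorem quasiFinite_codescendsAlong_faithfullyFlat :
    RingHom.CodescendsAlong RingHom.QuasiFinite RingHom.FaithfullyFlat := by
  refine .mk _ RingHom.QuasiFinite.respectsIso fun R S T _ _ _ _ _ h h' ↦ ?_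
  rw [RingHom.quasiFinite_algebraMap] at h' ⊢
  rw [RingHom.faithfullyFlat_algebraMap_iff] at h
  exact quasiFinite_of_faithfullyFlat_tensorProduct R S T

/-- Locally quasi-finite satisfies fpqc descent. -/
instance descendsAlong_locallyQuasiFinite_fpqc :
    MorphismProperty.DescendsAlong (@LocallyQuasiFinite : MorphismProperty Scheme.{u})
      (@Surjective ⊓ @Flat ⊓ @QuasiCompact) :=
  HasRingHomProperty.descendsAlong_flat quasiFinite_codescendsAlong_faithfullyFlat

/-- A formally unramified morphism locally of finite type is locally quasi-finite. -/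
theorem locallyQuasiFinite_of_formallyUnramified {X Y : Scheme.{u}} (f : X ⟶ Y) [LocallyOfFiniteType f]
    [FormallyUnramified f] : LocallyQuasiFinite f := by
  rw [HasRingHomProperty.iff_appLE (P := @LocallyQuasiFinite)]
  intro U V e
  have h1 : (f.appLE U.1 V.1 e).hom.FiniteType := f.finiteType_appLE U.2 V.2 e
  have h2 : (f.appLE U.1 V.1 e).hom.FormallyUnramified :=
    HasRingHomProperty.appLE (P := @FormallyUnramified) _ inferInstance U V e
  algebraize [(f.appLE U.1 V.1 e).hom]
  have : Algebra.FiniteType Γ(Y, U.1) Γ(X, V.1) := h1
  have : Algebra.FormallyUnramified Γ(Y, U.1) Γ(X, V.1) := h2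
  change Algebra.QuasiFinite Γ(Y, U.1) Γ(X, V.1)
  infer_instance

open AlgSp

/-- Being locally of finite type is étale local on the source-and-target. -/
theorem etLocal_lft : EtLocal (@LocallyOfFiniteType : MorphismProperty Scheme.{u}) where
  mult := inferInstance
  bc := inferInstance
  of_etale := fun _ _ φ hφ => by
    have : Etale φ := hφ
    infer_instance
  descend := fun _ _ _ e g he hes heg => by
    have : Etale e := he
    have : Surjective e := hes
    have : LocallyOfFiniteType (e ≫ g) := heg
    exact Groth.Agent.Lib.Helper24.locallyOfFiniteType_of_smooth_surjective_comp e g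

/-- Being locally quasi-finite (and locally of finite type) is étale local on the source-and-target. -/
theorem etLocal_lqf :
    EtLocal (@LocallyQuasiFinite ⊓ @LocallyOfFiniteType : MorphismProperty Scheme.{u}) where
  mult := MorphismProperty.IsMultiplicative.inf
  bc := MorphismProperty.IsStableUnderBaseChange.inf
  of_etale := fun _ _ φ hφ => by
    have : Etale φ := hφ
    exact ⟨locallyQuasiFinite_of_formallyUnramified φ, inferInstance⟩
  descend := fun _ _ _ e g he hes heg => by
    have : Etale e := he
    have : Surjective e := hes
    have : LocallyOfFiniteType (e ≫ g) := heg.2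
    have : LocallyQuasiFinite (e ≫ g) := heg.1
    exact ⟨Groth.Agent.Lib.Helper24.locallyQuasiFinite_of_smooth_surjective_comp e g,
      Groth.Agent.Lib.Helper24.locallyOfFiniteType_of_smooth_surjective_comp e g⟩

/-- Being unramified is étale local on the source-and-target. -/
theorem etLocal_unramified :
    EtLocal (@LocallyOfFiniteType ⊓ @FormallyUnramified : MorphismProperty Scheme.{u}) where
  mult := MorphismProperty.IsMultiplicative.inf
  bc := MorphismProperty.IsStableUnderBaseChange.inf
  of_etale := fun _ _ φ hφ => by
    have : Etale φ := hφ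
    exact ⟨inferInstance, inferInstance⟩
  descend := fun _ _ _ e g he hes heg => by
    have : Etale e := he
    have : Surjective e := hes
    have : LocallyOfFiniteType (e ≫ g) := heg.1
    have : FormallyUnramified (e ≫ g) := heg.2
    exact ⟨Groth.Agent.Lib.Helper24.locallyOfFiniteType_of_smooth_surjective_comp e g,
      Groth.Agent.Lib.Helper24.formallyUnramified_of_etale_surjective_comp e g⟩

end Groth.Agent.Lib.Helper54
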