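/-
Helper library (helper54): fpqc descent on the base for `AlgSp.LocP P`, for `P` étale local on the source-and-target which
satisfies fpqc descent for morphisms of schemes.
-/
import Groth.Agent.Lib.Helper54.FpqcDescent
import Groth.Agent.Lib.Helper54.LocPCalc

set_option autoImplicit false
universe u
open CategoryTheory CategoryTheory.Limits AlgebraicGeometry

namespace Groth.Agent.Lib.Helper54

open AlgSp

variable {S : Scheme.{u}}

/-- The base change of an étale chart of `π : Z ⟶ h_T` along `t : T' ⟶ T` is an étale chart of the base change of `π`. -/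
theorem pT_chart_baseChange {P : MorphismProperty Scheme.{u}} {Z : Sp S} {T : Over S}
    {π : Z ⟶ (yon S).obj T} {A : Over S} (a : (yon S).obj A ⟶ Z) (ha : RepWith @Etale a) (k : A ⟶ T)
    (hk : a ≫ π = (yon S).map k) {T' : Over S} (t : T' ⟶ T) {Z' : Sp S} {θ : Z' ⟶ Z}
    {π' : Z' ⟶ (yon S).obj T'} (sq : IsPullback θ π' π ((yon S).map t)) (h : PT P π') :
    P (pullback.snd k t).left := by
  have sqA := IsPullback.of_hasPullback k t
  have sqA' := sqA.map (yon S)
  let a' : (yon S).obj (pullback k t) ⟶ Z' :=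
    sq.lift ((yon S).map (pullback.fst k t) ≫ a) ((yon S).map (pullback.snd k t)) (by
      rw [Category.assoc, hk]; exact sqA'.w)
  have ha'1 : a' ≫ θ = (yon S).map (pullback.fst k t) ≫ a := sq.lift_fst _ _ _
  have ha'2 : a' ≫ π' = (yon S).map (pullback.snd k t) := sq.lift_snd _ _ _
  have sqz : IsPullback a' ((yon S).map (pullback.fst k t)) θ a := by
    refine IsPullback.of_right ?_ ha'1 sq.flip
    rw [ha'2, hk]
    exact sqA'.flip
  have : (RepWith (S := S) @Etale).IsStableUnderBaseChange := repWith_isStableUnderBaseChange _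
  have ha'e : RepWith @Etale a' := MorphismProperty.of_isPullback sqz.flip ha
  exact h a' ha'e _ ha'2

/-- `PT P` descends along a finite jointly surjective family of flat morphisms from affine schemes to an affine scheme. -/
theorem pT_of_finite_flat_family (P : MorphismProperty Scheme.{u}) [P.IsStableUnderBaseChange]
    [IsZariskiLocalAtTarget P] [P.DescendsAlong (@Surjective ⊓ @Flat ⊓ @QuasiCompact)]
    {Z : Sp S} {T : Over S} [IsAffine T.left] (π : Z ⟶ (yon S).obj T) {m : ℕ} (W : Fin m → Over S)
    (c : ∀ j, W j ⟶ T) (haff : ∀ j, IsAffine (W j).left) (hflat : ∀ j, Flat (c j).left)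
    (hsurj : ∀ t : ↥T.left, ∃ j, t ∈ Set.range (c j).left)
    (h : ∀ j, ∃ (Z' : Sp S) (θ : Z' ⟶ Z) (π' : Z' ⟶ (yon S).obj (W j)),
      IsPullback θ π' π ((yon S).map (c j)) ∧ PT P π') : PT P π := by
  have : P.RespectsIso := MorphismProperty.IsStableUnderBaseChange.respectsIso
  intro A a ha k hk
  have : ∀ j, IsAffine (W j).left := haff
  refine of_finite_flat_family P k.left (fun j => (W j).left) (fun j => (c j).left) hflat hsurj
    (fun j => ?_)
  obtain ⟨Z', θ, π', sq, hπ'⟩ := h j
  have := pT_chart_baseChange a ha k hk (c j) sq hπ'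
  exact snd_of_isPullback_of_isPullback P ((IsPullback.of_hasPullback k (c j)).map (Over.forget S))
    (IsPullback.of_hasPullback k.left (c j).left) this

/-- `PT P` can be checked on an affine open cover of the target scheme. -/
theorem pT_of_affineCover (P : MorphismProperty Scheme.{u}) [IsZariskiLocalAtTarget P]
    {Z : Sp S} {T : Over S} (π : Z ⟶ (yon S).obj T)
    (h : ∀ (T' : Over S) (t : T' ⟶ T), IsAffine T'.left → ∀ (Z' : Sp S) (θ : Z' ⟶ Z)
      (π' : Z' ⟶ (yon S).obj T'), IsPullback θ π' π ((yon S).map t) → PT P π') : PT P π := by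
  intro A a ha k hk
  rw [IsZariskiLocalAtTarget.iff_of_openCover (P := P) T.left.affineCover]
  intro l
  change P (pullback.snd k.left (T.left.affineCover.f l))
  let T' : Over S := Over.mk (T.left.affineCover.f l ≫ T.hom)
  let t : T' ⟶ T := Over.homMk (T.left.affineCover.f l) rfl
  have hT' : IsAffine T'.left := by
    change IsAffine (T.left.affineCover.X l)
    infer_instance
  have hπ' : PT P (pullback.snd π ((yon S).map t)) :=
    h T' t hT' _ _ _ (IsPullback.of_hasPullback π ((yon S).map t))
  have := pT_chart_baseChange a ha k hk t (IsPullback.of_hasPullback π ((yon S).map t)) hπ'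
  exact snd_of_isPullback_of_isPullback P ((IsPullback.of_hasPullback k t).map (Over.forget S))
    (IsPullback.of_hasPullback k.left (T.left.affineCover.f l)) this

/-- `LocP P` can be checked fpqc locally on the target, for `P` étale local on the source-and-target, Zariski local on the target
and satisfying fpqc descent for schemes. -/
theorem locP_of_fpqc_local {P : MorphismProperty Scheme.{u}} (hP : EtLocal P)
    [IsZariskiLocalAtTarget P] [P.DescendsAlong (@Surjective ⊓ @Flat ⊓ @QuasiCompact)]
    {X Y : Sp S} (f : X ⟶ Y) {ι : Type u} {Yi : ι → Sp S} (g : ∀ i, Yi i ⟶ Y)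
    (href : ∀ (Z : Over S), IsAffine Z.left → ∀ t : (yon S).obj Z ⟶ Y, FpqcRefines g Z t)
    {Xi : ι → Sp S} (p : ∀ i, Xi i ⟶ Yi i) (q : ∀ i, Xi i ⟶ X)
    (sq : ∀ i, IsPullback (q i) (p i) f (g i))
    (h : ∀ i, LocPU P (p i)) : LocP P f := by
  have := hP.bc
  refine locP_of_locPU ?_
  intro T y XT fst fT sqT
  refine pT_of_affineCover P fT ?_
  intro T' t hT' Z' θ π' sq'
  have big := sq'.paste_horiz sqT
  obtain ⟨m, W, c, haff, hflat, hsurj, hlift⟩ := href T' hT' ((yon S).map t ≫ y)
  have : IsAffine T'.left := hT'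
  refine pT_of_finite_flat_family P π' W c haff hflat hsurj (fun j => ?_)
  obtain ⟨i, l, hl⟩ := hlift j
  refine ⟨pullback π' ((yon S).map (c j)), pullback.fst _ _, pullback.snd _ _,
    IsPullback.of_hasPullback _ _, ?_⟩
  have sq1 := IsPullback.of_hasPullback π' ((yon S).map (c j))
  have big2 := sq1.paste_horiz big
  rw [← hl] at big2
  have hcomp : (pullback.fst π' ((yon S).map (c j)) ≫ θ ≫ fst) ≫ f =
      (pullback.snd π' ((yon S).map (c j)) ≫ l) ≫ g i := by
    rw [Category.assoc (pullback.snd _ _)]; exact big2.w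
  have hl1 : (sq i).lift _ _ hcomp ≫ q i = pullback.fst π' ((yon S).map (c j)) ≫ θ ≫ fst :=
    (sq i).lift_fst _ _ _
  have hl2 : (sq i).lift _ _ hcomp ≫ p i = pullback.snd π' ((yon S).map (c j)) ≫ l :=
    (sq i).lift_snd _ _ _
  have sqL : IsPullback ((sq i).lift _ _ hcomp) (pullback.snd π' ((yon S).map (c j))) (p i) l := by
    refine IsPullback.of_right ?_ hl2 (sq i)
    rw [hl1]
    exact big2
  exact h i l _ _ sqL

end Groth.Agent.Lib.Helper54
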