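/-
Helper library (helper54): locality on the source of `AlgSp.LocP P` for étale coverings of algebraic spaces.
-/
import Groth.Agent.Lib.Helper54.SourceLocal

set_option autoImplicit false
universe u
open CategoryTheory CategoryTheory.Limits AlgebraicGeometry

namespace Groth.Agent.Lib.Helper54

open AlgSp

variable {S : Scheme.{u}}

set_option backward.isDefEq.respectTransparency.types false in
/-- A property étale local on the source-and-target and Zariski local on the source descends along jointly surjective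
families of étale morphisms on the source. -/
theorem descend_of_etale_family {P : MorphismProperty Scheme.{u}} (hP : EtLocal P)
    [IsZariskiLocalAtSource P] {ι : Type u} {U V : Scheme.{u}} (Ui : ι → Scheme.{u})
    (k : ∀ i, Ui i ⟶ U) (h : U ⟶ V) (hk : ∀ i, Etale (k i))
    (hsurj : ∀ u : ↥U, ∃ i, u ∈ Set.range (k i)) (hkh : ∀ i, P (k i ≫ h)) : P h := by
  have hc_et : Etale (Sigma.desc k) :=
    IsZariskiLocalAtSource.sigmaDesc (P := (@Etale : MorphismProperty Scheme.{u})) hk
  have hc_surj : Surjective (Sigma.desc k) := by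
    refine ⟨fun u => ?_⟩
    obtain ⟨i, w, hw⟩ := hsurj u
    refine ⟨Sigma.ι Ui i w, ?_⟩
    rw [← Scheme.Hom.comp_apply, Sigma.ι_desc]
    exact hw
  refine hP.descend (Sigma.desc k) h hc_et hc_surj ?_
  have h1 : P (Sigma.desc (fun i => k i ≫ h)) := IsZariskiLocalAtSource.sigmaDesc (P := P) hkh
  have h2 : Sigma.desc (fun i => k i ≫ h) = Sigma.desc k ≫ h := by
    apply Sigma.hom_ext
    intro i
    rw [Sigma.ι_desc, Sigma.ι_desc_assoc]
  rw [← h2]
  exact h1

/-- An étale morphism of sheaves (in the sense of charts) is étale on étale charts of the source and target. -/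
theorem locP_etale_of_isEtaleMor {X Y : Sp S} {f : X ⟶ Y} (hf : IsEtaleMor f) : LocP @Etale f := by
  intro U V a b h ha hb comm
  have h1 : RepWith @Etale (a ≫ f) := hf a ha
  rw [comm] at h1
  exact (repWith_yon_map_iff _ _).1 (repWith_etale_of_postcomp _ b hb h1)

/-- `LocP` is monotone in the property. -/
theorem locP_mono {P P' : MorphismProperty Scheme.{u}} (hPP' : ∀ ⦃A B : Scheme.{u}⦄ (φ : A ⟶ B), P φ → P' φ)
    {X Y : Sp S} {f : X ⟶ Y} (hf : LocP P f) : LocP P' f :=
  fun _ _ a b h ha hb comm => hPP' _ (hf a b h ha hb comm)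

/-- Precomposing with an étale morphism of sheaves keeps `LocP P`. -/
theorem locP_precomp_isEtaleMor {P : MorphismProperty Scheme.{u}} {X' X Y : Sp S} {g : X' ⟶ X}
    (hg : IsEtaleMor g) {f : X ⟶ Y} (hf : LocP P f) : LocP P (g ≫ f) := by
  intro U V a b h ha hb comm
  exact hf (a ≫ g) b h (hg a ha) hb (by rw [Category.assoc]; exact comm)

/-- Locality on the source, without base change: if `{g i : X i ⟶ X}` is a family of morphisms with `Q` étale locally,
jointly surjective on points, and `P` descends along jointly surjective families of `Q`-morphisms of schemes on the source,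
then `f : X ⟶ Y` has `P` étale locally as soon as all `g i ≫ f` do. -/
theorem locP_of_source_cover' {P Q : MorphismProperty Scheme.{u}} (hP : EtLocal P)
    (hdesc : ∀ {ι : Type u} {U V : Scheme.{u}} (Ui : ι → Scheme.{u}) (k : ∀ i, Ui i ⟶ U) (h : U ⟶ V),
      (∀ i, Q (k i)) → (∀ u : ↥U, ∃ i, u ∈ Set.range (k i)) → (∀ i, P (k i ≫ h)) → P h)
    {X Y : Sp S} (hX : IsAlgSpace X) (hY : IsAlgSpace Y) {ι : Type u} {Xi : ι → Sp S}
    (hXi : ∀ i, IsAlgSpace (Xi i)) (g : ∀ i, Xi i ⟶ X) (hg : ∀ i, LocP Q (g i))
    (hsurj : ∀ x : Points X, ∃ i, x ∈ Set.range (Points.map (g i))) (f : X ⟶ Y)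
    (hf : ∀ i, LocP P (g i ≫ f)) : LocP P f := by
  have : (RepWith (S := S) @Etale).IsMultiplicative := repWith_isMultiplicative _
  have : (RepWith (S := S) @Etale).IsStableUnderBaseChange := repWith_isStableUnderBaseChange _
  obtain ⟨U, p, hpe, hps⟩ := hX.atlas
  obtain ⟨V, q, hqe, hqs⟩ := hY.atlas
  obtain ⟨U₁, a₁, h₁, ha₁, sqc, hrep⟩ := exists_chart_square f p hpe q hqe
  have hreps := repWith_surjective_of_chart_square hps hqs sqc
  refine locP_of_one_chart hP f ((yon S).map a₁ ≫ p) q h₁ hrep hreps hqe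
    (by rw [Category.assoc]; exact sqc.w) ?_
  have key : ∀ i, ∃ (A : Over S) (k : A ⟶ U₁), Q k.left ∧ P (k.left ≫ h₁.left) ∧
      ∀ u : ↥U₁.left, Points.map ((yon S).map a₁ ≫ p) (Points.ofScheme U₁ u) ∈
        Set.range (Points.map (g i)) → u ∈ Set.range k.left := by
    intro i
    have sqi := IsPullback.of_hasPullback (g i) ((yon S).map a₁ ≫ p)
    have hXiU : IsAlgSpace (pullback (g i) ((yon S).map a₁ ≫ p)) :=
      Groth.Agent.H52.isAlgSpace_of_isPullback sqi (hXi i) hX (IsAlgSpace.yon_obj U₁)
    obtain ⟨A, z, hze, hzs⟩ := hXiU.atlas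
    obtain ⟨k, hk⟩ := (yon S).map_surjective (z ≫ pullback.snd (g i) ((yon S).map a₁ ≫ p))
    have hfst : RepWith @Etale (pullback.fst (g i) ((yon S).map a₁ ≫ p)) :=
      MorphismProperty.of_isPullback sqi.flip hrep
    refine ⟨A, k, ?_, ?_, ?_⟩
    · refine hg i (z ≫ pullback.fst (g i) ((yon S).map a₁ ≫ p)) ((yon S).map a₁ ≫ p) k
        ((RepWith @Etale).comp_mem _ _ hze hfst) hrep ?_
      rw [Category.assoc, sqi.w, ← Category.assoc, hk]
    · have := hf i (z ≫ pullback.fst (g i) ((yon S).map a₁ ≫ p)) q (k ≫ h₁)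
        ((RepWith @Etale).comp_mem _ _ hze hfst) hqe (by
          rw [Functor.map_comp, hk, Category.assoc, Category.assoc, Category.assoc,
            ← Category.assoc (pullback.fst _ _), sqi.w, Category.assoc, Category.assoc, sqc.w])
      exact this
    · rintro u ⟨xi, hxi⟩
      obtain ⟨w, -, hw⟩ := exists_point_of_isPullback sqi xi (Points.ofScheme U₁ u) hxi
      obtain ⟨a', rfl⟩ := Groth.Agent.H52.surjective_points_of_repWith_surjective z hzs w
      obtain ⟨a, rfl⟩ := exists_ofScheme_eq A a'
      refine ⟨a, ?_⟩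
      apply (Points.schemeEquiv U₁).injective
      change Points.ofScheme U₁ (k.left a) = Points.ofScheme U₁ u
      rw [← Groth.Agent.H52.points_map_ofScheme, hk, Points.map_comp]
      exact hw
  choose A k hQk hPk hrange using key
  refine hdesc (fun i => (A i).left) (fun i => (k i).left) h₁.left hQk (fun u => ?_) hPk
  obtain ⟨i, hi⟩ := hsurj (Points.map ((yon S).map a₁ ≫ p) (Points.ofScheme U₁ u))
  exact ⟨i, hrange i u hi⟩

/-- `LocP P` is étale local on the source, for `P` étale local on the source-and-target and Zariski local on the source. -/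
theorem locP_isLocalOnSource_etale {P : MorphismProperty Scheme.{u}} (hP : EtLocal P)
    [IsZariskiLocalAtSource P] : IsLocalOnSource (IsEtCover (S := S)) (LocP P) := by
  intro ι X Xi g hX hXi hcov Y f hY
  constructor
  · intro hf i
    exact locP_precomp_isEtaleMor (hcov.1 i) hf
  · intro h
    exact locP_of_source_cover' (Q := @Etale) hP
      (fun Ui k h hk hsurj hkh => descend_of_etale_family hP Ui k h hk hsurj hkh) hX hY hXi g
      (fun i => locP_etale_of_isEtaleMor (hcov.1 i)) hcov.2 f h

end Groth.Agent.Lib.Helper54
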