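/-
Helper library (helper54): bridge from helper52's `IsEtLocal` to `EtLocal`; instances for locally of finite presentation, smooth
and étale morphisms.
-/
import Groth.Agent.Lib.Helper54.LocPCalc
import Groth.Agent.H52.SmoothSource
import Groth.Agent.H52.LocPInst
import Groth.Agent.H52.LocPCalc4
import Groth.Agent.H53.EtaleMor

set_option autoImplicit false
universe u
open CategoryTheory CategoryTheory.Limits AlgebraicGeometry

namespace Groth.Agent.Lib.Helper54

/-- A multiplicative property étale local on the source-and-target in helper52's sense is so in the sense of `EtLocal`. -/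
theorem etLocal_of_isEtLocal {P : MorphismProperty Scheme.{u}} (hP : Groth.Agent.H52.IsEtLocal P)
    [P.IsMultiplicative] : EtLocal P where
  mult := inferInstance
  bc := hP.baseChange
  of_etale := fun A B φ hφ => by
    have := hP.precomp φ (𝟙 B) hφ (P.id_mem B)
    rwa [Category.comp_id] at this
  descend := hP.source

theorem isMultiplicative_lfp :
    MorphismProperty.IsMultiplicative (@LocallyOfFinitePresentation : MorphismProperty Scheme.{u}) where
  id_mem X := (inferInstance : LocallyOfFinitePresentation (𝟙 X))
  comp_mem f g hf hg := by
    have : LocallyOfFinitePresentation f := hf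
    have : LocallyOfFinitePresentation g := hg
    exact (inferInstance : LocallyOfFinitePresentation (f ≫ g))

theorem isMultiplicative_smooth :
    MorphismProperty.IsMultiplicative (@Smooth : MorphismProperty Scheme.{u}) where
  id_mem X := (inferInstance : Smooth (𝟙 X))
  comp_mem f g hf hg := by
    have : Smooth f := hf
    have : Smooth g := hg
    exact (inferInstance : Smooth (f ≫ g))

/-- Being locally of finite presentation is étale local on the source-and-target. -/
theorem etLocal_lfp : EtLocal (@LocallyOfFinitePresentation : MorphismProperty Scheme.{u}) :=
  have := isMultiplicative_lfp.{u}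
  etLocal_of_isEtLocal Groth.Agent.H52.isEtLocal_lfp

/-- Smoothness is étale local on the source-and-target. -/
theorem etLocal_smooth : EtLocal (@Smooth : MorphismProperty Scheme.{u}) :=
  have := isMultiplicative_smooth.{u}
  etLocal_of_isEtLocal Groth.Agent.H52.isEtLocal_smooth

/-- Being étale is étale local on the source-and-target. -/
theorem etLocal_etale : EtLocal (@Etale : MorphismProperty Scheme.{u}) :=
  etLocal_of_isEtLocal Groth.Agent.H52.isEtLocal_etale

open AlgSp in
/-- A morphism of algebraic spaces which is étale on étale charts is étale in the sense of `AlgSp.IsEtaleMor`. -/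
theorem isEtaleMor_of_locP_etale {S : Scheme.{u}} {X Y : Sp S} (hX : IsAlgSpace X) (hY : IsAlgSpace Y)
    {f : X ⟶ Y} (hf : LocP @Etale f) : IsEtaleMor f := by
  obtain ⟨U, a, hae, has⟩ := hX.atlas
  exact Groth.Agent.H53.isEtaleMor_of_chart (fun T t => hY.representable_from_yon t) f a hae has
    (Groth.Agent.H52.isEtLocal_etale.repWith_of_locP hY (a ≫ f) (hY.representable_from_yon _)
      (locP_precomp_chart hf a hae))

end Groth.Agent.Lib.Helper54
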