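/-
Helper library (helper54): small calculus of étale and smooth morphisms of algebraic spaces used for the
"local on source-and-target" predicates.
-/
import Groth.Agent.Lib.Helper54.EtLocalBridge
import Groth.Agent.Lib.Helper54.SourceLocal2
import Groth.Agent.Lib.Helper54.Points

set_option autoImplicit false
universe u
open CategoryTheory CategoryTheory.Limits AlgebraicGeometry

namespace Groth.Agent.Lib.Helper54

open AlgSp

variable {S : Scheme.{u}}

/-- The identity is étale. -/
theorem isEtaleMor_id (X : Sp S) : IsEtaleMor (𝟙 X) := by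
  intro U φ hφ
  rw [Category.comp_id]
  exact hφ

/-- An étale morphism of sheaves is smooth on étale charts. -/
theorem locP_smooth_of_isEtaleMor {X Y : Sp S} {f : X ⟶ Y} (hf : IsEtaleMor f) : LocP @Smooth f :=
  locP_mono (fun _ _ φ hφ => by
    have : Etale φ := hφ
    infer_instance) (locP_etale_of_isEtaleMor hf)

/-- The identity is smooth. -/
theorem locP_smooth_id (X : Sp S) : LocP @Smooth (𝟙 X) :=
  locP_smooth_of_isEtaleMor (isEtaleMor_id X)

/-- The composite of étale morphisms of sheaves is étale. -/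
theorem isEtaleMor_comp {X Y Z : Sp S} {f : X ⟶ Y} {g : Y ⟶ Z} (hf : IsEtaleMor f) (hg : IsEtaleMor g) :
    IsEtaleMor (f ≫ g) := by
  intro U φ hφ
  rw [← Category.assoc]
  exact hg _ (hf φ hφ)

/-- An open immersion of sheaves is étale. -/
theorem isEtaleMor_of_repWith_isOpenImmersion {X Y : Sp S} {j : X ⟶ Y} (hj : RepWith @IsOpenImmersion j) :
    IsEtaleMor j := by
  have : (RepWith (S := S) @Etale).IsMultiplicative := repWith_isMultiplicative _
  intro U φ hφ
  refine (RepWith @Etale).comp_mem _ _ hφ ⟨hj.rep, fun T V g fst snd sq => ?_⟩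
  have : IsOpenImmersion snd.left := hj.property g fst snd sq
  exact (inferInstance : Etale snd.left)

/-- Étale morphisms of algebraic spaces are stable under base change. -/
theorem isEtaleMor_of_isPullback {X Y X' Y' : Sp S} (hX : IsAlgSpace X) (hY : IsAlgSpace Y)
    (hX' : IsAlgSpace X') (hY' : IsAlgSpace Y') {f : X ⟶ Y} {g : Y' ⟶ Y} {fst : X' ⟶ X} {f' : X' ⟶ Y'}
    (sq : IsPullback fst f' f g) (hf : IsEtaleMor f) : IsEtaleMor f' :=
  isEtaleMor_of_locP_etale hX' hY'
    (locP_of_isPullback_of_isAlgSpace etLocal_etale hX hY sq (locP_etale_of_isEtaleMor hf))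

/-- Smooth morphisms of algebraic spaces are stable under base change. -/
theorem locP_smooth_of_isPullback {X Y X' Y' : Sp S} (hX : IsAlgSpace X) (hY : IsAlgSpace Y)
    {f : X ⟶ Y} {g : Y' ⟶ Y} {fst : X' ⟶ X} {f' : X' ⟶ Y'}
    (sq : IsPullback fst f' f g) (hf : LocP @Smooth f) : LocP @Smooth f' :=
  locP_of_isPullback_of_isAlgSpace etLocal_smooth hX hY sq hf

/-- Cancellation: if `e ≫ p` and `p` are étale, with the middle sheaf an algebraic space, then `e` is étale. -/
theorem isEtaleMor_of_comp {X W Z : Sp S} (hW : IsAlgSpace W) {e : X ⟶ W} {p : W ⟶ Z}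
    (hp : IsEtaleMor p) (hep : IsEtaleMor (e ≫ p)) : IsEtaleMor e := by
  intro U φ hφ
  refine Groth.Agent.H53.repWith_etale_of_comp_isEtaleMor hW (φ ≫ e) p hp ?_
  rw [Category.assoc]
  exact hep φ hφ

/-- A family of two sheaves, indexed by `ULift Bool`. -/
def twoFam (A B : Sp S) : ULift.{u} Bool → Sp S := fun i => bif i.down then A else B

/-- A family of two morphisms with common target. -/
def twoMap {A B Y : Sp S} (a : A ⟶ Y) (b : B ⟶ Y) : ∀ i, twoFam A B i ⟶ Y
  | ⟨true⟩ => a
  | ⟨false⟩ => b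

/-- A family of two morphisms over a family of two morphisms. -/
def twoHom {A B A' B' : Sp S} (a : A ⟶ A') (b : B ⟶ B') : ∀ i, twoFam A B i ⟶ twoFam A' B' i
  | ⟨true⟩ => a
  | ⟨false⟩ => b

theorem twoFam_isAlgSpace {A B : Sp S} (hA : IsAlgSpace A) (hB : IsAlgSpace B) :
    ∀ i, IsAlgSpace (twoFam A B i)
  | ⟨true⟩ => hA
  | ⟨false⟩ => hB

/-- A morphism with `Q` together with the identity forms a `Q`-covering, provided identities have `Q`. -/
theorem isCover_twoMap_id {Q : MorphismProperty (Sp S)} {A Y : Sp S} (a : A ⟶ Y) (ha : Q a) (hid : Q (𝟙 Y)) :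
    IsCover Q (twoFam A Y) (twoMap a (𝟙 Y)) := by
  refine ⟨?_, fun y => ⟨⟨false⟩, y, Points.map_id y⟩⟩
  rintro ⟨_ | _⟩
  · exact hid
  · exact ha

end Groth.Agent.Lib.Helper54
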