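/-
Helper library (helper54): the open subspace of a sheaf defined by an open set of points.
-/
import Groth.Agent.Lib.Helper54.FpqcTop
import Groth.Agent.Lib.Helper51.AlgSpBasic
import Groth.Agent.Lib.Helper51.RelRepSheaf
import Groth.Agent.H53.OpenSub2
import Groth.Agent.H53.UnivHomeo

set_option autoImplicit false
universe u
open CategoryTheory CategoryTheory.Limits AlgebraicGeometry Opposite

namespace Groth.Agent.Lib.Helper54

open AlgSp Groth.Agent.Lib.Helper51

variable {S : Scheme.{u}}

/-- A commutative square of fppf sheaves is a pullback as soon as it has the universal property of a pullback for maps out of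
representable sheaves. -/
theorem isPullback_of_forall_yon {A B C D : Sp S} (fst : A ⟶ B) (snd : A ⟶ C) (f : B ⟶ D) (g : C ⟶ D)
    (w : fst ≫ f = snd ≫ g)
    (huniq : ∀ (T : Over S) (a a' : (yon S).obj T ⟶ A), a ≫ fst = a' ≫ fst → a ≫ snd = a' ≫ snd → a = a')
    (hex : ∀ (T : Over S) (b : (yon S).obj T ⟶ B) (c : (yon S).obj T ⟶ C), b ≫ f = c ≫ g →
      ∃ a : (yon S).obj T ⟶ A, a ≫ fst = b ∧ a ≫ snd = c) : IsPullback fst snd f g := by
  refine IsPullback.of_map_of_faithful (sheafToPresheaf (AlgSp.J S) (Type (u + 1))) ?_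
  apply IsPullback.of_forall_isPullback_app
  intro U
  obtain ⟨T⟩ := U
  rw [Limits.Types.isPullback_iff]
  refine ⟨?_, ?_, ?_⟩
  · exact congrArg (fun m : A ⟶ D => m.hom.app (op T)) w
  · rintro x₁ y₁ ⟨h1, h2⟩
    have := huniq T (yonEquiv.symm x₁) (yonEquiv.symm y₁) ?_ ?_
    · simpa using congrArg yonEquiv this
    · apply yonEquiv.injective
      rw [yonEquiv_comp, yonEquiv_comp, Equiv.apply_symm_apply, Equiv.apply_symm_apply]
      exact h1
    · apply yonEquiv.injective
      rw [yonEquiv_comp, yonEquiv_comp, Equiv.apply_symm_apply, Equiv.apply_symm_apply]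
      exact h2
  · intro x₂ x₃ h
    obtain ⟨a, ha1, ha2⟩ := hex T (yonEquiv.symm x₂) (yonEquiv.symm x₃) (by
      apply yonEquiv.injective
      rw [yonEquiv_comp, yonEquiv_comp, Equiv.apply_symm_apply, Equiv.apply_symm_apply]
      exact h)
    refine ⟨yonEquiv a, ?_, ?_⟩
    · have := congrArg yonEquiv ha1
      rwa [yonEquiv_comp, Equiv.apply_symm_apply] at this
    · have := congrArg yonEquiv ha2
      rwa [yonEquiv_comp, Equiv.apply_symm_apply] at this

theorem isMultiplicative_flat_inf_lfp :
    MorphismProperty.IsMultiplicative (@Flat ⊓ @LocallyOfFinitePresentation : MorphismProperty Scheme.{u}) where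
  id_mem X := ⟨(inferInstance : Flat (𝟙 X)), (inferInstance : LocallyOfFinitePresentation (𝟙 X))⟩
  comp_mem f g hf hg := by
    have : Flat f := hf.1
    have : Flat g := hg.1
    have : LocallyOfFinitePresentation f := hf.2
    have : LocallyOfFinitePresentation g := hg.2
    exact ⟨(inferInstance : Flat (f ≫ g)), (inferInstance : LocallyOfFinitePresentation (f ≫ g))⟩

set_option backward.isDefEq.respectTransparency.types false in
/-- A covering sieve for the fppf topology over `S` is jointly surjective. -/
theorem exists_mem_of_mem_J {T : Over S} {R : Sieve T} (hR : R ∈ AlgSp.J S T) (t : ↥T.left) :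
    ∃ (V : Over S) (f : V ⟶ T), R f ∧ t ∈ Set.range f.left := by
  rw [GrothendieckTopology.mem_over_iff] at hR
  have := isMultiplicative_flat_inf_lfp.{u}
  obtain ⟨𝒰, h𝒰⟩ := Scheme.mem_grothendieckTopology_iff.1 hR
  obtain ⟨v, hv⟩ := 𝒰.covers t
  have hmem : (Sieve.overEquiv T R) (𝒰.f (𝒰.idx t)) := h𝒰 _ _ (Presieve.ofArrows.mk _)
  rw [Sieve.overEquiv_iff] at hmem
  exact ⟨_, _, hmem, v, hv⟩

/-- The subfunctor of a sheaf consisting of the sections all of whose points lie in a given set of points. -/
def openSubfunctor (X : Sp S) (W : Set (Points X)) : Subfunctor X.obj where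
  obj T := {x | ∀ t : ↥(unop T).left, Points.ofPt (yonEquiv.symm x) t ∈ W}
  map {T T'} i x hx := by
    intro t'
    have h1 : yonEquiv.symm (X.obj.map i x) = (yon S).map i.unop ≫ yonEquiv.symm x := by
      apply yonEquiv.injective
      rw [Equiv.apply_symm_apply, ← yonEquiv_naturality, Equiv.apply_symm_apply]
      rfl
    change Points.ofPt (yonEquiv.symm (X.obj.map i x)) t' ∈ W
    rw [h1, ofPt_yon_map_comp]
    exact hx _

theorem mem_openSubfunctor_iff {X : Sp S} {W : Set (Points X)} {T : Over S} (a : (yon S).obj T ⟶ X) :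
    yonEquiv a ∈ (openSubfunctor X W).obj (op T) ↔ ∀ t : ↥T.left, Points.ofPt a t ∈ W := by
  change (∀ t : ↥T.left, Points.ofPt (yonEquiv.symm (yonEquiv a)) t ∈ W) ↔ _
  rw [Equiv.symm_apply_apply]

theorem isSheaf_openSubfunctor (X : Sp S) (W : Set (Points X)) :
    Presheaf.IsSheaf (AlgSp.J S) (openSubfunctor X W).toFunctor := by
  rw [isSheaf_iff_isSheaf_of_type]
  rw [Subfunctor.isSheaf_iff _ ((isSheaf_iff_isSheaf_of_type _ _).1 X.property)]
  intro U s hs t
  obtain ⟨V, f, hf, v, rfl⟩ := exists_mem_of_mem_J hs t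
  have h1 : yonEquiv.symm (X.obj.map f.op s) = (yon S).map f ≫ yonEquiv.symm s := by
    apply yonEquiv.injective
    rw [Equiv.apply_symm_apply, ← yonEquiv_naturality, Equiv.apply_symm_apply]
  have := hf v
  rw [h1, ofPt_yon_map_comp] at this
  exact this

/-- The open subspace of `X` defined by a set of points `W` (open in the applications). -/
noncomputable def openSub (X : Sp S) (W : Set (Points X)) : Sp S :=
  ⟨(openSubfunctor X W).toFunctor, isSheaf_openSubfunctor X W⟩

/-- The inclusion of the open subspace. -/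
noncomputable def openSubι (X : Sp S) (W : Set (Points X)) : openSub X W ⟶ X :=
  ObjectProperty.homMk (openSubfunctor X W).ι

theorem yonEquiv_comp_openSubι {X : Sp S} {W : Set (Points X)} {T : Over S}
    (b : (yon S).obj T ⟶ openSub X W) : yonEquiv (b ≫ openSubι X W) = (yonEquiv b).1 := by
  rw [yonEquiv_comp]
  rfl

/-- A map from a representable sheaf factors through the open subspace exactly when its points lie in `W`. -/
theorem exists_factor_openSubι_iff {X : Sp S} {W : Set (Points X)} {T : Over S} (a : (yon S).obj T ⟶ X) :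
    (∃ b : (yon S).obj T ⟶ openSub X W, b ≫ openSubι X W = a) ↔ ∀ t : ↥T.left, Points.ofPt a t ∈ W := by
  constructor
  · rintro ⟨b, rfl⟩
    rw [← mem_openSubfunctor_iff, yonEquiv_comp_openSubι]
    exact (yonEquiv b).2
  · intro h
    let s : (openSub X W).obj.obj (op T) := ⟨yonEquiv a, (mem_openSubfunctor_iff a).2 h⟩
    refine ⟨yonEquiv.symm s, ?_⟩
    apply yonEquiv.injective
    rw [yonEquiv_comp_openSubι, show yonEquiv (yonEquiv.symm s) = s from Equiv.apply_symm_apply _ _]

theorem openSubι_cancel {X : Sp S} {W : Set (Points X)} {T : Over S}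
    (b b' : (yon S).obj T ⟶ openSub X W) (h : b ≫ openSubι X W = b' ≫ openSubι X W) : b = b' := by
  apply yonEquiv.injective
  apply Subtype.ext
  rw [← yonEquiv_comp_openSubι, ← yonEquiv_comp_openSubι, h]

instance mono_openSubι (X : Sp S) (W : Set (Points X)) : Mono (openSubι X W) :=
  mono_of_forall_yon _ fun _ b b' h => openSubι_cancel b b' h

/-- The inclusion of the open subspace defined by an open set of points is an open immersion. -/
theorem repWith_isOpenImmersion_openSubι (X : Sp S) (W : Set (Points X)) (hW : IsOpen W) :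
    RepWith @IsOpenImmersion (openSubι X W) := by
  apply MorphismProperty.relative.of_exists
  intro T x
  let O : T.left.Opens := ⟨Points.ofPt x ⁻¹' W, hW.preimage (Points.continuous_ofPt x)⟩
  let TW : Over S := Over.mk (O.ι ≫ T.hom)
  let snd : TW ⟶ T := Over.homMk O.ι rfl
  have hfac : ∀ t : ↥TW.left, Points.ofPt ((yon S).map snd ≫ x) t ∈ W := by
    intro t
    rw [ofPt_yon_map_comp]
    have h : O.ι t ∈ Set.range O.ι := ⟨t, rfl⟩
    rw [Scheme.Opens.range_ι] at h
    exact h
  obtain ⟨fst, hfst⟩ := (exists_factor_openSubι_iff ((yon S).map snd ≫ x)).2 hfac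
  refine ⟨TW, fst, snd, ?_, (inferInstance : IsOpenImmersion O.ι)⟩
  refine isPullback_of_forall_yon _ _ _ _ hfst ?_ ?_
  · intro T' a a' _ h2
    have : Mono snd := by
      have : Mono snd.left := (inferInstance : Mono O.ι)
      exact Over.mono_of_mono_left snd
    obtain ⟨a, rfl⟩ := (yon S).map_surjective a
    obtain ⟨a', rfl⟩ := (yon S).map_surjective a'
    rw [← Functor.map_comp, ← Functor.map_comp] at h2
    have := (yon S).map_injective h2
    rw [(cancel_mono snd).1 this]
  · intro T' b c hbc
    obtain ⟨c, rfl⟩ := (yon S).map_surjective c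
    have hpts : ∀ t : ↥T'.left, Points.ofPt ((yon S).map c ≫ x) t ∈ W := by
      rw [← hbc]
      exact (exists_factor_openSubι_iff _).1 ⟨b, rfl⟩
    have hrange : Set.range c.left ⊆ Set.range O.ι := by
      rintro _ ⟨t, rfl⟩
      have := hpts t
      rw [ofPt_yon_map_comp] at this
      rw [Scheme.Opens.range_ι]
      exact this
    let l : T'.left ⟶ TW.left := IsOpenImmersion.lift O.ι c.left hrange
    have hl : l ≫ O.ι = c.left := IsOpenImmersion.lift_fac _ _ _
    let l' : T' ⟶ TW := Over.homMk l (by
      change l ≫ O.ι ≫ T.hom = T'.hom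
      rw [← Category.assoc, hl]
      exact Over.w c)
    have hl' : l' ≫ snd = c := by
      apply Over.OverMorphism.ext
      exact hl
    refine ⟨(yon S).map l', ?_, ?_⟩
    · apply openSubι_cancel
      rw [Category.assoc, hfst, ← Category.assoc, ← Functor.map_comp, hl', hbc]
    · rw [← Functor.map_comp, hl']

/-- The points of the open subspace defined by `W` are exactly `W`. -/
theorem range_points_map_openSubι (X : Sp S) (W : Set (Points X)) :
    Set.range (Points.map (openSubι X W)) = W := by
  ext w
  constructor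
  · rintro ⟨x, rfl⟩
    induction x using Points.ind with
    | h p =>
      have h1 := (exists_factor_openSubι_iff (p.toHom ≫ openSubι X W)).1 ⟨p.toHom, rfl⟩
      obtain ⟨t⟩ : Nonempty ↥p.pt.left := ⟨IsLocalRing.closedPoint p.K⟩
      have h2 := h1 t
      rw [← Points.map_ofPt, Points.ofPt_toHom] at h2
      exact h2
  · intro hw
    induction w using Points.ind with
    | h p =>
      have h1 : ∀ t : ↥p.pt.left, Points.ofPt p.toHom t ∈ W := by
        intro t
        rw [Points.ofPt_toHom]
        exact hw
      obtain ⟨b, hb⟩ := (exists_factor_openSubι_iff p.toHom).2 h1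
      obtain ⟨t⟩ : Nonempty ↥p.pt.left := ⟨IsLocalRing.closedPoint p.K⟩
      refine ⟨Points.ofPt b t, ?_⟩
      rw [Points.map_ofPt, hb, Points.ofPt_toHom]

/-- The open subspace of an algebraic space defined by an open set of points is an algebraic space. -/
theorem isAlgSpace_openSub {X : Sp S} (hX : IsAlgSpace X) (W : Set (Points X)) (hW : IsOpen W) :
    IsAlgSpace (openSub X W) :=
  isAlgSpace_of_representable hX (openSubι X W) (repWith_isOpenImmersion_openSubι X W hW).rep

/-- Every open set of points of an algebraic space is the set of points of an open subspace. -/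
theorem exists_openSubspace {X : Sp S} (hX : IsAlgSpace X) (W : Set (Points X)) (hW : IsOpen W) :
    ∃ (X' : Sp S) (j : X' ⟶ X), IsAlgSpace X' ∧ RepWith @IsOpenImmersion j ∧
      Set.range (Points.map j) = W :=
  ⟨openSub X W, openSubι X W, isAlgSpace_openSub hX W hW, repWith_isOpenImmersion_openSubι X W hW,
    range_points_map_openSubι X W⟩

end Groth.Agent.Lib.Helper54
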