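/-
Helper library (helper54): the largest open subspace of the base over which a morphism has a property local on the base.
-/
import Groth.Agent.Lib.Helper54.OpenSubspace
import Groth.Agent.Lib.Helper54.LocalST

set_option autoImplicit false
universe u
open CategoryTheory CategoryTheory.Limits AlgebraicGeometry Opposite

namespace Groth.Agent.Lib.Helper54

open AlgSp

variable {S : Scheme.{u}}

/-- The properties of a class `Q` of morphisms of sheaves used as the members of coverings: it contains open immersions, its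
members are open on points, and it has cancellation and precomposition with open immersions. -/
structure CovClass (Q : MorphismProperty (Sp S)) : Prop where
  of_oi : ∀ ⦃A B : Sp S⦄ (j : A ⟶ B), RepWith @IsOpenImmersion j → Q j
  isOpenMap : ∀ ⦃A B : Sp S⦄, IsAlgSpace A → IsAlgSpace B → ∀ (g : A ⟶ B), Q g → IsOpenMap (Points.map g)
  cancel : ∀ ⦃A B C : Sp S⦄, IsAlgSpace B → ∀ (g : A ⟶ B) (j : B ⟶ C), RepWith @IsOpenImmersion j →
    Q (g ≫ j) → Q g
  precomp : ∀ ⦃A B C : Sp S⦄ (j : A ⟶ B) (g : B ⟶ C), RepWith @IsOpenImmersion j → Q g → Q (j ≫ g)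

/-- `f` has `P` over the open set `V` of points of the target: every base change of `f` to an open subspace with set of points
`V` has `P`. -/
def HasOver (P : MorphismProperty (Sp S)) {X Y : Sp S} (f : X ⟶ Y) (V : Set (Points Y)) : Prop :=
  ∀ (W₁ X₁ : Sp S) (j₁ : W₁ ⟶ Y) (j₁' : X₁ ⟶ X) (f₁ : X₁ ⟶ W₁), IsAlgSpace W₁ → IsAlgSpace X₁ →
    RepWith @IsOpenImmersion j₁ → Set.range (Points.map j₁) = V → IsPullback j₁' f₁ f j₁ → P f₁

theorem injective_points_of_isOpenImmersion {A B : Sp S} (j : A ⟶ B) (hj : RepWith @IsOpenImmersion j) :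
    Function.Injective (Points.map j) :=
  Groth.Agent.H53.injective_points_of_repWith j @IsOpenImmersion
    (fun _ _ φ hφ => by have := hφ; exact φ.isOpenEmbedding.injective) hj

theorem mono_of_isOpenImmersion {A B : Sp S} (j : A ⟶ B) (hj : RepWith @IsOpenImmersion j) : Mono j :=
  Groth.Agent.H52.mono_of_repWith j @IsOpenImmersion
    (fun _ _ g hg => by have := hg; infer_instance) hj

/-- A morphism to the target of an open immersion `j` whose image lies in the image of `j` factors through `j`, surjectively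
on points if the images agree. -/
theorem exists_factor_surjective {A B C : Sp S} (j : B ⟶ C) (hj : RepWith @IsOpenImmersion j) (g : A ⟶ C)
    (h : Set.range (Points.map g) = Set.range (Points.map j)) :
    ∃ g₁ : A ⟶ B, g₁ ≫ j = g ∧ Function.Surjective (Points.map g₁) := by
  obtain ⟨g₁, hg₁⟩ := Groth.Agent.H53.exists_factor_of_range_subset j hj g h.le
  refine ⟨g₁, hg₁, fun x => ?_⟩
  have : Points.map j x ∈ Set.range (Points.map g) := h ▸ ⟨x, rfl⟩
  obtain ⟨y, hy⟩ := this
  refine ⟨y, injective_points_of_isOpenImmersion j hj ?_⟩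
  rw [← Points.map_comp, hg₁, hy]

section

variable {Q P : MorphismProperty (Sp S)} (hQ : CovClass Q)
  (hP : IsLocalOnBase (fun _ _ Y g => IsCover Q Y g) P)
include hQ hP

/-- Base change of `P` along a morphism in `Q`. -/
theorem baseChange_of_isLocalOnBase {X Y X' Y' : Sp S} (hX : IsAlgSpace X) (hY : IsAlgSpace Y)
    (hX' : IsAlgSpace X') (hY' : IsAlgSpace Y') {f : X ⟶ Y} {g : Y' ⟶ Y} {f' : X' ⟶ Y'} {g' : X' ⟶ X}
    (sq : IsPullback g' f' f g) (hg : Q g) (hf : P f) : P f' := by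
  have hcov : IsCover Q (twoFam Y' Y) (twoMap g (𝟙 Y)) :=
    isCover_twoMap_id g hg (hQ.of_oi _ (Groth.Agent.H52.repWith_of_isIso _ _))
  have hsq : ∀ i, IsPullback (twoMap g' (𝟙 X) i) (twoHom f' f i) f (twoMap g (𝟙 Y) i) := by
    rintro ⟨_ | _⟩
    · change IsPullback (𝟙 X) f f (𝟙 Y)
      exact IsPullback.of_horiz_isIso ⟨by rw [Category.id_comp, Category.comp_id]⟩
    · exact sq
  exact ((hP _ _ hY (twoFam_isAlgSpace hY' hY) hcov f hX _ _ _ (twoFam_isAlgSpace hX' hX) hsq).1 hf) ⟨true⟩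

/-- Descent of `P` along a single surjective morphism in `Q`. -/
theorem descend_of_isLocalOnBase {X Y X' Y' : Sp S} (hX : IsAlgSpace X) (hY : IsAlgSpace Y)
    (hX' : IsAlgSpace X') (hY' : IsAlgSpace Y') {f : X ⟶ Y} {g : Y' ⟶ Y} {f' : X' ⟶ Y'} {g' : X' ⟶ X}
    (sq : IsPullback g' f' f g) (hg : Q g) (hs : Function.Surjective (Points.map g)) (hf' : P f') : P f :=
  (hP (fun _ : PUnit.{u + 1} => Y') (fun _ => g) hY (fun _ => hY') ⟨fun _ => hg, fun y => ⟨⟨⟩, hs y⟩⟩ f hX
    (fun _ => X') (fun _ => f') (fun _ => g') (fun _ => hX') (fun _ => sq)).2 (fun _ => hf')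

/-- If the base change of `f` along a morphism `g` in `Q` has `P`, then `f` has `P` over the image of `g`. -/
theorem hasOver_range_of_baseChange {X Y X' Y' : Sp S} (hX : IsAlgSpace X) (hY : IsAlgSpace Y)
    (hX' : IsAlgSpace X') (hY' : IsAlgSpace Y') {f : X ⟶ Y} {g : Y' ⟶ Y} {f' : X' ⟶ Y'} {g' : X' ⟶ X}
    (sq : IsPullback g' f' f g) (hg : Q g) (hf' : P f') : HasOver P f (Set.range (Points.map g)) := by
  intro W₁ X₁ j₁ j₁' f₁ hW₁ hX₁ hj₁ hrange sq₁
  obtain ⟨g₁, hg₁, hsurj⟩ := exists_factor_surjective j₁ hj₁ g hrange.symm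
  have hQg₁ : Q g₁ := hQ.cancel hW₁ g₁ j₁ hj₁ (hg₁ ▸ hg)
  have hcomm : g' ≫ f = (f' ≫ g₁) ≫ j₁ := by rw [Category.assoc, hg₁]; exact sq.w
  have hq1 : sq₁.lift g' (f' ≫ g₁) hcomm ≫ j₁' = g' := sq₁.lift_fst _ _ _
  have hq2 : sq₁.lift g' (f' ≫ g₁) hcomm ≫ f₁ = f' ≫ g₁ := sq₁.lift_snd _ _ _
  have sqL : IsPullback (sq₁.lift g' (f' ≫ g₁) hcomm) f' f₁ g₁ := by
    refine IsPullback.of_right ?_ hq2 sq₁
    rw [hq1, hg₁]
    exact sq
  exact descend_of_isLocalOnBase hQ hP hX₁ hW₁ hX' hY' sqL hQg₁ hsurj hf'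

/-- The largest open set of points of the target over which `f` has `P`, with its compatibility with base change along
morphisms in `Q`. -/
theorem exists_largest_open {X Y : Sp S} (hX : IsAlgSpace X) (hY : IsAlgSpace Y) (f : X ⟶ Y) :
    ∃ W : TopologicalSpace.Opens (Points Y),
      HasOver P f (W : Set (Points Y)) ∧
      (∀ V : TopologicalSpace.Opens (Points Y), HasOver P f (V : Set (Points Y)) → V ≤ W) ∧
      (∀ (Y' X' : Sp S) (g : Y' ⟶ Y) (g' : X' ⟶ X) (f' : X' ⟶ Y'), IsAlgSpace Y' → IsAlgSpace X' → Q g →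
        IsPullback g' f' f g → P f' → Set.range (Points.map g) ⊆ (W : Set (Points Y))) ∧
      (∀ (Y' X' : Sp S) (g : Y' ⟶ Y) (g' : X' ⟶ X) (f' : X' ⟶ Y'), IsAlgSpace Y' → IsAlgSpace X' → Q g →
        IsPullback g' f' f g → ∀ W' : TopologicalSpace.Opens (Points Y'),
          HasOver P f' (W' : Set (Points Y')) →
          (∀ V' : TopologicalSpace.Opens (Points Y'), HasOver P f' (V' : Set (Points Y')) → V' ≤ W') →
          (W' : Set (Points Y')) = Points.map g ⁻¹' (W : Set (Points Y))) := by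
  obtain ⟨W, hWdef⟩ : ∃ W : TopologicalSpace.Opens (Points Y),
      W = sSup {V : TopologicalSpace.Opens (Points Y) | HasOver P f (V : Set (Points Y))} := ⟨_, rfl⟩
  have hB : ∀ V : TopologicalSpace.Opens (Points Y), HasOver P f (V : Set (Points Y)) → V ≤ W := by
    intro V hV
    rw [hWdef]
    exact le_sSup hV
  have hA : HasOver P f (W : Set (Points Y)) := by
    intro W₀ X₀ j₀ j₀' f₀ hW₀ hX₀ hj₀ hrange sq₀
    obtain ⟨A, c, hce, hcs⟩ := hW₀.atlas
    have key : ∀ t : ↥A.left, ∃ V : TopologicalSpace.Opens (Points Y), HasOver P f (V : Set (Points Y)) ∧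
        Points.map j₀ (Points.map c (Points.ofScheme A t)) ∈ V := by
      intro t
      have h1 : Points.map j₀ (Points.map c (Points.ofScheme A t)) ∈ (W : Set (Points Y)) :=
        hrange ▸ ⟨_, rfl⟩
      rw [hWdef] at h1
      obtain ⟨V, hV, hxV⟩ := TopologicalSpace.Opens.mem_sSup.1 h1
      exact ⟨V, hV, hxV⟩
    choose V hV hxV using key
    have hιoi : ∀ t, RepWith @IsOpenImmersion (openSubι Y (V t : Set (Points Y))) := fun t =>
      repWith_isOpenImmersion_openSubι Y _ (V t).2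
    have hk : ∀ t, ∃ k : openSub Y (V t : Set (Points Y)) ⟶ W₀, k ≫ j₀ = openSubι Y (V t : Set (Points Y)) :=
      fun t => Groth.Agent.H53.exists_factor_of_range_subset j₀ hj₀ _ (by
        rw [range_points_map_openSubι, hrange]
        exact hB (V t) (hV t))
    choose k hk using hk
    have hmono := mono_of_isOpenImmersion j₀ hj₀
    have hkoi : ∀ t, RepWith @IsOpenImmersion (k t) := fun t =>
      Groth.Agent.H53.repWith_of_comp_mono _ (k t) j₀ (by rw [hk t]; exact hιoi t)
    have hYt : ∀ t, IsAlgSpace (openSub Y (V t : Set (Points Y))) := fun t => isAlgSpace_openSub hY _ (V t).2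
    have hXt : ∀ t, IsAlgSpace (pullback f₀ (k t)) := fun t =>
      Groth.Agent.H52.isAlgSpace_of_isPullback (IsPullback.of_hasPullback _ _) hX₀ hW₀ (hYt t)
    refine (hP (fun t => openSub Y (V t : Set (Points Y))) k hW₀ hYt ⟨fun t => hQ.of_oi _ (hkoi t), ?_⟩ f₀ hX₀
      (fun t => pullback f₀ (k t)) (fun t => pullback.snd _ _) (fun t => pullback.fst _ _) hXt
      (fun t => IsPullback.of_hasPullback _ _)).2 ?_
    · intro x
      obtain ⟨ξ, rfl⟩ := Groth.Agent.H52.surjective_points_of_repWith_surjective c hcs x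
      obtain ⟨t, rfl⟩ := exists_ofScheme_eq A ξ
      have h1 : Points.map j₀ (Points.map c (Points.ofScheme A t)) ∈
          Set.range (Points.map (openSubι Y (V t : Set (Points Y)))) := by
        rw [range_points_map_openSubι]
        exact hxV t
      obtain ⟨y, hy⟩ := h1
      refine ⟨t, y, injective_points_of_isOpenImmersion j₀ hj₀ ?_⟩
      rw [← Points.map_comp, hk t, hy]
    · intro t
      refine hV t (openSub Y (V t : Set (Points Y))) (pullback f₀ (k t)) (openSubι Y _)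
        (pullback.fst _ _ ≫ j₀') (pullback.snd _ _) (hYt t) (hXt t) (hιoi t)
        (range_points_map_openSubι _ _) ?_
      have := (IsPullback.of_hasPullback f₀ (k t)).paste_horiz sq₀
      rwa [hk t] at this
  have hC : ∀ (Y' X' : Sp S) (g : Y' ⟶ Y) (g' : X' ⟶ X) (f' : X' ⟶ Y'), IsAlgSpace Y' → IsAlgSpace X' → Q g →
      IsPullback g' f' f g → P f' → Set.range (Points.map g) ⊆ (W : Set (Points Y)) := by
    intro Y' X' g g' f' hY' hX' hg sq hf'
    have hopen : IsOpen (Set.range (Points.map g)) := (hQ.isOpenMap hY' hY g hg).isOpen_range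
    exact hB ⟨_, hopen⟩ (hasOver_range_of_baseChange hQ hP hX hY hX' hY' sq hg hf')
  refine ⟨W, hA, hB, hC, ?_⟩
  intro Y' X' g g' f' hY' hX' hg sq W' hW' hmax
  apply Set.Subset.antisymm
  · intro y' hy'
    have hιoi := repWith_isOpenImmersion_openSubι Y' (W' : Set (Points Y')) W'.2
    have hW₂ := isAlgSpace_openSub hY' (W' : Set (Points Y')) W'.2
    have sq₂ := IsPullback.of_hasPullback f' (openSubι Y' (W' : Set (Points Y')))
    have hX₂ : IsAlgSpace (pullback f' (openSubι Y' (W' : Set (Points Y')))) :=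
      Groth.Agent.H52.isAlgSpace_of_isPullback sq₂ hX' hY' hW₂
    have hf₂ : P (pullback.snd f' (openSubι Y' (W' : Set (Points Y')))) :=
      hW' _ _ (openSubι Y' _) (pullback.fst _ _) (pullback.snd _ _) hW₂ hX₂ hιoi
        (range_points_map_openSubι _ _) sq₂
    have hQh : Q (openSubι Y' (W' : Set (Points Y')) ≫ g) := hQ.precomp _ _ hιoi hg
    have big := sq₂.paste_horiz sq
    have h3 := hC _ _ (openSubι Y' (W' : Set (Points Y')) ≫ g) (pullback.fst _ _ ≫ g') (pullback.snd _ _)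
      hW₂ hX₂ hQh big hf₂
    obtain ⟨z, rfl⟩ : y' ∈ Set.range (Points.map (openSubι Y' (W' : Set (Points Y')))) := by
      rw [range_points_map_openSubι]
      exact hy'
    exact h3 ⟨z, Points.map_comp _ _ z⟩
  · have hopen : IsOpen (Points.map g ⁻¹' (W : Set (Points Y))) := W.2.preimage (Points.continuous_map g)
    refine hmax ⟨_, hopen⟩ ?_
    intro W₂ X₂ j₂ j₂' f₂ hW₂ hX₂ hj₂ hrange₂ sq₂
    have hιoi := repWith_isOpenImmersion_openSubι Y (W : Set (Points Y)) W.2
    have hW₀ := isAlgSpace_openSub hY (W : Set (Points Y)) W.2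
    have sq₀ := IsPullback.of_hasPullback f (openSubι Y (W : Set (Points Y)))
    have hX₀ : IsAlgSpace (pullback f (openSubι Y (W : Set (Points Y)))) :=
      Groth.Agent.H52.isAlgSpace_of_isPullback sq₀ hX hY hW₀
    have hf₀ : P (pullback.snd f (openSubι Y (W : Set (Points Y)))) :=
      hA _ _ _ _ _ hW₀ hX₀ hιoi (range_points_map_openSubι _ _) sq₀
    obtain ⟨m, hm⟩ := Groth.Agent.H53.exists_factor_of_range_subset (openSubι Y (W : Set (Points Y))) hιoi
      (j₂ ≫ g) (by
        rintro _ ⟨z, rfl⟩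
        rw [range_points_map_openSubι, Points.map_comp]
        have h1 : Points.map j₂ z ∈ Points.map g ⁻¹' (W : Set (Points Y)) := by
          change Points.map j₂ z ∈ ((⟨_, hopen⟩ : TopologicalSpace.Opens (Points Y')) : Set (Points Y'))
          rw [← hrange₂]
          exact ⟨z, rfl⟩
        exact h1)
    have hQm : Q m := hQ.cancel hW₀ m _ hιoi (by rw [hm]; exact hQ.precomp _ _ hj₂ hg)
    have big := sq₂.paste_horiz sq
    have hcomm : (j₂' ≫ g') ≫ f = (f₂ ≫ m) ≫ openSubι Y (W : Set (Points Y)) := by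
      rw [Category.assoc f₂, hm]
      exact big.w
    have hn1 : sq₀.lift (j₂' ≫ g') (f₂ ≫ m) hcomm ≫ pullback.fst f (openSubι Y (W : Set (Points Y))) =
        j₂' ≫ g' := sq₀.lift_fst _ _ _
    have hn2 : sq₀.lift (j₂' ≫ g') (f₂ ≫ m) hcomm ≫ pullback.snd f (openSubι Y (W : Set (Points Y))) =
        f₂ ≫ m := sq₀.lift_snd _ _ _
    have sqL : IsPullback (sq₀.lift (j₂' ≫ g') (f₂ ≫ m) hcomm) f₂
        (pullback.snd f (openSubι Y (W : Set (Points Y)))) m := by
      refine IsPullback.of_right ?_ hn2 sq₀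
      rw [hn1, hm]
      exact big
    exact baseChange_of_isLocalOnBase hQ hP hX₀ hW₀ hX₂ hW₂ sqL hQm hf₀

/-- The bundled form of `exists_largest_open`, for morphisms of `AlgSp.Space S`. -/
theorem exists_largest_open_space {X Y : Space S} (f : X ⟶ Y) :
    ∃ W : TopologicalSpace.Opens (Points Y.obj),
      (∀ (W₀ X₀ : Space S) (j₀ : W₀ ⟶ Y) (j₀' : X₀ ⟶ X) (f₀ : X₀ ⟶ W₀),
        RepWith @IsOpenImmersion j₀.hom → Set.range (Points.map j₀.hom) = (W : Set (Points Y.obj)) →
        IsPullback j₀'.hom f₀.hom f.hom j₀.hom → P f₀.hom) ∧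
      (∀ V : TopologicalSpace.Opens (Points Y.obj),
        (∀ (W₁ X₁ : Space S) (j₁ : W₁ ⟶ Y) (j₁' : X₁ ⟶ X) (f₁ : X₁ ⟶ W₁),
        RepWith @IsOpenImmersion j₁.hom → Set.range (Points.map j₁.hom) = (V : Set (Points Y.obj)) →
        IsPullback j₁'.hom f₁.hom f.hom j₁.hom → P f₁.hom) → V ≤ W) ∧
      (∀ (Y' X' : Space S) (g : Y' ⟶ Y) (g' : X' ⟶ X) (f' : X' ⟶ Y'),
        Q g.hom → IsPullback g'.hom f'.hom f.hom g.hom → P f'.hom →
        Set.range (Points.map g.hom) ⊆ (W : Set (Points Y.obj))) ∧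
      (∀ (Y' X' : Space S) (g : Y' ⟶ Y) (g' : X' ⟶ X) (f' : X' ⟶ Y'),
        Q g.hom → IsPullback g'.hom f'.hom f.hom g.hom →
        ∀ W' : TopologicalSpace.Opens (Points Y'.obj),
          (∀ (W₂ X₂ : Space S) (j₂ : W₂ ⟶ Y') (j₂' : X₂ ⟶ X') (f₂ : X₂ ⟶ W₂),
        RepWith @IsOpenImmersion j₂.hom → Set.range (Points.map j₂.hom) = (W' : Set (Points Y'.obj)) →
        IsPullback j₂'.hom f₂.hom f'.hom j₂.hom → P f₂.hom) →
          (∀ V' : TopologicalSpace.Opens (Points Y'.obj),
            (∀ (W₃ X₃ : Space S) (j₃ : W₃ ⟶ Y') (j₃' : X₃ ⟶ X') (f₃ : X₃ ⟶ W₃),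
        RepWith @IsOpenImmersion j₃.hom → Set.range (Points.map j₃.hom) = (V' : Set (Points Y'.obj)) →
        IsPullback j₃'.hom f₃.hom f'.hom j₃.hom → P f₃.hom) → V' ≤ W') →
          (W' : Set (Points Y'.obj)) = Points.map g.hom ⁻¹' (W : Set (Points Y.obj))) := by
  have toB : ∀ {X Y : Space S} (f : X ⟶ Y) (V : Set (Points Y.obj)), HasOver P f.hom V →
      ∀ (W₁ X₁ : Space S) (j₁ : W₁ ⟶ Y) (j₁' : X₁ ⟶ X) (f₁ : X₁ ⟶ W₁),
        RepWith @IsOpenImmersion j₁.hom → Set.range (Points.map j₁.hom) = V →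
        IsPullback j₁'.hom f₁.hom f.hom j₁.hom → P f₁.hom :=
    fun f V h W₁ X₁ j₁ j₁' f₁ hj hr sq =>
      h W₁.obj X₁.obj j₁.hom j₁'.hom f₁.hom W₁.property X₁.property hj hr sq
  have ofB : ∀ {X Y : Space S} (f : X ⟶ Y) (V : Set (Points Y.obj)),
      (∀ (W₁ X₁ : Space S) (j₁ : W₁ ⟶ Y) (j₁' : X₁ ⟶ X) (f₁ : X₁ ⟶ W₁),
        RepWith @IsOpenImmersion j₁.hom → Set.range (Points.map j₁.hom) = V →
        IsPullback j₁'.hom f₁.hom f.hom j₁.hom → P f₁.hom) → HasOver P f.hom V :=
    fun f V h W₁ X₁ j₁ j₁' f₁ hW₁ hX₁ hj hr sq =>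
      h ⟨W₁, hW₁⟩ ⟨X₁, hX₁⟩ (ObjectProperty.homMk j₁) (ObjectProperty.homMk j₁') (ObjectProperty.homMk f₁)
        hj hr sq
  obtain ⟨W, hA, hB, hC, hD⟩ := exists_largest_open hQ hP X.property Y.property f.hom
  refine ⟨W, toB f _ hA, fun V hV => hB V (ofB f _ hV), ?_, ?_⟩
  · intro Y' X' g g' f' hg sq hf'
    exact hC Y'.obj X'.obj g.hom g'.hom f'.hom Y'.property X'.property hg sq hf'
  · intro Y' X' g g' f' hg sq W' hW' hmax
    exact hD Y'.obj X'.obj g.hom g'.hom f'.hom Y'.property X'.property hg sq W' (ofB f' _ hW')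
      (fun V' hV' => hmax V' (toB f' _ hV'))

end

/-- Cancellation of an open immersion on the right for `LocP`. -/
theorem locP_of_comp_isOpenImmersion {P : MorphismProperty Scheme.{u}} {A B C : Sp S} (g : A ⟶ B) (j : B ⟶ C)
    (hj : RepWith @IsOpenImmersion j) (h : LocP P (g ≫ j)) : LocP P g := by
  intro U V a b k ha hb comm
  have hje := isEtaleMor_of_repWith_isOpenImmersion hj
  exact h a (b ≫ j) k ha (hje b hb) (by rw [← Category.assoc, comm, Category.assoc])

/-- A morphism of algebraic spaces which has étale locally a universally open property is open on points. -/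
theorem isOpenMap_points_of_locP {P : MorphismProperty Scheme.{u}}
    (hP : ∀ ⦃U V : Scheme.{u}⦄ (φ : U ⟶ V), P φ → UniversallyOpen φ) {A B : Sp S} (hA : IsAlgSpace A)
    (hB : IsAlgSpace B) (g : A ⟶ B) (hg : LocP P g) : IsOpenMap (Points.map g) :=
  (Groth.Agent.H52.isUnivOpenMor_of_locP hA hB g P hP hg) hB (𝟙 B) (𝟙 _) g
    (IsPullback.of_horiz_isIso ⟨by simp⟩)

theorem univOpen_of_flat_lfp ⦃U V : Scheme.{u}⦄ (φ : U ⟶ V)
    (hφ : (@Flat ⊓ @LocallyOfFinitePresentation : MorphismProperty Scheme.{u}) φ) : UniversallyOpen φ := by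
  have : Flat φ := hφ.1
  have : LocallyOfFinitePresentation φ := hφ.2
  infer_instance

/-- Flat morphisms locally of finite presentation form a covering class. -/
theorem covClass_fppf :
    CovClass (S := S) (fun _ _ g => LocP @Flat g ∧ LocP @LocallyOfFinitePresentation g) where
  of_oi _ _ j hj :=
    ⟨locP_mono (fun _ _ φ hφ => by have : Etale φ := hφ; infer_instance)
        (locP_etale_of_isEtaleMor (isEtaleMor_of_repWith_isOpenImmersion hj)),
      locP_mono (fun _ _ φ hφ => by have : Etale φ := hφ; infer_instance)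
        (locP_etale_of_isEtaleMor (isEtaleMor_of_repWith_isOpenImmersion hj))⟩
  isOpenMap _ _ hA hB g hg := isOpenMap_points_of_locP univOpen_of_flat_lfp hA hB g
    (fun _ _ a b h ha hb comm => ⟨hg.1 a b h ha hb comm, hg.2 a b h ha hb comm⟩)
  cancel _ _ _ _ g j hj h := ⟨locP_of_comp_isOpenImmersion g j hj h.1, locP_of_comp_isOpenImmersion g j hj h.2⟩
  precomp _ _ _ j g hj h :=
    ⟨locP_precomp_isEtaleMor (isEtaleMor_of_repWith_isOpenImmersion hj) h.1,
      locP_precomp_isEtaleMor (isEtaleMor_of_repWith_isOpenImmersion hj) h.2⟩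

/-- Smooth morphisms form a covering class. -/
theorem covClass_smooth : CovClass (S := S) (LocP @Smooth) where
  of_oi _ _ j hj := locP_smooth_of_isEtaleMor (isEtaleMor_of_repWith_isOpenImmersion hj)
  isOpenMap _ _ hA hB g hg := isOpenMap_points_of_locP univOpen_of_flat_lfp hA hB g
    (locP_mono (fun _ _ φ hφ => by
      have : Smooth φ := hφ
      exact ⟨inferInstance, inferInstance⟩) hg)
  cancel _ _ _ _ g j hj h := locP_of_comp_isOpenImmersion g j hj h
  precomp _ _ _ j g hj h := locP_precomp_isEtaleMor (isEtaleMor_of_repWith_isOpenImmersion hj) h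

/-- Étale morphisms form a covering class. -/
theorem covClass_etale : CovClass (S := S) IsEtaleMor where
  of_oi _ _ j hj := isEtaleMor_of_repWith_isOpenImmersion hj
  isOpenMap _ _ hA hB g hg := isOpenMap_points_of_locP univOpen_of_flat_lfp hA hB g
    (locP_mono (fun _ _ φ hφ => by
      have : Etale φ := hφ
      exact ⟨inferInstance, inferInstance⟩) (locP_etale_of_isEtaleMor hg))
  cancel _ _ _ hB g j hj h := isEtaleMor_of_comp hB (isEtaleMor_of_repWith_isOpenImmersion hj) h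
  precomp _ _ _ j g hj h := isEtaleMor_comp (isEtaleMor_of_repWith_isOpenImmersion hj) h

end Groth.Agent.Lib.Helper54
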