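/-
Helper library (helper54): field-valued points representing the same point as a monomorphism
`Spec K ⟶ F` factor through it.
-/
import Groth.Agent.Lib.Helper54.Points
import Mathlib.AlgebraicGeometry.Morphisms.FlatMono
import Mathlib.AlgebraicGeometry.Morphisms.UniversallyInjective

set_option autoImplicit false
universe u
open CategoryTheory CategoryTheory.Limits AlgebraicGeometry Opposite

namespace Groth.Agent.Lib.Helper54

open AlgSp

variable {S : Scheme.{u}}

/-- A monomorphism from a nonempty scheme to the spectrum of a field is an isomorphism. -/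
theorem isIso_of_mono_of_nonempty_of_field {V : Scheme.{u}} {L : Type u} [Field L]
    (g : V ⟶ Spec (CommRingCat.of L)) [Mono g] [Nonempty ↥V] : IsIso g := by
  have hinj : Function.Injective g := g.injective
  have hsub : Subsingleton ↥V := hinj.subsingleton
  have : QuasiCompact g := quasiCompact_of_subsingleton g
  have : Surjective g := ⟨fun y => ⟨Classical.arbitrary _, Subsingleton.elim _ _⟩⟩
  exact Flat.isIso_of_surjective_of_mono g

/-- If `p` is a field-valued point of `F` whose morphism is a representable monomorphism, every field-valued
point `q` in the same class factors through `p`. -/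
theorem exists_factor_of_mono_point {F : Sp S} (p q : FieldPt F) (hm : Mono p.toHom)
    (hr : Representable p.toHom) (h : Points.mk q = Points.mk p) :
    ∃ g : q.pt ⟶ p.pt, (yon S).map g ≫ p.toHom = q.toHom := by
  have sq := hr.isPullback q.toHom
  have hm2 : Mono ((yon S).map (hr.snd q.toHom)) :=
    MorphismProperty.of_isPullback (P := MorphismProperty.monomorphisms (Sp S)) sq hm
  have hm3 : Mono (hr.snd q.toHom) := (yon S).mono_of_mono_map hm2
  have hm4 : Mono (hr.snd q.toHom).left := inferInstance
  -- the pullback is nonempty
  have s0 : ↥(Spec (CommRingCat.of p.K)) := IsLocalRing.closedPoint p.K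
  have hx : Points.map p.toHom (Points.ofScheme p.pt s0) = Points.mk q := by
    rw [← Points.ofPt_eq_map_ofScheme, h]; exact Points.ofPt_toHom p s0
  obtain ⟨v, -⟩ := exists_pt_of_isPullback_fieldPt q sq _ hx
  have : Nonempty ↥(hr.pullback q.toHom).left := ⟨v⟩
  have hiso : IsIso (hr.snd q.toHom).left := isIso_of_mono_of_nonempty_of_field (L := q.K) _
  have hiso2 : IsIso (hr.snd q.toHom) := by
    have : IsIso ((Over.forget S).map (hr.snd q.toHom)) := hiso
    exact isIso_of_reflects_iso _ (Over.forget S)
  obtain ⟨fst', hfst'⟩ := (yon S).map_surjective (hr.fst q.toHom)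
  refine ⟨inv (hr.snd q.toHom) ≫ fst', ?_⟩
  rw [Functor.map_comp, Category.assoc, hfst', sq.w, ← Category.assoc, ← Functor.map_comp,
    IsIso.inv_hom_id]
  erw [(yon S).map_id]
  rw [Category.id_comp]

/-- (4) ⇒ (6): if a point is represented by a quasi-compact monomorphism from the spectrum of a field, every
field-valued point in its class is representable quasi-compact. -/
theorem repWith_quasiCompact_of_mono_point {F : Sp S} (p q : FieldPt F) (hm : Mono p.toHom)
    (hp : RepWith @QuasiCompact p.toHom) (h : Points.mk q = Points.mk p) :
    RepWith @QuasiCompact q.toHom := by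
  obtain ⟨g, hg⟩ := exists_factor_of_mono_point p q hm hp.rep h
  rw [← hg]
  have hg' : RepWith @QuasiCompact ((yon S).map g) :=
    (repWith_yon_map_iff _ _).2 (quasiCompact_of_subsingleton (X := Spec (CommRingCat.of q.K)) g.left)
  exact (RepWith (S := S) @QuasiCompact).comp_mem _ _ hg' hp

end Groth.Agent.Lib.Helper54
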