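import Mathlib.CategoryTheory.Limits.Shapes.Diagonal

/-!
# Two lemmas on kernel pairs (helper54)

* `isPullback_diagonal_of_kernelPair`: the map from the kernel pair of `a : U ⟶ X` to the kernel
  pair of `a ≫ f` is a base change of the diagonal of `f`.
* `isPullback_kernelPair_baseChange`: the kernel pair of a base change of `a` is the base change of
  the kernel pair of `a`.
-/

set_option autoImplicit false
open CategoryTheory CategoryTheory.Limits

namespace Groth.Agent.Lib.Helper54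

variable {C : Type*} [Category C]

theorem isPullback_diagonal_of_kernelPair [HasPullbacks C] {U X Y R P : C} (a : U ⟶ X) (f : X ⟶ Y)
    {s t : R ⟶ U} (sqR : IsPullback s t a a) {p1 p2 : P ⟶ U}
    (sqP : IsPullback p1 p2 (a ≫ f) (a ≫ f)) (r : R ⟶ P) (hr1 : r ≫ p1 = s) (hr2 : r ≫ p2 = t) :
    IsPullback (s ≫ a) r (pullback.diagonal f)
      (pullback.lift (p1 ≫ a) (p2 ≫ a) (by simpa using sqP.w)) := by
  refine ⟨⟨?_⟩, ⟨PullbackCone.IsLimit.mk _
    (fun c => sqR.lift (c.snd ≫ p1) (c.snd ≫ p2) ?_) ?_ ?_ ?_⟩⟩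
  · apply pullback.hom_ext
    · simp only [Category.assoc, pullback.diagonal_fst, Category.comp_id, pullback.lift_fst]
      rw [reassoc_of% hr1]
    · simp only [Category.assoc, pullback.diagonal_snd, Category.comp_id, pullback.lift_snd]
      rw [reassoc_of% hr2, sqR.w]
  · have h1 := congrArg (· ≫ pullback.fst f f) c.condition
    have h2 := congrArg (· ≫ pullback.snd f f) c.condition
    simp only [Category.assoc, pullback.diagonal_fst, pullback.diagonal_snd, Category.comp_id,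
      pullback.lift_fst, pullback.lift_snd] at h1 h2
    exact (Category.assoc _ _ _).trans ((h1.symm.trans h2).trans (Category.assoc _ _ _).symm)
  · intro c
    have h1 := congrArg (· ≫ pullback.fst f f) c.condition
    simp only [Category.assoc, pullback.diagonal_fst, Category.comp_id, pullback.lift_fst] at h1
    calc sqR.lift (c.snd ≫ p1) (c.snd ≫ p2) _ ≫ s ≫ a
        = (sqR.lift (c.snd ≫ p1) (c.snd ≫ p2) _ ≫ s) ≫ a := (Category.assoc _ _ _).symm
      _ = (c.snd ≫ p1) ≫ a := by rw [sqR.lift_fst]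
      _ = c.fst := (Category.assoc _ _ _).trans h1.symm
  · intro c
    apply sqP.hom_ext
    · calc (sqR.lift (c.snd ≫ p1) (c.snd ≫ p2) _ ≫ r) ≫ p1
          = sqR.lift (c.snd ≫ p1) (c.snd ≫ p2) _ ≫ r ≫ p1 := Category.assoc _ _ _
        _ = c.snd ≫ p1 := by rw [hr1, sqR.lift_fst]
    · calc (sqR.lift (c.snd ≫ p1) (c.snd ≫ p2) _ ≫ r) ≫ p2
          = sqR.lift (c.snd ≫ p1) (c.snd ≫ p2) _ ≫ r ≫ p2 := Category.assoc _ _ _
        _ = c.snd ≫ p2 := by rw [hr2, sqR.lift_snd]
  · intro c m hm1 hm2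
    apply sqR.hom_ext
    · calc m ≫ s = m ≫ r ≫ p1 := by rw [hr1]
        _ = (m ≫ r) ≫ p1 := (Category.assoc _ _ _).symm
        _ = c.snd ≫ p1 := by rw [hm2]
        _ = _ := (sqR.lift_fst _ _ _).symm
    · calc m ≫ t = m ≫ r ≫ p2 := by rw [hr2]
        _ = (m ≫ r) ≫ p2 := (Category.assoc _ _ _).symm
        _ = c.snd ≫ p2 := by rw [hm2]
        _ = _ := (sqR.lift_snd _ _ _).symm

theorem isPullback_kernelPair_baseChange {U X V UV R RV : C} {a : U ⟶ X} {g : V ⟶ X}
    {π1 : UV ⟶ U} {u : UV ⟶ V} (sqL : IsPullback π1 u a g)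
    {s t : R ⟶ U} (sqR : IsPullback s t a a)
    {q1 : RV ⟶ R} {qV : RV ⟶ V} (sqRV : IsPullback q1 qV (s ≫ a) g)
    (sW tW : RV ⟶ UV) (hs1 : sW ≫ π1 = q1 ≫ s) (hs2 : sW ≫ u = qV)
    (ht1 : tW ≫ π1 = q1 ≫ t) (ht2 : tW ≫ u = qV) : IsPullback sW tW u u := by
  have key : ∀ (c : PullbackCone u u), (c.fst ≫ π1) ≫ a = (c.snd ≫ π1) ≫ a := fun c => by
    rw [Category.assoc, Category.assoc, sqL.w, ← Category.assoc, c.condition, Category.assoc]
  have key2 : ∀ (c : PullbackCone u u),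
      sqR.lift (c.fst ≫ π1) (c.snd ≫ π1) (key c) ≫ s ≫ a = (c.fst ≫ u) ≫ g := fun c => by
    rw [← Category.assoc, sqR.lift_fst, Category.assoc, Category.assoc, sqL.w]
  refine ⟨⟨by rw [hs2, ht2]⟩, ⟨PullbackCone.IsLimit.mk _
    (fun c => sqRV.lift (sqR.lift (c.fst ≫ π1) (c.snd ≫ π1) (key c)) (c.fst ≫ u) (key2 c))
    ?_ ?_ ?_⟩⟩
  · intro c
    apply sqL.hom_ext
    · rw [Category.assoc, hs1, ← Category.assoc, sqRV.lift_fst, sqR.lift_fst]
    · rw [Category.assoc, hs2, sqRV.lift_snd]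
  · intro c
    apply sqL.hom_ext
    · rw [Category.assoc, ht1, ← Category.assoc, sqRV.lift_fst, sqR.lift_snd]
    · rw [Category.assoc, ht2, sqRV.lift_snd, c.condition]
  · intro c m hm1 hm2
    apply sqRV.hom_ext
    · rw [sqRV.lift_fst]
      apply sqR.hom_ext
      · rw [sqR.lift_fst, Category.assoc, ← hs1, ← Category.assoc, hm1]
      · rw [sqR.lift_snd, Category.assoc, ← ht1, ← Category.assoc, hm2]
    · rw [sqRV.lift_snd, ← hs2, ← Category.assoc, hm1]

end Groth.Agent.Lib.Helper54
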