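import Groth.Agent.Lib.Helper54.AffineDescentSch
import Groth.Agent.Lib.Helper54.KernelPairLemmas
import Groth.Agent.Lib.Helper54.ClosedDescent
import Groth.Agent.Lib.Helper54.FpqcCover
import Groth.Agent.H52.LocP
import Groth.Agent.H52.QC

/-!
# fpqc descent of affine morphisms over an affine base (helper54)

A quasi-compact algebraic space `XZ`, separated over an affine scheme `Z`, which becomes an affine
scheme after base change to the members of a finite flat affine covering of `Z`, is itself an
affine scheme: the spectrum of the equalizer of `Γ(U) ⇉ Γ(U ×_XZ U)` for an affine étale chart `U`.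
-/

set_option autoImplicit false
set_option backward.isDefEq.respectTransparency false
universe u
open CategoryTheory CategoryTheory.Limits AlgebraicGeometry

namespace Groth.Agent.Lib.Helper54

open AlgSp

variable {S : Scheme.{u}}

theorem isPullback_left {A B C D : Over S} {f : A ⟶ B} {g : A ⟶ C} {h : B ⟶ D} {k : C ⟶ D}
    (sq : IsPullback f g h k) : IsPullback f.left g.left h.left k.left :=
  sq.map (Over.forget S)

/-- An affine étale chart of a quasi-compact space. -/
theorem exists_affine_etale_chart {X : Sp S} (hqc : IsQuasiCompactSp X) :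
    ∃ (U : Over S) (a : (yon S).obj U ⟶ X), IsAffine U.left ∧ RepWith @Etale a ∧
      RepWith @Surjective a := by
  obtain ⟨U₀, p₀, hp₀e, hp₀s, hU₀⟩ := hqc
  have : CompactSpace ↥U₀.left := hU₀
  obtain ⟨U', π, hU'aff, hπe, hπs⟩ := Groth.Agent.H53.exists_affine_etale_surjective U₀.left
  let U : Over S := Over.mk (π ≫ U₀.hom)
  let πO : U ⟶ U₀ := Over.homMk π rfl
  have hE : (RepWith (S := S) @Etale).IsMultiplicative := repWith_isMultiplicative _
  have hSj : (RepWith (S := S) @Surjective).IsMultiplicative := repWith_isMultiplicative _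
  refine ⟨U, (yon S).map πO ≫ p₀, hU'aff, ?_, ?_⟩
  · exact (RepWith @Etale).comp_mem _ _ ((repWith_yon_map_iff _ _).2 hπe) hp₀e
  · exact (RepWith @Surjective).comp_mem _ _ ((repWith_yon_map_iff _ _).2 hπs) hp₀s

/-- The kernel pair of a representable morphism from a scheme. -/
theorem exists_kernelPair_of_rep {U : Over S} {X : Sp S} (a : (yon S).obj U ⟶ X)
    (hr : (yon S).relativelyRepresentable a) :
    ∃ (R : Over S) (s t : R ⟶ U), IsPullback ((yon S).map s) ((yon S).map t) a a := by
  obtain ⟨s, hs⟩ := (yon S).map_surjective (hr.fst a)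
  refine ⟨hr.pullback a, s, hr.snd a, ?_⟩
  rw [hs]
  exact hr.isPullback a

/-- A finite flat affine jointly surjective family of schemes over an affine scheme is an fpqc
covering of the represented sheaf. -/
theorem isFpqcCover_yon_of_finite_flat_family {V : Over S} (hV : IsAffine V.left) {m : ℕ}
    (W : Fin m → Over S) (c : ∀ j, W j ⟶ V) (haff : ∀ j, IsAffine (W j).left)
    (hflat : ∀ j, Flat (c j).left) (hsurj : ∀ z : ↥V.left, ∃ j, z ∈ Set.range (c j).left) :
    IsFpqcCover (fun j : ULift.{u} (Fin m) => (yon S).obj (W j.down))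
      (fun j => (yon S).map (c j.down)) := by
  have : IsAffine V.left := hV
  have : ∀ j, IsAffine (W j).left := haff
  refine ⟨fun j => Groth.Agent.H52.locP_of_repWith _ @Flat
    (fun _ _ φ hφ => by have : Etale φ := hφ; infer_instance)
    ((repWith_yon_map_iff _ _).2 (hflat j.down)), ?_⟩
  intro T hT t
  have : IsAffine T.left := hT
  obtain ⟨τ, rfl⟩ := (yon S).map_surjective t
  refine exists_fin_refinement_of_finite _ _ (κ := Fin m) (fun j => pullback τ (c j))
    (fun j => pullback.fst τ (c j)) (fun j => ?_) (fun j => ?_) (fun z => ?_)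
    (fun j => ⟨⟨j⟩, (yon S).map (pullback.snd τ (c j)), ?_⟩)
  · exact IsAffine.of_isPullback (isPullback_left (IsPullback.of_hasPullback τ (c j)))
  · exact MorphismProperty.of_isPullback (P := @Flat)
      (isPullback_left (IsPullback.of_hasPullback τ (c j)).flip) (hflat j)
  · obtain ⟨j, w, hw⟩ := hsurj (τ.left z)
    obtain ⟨z', hz1, -⟩ := Groth.Agent.H52.exists_preimage_of_isPullback_yon
      ((IsPullback.of_hasPullback τ (c j)).map (yon S)) z w hw.symm
    exact ⟨j, z', hz1⟩
  · rw [← Functor.map_comp, ← Functor.map_comp, pullback.condition]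

/-- fpqc descent of affine schemes over an affine scheme, for algebraic spaces. -/
theorem exists_iso_yon_of_affine_family
    (hS10532 : IsLocalOnBase (IsFpqcCover (S := S)) (MorphismProperty.isomorphisms (Sp S)))
    {Z : Over S} (hZ : IsAffine Z.left) {XZ : Sp S} (hXZ : IsAlgSpace XZ)
    (fZ : XZ ⟶ (yon S).obj Z) (hqc : IsQuasiCompactSp XZ) (hsep : IsSeparatedMor fZ)
    {m : ℕ} (W : Fin m → Over S) (c : ∀ j, W j ⟶ Z) (haff : ∀ j, IsAffine (W j).left)
    (hflat : ∀ j, Flat (c j).left) (hsurj : ∀ z : ↥Z.left, ∃ j, z ∈ Set.range (c j).left)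
    (H : ∀ j, ∃ (Vj : Over S) (aj : (yon S).obj Vj ⟶ XZ) (vj : Vj ⟶ W j),
      IsPullback aj ((yon S).map vj) fZ ((yon S).map (c j)) ∧ IsAffine Vj.left) :
    ∃ (V : Over S) (v : V ⟶ Z) (e : (yon S).obj V ≅ XZ),
      IsAffine V.left ∧ e.hom ≫ fZ = (yon S).map v := by
  -- an affine étale chart
  obtain ⟨U, a, hUaff', hae, has⟩ := exists_affine_etale_chart hqc
  have hepi : Epi a := Groth.Agent.H52.epi_of_repWith_etale_surjective a hae has
  obtain ⟨h, hh⟩ := (yon S).map_surjective (a ≫ fZ)
  have hUaff : IsAffine U.left := hUaff'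
  have hZaff : IsAffine Z.left := hZ
  have hWaff : ∀ j, IsAffine (W j).left := haff
  -- the kernel pair of the chart
  obtain ⟨R, s, t, sqR⟩ := exists_kernelPair_of_rep a hae.rep
  have hst : s ≫ h = t ≫ h := by
    apply (yon S).map_injective
    rw [Functor.map_comp, Functor.map_comp, hh, ← Category.assoc, ← Category.assoc, sqR.w]
  -- the kernel pair is affine, `fZ` being separated
  have hRaff : IsAffine R.left := by
    have sqP := IsPullback.of_hasPullback h h
    have sqPy : IsPullback ((yon S).map (pullback.fst h h)) ((yon S).map (pullback.snd h h))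
        (a ≫ fZ) (a ≫ fZ) := by
      have := sqP.map (yon S)
      rwa [hh] at this
    let r : R ⟶ pullback h h := pullback.lift s t hst
    have hr1 : (yon S).map r ≫ (yon S).map (pullback.fst h h) = (yon S).map s := by
      rw [← Functor.map_comp, pullback.lift_fst]
    have hr2 : (yon S).map r ≫ (yon S).map (pullback.snd h h) = (yon S).map t := by
      rw [← Functor.map_comp, pullback.lift_snd]
    have sqΔ := isPullback_diagonal_of_kernelPair a fZ sqR sqPy ((yon S).map r) hr1 hr2
    have hcl : IsClosedImmersion r.left := hsep.property _ _ r sqΔ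
    have hPaff : IsAffine (pullback h h).left :=
      IsAffine.of_isPullback (isPullback_left sqP)
    exact isAffine_of_isAffineHom r.left
  -- the affine quotient
  have hst' : s.left ≫ h.left = t.left ≫ h.left := by
    have := congrArg (fun φ => φ.left) hst
    exact this
  obtain ⟨V₀, hV₀, k₀, v₀, hkv, hsk, w, ⟨hlim⟩⟩ := exists_affine_quotient h.left s.left t.left hst'
  let V : Over S := Over.mk (v₀ ≫ Z.hom)
  let v : V ⟶ Z := Over.homMk v₀ rfl
  let k : U ⟶ V := Over.homMk k₀ (by
    change k₀ ≫ v₀ ≫ Z.hom = U.hom
    rw [reassoc_of% hkv, Over.w h])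
  have hVaff : IsAffine V.left := hV₀
  have hkvO : k ≫ v = h := by
    apply Over.OverMorphism.ext
    exact hkv
  have hskO : s ≫ k = t ≫ k := by
    apply Over.OverMorphism.ext
    exact hsk
  -- the induced morphism `XZ ⟶ h_V`
  have hg : (yon S).map s ≫ (yon S).map k = (yon S).map t ≫ (yon S).map k := by
    rw [← Functor.map_comp, ← Functor.map_comp, hskO]
  obtain ⟨mm, hmm⟩ := Groth.Agent.H53.HomAff.exists_desc_of_epi a ((yon S).map s) ((yon S).map t)
    sqR ((yon S).map k) hg
  have hmv : mm ≫ (yon S).map v = fZ := by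
    rw [← cancel_epi a, ← Category.assoc, hmm, ← Functor.map_comp, hkvO, hh]
  -- it suffices to show that `mm` is an isomorphism
  suffices hiso : IsIso mm by
    refine ⟨V, v, (asIso mm).symm, hVaff, ?_⟩
    rw [← hmv]
    simp
  -- the base changes of `mm` along the covering of `V`
  have hcov := isFpqcCover_yon_of_finite_flat_family hVaff (fun j => pullback v (c j))
    (fun j => pullback.fst v (c j))
    (fun j => IsAffine.of_isPullback (isPullback_left (IsPullback.of_hasPullback v (c j))))
    (fun j => MorphismProperty.of_isPullback (P := @Flat)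
        (isPullback_left (IsPullback.of_hasPullback v (c j)).flip) (hflat j))
    (fun z => by
      obtain ⟨j, w', hw'⟩ := hsurj (v.left z)
      obtain ⟨z', hz1, -⟩ := Groth.Agent.H52.exists_preimage_of_isPullback_yon
        ((IsPullback.of_hasPullback v (c j)).map (yon S)) z w' hw'.symm
      exact ⟨j, z', hz1⟩)
  choose Vj aj vj sqVj hVjaff using H
  -- the comparison maps
  have hψex : ∀ j, ∃ ψ : Vj j ⟶ pullback v (c j),
      (yon S).map ψ ≫ (yon S).map (pullback.fst v (c j)) = aj j ≫ mm ∧
        ψ ≫ pullback.snd v (c j) = vj j := by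
    intro j
    obtain ⟨ψ1, hψ1⟩ := (yon S).map_surjective (aj j ≫ mm)
    have hcond : ψ1 ≫ v = vj j ≫ c j := by
      apply (yon S).map_injective
      rw [Functor.map_comp, Functor.map_comp, hψ1, Category.assoc, hmv, (sqVj j).w]
    refine ⟨pullback.lift ψ1 (vj j) hcond, ?_, pullback.lift_snd _ _ _⟩
    rw [← Functor.map_comp, pullback.lift_fst, hψ1]
  choose ψ hψ1 hψ2 using hψex
  have sqψ : ∀ j, IsPullback (aj j) ((yon S).map (ψ j)) mm
      ((yon S).map (pullback.fst v (c j))) := by
    intro j
    have right := ((IsPullback.of_hasPullback v (c j)).map (yon S)).flip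
    refine (IsPullback.of_right ?_ (hψ1 j) right).flip
    rw [← Functor.map_comp, hψ2, hmv]
    exact (sqVj j).flip
  have hψiso : ∀ j, IsIso (ψ j) := by
    intro j
    have : IsAffine (Vj j).left := hVjaff j
    -- the base change of the chart
    have sqO := IsPullback.of_hasPullback h (c j)
    have sqOy := sqO.map (yon S)
    have hcomm : ((yon S).map (pullback.fst h (c j)) ≫ a) ≫ fZ =
        (yon S).map (pullback.snd h (c j)) ≫ (yon S).map (c j) := by
      rw [Category.assoc, ← hh]
      exact sqOy.w
    obtain ⟨uj, huj⟩ := (yon S).map_surjective ((sqVj j).lift _ _ hcomm)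
    have hu1 : (yon S).map uj ≫ aj j = (yon S).map (pullback.fst h (c j)) ≫ a := by
      rw [huj]
      exact (sqVj j).lift_fst _ _ _
    have hu2 : (yon S).map uj ≫ (yon S).map (vj j) = (yon S).map (pullback.snd h (c j)) := by
      rw [huj]
      exact (sqVj j).lift_snd _ _ _
    have hu2' : uj ≫ vj j = pullback.snd h (c j) :=
      (yon S).map_injective (by rw [Functor.map_comp, hu2])
    have sqL : IsPullback ((yon S).map (pullback.fst h (c j))) ((yon S).map uj) a (aj j) := by
      refine IsPullback.of_bot ?_ hu1.symm (sqVj j)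
      rw [hu2, ← hh]
      exact sqOy
    have huje : Etale uj.left := hae.property _ _ uj sqL
    have hujs : Surjective uj.left := has.property _ _ uj sqL
    -- the base change of the kernel pair
    have sqRO := IsPullback.of_hasPullback (s ≫ h) (c j)
    have hsWc : (pullback.fst (s ≫ h) (c j) ≫ s) ≫ h = pullback.snd (s ≫ h) (c j) ≫ c j := by
      rw [Category.assoc]
      exact pullback.condition
    have htWc : (pullback.fst (s ≫ h) (c j) ≫ t) ≫ h = pullback.snd (s ≫ h) (c j) ≫ c j := by
      rw [Category.assoc, ← hst]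
      exact pullback.condition
    let sW : pullback (s ≫ h) (c j) ⟶ pullback h (c j) := pullback.lift _ _ hsWc
    let tW : pullback (s ≫ h) (c j) ⟶ pullback h (c j) := pullback.lift _ _ htWc
    have hs1 : sW ≫ pullback.fst h (c j) = pullback.fst (s ≫ h) (c j) ≫ s := pullback.lift_fst _ _ _
    have hs2 : sW ≫ pullback.snd h (c j) = pullback.snd (s ≫ h) (c j) := pullback.lift_snd _ _ _
    have ht1 : tW ≫ pullback.fst h (c j) = pullback.fst (s ≫ h) (c j) ≫ t := pullback.lift_fst _ _ _
    have ht2 : tW ≫ pullback.snd h (c j) = pullback.snd (s ≫ h) (c j) := pullback.lift_snd _ _ _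
    -- `R_j = R ×_XZ V_j`
    have hsu : (yon S).map (sW ≫ uj) ≫ aj j =
        (yon S).map (pullback.fst (s ≫ h) (c j)) ≫ (yon S).map s ≫ a := by
      have e1 : (yon S).map (sW ≫ uj) ≫ aj j =
          (yon S).map sW ≫ (yon S).map (pullback.fst h (c j)) ≫ a := by
        rw [Functor.map_comp, Category.assoc, hu1]
      have e2 : (yon S).map sW ≫ (yon S).map (pullback.fst h (c j)) =
          (yon S).map (pullback.fst (s ≫ h) (c j)) ≫ (yon S).map s := by
        rw [← Functor.map_comp, hs1, Functor.map_comp]
      rw [e1, ← Category.assoc, e2, Category.assoc]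
    have htu : (yon S).map (tW ≫ uj) ≫ aj j =
        (yon S).map (pullback.fst (s ≫ h) (c j)) ≫ (yon S).map s ≫ a := by
      have e1 : (yon S).map (tW ≫ uj) ≫ aj j =
          (yon S).map tW ≫ (yon S).map (pullback.fst h (c j)) ≫ a := by
        rw [Functor.map_comp, Category.assoc, hu1]
      have e2 : (yon S).map tW ≫ (yon S).map (pullback.fst h (c j)) =
          (yon S).map (pullback.fst (s ≫ h) (c j)) ≫ (yon S).map t := by
        rw [← Functor.map_comp, ht1, Functor.map_comp]
      rw [e1, ← Category.assoc, e2, Category.assoc, sqR.w]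
    have hstu : tW ≫ uj = sW ≫ uj := by
      apply (yon S).map_injective
      apply (sqVj j).hom_ext
      · rw [htu, hsu]
      · rw [← Functor.map_comp, ← Functor.map_comp, Category.assoc, Category.assoc, hu2', hs2, ht2]
    have sqRV : IsPullback ((yon S).map (pullback.fst (s ≫ h) (c j))) ((yon S).map (sW ≫ uj))
        ((yon S).map s ≫ a) (aj j) := by
      refine IsPullback.of_bot ?_ hsu.symm (sqVj j)
      have := sqRO.map (yon S)
      rw [Functor.map_comp, hh, ← Category.assoc] at this
      rw [← Functor.map_comp, Category.assoc, hu2', hs2]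
      exact this
    have sqK : IsPullback ((yon S).map sW) ((yon S).map tW) ((yon S).map uj) ((yon S).map uj) :=
      isPullback_kernelPair_baseChange sqL sqR sqRV ((yon S).map sW) ((yon S).map tW)
        (by rw [← Functor.map_comp, hs1, Functor.map_comp])
        (by rw [← Functor.map_comp])
        (by rw [← Functor.map_comp, ht1, Functor.map_comp])
        (by rw [← Functor.map_comp, hstu])
    have sqK' : IsPullback sW.left tW.left uj.left uj.left :=
      isPullback_left (IsPullback.of_map (yon S) (by rw [hstu]) sqK)
    have : Flat (c j).left := hflat j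
    have : Etale uj.left := huje
    have : Flat uj.left := inferInstance
    have : Surjective uj.left := hujs
    have hψl : IsIso (ψ j).left := by
      refine isIso_of_affine_quotient_baseChange h.left s.left t.left hst' (c j).left k₀ v₀ hkv w
        hlim (isPullback_left sqO) (isPullback_left sqRO)
        (isPullback_left (IsPullback.of_hasPullback v (c j))) sW.left tW.left
        (congrArg (fun φ => φ.left) hs1) (congrArg (fun φ => φ.left) hs2)
        (congrArg (fun φ => φ.left) ht1) (congrArg (fun φ => φ.left) ht2) uj.left sqK' (ψ j).left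
        ?_ ?_
      · have e : uj ≫ ψ j ≫ pullback.fst v (c j) = pullback.fst h (c j) ≫ k := by
          apply (yon S).map_injective
          rw [Functor.map_comp, Functor.map_comp, hψ1, ← Category.assoc, hu1, Category.assoc, hmm,
            Functor.map_comp]
        exact congrArg (fun φ => φ.left) e
      · have e : uj ≫ ψ j ≫ pullback.snd v (c j) = pullback.snd h (c j) := by
          rw [hψ2, hu2']
        exact congrArg (fun φ => φ.left) e
    have : IsIso ((Over.forget S).map (ψ j)) := hψl
    exact isIso_of_reflects_iso _ (Over.forget S)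
  have hloc := hS10532 (ι := ULift.{u} (Fin m)) (fun j => (yon S).obj (pullback v (c j.down)))
    (fun j => (yon S).map (pullback.fst v (c j.down))) (IsAlgSpace.yon_obj V)
    (fun j => IsAlgSpace.yon_obj _) hcov mm hXZ (fun j => (yon S).obj (Vj j.down))
    (fun j => (yon S).map (ψ j.down)) (fun j => aj j.down) (fun j => IsAlgSpace.yon_obj _)
    (fun j => sqψ j.down)
  refine hloc.2 (fun j => ?_)
  have := hψiso j.down
  change IsIso ((yon S).map (ψ j.down))
  infer_instance

end Groth.Agent.Lib.Helper54
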