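import Groth.Agent.Lib.Helper54.LqfSepScheme
import Groth.Agent.H53.Unram2
import Groth.Agent.H53.Integral
import Groth.Agent.H52.FormalUnramChart
import Mathlib.AlgebraicGeometry.ZariskisMainTheorem

/-!
# Unramified monomorphisms and closed immersions of algebraic spaces (helper54)

Characterisations of unramified monomorphisms (S10613) and of closed immersions (S10614).
-/

set_option autoImplicit false
set_option backward.isDefEq.respectTransparency false
universe u
open CategoryTheory CategoryTheory.Limits AlgebraicGeometry

namespace Groth.Agent.Lib.Helper54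
open AlgSp
variable {S : Scheme.{u}}

/-- A monomorphism of sheaves is formally unramified (lifting sense). -/
theorem isFormallyUnramifiedMor_of_mono {X Y : Sp S} (f : X ⟶ Y) [Mono f] :
    IsFormallyUnramifiedMor f :=
  fun _ _ _ _ h2 _ h4 => (cancel_mono f).1 (h2.trans h4.symm)

/-- A monomorphism of sheaves is injective on field valued points. -/
theorem kInj_of_mono {X Y : Sp S} (f : X ⟶ Y) [Mono f] : Groth.Agent.H52.KInj f :=
  fun _ _ _ _ _ hab => (cancel_mono f).1 hab

/-- A monomorphism of sheaves is universally injective. -/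
theorem isUnivInjectiveMor_of_mono {X Y : Sp S} (f : X ⟶ Y) [Mono f] : IsUnivInjectiveMor f :=
  (kInj_of_mono f).isUnivInjectiveMor

/-- A monomorphism locally of finite type is unramified. -/
theorem locP_unramified_of_mono {X Y : Sp S} (hX : IsAlgSpace X) (hY : IsAlgSpace Y) (f : X ⟶ Y)
    [Mono f] (h : LocP @LocallyOfFiniteType f) :
    LocP (@LocallyOfFiniteType ⊓ @FormallyUnramified) f := by
  have h2 := (Groth.Agent.H52.isFormallyUnramifiedMor_iff_locP hX hY f).1
    (isFormallyUnramifiedMor_of_mono f)
  intro U V a b h' ha hb w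
  exact ⟨h a b h' ha hb w, h2 a b h' ha hb w⟩

/-- An unramified, universally injective morphism of algebraic spaces is a monomorphism. -/
theorem mono_of_unramified_of_isUnivInjectiveMor {X Y : Sp S} (hX : IsAlgSpace X)
    (hY : IsAlgSpace Y) (f : X ⟶ Y) (hunr : LocP (@LocallyOfFiniteType ⊓ @FormallyUnramified) f)
    (hinj : IsUnivInjectiveMor f) : Mono f := by
  have hΔo := Groth.Agent.H53.repWith_isOpenImmersion_diagonal_of_unramified hX hY f hunr
  have hΔs : RepWith @Surjective (pullback.diagonal f) :=
    Groth.Agent.H52.repWith_surjective_of_surjective_points _ hΔo.rep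
      (Groth.Agent.H52.isSurjectiveMor_diagonal_of_isUnivInjectiveMor hX f hinj)
  have hΔi : RepWith (MorphismProperty.isomorphisms Scheme.{u}) (pullback.diagonal f) :=
    ⟨hΔo.rep, fun A B g fst snd sq => by
      have h1 : IsOpenImmersion snd.left := hΔo.property g fst snd sq
      have h2 : Surjective snd.left := hΔs.property g fst snd sq
      exact (isIso_iff_isOpenImmersion_and_surjective _).2 ⟨h1, h2⟩⟩
  have : IsIso (pullback.diagonal f) := Groth.Agent.H53.isIso_of_repWith_isomorphisms _ hΔi
  exact (pullback.isIso_diagonal_iff f).1 this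

/-- An unramified morphism is locally quasi-finite. -/
theorem locP_lqf_of_unramified {X Y : Sp S} (f : X ⟶ Y)
    (hunr : LocP (@LocallyOfFiniteType ⊓ @FormallyUnramified) f) :
    LocP (@LocallyQuasiFinite ⊓ @LocallyOfFiniteType) f := by
  intro U V a b h ha hb w
  obtain ⟨h1, h2⟩ := hunr a b h ha hb w
  have : LocallyOfFiniteType h.left := h1
  have : FormallyUnramified h.left := h2
  exact ⟨Groth.Agent.H53.locallyQuasiFinite_of_formallyUnramified h.left, h1⟩

/-- A monomorphism locally of finite type is representable, separated and locally quasi-finite. -/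
theorem representable_of_mono_lft {X Y : Sp S} (hX : IsAlgSpace X) (hY : IsAlgSpace Y) (f : X ⟶ Y)
    [Mono f] (h : LocP @LocallyOfFiniteType f) :
    Representable f ∧ IsSeparatedMor f ∧ LocP (@LocallyQuasiFinite ⊓ @LocallyOfFiniteType) f := by
  have hsep : IsSeparatedMor f := Groth.Agent.H52.isSeparatedMor_of_repWith_mono f
  have hqf := locP_lqf_of_unramified f (locP_unramified_of_mono hX hY f h)
  exact ⟨representable_of_lqf_separated hX hY f hqf hsep, hsep, hqf⟩

/-- A universally closed monomorphism locally of finite type is a closed immersion. -/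
theorem repWith_isClosedImmersion_of_univClosed_mono_lft {X Y : Sp S} (hX : IsAlgSpace X)
    (hY : IsAlgSpace Y) (f : X ⟶ Y) [Mono f] (hlft : LocP @LocallyOfFiniteType f)
    (huc : IsUnivClosedMor f) : RepWith @IsClosedImmersion f := by
  obtain ⟨hrep, -, -⟩ := representable_of_mono_lft hX hY f hlft
  refine ⟨hrep, fun T V g fst snd sq => ?_⟩
  have hm1 : Mono ((yon S).map snd) := sq.mono_snd_of_mono
  have hm2 : Mono snd := (yon S).mono_of_mono_map hm1
  have hm3 : Mono snd.left := inferInstance
  have hloc : LocP @LocallyOfFiniteType ((yon S).map snd) :=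
    Groth.Agent.H53.locP_snd_of_yon Groth.Agent.H53.locPCalc_locallyOfFiniteType hX hY hlft g sq
  have hlft' : LocallyOfFiniteType snd.left :=
    hloc (𝟙 _) (𝟙 _) snd (repWith_id _ V) (repWith_id _ T) (by simp)
  have huc' : UniversallyClosed snd.left :=
    Groth.Agent.H53.universallyClosed_of_isUnivClosedMor snd
      (Groth.Agent.H53.univSp_of_isPullback _ sq huc)
  have hprop : IsProper snd.left := {}
  exact (IsClosedImmersion.iff_isProper_and_mono _).2 ⟨hprop, hm3⟩

/-- A closed immersion is a monomorphism, unramified and universally closed. -/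
theorem mono_lft_of_repWith_isClosedImmersion {X Y : Sp S} (hX : IsAlgSpace X) (hY : IsAlgSpace Y)
    (f : X ⟶ Y) (hf : RepWith @IsClosedImmersion f) :
    IsUnivClosedMor f ∧ LocP @LocallyOfFiniteType f ∧ Mono f := by
  refine ⟨Groth.Agent.H53.isUnivClosedMor_of_repWith_isClosedImmersion f hf, ?_, ?_⟩
  · refine Groth.Agent.H52.locP_of_repWith f @LocallyOfFiniteType
      (fun _ _ φ hφ => by have := hφ; infer_instance) (Groth.Agent.H53.repWith_of_le ?_ hf)
    intro A B φ hφ
    have := hφ
    infer_instance
  · exact Groth.Agent.H52.mono_of_repWith f @IsClosedImmersion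
      (fun _ _ φ hφ => by have := hφ; infer_instance) hf

end Groth.Agent.Lib.Helper54
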