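import Groth.Agent.Lib.Helper54.LqfSepScheme
import Groth.Agent.H53.ZarGlueInt
import Groth.Agent.H53.Integral
import Groth.Agent.H53.Finite
import Groth.Agent.H53.CodimQF3
import Groth.Agent.H52.LqfDisc2
import Mathlib.AlgebraicGeometry.ZariskisMainTheorem

/-!
# Finite = proper + locally quasi-finite for algebraic spaces (helper54)

* `isFiniteMor_of_univClosed_sep_lqf`: universally closed, separated and locally quasi-finite
  morphisms are finite (via representability of separated locally quasi-finite morphisms).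
* `exists_open_finite_of_proper_of_qf_fibre`: a proper morphism which is quasi-finite at all points
  of a fibre is finite over an open neighbourhood of the point of the base.
-/

set_option autoImplicit false
set_option backward.isDefEq.respectTransparency false
universe u
open CategoryTheory CategoryTheory.Limits AlgebraicGeometry

namespace Groth.Agent.Lib.Helper54
open AlgSp
variable {S : Scheme.{u}}

/-- Universally closed + separated + locally quasi-finite ⇒ finite. -/
theorem isFiniteMor_of_univClosed_sep_lqf {X Y : Sp S} (hX : IsAlgSpace X) (hY : IsAlgSpace Y)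
    (f : X ⟶ Y) (huc : IsUnivClosedMor f) (hsep : IsSeparatedMor f)
    (hqf : LocP (@LocallyQuasiFinite ⊓ @LocallyOfFiniteType) f) : IsFiniteMor f := by
  rw [Groth.Agent.H53.ZarGlue.isFiniteMor_iff_repWith]
  have hrep : Representable f := representable_of_lqf_separated hX hY f hqf hsep
  refine ⟨hrep, fun T V g fst snd sq => ?_⟩
  have h1 : UniversallyClosed snd.left :=
    Groth.Agent.H53.universallyClosed_of_isUnivClosedMor snd
      (Groth.Agent.H53.univSp_of_isPullback _ sq huc)
  have h2 : IsSeparated snd.left :=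
    (isSeparatedMor_yon_map_iff snd).1
      (Groth.Agent.H52.repWith_diagonal_of_isPullback @IsClosedImmersion sq hsep)
  have hloc : LocP (@LocallyQuasiFinite ⊓ @LocallyOfFiniteType) ((yon S).map snd) :=
    Groth.Agent.H52.isEtLocal_lqf_lft.locP_of_isPullback hX hY (IsAlgSpace.yon_obj T) sq hqf
  obtain ⟨h3, h4⟩ := hloc (𝟙 _) (𝟙 _) snd (repWith_id _ V) (repWith_id _ T) (by simp)
  have h3' : LocallyQuasiFinite snd.left := h3
  have h4' : LocallyOfFiniteType snd.left := h4
  have h5 : IsProper snd.left := { }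
  exact IsFinite.of_isProper_of_locallyQuasiFinite snd.left

/-- A finite morphism is locally quasi-finite. -/
theorem locP_lqf_of_isFiniteMor {X Y : Sp S} (f : X ⟶ Y) (h : IsFiniteMor f) :
    LocP (@LocallyQuasiFinite ⊓ @LocallyOfFiniteType) f := by
  have hr : RepWith @IsFinite f := (Groth.Agent.H53.ZarGlue.isFiniteMor_iff_repWith _).1 h
  refine Groth.Agent.H52.locP_of_repWith f
    (@LocallyQuasiFinite ⊓ @LocallyOfFiniteType : MorphismProperty Scheme.{u}) ?_
    (Groth.Agent.H53.repWith_of_le ?_ hr)
  · intro A B φ hφ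
    have := hφ
    exact ⟨Groth.Agent.H53.locallyQuasiFinite_of_formallyUnramified φ, inferInstance⟩
  · intro A B φ hφ
    have : IsFinite φ := hφ
    exact ⟨inferInstance, inferInstance⟩

/-- A morphism locally of finite type which is quasi-finite at all points is locally
quasi-finite. -/
theorem locallyQuasiFinite_of_forall_quasiFiniteAt {X Y : Scheme.{u}} (f : X ⟶ Y)
    [LocallyOfFiniteType f] (H : ∀ x : X, f.QuasiFiniteAt x) : LocallyQuasiFinite f := by
  rw [← Scheme.Hom.quasiFiniteLocus_eq_top_iff]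
  refine top_le_iff.1 fun x _ => ?_
  exact Scheme.Hom.mem_quasiFiniteLocus.2 (H x)

/-- The locus of points where a morphism of algebraic spaces is quasi-finite is open. -/
theorem isOpen_qfLocus {X Y : Sp S} (f : X ⟶ Y) :
    IsOpen {x : Points X | HasAtMor Groth.Agent.H53.CodimQF.QF f x} := by
  rw [isOpen_iff_forall_mem_open]
  rintro x ⟨U₀, V₀, a₀, b₀, h, u₀, ha₀, hb₀, comm, hx, W, hu₀W, hlqf, hlft⟩
  refine ⟨Points.map a₀ '' (Points.schemeHomeo U₀ '' (W : Set ↥U₀.left)), ?_, ?_, ?_⟩
  · rintro _ ⟨_, ⟨w, hw, rfl⟩, rfl⟩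
    refine ⟨U₀, V₀, a₀, b₀, h, w, ha₀, hb₀, comm, ?_, W, hw, hlqf, hlft⟩
    exact Points.ofPt_eq_map_ofScheme a₀ w
  · exact Groth.Agent.H52.isOpenMap_points_of_etale a₀ ha₀ _
      ((Points.schemeHomeo U₀).isOpenMap _ W.2)
  · refine ⟨_, ⟨u₀, hu₀W, rfl⟩, ?_⟩
    rw [← hx]
    exact (Points.ofPt_eq_map_ofScheme a₀ u₀).symm

/-- A proper morphism which is quasi-finite at all points over `y` is finite over an open
neighbourhood of `y` (sheaf-level form of S10650). -/
theorem exists_open_finite_of_proper_of_qf_fibre {X Y : Sp S} (hX : IsAlgSpace X)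
    (hY : IsAlgSpace Y) (f : X ⟶ Y) (y : Points Y) (hf : IsProperMor f)
    (hq : ∀ x : Points X, Points.map f x = y → HasAtMor Groth.Agent.H53.CodimQF.QF f x) :
    ∃ (V : Sp S) (j : V ⟶ Y), IsAlgSpace V ∧ RepWith @IsOpenImmersion j ∧
      y ∈ Set.range (Points.map j) ∧
      ∀ (P : Sp S) (fst : P ⟶ X) (snd : P ⟶ V), IsPullback fst snd f j → IsFiniteMor snd := by
  have hE : (RepWith (S := S) @Etale).IsMultiplicative := repWith_isMultiplicative _
  have hcl : IsClosedMap (Points.map f) := Groth.Agent.H53.univSp_self _ hY hf.2.2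
  have hopen : IsOpen (Points.map f '' {x : Points X | HasAtMor Groth.Agent.H53.CodimQF.QF f x}ᶜ)ᶜ :=
    (hcl _ (isOpen_qfLocus f).isClosed_compl).isOpen_compl
  obtain ⟨V, j, hV, hjm, hjo, hjr⟩ := Groth.Agent.H52.exists_open_subspace_of_isOpen hY _ hopen
  refine ⟨V, j, hV, hjo, ?_, ?_⟩
  · rw [hjr]
    rintro ⟨x, hx1, hx2⟩
    exact hx1 (hq x hx2)
  · intro P fst snd sq
    have hP : IsAlgSpace P := Groth.Agent.H52.isAlgSpace_of_isPullback sq hX hY hV
    have hsndp : IsProperMor snd := Groth.Agent.H53.isProperMor_of_isPullback hX hY hV sq hf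
    have hje : RepWith @Etale j := Groth.Agent.H53.repWith_of_le
      (fun _ _ φ hφ => by have : IsOpenImmersion φ := hφ; infer_instance) hjo
    have hfste : RepWith @Etale fst := MorphismProperty.of_isPullback sq.flip hje
    have hloc : LocP (@LocallyQuasiFinite ⊓ @LocallyOfFiniteType) snd := by
      intro U V' a b h ha hb comm
      have ha' : RepWith @Etale (a ≫ fst) := (RepWith (S := S) @Etale).comp_mem _ _ ha hfste
      have hb' : RepWith @Etale (b ≫ j) := (RepWith (S := S) @Etale).comp_mem _ _ hb hje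
      have comm' : (a ≫ fst) ≫ f = (yon S).map h ≫ b ≫ j := by
        rw [Category.assoc, sq.w, ← Category.assoc, comm, Category.assoc]
      have hlft : LocallyOfFiniteType h.left := hf.2.1.1 (a ≫ fst) (b ≫ j) h ha' hb' comm'
      refine ⟨?_, hlft⟩
      apply locallyQuasiFinite_of_forall_quasiFiniteAt
      intro u
      refine Groth.Agent.H53.CodimQF.quasiFiniteAt_of_hasAtMor f hf.2.1.1 (a ≫ fst) (b ≫ j) h
        ha' hb' comm' u ?_
      by_contra hn
      have hmem : Points.map f (Points.ofPt (a ≫ fst) u) ∈ Set.range (Points.map j) := by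
        rw [Points.map_ofPt, comm', ← Category.assoc, ← Points.map_ofPt]
        exact ⟨_, rfl⟩
      rw [hjr] at hmem
      exact hmem ⟨_, hn, rfl⟩
    exact isFiniteMor_of_univClosed_sep_lqf hP hV snd hsndp.2.2 hsndp.1 hloc

end Groth.Agent.Lib.Helper54
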