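import Groth.Agent.H53.EtaleResidue
import Groth.Agent.Lib.Helper54.MonoPoint
import Mathlib.AlgebraicGeometry.Morphisms.FlatMono

/-!
# Schemes étale over a field: residue field points are open immersions, and monomorphisms into them are open immersions
-/

set_option autoImplicit false
set_option backward.isDefEq.respectTransparency false
universe u
open AlgebraicGeometry CategoryTheory CategoryTheory.Limits

namespace Groth.Agent.Lib.Helper54

/-- For a scheme étale over a field, the inclusions of the residue field points are étale. -/
theorem etale_fromSpecResidueField_of_etale {K : Type u} [Field K] {A : Scheme.{u}}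
    (β : A ⟶ Spec (CommRingCat.of K)) [Etale β] (a : ↥A) : Etale (A.fromSpecResidueField a) := by
  let r : CommRingCat.of K ⟶ A.residueField a := Spec.preimage (A.fromSpecResidueField a ≫ β)
  have hr : Spec.map r = A.fromSpecResidueField a ≫ β := Spec.map_preimage _
  obtain ⟨hfin, hsep⟩ := Groth.Agent.H53.finite_separable_residueField_of_etale β a r.hom hr
  let _ := r.hom.toAlgebra
  have h1 : Algebra.FormallyEtale K (A.residueField a) := Algebra.FormallyEtale.of_isSeparable K _
  have h2 : Algebra.FinitePresentation K (A.residueField a) :=
    Algebra.FinitePresentation.of_finiteType.mp inferInstance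
  have h3 : Algebra.Etale K (A.residueField a) := ⟨h1, h2⟩
  have h4 : r.hom.Etale := by
    have : (algebraMap K (A.residueField a)).Etale := RingHom.etale_algebraMap.2 h3
    exact this
  have h5 : Etale (Spec.map r) := HasRingHomProperty.Spec_iff.mpr h4
  have h6 : Etale (A.fromSpecResidueField a ≫ β) := by rw [← hr]; exact h5
  exact Etale.of_comp (A.fromSpecResidueField a) β

/-- For a scheme étale over a field, the inclusions of the residue field points are open immersions. -/
theorem isOpenImmersion_fromSpecResidueField_of_etale {K : Type u} [Field K] {A : Scheme.{u}}
    (β : A ⟶ Spec (CommRingCat.of K)) [Etale β] (a : ↥A) : IsOpenImmersion (A.fromSpecResidueField a) := by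
  have := etale_fromSpecResidueField_of_etale β a
  exact IsOpenImmersion.of_flat_of_mono _

/-- The open cover of a scheme étale over a field by its residue field points. -/
noncomputable def residueCoverOfEtale {K : Type u} [Field K] {A : Scheme.{u}}
    (β : A ⟶ Spec (CommRingCat.of K)) [Etale β] : A.OpenCover :=
  Scheme.Cover.mkOfCovers ↥A (fun a => Spec (A.residueField a)) (fun a => A.fromSpecResidueField a)
    (fun a => ⟨a, IsLocalRing.closedPoint _, Scheme.fromSpecResidueField_apply _ _⟩)
    (fun a => isOpenImmersion_fromSpecResidueField_of_etale β a)

/-- A monomorphism into a scheme étale over a field is an open immersion. -/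
theorem isOpenImmersion_of_mono_of_etale_field {K : Type u} [Field K] {A W : Scheme.{u}}
    (β : A ⟶ Spec (CommRingCat.of K)) [Etale β] (j : W ⟶ A) [Mono j] : IsOpenImmersion j := by
  rw [IsZariskiLocalAtTarget.iff_of_openCover (P := @IsOpenImmersion) (residueCoverOfEtale β)]
  intro a
  change IsOpenImmersion (pullback.snd j (A.fromSpecResidueField a))
  by_cases h : Nonempty ↥(pullback j (A.fromSpecResidueField a))
  · have : IsIso (pullback.snd j (A.fromSpecResidueField a)) :=
      isIso_of_mono_of_nonempty_of_field (L := A.residueField a) _
    infer_instance
  · have : IsEmpty ↥(pullback j (A.fromSpecResidueField a)) := not_nonempty_iff.1 h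
    infer_instance

end Groth.Agent.Lib.Helper54
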