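import Groth.Agent.Lib.Helper54.LargestOpen
import Groth.Prelude.Def_AlgSpInf

/-!
# Open subspaces of thickenings
-/

set_option autoImplicit false
universe u
open CategoryTheory CategoryTheory.Limits AlgebraicGeometry
open AlgSp

namespace Groth.Agent.Lib.Helper54

variable {S : Scheme.{u}}

/-- Two open immersions with the same image on points are isomorphic over the target. -/
theorem exists_iso_of_range_eq {A B C : Sp S} (j₁ : A ⟶ C) (j₂ : B ⟶ C) (h₁ : RepWith @IsOpenImmersion j₁)
    (h₂ : RepWith @IsOpenImmersion j₂) (h : Set.range (Points.map j₁) = Set.range (Points.map j₂)) :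
    ∃ e : A ≅ B, e.hom ≫ j₂ = j₁ := by
  obtain ⟨a, ha⟩ := Groth.Agent.H53.exists_factor_of_range_subset j₂ h₂ j₁ h.le
  obtain ⟨b, hb⟩ := Groth.Agent.H53.exists_factor_of_range_subset j₁ h₁ j₂ h.ge
  have := mono_of_isOpenImmersion j₁ h₁
  have := mono_of_isOpenImmersion j₂ h₂
  refine ⟨⟨a, b, ?_, ?_⟩, ha⟩
  · rw [← cancel_mono j₁, Category.assoc, hb, ha, Category.id_comp]
  · rw [← cancel_mono j₂, Category.assoc, ha, hb, Category.id_comp]

/-- The image on points of the first projection of a pullback square is the preimage of the image of the other leg. -/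
theorem range_fst_of_isPullback {X Y Z P : Sp S} {f : X ⟶ Y} {g : Z ⟶ Y} {fst : P ⟶ X} {snd : P ⟶ Z}
    (sq : IsPullback fst snd f g) :
    Set.range (Points.map fst) = Points.map f ⁻¹' Set.range (Points.map g) := by
  ext x
  constructor
  · rintro ⟨p, rfl⟩
    refine ⟨Points.map snd p, ?_⟩
    rw [← Points.map_comp, ← Points.map_comp, sq.w]
  · rintro ⟨z, hz⟩
    obtain ⟨p, hp, -⟩ := exists_point_of_isPullback sq x z hz.symm
    exact ⟨p, hp⟩

theorem injective_points_of_isThickMor {X X' : Sp S} (i : X ⟶ X') (hi : IsThickMor i) :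
    Function.Injective (Points.map i) :=
  Groth.Agent.H53.injective_points_of_repWith i thick
    (fun _ _ φ hφ => by have : IsClosedImmersion φ := hφ.1; exact φ.isClosedEmbedding.injective) hi

theorem surjective_points_of_isThickMor {X X' : Sp S} (i : X ⟶ X') (hi : IsThickMor i) :
    Function.Surjective (Points.map i) :=
  Groth.Agent.H52.surjective_points_of_repWith_surjective i
    ⟨hi.rep, fun _ _ g fst snd sq => (hi.property g fst snd sq).2⟩

theorem isClosedMap_points_of_isThickMor {X X' : Sp S} (i : X ⟶ X') (hi : IsThickMor i) :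
    IsClosedMap (Points.map i) :=
  Groth.Agent.H52.isClosedMap_points_of_repWith i thick
    (fun _ _ φ hφ => by have : IsClosedImmersion φ := hφ.1; exact φ.isClosedEmbedding.isClosedMap) hi

/-- A thickening is open on points. -/
theorem isOpenMap_points_of_isThickMor {X X' : Sp S} (i : X ⟶ X') (hi : IsThickMor i) :
    IsOpenMap (Points.map i) := by
  intro A hA
  have : Points.map i '' A = (Points.map i '' Aᶜ)ᶜ :=
    (Set.image_compl_eq ⟨injective_points_of_isThickMor i hi, surjective_points_of_isThickMor i hi⟩).symm ▸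
      (compl_compl _).symm
  rw [this, isOpen_compl_iff]
  exact isClosedMap_points_of_isThickMor i hi _ hA.isClosed_compl

/-- Open subspaces lift along thickenings. -/
theorem exists_open_of_isThickMor {X X' U : Sp S} (hX : IsAlgSpace X) (hX' : IsAlgSpace X') (hU : IsAlgSpace U)
    (i : X ⟶ X') (hi : IsThickMor i) (u : U ⟶ X) (hu : RepWith @IsOpenImmersion u) :
    ∃ (U' : Sp S) (u' : U' ⟶ X') (k : U ⟶ U'), IsAlgSpace U' ∧ RepWith @IsOpenImmersion u' ∧
      IsPullback u k i u' := by
  have hW : IsOpen (Points.map i '' Set.range (Points.map u)) :=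
    isOpenMap_points_of_isThickMor i hi _
      (covClass_etale.isOpenMap hU hX u (isEtaleMor_of_repWith_isOpenImmersion hu)).isOpen_range
  have hu' := repWith_isOpenImmersion_openSubι X' _ hW
  have sqP := IsPullback.of_hasPullback i (openSubι X' (Points.map i '' Set.range (Points.map u)))
  have hfst : RepWith @IsOpenImmersion (pullback.fst i (openSubι X' (Points.map i '' Set.range (Points.map u)))) :=
    MorphismProperty.of_isPullback sqP.flip hu'
  have hr : Set.range (Points.map u) =
      Set.range (Points.map (pullback.fst i (openSubι X' (Points.map i '' Set.range (Points.map u))))) := by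
    rw [range_fst_of_isPullback sqP, range_points_map_openSubι,
      Set.preimage_image_eq _ (injective_points_of_isThickMor i hi)]
  obtain ⟨e, he⟩ := exists_iso_of_range_eq u _ hu hfst hr
  refine ⟨_, openSubι X' _, e.hom ≫ pullback.snd _ _, isAlgSpace_openSub hX' _ hW, hu', ?_⟩
  exact IsPullback.of_iso sqP e.symm (Iso.refl _) (Iso.refl _) (Iso.refl _)
    (by simp [← he]) (by simp) (by simp) (by simp)

/-- Uniqueness of the open subspace lifting a given one along a thickening. -/
theorem exists_iso_of_isThickMor {X X' U U₁ U₂ : Sp S} (i : X ⟶ X') (hi : IsThickMor i) (u : U ⟶ X)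
    (u₁ : U₁ ⟶ X') (u₂ : U₂ ⟶ X') (k₁ : U ⟶ U₁) (k₂ : U ⟶ U₂)
    (h₁ : RepWith @IsOpenImmersion u₁) (sq₁ : IsPullback u k₁ i u₁)
    (h₂ : RepWith @IsOpenImmersion u₂) (sq₂ : IsPullback u k₂ i u₂) :
    ∃ e : U₁ ≅ U₂, e.hom ≫ u₂ = u₁ := by
  refine exists_iso_of_range_eq u₁ u₂ h₁ h₂ ?_
  have hs := surjective_points_of_isThickMor i hi
  rw [← Set.image_preimage_eq (Set.range (Points.map u₁)) hs,
    ← Set.image_preimage_eq (Set.range (Points.map u₂)) hs,
    ← range_fst_of_isPullback sq₁, ← range_fst_of_isPullback sq₂]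

end Groth.Agent.Lib.Helper54
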