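import Groth.Agent.H53.FibrePts5
import Groth.Agent.H53.ZarGlueMax
import Groth.Agent.H52.Descent
import Groth.Agent.Lib.Helper54.EtaleField
import Groth.Agent.Lib.Helper54.Thick
import Groth.Agent.Lib.Helper54.Points
import Groth.Agent.Lib.Helper54.OpenSubspace

/-!
# An algebraic space étale over a field is a scheme
-/

set_option autoImplicit false
set_option backward.isDefEq.respectTransparency false
universe u
open AlgebraicGeometry CategoryTheory CategoryTheory.Limits Topology
open AlgSp

namespace Groth.Agent.Lib.Helper54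

variable {S : Scheme.{u}}

/-- An algebraic space all of whose points lie in the schematic locus is a scheme. -/
theorem isRepresentable_of_schematicLocus_eq_univ {X : Sp S} (hX : IsAlgSpace X)
    (h : Groth.Agent.H53.ZarGlue.schematicLocus X = Set.univ) : X.obj.IsRepresentable := by
  obtain ⟨Y, ⟨e⟩⟩ := Groth.Agent.H53.ZarGlue.exists_iso_yon_openSub_schematicLocus hX
  rw [h] at e
  have h1 : RepWith @IsOpenImmersion (openSubι X Set.univ) :=
    repWith_isOpenImmersion_openSubι X _ isOpen_univ
  have h2 : RepWith @IsOpenImmersion (𝟙 X) := Groth.Agent.H52.repWith_of_isIso _ _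
  obtain ⟨e', -⟩ := exists_iso_of_range_eq (openSubι X Set.univ) (𝟙 X) h1 h2 (by
    rw [range_points_map_openSubι]
    symm
    rw [Set.eq_univ_iff_forall]
    intro x
    exact ⟨x, by rw [Points.map_id]⟩)
  exact (representableByOfIso (e ≪≫ e')).isRepresentable

/-- S10206: an algebraic space étale over the spectrum of a field is a scheme. -/
theorem isRepresentable_of_isEtaleMor_field {X : Sp S} (hX : IsAlgSpace X) {k : Type u} [Field k]
    (str : Spec (CommRingCat.of k) ⟶ S) (f : X ⟶ (yon S).obj (Over.mk str)) (hf : IsEtaleMor f) :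
    X.obj.IsRepresentable := by
  have hdec : IsDecent X := Groth.Agent.H53.FibrePts.isDecent_of_isEtaleMor hX (IsAlgSpace.yon_obj _) f hf
    (isDecent_yon_obj _)
  apply isRepresentable_of_schematicLocus_eq_univ hX
  rw [Set.eq_univ_iff_forall]
  intro x
  obtain ⟨p, hp, hm, -⟩ := hdec x
  have hrep : Representable p.toHom := hX.representable_from_yon p.toHom
  obtain ⟨U, a, hae, has⟩ := hX.atlas
  obtain ⟨T, c, d, sq0⟩ : ∃ (T : Over S) (c : T ⟶ p.pt) (d : T ⟶ U),
      IsPullback ((yon S).map c) ((yon S).map d) p.toHom a := ⟨_, _, _, hrep.isPullback' a⟩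
  obtain ⟨g, hg⟩ := (yon S).map_surjective (a ≫ f)
  have hget : Etale g.left := by
    have h1 : RepWith @Etale (a ≫ f) := hf a hae
    rw [← hg] at h1
    exact (repWith_yon_map_iff _ _).1 h1
  have h1 : Mono ((yon S).map d) :=
    MorphismProperty.of_isPullback (P := MorphismProperty.monomorphisms (Sp S)) sq0
      (MorphismProperty.monomorphisms.infer_property p.toHom)
  have h2 : Mono d := (yon S).mono_of_mono_map h1
  have h3 : Mono d.left := inferInstance
  have hoi : IsOpenImmersion d.left := isOpenImmersion_of_mono_of_etale_field (K := k) g.left d.left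
  have hpo : RepWith @IsOpenImmersion p.toHom :=
    Groth.Agent.H52.repWith_of_etale_surjective_base_change @IsOpenImmersion sq0 hrep hae has
      ((repWith_yon_map_iff _ _).2 hoi)
  refine ⟨p.pt, p.toHom, hpo, ?_⟩
  have s0 : ↥p.pt.left := IsLocalRing.closedPoint p.K
  refine ⟨Points.ofScheme p.pt s0, ?_⟩
  rw [← Points.ofPt_eq_map_ofScheme, Points.ofPt_toHom, hp]

end Groth.Agent.Lib.Helper54
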