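import Groth.Agent.Lib.Helper54.QuasiAffineDescent
import Groth.Agent.Lib.Helper54.EtaleOverField
import Groth.Agent.H52.OpenSub
import Groth.Agent.H52.QC5
import Groth.Agent.H52.DiagSp
import Groth.Agent.H52.QS
import Groth.Agent.H53.Proper
import Groth.Agent.H53.SourceLocal
import Groth.Agent.H53.ZarGlueAff
import Mathlib.AlgebraicGeometry.ZariskisMainTheorem
import Mathlib.AlgebraicGeometry.QuasiAffine
import Mathlib.AlgebraicGeometry.Morphisms.UniversallyInjective

/-!
# Étale descent of monomorphisms locally of finite type (helper54)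

* `isQuasiAffine_of_lqf`, `isQuasiAffine_of_mono`: Zariski's main theorem: a quasi-compact scheme
  with a separated locally quasi-finite morphism locally of finite type (e.g. a monomorphism locally
  of finite type) to an affine scheme is quasi-affine.
* `isRepresentable_of_mono_of_etale_cover_affine`, `isRepresentable_of_mono_of_etale_cover`:
  a sheaf `P` with a monomorphism to an affine scheme `Q`, whose base change along an étale
  covering `Q₁ ⟶ Q` is a scheme locally of finite type over `Q₁`, is a scheme.
* `representable_of_mono_of_etale_cover`: a monomorphism of sheaves whose base change along a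
  representable étale surjective map is representable and locally of finite type is representable.
* `isAlgSpace_of_chart`: a sheaf with a representable étale surjective map from a scheme is an
  algebraic space.
-/

set_option autoImplicit false
set_option backward.isDefEq.respectTransparency false
universe u
open CategoryTheory CategoryTheory.Limits AlgebraicGeometry

namespace Groth.Agent.Lib.Helper54

open AlgSp

theorem isQuasiAffine_of_lqf {Y T : Scheme.{u}} [IsAffine T] (f : Y ⟶ T) [LocallyQuasiFinite f]
    [LocallyOfFiniteType f] [IsSeparated f] [QuasiCompact f] : Y.IsQuasiAffine := by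
  have h1 : IsAffine f.normalization := isAffine_of_isAffineHom f.fromNormalization
  have h2 : CompactSpace Y := QuasiCompact.compactSpace_of_compactSpace f
  exact Scheme.IsQuasiAffine.of_isImmersion f.toNormalization

theorem isQuasiAffine_of_mono {Y T : Scheme.{u}} [IsAffine T] (f : Y ⟶ T) [Mono f]
    [LocallyOfFiniteType f] [CompactSpace Y] : Y.IsQuasiAffine := by
  have : QuasiCompact f :=
    (@HasAffineProperty.iff_of_isAffine @QuasiCompact _
      instHasAffinePropertyQuasiCompactCompactSpaceCarrierCarrierCommRingCat _ _ f _).mpr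
      inferInstance
  have : LocallyQuasiFinite f := inferInstance
  exact isQuasiAffine_of_lqf f

variable {S : Scheme.{u}}

/-- Descent of monomorphisms locally of finite type along an étale covering of affine schemes. -/
theorem isRepresentable_of_mono_of_etale_cover_affine
    (hS10531 : IsLocalOnBase (IsFpqcCover (S := S)) (RepWith @IsOpenImmersion))
    {Q : Over S} (hQ : IsAffine Q.left) {P : Sp S} (m : P ⟶ (yon S).obj Q) [Mono m]
    {W : Over S} (hW : IsAffine W.left) (c : W ⟶ Q) (hce : Etale c.left)
    (hcs : Surjective c.left)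
    {PW : Over S} (π : PW ⟶ W) (hπ : LocallyOfFiniteType π.left)
    (q : (yon S).obj PW ⟶ P) (sq : IsPullback q ((yon S).map π) m ((yon S).map c)) :
    P.obj.IsRepresentable := by
  have hce' : RepWith @Etale ((yon S).map c) := (repWith_yon_map_iff _ _).2 hce
  have hcs' : RepWith @Surjective ((yon S).map c) := (repWith_yon_map_iff _ _).2 hcs
  have hqe : RepWith @Etale q := MorphismProperty.of_isPullback sq.flip hce'
  have hqs : RepWith @Surjective q := MorphismProperty.of_isPullback sq.flip hcs'
  have hP : IsAlgSpace P :=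
    ⟨Groth.Agent.H52.representable_diag_of_mono m (IsAlgSpace.yon_obj Q).diag, PW, q, hqe, hqs⟩
  apply isRepresentable_of_schematicLocus_eq_univ hP
  rw [Set.eq_univ_iff_forall]
  intro x
  obtain ⟨p₀, rfl⟩ := Groth.Agent.H53.surjective_ofPt_of_surjective q hqs x
  obtain ⟨N, hN, hp₀N, -⟩ := exists_isAffineOpen_mem_and_subset (x := p₀) (U := ⊤) trivial
  let a : (yon S).obj (Groth.Agent.H52.overOpen PW N) ⟶ P :=
    (yon S).map (Groth.Agent.H52.overOpenι PW N) ≫ q
  have ha : RepWith @Etale a :=
    (RepWith (S := S) @Etale).comp_mem _ _ (Groth.Agent.H52.repWith_etale_overOpenι PW N) hqe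
  have hI : IsAlgSpace (Sheaf.image a) := Groth.Agent.H52.isAlgSpace_image hP a ha
  have hNc : CompactSpace ↥(Groth.Agent.H52.overOpen PW N).left :=
    isCompact_iff_compactSpace.mp hN.isCompact
  have hIqc : IsQuasiCompactSp (Sheaf.image a) :=
    ⟨Groth.Agent.H52.overOpen PW N, Sheaf.toImage a, Groth.Agent.H52.repWith_etale_toImage a ha,
      Groth.Agent.H52.repWith_surjective_toImage a ha, hNc⟩
  let fZ : Sheaf.image a ⟶ (yon S).obj Q := Sheaf.imageι a ≫ m
  have hfZm : Mono fZ := mono_comp _ _
  have hsep : IsSeparatedMor fZ := Groth.Agent.H52.isSeparatedMor_of_repWith_mono fZ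
  obtain ⟨T0, η, sqη⟩ := Groth.Agent.H52.isPullback_image_open a ha q
  have sqV : IsPullback η ((yon S).map (Groth.Agent.H52.overOpenι PW T0 ≫ π)) fZ
      ((yon S).map c) := by
    rw [Functor.map_comp]
    exact sqη.paste_vert sq
  have hQqs : QuasiSeparatedSpace ↥Q.left := inferInstance
  have hqcm : IsQuasiCompactMor fZ := Groth.Agent.H52.isQuasiCompactMor_to_yon hIqc Q fZ
  have hWc : CompactSpace ↥W.left := inferInstance
  have hT0qc : IsQuasiCompactSp ((yon S).obj (Groth.Agent.H52.overOpen PW T0)) :=
    hqcm (IsAlgSpace.yon_obj W) (Groth.Agent.H52.isQuasiCompactSp_yon W) ((yon S).map c) η _ sqV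
  have hT0c : CompactSpace ↥(Groth.Agent.H52.overOpen PW T0).left :=
    Groth.Agent.H52.compactSpace_of_isQuasiCompactSp_yon _ hT0qc
  have hmono1 : Mono ((yon S).map (Groth.Agent.H52.overOpenι PW T0 ≫ π)) :=
    sqV.mono_snd_of_mono
  have hmono2 : Mono (Groth.Agent.H52.overOpenι PW T0 ≫ π) := (yon S).mono_of_mono_map hmono1
  have hmono : Mono (Groth.Agent.H52.overOpenι PW T0 ≫ π).left := inferInstance
  have hlft : LocallyOfFiniteType (Groth.Agent.H52.overOpenι PW T0 ≫ π).left := by
    change LocallyOfFiniteType (T0.ι ≫ π.left)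
    infer_instance
  have hqa : (Groth.Agent.H52.overOpen PW T0).left.IsQuasiAffine :=
    isQuasiAffine_of_mono (Groth.Agent.H52.overOpenι PW T0 ≫ π).left
  have hcflat : Flat c.left := inferInstance
  obtain ⟨V, v, e, -, -⟩ := exists_iso_yon_of_quasiAffine_family hS10531 hQ hI fZ hIqc hsep
    (fun _ : Fin 1 => W) (fun _ => c) (fun _ => hW) (fun _ => hcflat)
    (fun z => ⟨0, hcs.surj z⟩) (fun _ => ⟨_, η, _, sqV, hqa⟩)
  refine ⟨V, e.hom ≫ Sheaf.imageι a, MorphismProperty.RespectsIso.precomp _ _ _
    (Groth.Agent.H52.repWith_isOpenImmersion_imageι a ha), ?_⟩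
  have hx : Points.ofPt q p₀ ∈ Set.range (Points.map (Sheaf.imageι a)) := by
    rw [Groth.Agent.H52.range_points_map_imageι a ha]
    refine ⟨⟨p₀, hp₀N⟩, ?_⟩
    exact Groth.Agent.H53.ofPt_yon_map_comp (Groth.Agent.H52.overOpenι PW N) q ⟨p₀, hp₀N⟩
  obtain ⟨y, hy⟩ := hx
  refine ⟨Points.map e.inv y, ?_⟩
  rw [← Points.map_comp, Iso.inv_hom_id_assoc, hy]

/-- Descent of monomorphisms locally of finite type along an étale covering of an affine scheme. -/
theorem isRepresentable_of_mono_of_etale_cover
    (hS10531 : IsLocalOnBase (IsFpqcCover (S := S)) (RepWith @IsOpenImmersion))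
    {Q : Over S} (hQ : IsAffine Q.left) {P : Sp S} (m : P ⟶ (yon S).obj Q) [Mono m]
    {Q₁ : Over S} (e : Q₁ ⟶ Q) (hee : Etale e.left) (hes : Surjective e.left)
    {P₁ : Over S} (π₁ : P₁ ⟶ Q₁) (hπ₁ : LocallyOfFiniteType π₁.left)
    (q₁ : (yon S).obj P₁ ⟶ P) (sq : IsPullback q₁ ((yon S).map π₁) m ((yon S).map e)) :
    P.obj.IsRepresentable := by
  have hQc : CompactSpace ↥Q.left := inferInstance
  obtain ⟨V'', k, hV'', hk, hrange⟩ :=
    Groth.Agent.H53.exists_affine_etale_of_isCompact e.left ⊤ isCompact_univ
  let W : Over S := Over.mk (k ≫ Q₁.hom)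
  let kO : W ⟶ Q₁ := Over.homMk k rfl
  have hW : IsAffine W.left := hV''
  have hce : Etale (kO ≫ e).left := by
    change Etale (k ≫ e.left)
    infer_instance
  have hcs : Surjective (kO ≫ e).left := by
    change Surjective (k ≫ e.left)
    constructor
    intro z
    have : z ∈ Set.range (k ≫ e.left) := by rw [hrange]; trivial
    exact this
  have hπ : LocallyOfFiniteType (pullback.snd π₁ kO).left :=
    MorphismProperty.of_isPullback (P := @LocallyOfFiniteType)
      (isPullback_left (IsPullback.of_hasPullback π₁ kO)) hπ₁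
  have sq' : IsPullback ((yon S).map (pullback.fst π₁ kO) ≫ q₁)
      ((yon S).map (pullback.snd π₁ kO)) m ((yon S).map (kO ≫ e)) := by
    rw [Functor.map_comp]
    exact ((IsPullback.of_hasPullback π₁ kO).map (yon S)).paste_horiz sq
  exact isRepresentable_of_mono_of_etale_cover_affine hS10531 hQ m hW (kO ≫ e) hce hcs
    (pullback.snd π₁ kO) hπ _ sq'

/-- A monomorphism of sheaves whose base change along a representable étale surjective map is
representable and locally of finite type is representable. -/
theorem representable_of_mono_of_etale_cover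
    (hS10531 : IsLocalOnBase (IsFpqcCover (S := S)) (RepWith @IsOpenImmersion))
    {A B A' B' : Sp S} (φ : A ⟶ B) [Mono φ] (c : B' ⟶ B) (hce : RepWith @Etale c)
    (hcs : RepWith @Surjective c) (φ' : A' ⟶ B') (a' : A' ⟶ A) (sq : IsPullback a' φ' φ c)
    (hφ' : RepWith @LocallyOfFiniteType φ') : Representable φ := by
  refine Groth.Agent.H53.ZarGlue.representable_of_affine_local (fun Z hZ g => ?_)
  have sq1 := hce.rep.isPullback g
  have hee : Etale (hce.rep.snd g).left := hce.property_snd g
  have hes : Surjective (hce.rep.snd g).left := hcs.property _ _ _ sq1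
  have sq2 := hφ'.rep.isPullback (hce.rep.fst g)
  have hπ₁ : LocallyOfFiniteType (hφ'.rep.snd (hce.rep.fst g)).left :=
    hφ'.property_snd (hce.rep.fst g)
  have big := sq2.paste_horiz sq
  let q₁ : (yon S).obj (hφ'.rep.pullback (hce.rep.fst g)) ⟶ pullback φ g :=
    pullback.lift (hφ'.rep.fst (hce.rep.fst g) ≫ a')
      ((yon S).map (hφ'.rep.snd (hce.rep.fst g)) ≫ (yon S).map (hce.rep.snd g)) (by
        rw [big.w, Category.assoc, sq1.w])
  have h1 : q₁ ≫ pullback.fst φ g = hφ'.rep.fst (hce.rep.fst g) ≫ a' := pullback.lift_fst _ _ _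
  have h2 : q₁ ≫ pullback.snd φ g =
      (yon S).map (hφ'.rep.snd (hce.rep.fst g)) ≫ (yon S).map (hce.rep.snd g) :=
    pullback.lift_snd _ _ _
  have sqL : IsPullback q₁ ((yon S).map (hφ'.rep.snd (hce.rep.fst g))) (pullback.snd φ g)
      ((yon S).map (hce.rep.snd g)) := by
    refine IsPullback.of_right ?_ h2 (IsPullback.of_hasPullback φ g)
    rw [h1, ← sq1.w]
    exact big
  obtain ⟨⟨V, ⟨r⟩⟩⟩ := isRepresentable_of_mono_of_etale_cover hS10531 hZ (pullback.snd φ g)
    (hce.rep.snd g) hee hes (hφ'.rep.snd (hce.rep.fst g)) hπ₁ q₁ sqL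
  let ε : (yon S).obj V ≅ pullback φ g := isoOfRepresentableBy r
  refine ⟨V, (yon S).preimage (ε.hom ≫ pullback.snd φ g), ε.hom ≫ pullback.fst φ g, ?_⟩
  rw [Functor.map_preimage]
  exact IsPullback.of_iso (IsPullback.of_hasPullback φ g) ε.symm (Iso.refl _) (Iso.refl _)
    (Iso.refl _) (by simp) (by simp) (by simp) (by simp)

/-- A sheaf with a representable étale surjective map from a scheme is an algebraic space. -/
theorem isAlgSpace_of_chart
    (hS10531 : IsLocalOnBase (IsFpqcCover (S := S)) (RepWith @IsOpenImmersion))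
    {F : Sp S} {U : Over S} (p : (yon S).obj U ⟶ F) (hpe : RepWith @Etale p)
    (hps : RepWith @Surjective p) : IsAlgSpace F := by
  refine ⟨?_, U, p, hpe, hps⟩
  have hpQ : RepWith @LocallyOfFiniteType p :=
    Groth.Agent.H53.repWith_of_le
      (fun _ _ φ hφ => by have : Etale φ := hφ; exact (inferInstance : LocallyOfFiniteType φ)) hpe
  have h1 : RepWith @LocallyOfFiniteType (pullback.fst p p) :=
    MorphismProperty.of_isPullback (IsPullback.of_hasPullback p p).flip hpQ
  have hdiagU : RepWith @LocallyOfFiniteType (Limits.diag ((yon S).obj U)) :=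
    (repWith_diag_yon_iff @LocallyOfFiniteType U).2 inferInstance
  have hdiagU' := (Groth.Agent.H52.repWith_diag_iff_diagonal_from @LocallyOfFiniteType _).1 hdiagU
  have sqP : IsPullback (prod.fst : (yon S).obj U ⨯ (yon S).obj U ⟶ _) prod.snd
      ((Groth.Agent.H52.yonBaseIsTerminal S).from _) ((Groth.Agent.H52.yonBaseIsTerminal S).from _) :=
    IsPullback.of_is_product (limit.isLimit (pair _ _)) (Groth.Agent.H52.yonBaseIsTerminal S)
  have h2 : (RepWith (S := S) @LocallyOfFiniteType).diagonal
      (prod.fst : (yon S).obj U ⨯ (yon S).obj U ⟶ (yon S).obj U) :=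
    Groth.Agent.H52.repWith_diagonal_of_isPullback @LocallyOfFiniteType sqP.flip hdiagU'
  have hj : RepWith @LocallyOfFiniteType (prod.lift (pullback.fst p p) (pullback.snd p p)) := by
    refine Groth.Agent.H52.of_comp_of_diagonal (RepWith (S := S) @LocallyOfFiniteType) _ prod.fst
      ?_ h2
    rwa [prod.lift_fst]
  have hmono : Mono (Limits.diag F) := by
    have : Limits.diag F ≫ prod.fst = 𝟙 F := prod.lift_fst _ _
    exact mono_of_mono_fac this
  exact representable_of_mono_of_etale_cover hS10531 (Limits.diag F) (prod.map p p)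
    (Groth.Agent.H52.repWith_prod_map _ p p hpe hpe) (Groth.Agent.H52.repWith_prod_map _ p p hps hps)
    (prod.lift (pullback.fst p p) (pullback.snd p p)) (pullback.fst p p ≫ p)
    (Groth.Agent.H52.isPullback_diag_prod_map p p) hj

end Groth.Agent.Lib.Helper54
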