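import Groth.Agent.Lib.Helper54.LargestOpen
import Groth.Agent.Lib.Helper54.FpqcTop
import Groth.Agent.Lib.Helper54.FpqcLocP

/-!
# Base change of fpqc coverings and fpqc descent of open immersions
-/

set_option autoImplicit false
universe u
open CategoryTheory CategoryTheory.Limits AlgebraicGeometry
open AlgSp

namespace Groth.Agent.Lib.Helper54

variable {S : Scheme.{u}}

/-- The refinement clause of an fpqc covering is stable under base change. -/
theorem fpqcRefines_baseChange {Y Y' : Sp S} {ι : Type u} {Yi Yi' : ι → Sp S} (g : ∀ i, Yi i ⟶ Y)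
    (href : ∀ (Z : Over S), IsAffine Z.left → ∀ t : (yon S).obj Z ⟶ Y, FpqcRefines g Z t)
    (h : Y' ⟶ Y) (g' : ∀ i, Yi' i ⟶ Y') (r : ∀ i, Yi' i ⟶ Yi i)
    (sq : ∀ i, IsPullback (r i) (g' i) (g i) h) :
    ∀ (Z : Over S), IsAffine Z.left → ∀ t : (yon S).obj Z ⟶ Y', FpqcRefines g' Z t := by
  intro Z hZ t
  obtain ⟨m, W, c, haff, hflat, hsurj, hlift⟩ := href Z hZ (t ≫ h)
  refine ⟨m, W, c, haff, hflat, hsurj, fun j => ?_⟩
  obtain ⟨i, l, hl⟩ := hlift j
  refine ⟨i, (sq i).lift l ((yon S).map (c j) ≫ t) (by rw [hl, Category.assoc]), ?_⟩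
  exact (sq i).lift_snd _ _ _

/-- fpqc coverings of algebraic spaces are stable under base change. -/
theorem isFpqcCover_baseChange {Y Y' : Sp S} {ι : Type u} {Yi Yi' : ι → Sp S} (g : ∀ i, Yi i ⟶ Y)
    (hY : IsAlgSpace Y) (hYi : ∀ i, IsAlgSpace (Yi i)) (hcov : IsFpqcCover Yi g)
    (h : Y' ⟶ Y) (g' : ∀ i, Yi' i ⟶ Y') (r : ∀ i, Yi' i ⟶ Yi i)
    (sq : ∀ i, IsPullback (r i) (g' i) (g i) h) :
    IsFpqcCover Yi' g' := by
  refine ⟨fun i => ?_, fpqcRefines_baseChange g hcov.2 h g' r sq⟩
  exact locP_of_isPullback_of_isAlgSpace etLocal_flat (hYi i) hY (sq i) (hcov.1 i)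

/-- A morphism representable by open immersions which is surjective on points is representable by quasi-compact
morphisms (indeed by isomorphisms). -/
theorem repWith_quasiCompact_of_oi_surjective {A B : Sp S} (j : A ⟶ B) (hj : RepWith @IsOpenImmersion j)
    (hs : Function.Surjective (Points.map j)) : RepWith @QuasiCompact j := by
  have hs' := Groth.Agent.H52.repWith_surjective_of_surjective_points j hj.rep hs
  refine ⟨hj.rep, fun T V g fst snd sq => ?_⟩
  have h1 : IsOpenImmersion snd.left := hj.property g fst snd sq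
  have h2 : Surjective snd.left := hs'.property g fst snd sq
  have : IsIso snd.left := (isIso_iff_isOpenImmersion_and_surjective _).mpr ⟨h1, h2⟩
  exact (inferInstance : QuasiCompact snd.left)

/-- Open immersions of algebraic spaces descend along fpqc coverings of the base. -/
theorem repWith_isOpenImmersion_of_fpqc_local
    (hS10530 : IsLocalOnBase (IsFpqcCover (S := S)) (LocP @Flat))
    (hS10519 : IsLocalOnBase (IsFpqcCover (S := S)) IsQuasiCompactMor)
    {ι : Type u} {Y : Sp S} (Yi : ι → Sp S) (g : ∀ i, Yi i ⟶ Y)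
    (hY : IsAlgSpace Y) (hYi : ∀ i, IsAlgSpace (Yi i)) (hcov : IsFpqcCover Yi g)
    {X : Sp S} (f : X ⟶ Y) (hX : IsAlgSpace X)
    (Xi : ι → Sp S) (p : ∀ i, Xi i ⟶ Yi i) (q : ∀ i, Xi i ⟶ X)
    (hXi : ∀ i, IsAlgSpace (Xi i)) (sq : ∀ i, IsPullback (q i) (p i) f (g i))
    (h : ∀ i, RepWith @IsOpenImmersion (p i)) : RepWith @IsOpenImmersion f := by
  have hmono : Mono f :=
    mono_of_fpqc_local hX f g hcov.2 p q sq (fun i => mono_of_isOpenImmersion (p i) (h i))
  have hflat : LocP @Flat f :=
    (hS10530 Yi g hY hYi hcov f hX Xi p q hXi sq).mpr (fun i =>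
      locP_mono (fun _ _ φ hφ => by have : Etale φ := hφ; infer_instance)
        (locP_etale_of_isEtaleMor (isEtaleMor_of_repWith_isOpenImmersion (h i))))
  -- the image of `f` is open
  have hV : IsOpen (Set.range (Points.map f)) := by
    refine isOpen_points_of_fpqcRefines g hcov.2 _ (fun i => ?_)
    have : Points.map (g i) ⁻¹' Set.range (Points.map f) = Set.range (Points.map (p i)) := by
      ext y
      constructor
      · rintro ⟨x, hx⟩
        obtain ⟨z, -, hz⟩ := exists_point_of_isPullback (sq i) x y hx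
        exact ⟨z, hz⟩
      · rintro ⟨z, rfl⟩
        refine ⟨Points.map (q i) z, ?_⟩
        rw [← Points.map_comp, ← Points.map_comp, (sq i).w]
    rw [this]
    exact (covClass_etale.isOpenMap (hXi i) (hYi i) (p i)
      (isEtaleMor_of_repWith_isOpenImmersion (h i))).isOpen_range
  -- factor through the open subspace on the image
  have hι := repWith_isOpenImmersion_openSubι Y _ hV
  have hYV := isAlgSpace_openSub hY _ hV
  obtain ⟨f', hf', hsurj⟩ := exists_factor_surjective (openSubι Y (Set.range (Points.map f))) hι f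
    (range_points_map_openSubι Y _).symm
  have hmono' : Mono f' := by
    have : Mono (f' ≫ openSubι Y (Set.range (Points.map f))) := by rw [hf']; exact hmono
    exact mono_of_mono f' (openSubι Y (Set.range (Points.map f)))
  have hflat' : LocP @Flat f' :=
    locP_of_comp_isOpenImmersion f' _ hι (by rw [hf']; exact hflat)
  -- the base-changed covering
  have sqY : ∀ i, IsPullback (pullback.fst (g i) (openSubι Y (Set.range (Points.map f))))
      (pullback.snd (g i) (openSubι Y (Set.range (Points.map f)))) (g i)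
      (openSubι Y (Set.range (Points.map f))) := fun i => IsPullback.of_hasPullback _ _
  have hYi' : ∀ i, IsAlgSpace (pullback (g i) (openSubι Y (Set.range (Points.map f)))) := fun i =>
    Groth.Agent.H52.isAlgSpace_of_isPullback (sqY i) (hYi i) hY hYV
  have hcov' := isFpqcCover_baseChange g hY hYi hcov (openSubι Y (Set.range (Points.map f)))
    (fun i => pullback.snd (g i) _) (fun i => pullback.fst (g i) _) sqY
  have hw : ∀ i, p i ≫ g i = (q i ≫ f') ≫ openSubι Y (Set.range (Points.map f)) := fun i => by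
    rw [Category.assoc, hf', (sq i).w]
  have sq' : ∀ i, IsPullback (q i) ((sqY i).lift (p i) (q i ≫ f') (hw i)) f'
      (pullback.snd (g i) (openSubι Y (Set.range (Points.map f)))) := fun i => by
    refine (IsPullback.of_right ?_ ((sqY i).lift_snd _ _ _) (sqY i)).flip
    rw [(sqY i).lift_fst, hf']
    exact (sq i).flip
  have hp' : ∀ i, RepWith @IsOpenImmersion ((sqY i).lift (p i) (q i ≫ f') (hw i)) := fun i => by
    have : Mono (pullback.fst (g i) (openSubι Y (Set.range (Points.map f)))) := inferInstance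
    refine Groth.Agent.H53.repWith_of_comp_mono _ _ (pullback.fst (g i) _) ?_
    rw [(sqY i).lift_fst]
    exact h i
  have hqc : IsQuasiCompactMor f' :=
    (hS10519 _ _ hYV hYi' hcov' f' hX Xi _ q hXi sq').mpr (fun i =>
      Groth.Agent.H52.isQuasiCompactMor_of_repWith_quasiCompact _
        (repWith_quasiCompact_of_oi_surjective _ (hp' i)
          (surjective_points_snd_of_isPullback (sq' i) hsurj)))
  have hiso : IsIso f' := isIso_of_qc_flat_surjective_mono hX hYV f' hqc hflat' hsurj
  have : (RepWith (S := S) @IsOpenImmersion).IsMultiplicative := repWith_isMultiplicative _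
  rw [← hf']
  exact (RepWith @IsOpenImmersion).comp_mem _ _ (Groth.Agent.H52.repWith_of_isIso _ f') hι

end Groth.Agent.Lib.Helper54
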