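import Groth.Agent.Lib.Helper54.JacobsonPts

/-!
# Points represented by quasi-compact field-valued points: finiteness of fibres on quasi-compact charts and lifting of
generizations along flat morphisms
-/

set_option autoImplicit false
universe u
open CategoryTheory CategoryTheory.Limits AlgebraicGeometry
open AlgSp

namespace Groth.Agent.Lib.Helper54

variable {S : Scheme.{u}}

/-- If the point `x` is represented by a quasi-compact morphism from the spectrum of a field, then its fibre in every
quasi-compact étale chart is finite. -/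
theorem finite_fibre_of_quasiCompact_point {X : Sp S} (p : FieldPt X) (hq : RepWith @QuasiCompact p.toHom)
    {U : Over S} [CompactSpace ↥U.left] (φ : (yon S).obj U ⟶ X) (hφ : RepWith @Etale φ) :
    (Points.ofPt φ ⁻¹' {Points.mk p}).Finite := by
  have hrep := hq.rep
  have sq := hrep.isPullback φ
  obtain ⟨ρ, hρ⟩ := (yon S).map_surjective (hrep.fst φ)
  rw [← hρ] at sq
  have hqc : QuasiCompact (hrep.snd φ).left := hq.property φ _ _ sq
  have hρe : Etale ρ.left := hφ.property p.toHom _ _ sq.flip
  have hc : CompactSpace ↥(hrep.pullback φ).left :=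
    QuasiCompact.compactSpace_of_compactSpace (hrep.snd φ).left
  have : LocallyQuasiFinite ρ.left := locallyQuasiFinite_of_etale _
  have s0 : ↥(Spec (CommRingCat.of p.K)) := IsLocalRing.closedPoint p.K
  have hfin : (ρ.left ⁻¹' {s0}).Finite :=
    finite_preimage_singleton_of_compactSpace ρ.left _
  refine (hfin.image (hrep.snd φ).left).subset ?_
  intro u hu
  have hu' : Points.map p.toHom (Points.ofScheme p.pt s0) = Points.ofPt φ u := by
    rw [← Points.ofPt_eq_map_ofScheme, Points.ofPt_toHom]; exact hu.symm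
  obtain ⟨v, -, hv⟩ := exists_pt_of_isPullback_yon sq _ u hu'
  refine ⟨v, ?_, hv⟩
  have : Subsingleton ↥(Spec (CommRingCat.of p.K)) := inferInstanceAs (Subsingleton (PrimeSpectrum p.K))
  exact Subsingleton.elim (α := ↥(Spec (CommRingCat.of p.K))) _ _

/-- Every point of an algebraic space lies in the image of an étale chart from an affine scheme. -/
theorem exists_affine_chart_through {X : Sp S} (hX : IsAlgSpace X) (x : Points X) :
    ∃ (U : Over S) (a : (yon S).obj U ⟶ X) (u : ↥U.left), IsAffine U.left ∧ RepWith @Etale a ∧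
      Points.ofPt a u = x := by
  obtain ⟨U₁, a₁, u₁, ha₁, hu₁⟩ := exists_chart_through hX x
  obtain ⟨_, ⟨A, hA : IsAffineOpen A, rfl⟩, huA, -⟩ :=
    U₁.left.isBasis_affineOpens.exists_subset_of_mem_open (Set.mem_univ u₁) isOpen_univ
  have : (RepWith (S := S) @Etale).IsMultiplicative := repWith_isMultiplicative _
  refine ⟨Groth.Agent.H52.overOpen U₁ A, (yon S).map (Groth.Agent.H52.overOpenι U₁ A) ≫ a₁,
    (show ↥(Groth.Agent.H52.overOpen U₁ A).left from ⟨u₁, huA⟩), hA,
    (RepWith @Etale).comp_mem _ _ (Groth.Agent.H52.repWith_etale_overOpenι U₁ A) ha₁, ?_⟩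
  exact (ofPt_yon_map_comp (Groth.Agent.H52.overOpenι U₁ A) a₁ _).trans hu₁

/-- Generizations lift along an étale chart from a quasi-compact scheme, to points represented by quasi-compact
field-valued points. -/
theorem exists_generization_chart {X : Sp S} (p : FieldPt X) (hq : RepWith @QuasiCompact p.toHom)
    {U : Over S} [CompactSpace ↥U.left] (a : (yon S).obj U ⟶ X) (ha : RepWith @Etale a) (u : ↥U.left)
    (h : Points.mk p ⤳ Points.ofPt a u) : ∃ u' : ↥U.left, u' ⤳ u ∧ Points.ofPt a u' = Points.mk p := by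
  classical
  have hfin := finite_fibre_of_quasiCompact_point p hq a ha
  by_contra hcon
  push_neg at hcon
  have hN : ∀ u' ∈ Points.ofPt a ⁻¹' {Points.mk p}, ∃ N : Set ↥U.left, IsOpen N ∧ u ∈ N ∧ u' ∉ N := by
    intro u' hu'
    have := mt (fun h' => hcon u' h') (not_not.mpr hu')
    rw [specializes_iff_forall_open] at this
    push_neg at this
    obtain ⟨N, hN, huN, hu'N⟩ := this
    exact ⟨N, hN, huN, hu'N⟩
  choose! N hNo hNu hNu' using hN
  have hopen : IsOpen (⋂ u' ∈ Points.ofPt a ⁻¹' {Points.mk p}, N u') :=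
    hfin.isOpen_biInter fun u' hu' => hNo u' hu'
  have hu : u ∈ ⋂ u' ∈ Points.ofPt a ⁻¹' {Points.mk p}, N u' :=
    Set.mem_iInter₂.mpr fun u' hu' => hNu u' hu'
  have himg : IsOpen (Points.ofPt a '' (⋂ u' ∈ Points.ofPt a ⁻¹' {Points.mk p}, N u')) :=
    Groth.Agent.H53.isOpenMap_ofPt_of_etale a ha _ hopen
  obtain ⟨u'', hu''N, hu''⟩ := h.mem_open himg ⟨u, hu, rfl⟩
  exact hNu' u'' hu'' (Set.mem_iInter₂.mp hu''N u'' hu'')

/-- Generizations lift along flat morphisms of algebraic spaces, to points represented by quasi-compact field-valued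
points. -/
theorem exists_generization_of_locP_flat {X Y : Sp S} (hX : IsAlgSpace X) (hY : IsAlgSpace Y) (f : Y ⟶ X)
    (hf : LocP @Flat f) (x : Points X) (p : FieldPt X) (hq : RepWith @QuasiCompact p.toHom)
    (h : Points.mk p ⤳ x) (y : Points Y) (hy : Points.map f y = x) :
    ∃ y' : Points Y, y' ⤳ y ∧ Points.map f y' = Points.mk p := by
  obtain ⟨U, a, u, hU, ha, hu⟩ := exists_affine_chart_through hX x
  obtain ⟨U', b, v₀, hb, hv₀⟩ := exists_chart_through hY y
  obtain ⟨u', hu'u, hu'⟩ := exists_generization_chart p hq a ha u (by rw [hu]; exact h)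
  obtain ⟨V, α, k, hα, sq, hrep⟩ := exists_chart_square f b hb a ha
  obtain ⟨v, hv1, hv2⟩ := exists_pt_of_isPullback_yon sq (Points.ofScheme U' v₀) u (by
    rw [Points.map_comp, ← Points.ofPt_eq_map_ofScheme, hv₀, hy, hu])
  have hkflat : Flat k.left := locP_of_chart_square hf ha sq hrep
  obtain ⟨v', hv'v, hv'⟩ := (Flat.generalizingMap k.left) (show u' ⤳ k.left v by rw [hv2]; exact hu'u)
  refine ⟨Points.ofPt ((yon S).map α ≫ b) v', ?_, ?_⟩
  · have h1 : Points.ofPt ((yon S).map α ≫ b) v = y := by
      rw [Points.ofPt_eq_map_ofScheme, Points.map_comp, ← Points.ofPt_eq_map_ofScheme, hv1,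
        ← Points.ofPt_eq_map_ofScheme, hv₀]
    rw [← h1]
    exact hv'v.map (Points.continuous_ofPt _)
  · rw [Points.map_ofPt, Category.assoc, sq.w, ofPt_yon_map_comp, hv', hu']

end Groth.Agent.Lib.Helper54
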