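import Groth.Agent.Lib.Helper54.GeomReducedBC

/-!
# Geometric reducedness of algebraic spaces over a field versus reducedness of all base changes
-/

set_option autoImplicit false
universe u
open CategoryTheory CategoryTheory.Limits AlgebraicGeometry
open AlgSp

namespace Groth.Agent.Lib.Helper54

variable {S : Scheme.{u}}

/-- If a sheaf is étale locally reduced, then every scheme étale over it is reduced. -/
theorem isReduced_chart_of_etaleLocally {Y : Sp S} (h : EtaleLocally (fun U => AlgebraicGeometry.IsReduced U) Y)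
    {V : Over S} (b : (yon S).obj V ⟶ Y) (hb : RepWith @Etale b) : AlgebraicGeometry.IsReduced V.left := by
  obtain ⟨U, p, hpe, hps, hU⟩ := h
  obtain ⟨W, α, β, hα, sq, -⟩ := exists_chart_square (𝟙 Y) b hb p hpe
  have hb' : RepWith @Etale (b ≫ 𝟙 Y) := by rw [Category.comp_id]; exact hb
  have hβ : Etale β.left := hb'.property p _ β sq
  have hαs : AlgebraicGeometry.Surjective α.left := surjective_left_of_chart_square hps sq
  have : AlgebraicGeometry.IsReduced U.left := hU
  have : AlgebraicGeometry.IsReduced W.left := isReduced_of_etale_scheme β.left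
  exact isReduced_of_flat_of_surjective α.left

variable {k : Type u} [Field k]

theorem repWith_surjective_bcChart {X : Sp (Spec (CommRingCat.of k))} {U : Over (Spec (CommRingCat.of k))}
    (a : (yon _).obj U ⟶ X) (ha : RepWith @AlgebraicGeometry.Surjective a) (K : Type u) [Field K] [Algebra k K] :
    RepWith @AlgebraicGeometry.Surjective (bcChart a K) := by
  have : (RepWith (S := Spec (CommRingCat.of k)) @AlgebraicGeometry.Surjective).IsStableUnderBaseChange :=
    repWith_isStableUnderBaseChange _
  exact MorphismProperty.of_isPullback (isPullback_bcChart a K).flip ha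

/-- If `X` is geometrically reduced at all of its points, then every base change `X_K` is étale locally reduced. -/
theorem etaleLocally_isReduced_bc_of_geomReduced (X : AlgSp.Space (Spec (CommRingCat.of k)))
    (h : ∀ x : AlgSp.Points X.obj, (∃ (U : Over (Spec (CommRingCat.of k))) (a : (AlgSp.yon (Spec (CommRingCat.of k))).obj U ⟶ X.obj) (u : ↥U.left),
      AlgSp.RepWith @Etale a ∧ AlgSp.Points.ofPt a u = x ∧ FBase.IsGeomReducedAt U.hom u))
    (K : Type u) [Field K] [Algebra k K] :
    AlgSp.EtaleLocally (fun U => AlgebraicGeometry.IsReduced U) (X.obj ⨯ (AlgSp.yon (Spec (CommRingCat.of k))).obj (Over.mk (Spec.map (CommRingCat.ofHom (algebraMap k K))))) := by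
  obtain ⟨U, p, hpe, hps⟩ := X.property.atlas
  refine ⟨bcOver U K, bcChart p K, repWith_etale_bcChart p hpe K, repWith_surjective_bcChart p hps K, ?_⟩
  change AlgebraicGeometry.IsReduced (FBase.bc U.hom K)
  apply +allowSynthFailures isReduced_of_isReduced_stalk
  intro u'
  obtain ⟨V, b, v, hbe, hv, hred⟩ := h (Points.ofPt p (FBase.bcπ U.hom K u'))
  have := isGeomReducedAt_transfer b hbe p hpe v (FBase.bcπ U.hom K u') hv hred
  exact this K u' rfl

/-- If every base change `X_K` is étale locally reduced, then `X` is geometrically reduced at all of its points. -/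
theorem geomReduced_of_forall_etaleLocally_isReduced_bc (X : AlgSp.Space (Spec (CommRingCat.of k)))
    (h : ∀ (K : Type u) [Field K] [Algebra k K], AlgSp.EtaleLocally (fun U => AlgebraicGeometry.IsReduced U) (X.obj ⨯ (AlgSp.yon (Spec (CommRingCat.of k))).obj (Over.mk (Spec.map (CommRingCat.ofHom (algebraMap k K))))))
    (x : AlgSp.Points X.obj) :
    ∃ (U : Over (Spec (CommRingCat.of k))) (a : (AlgSp.yon (Spec (CommRingCat.of k))).obj U ⟶ X.obj) (u : ↥U.left),
      AlgSp.RepWith @Etale a ∧ AlgSp.Points.ofPt a u = x ∧ FBase.IsGeomReducedAt U.hom u := by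
  obtain ⟨U, a, u, ha, hu⟩ := exists_chart_through X.property x
  refine ⟨U, a, u, ha, hu, ?_⟩
  intro K _ _ u' _
  have : AlgebraicGeometry.IsReduced (FBase.bc U.hom K) :=
    isReduced_chart_of_etaleLocally (h K) (bcChart a K) (repWith_etale_bcChart a ha K)
  infer_instance

/-- If the base change of `X` to a perfect field extension is étale locally reduced, then `X` is geometrically reduced
at all of its points. -/
theorem geomReduced_of_etaleLocally_isReduced_bc_perfect (X : AlgSp.Space (Spec (CommRingCat.of k)))
    (Ω : Type u) [Field Ω] [Algebra k Ω] [PerfectField Ω]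
    (h : AlgSp.EtaleLocally (fun U => AlgebraicGeometry.IsReduced U) (X.obj ⨯ (AlgSp.yon (Spec (CommRingCat.of k))).obj (Over.mk (Spec.map (CommRingCat.ofHom (algebraMap k Ω))))))
    (x : AlgSp.Points X.obj) :
    ∃ (U : Over (Spec (CommRingCat.of k))) (a : (AlgSp.yon (Spec (CommRingCat.of k))).obj U ⟶ X.obj) (u : ↥U.left),
      AlgSp.RepWith @Etale a ∧ AlgSp.Points.ofPt a u = x ∧ FBase.IsGeomReducedAt U.hom u := by
  obtain ⟨x', hx'⟩ := exists_point_bc_over X Ω x
  obtain ⟨V, b, hbe, hbs, hV⟩ := h
  obtain ⟨v', rfl⟩ := Groth.Agent.H52.surjective_points_of_repWith_surjective b hbs x'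
  obtain ⟨v, rfl⟩ := exists_ofScheme_eq V v'
  obtain ⟨q, hq⟩ := (yon _).map_surjective (b ≫ prod.snd)
  refine (geomReducedAt_iff_bc X Ω x _ hx').2 ⟨V, b, q, v, hbe, hq.symm, Points.ofPt_eq_map_ofScheme b v, ?_⟩
  intro L _ _ w hw
  have : AlgebraicGeometry.IsReduced V.left := hV
  exact Groth.Agent.Lib.Helper62.isReduced_stalk_pullback_of_perfectField (k := Ω) q.left v L w hw

end Groth.Agent.Lib.Helper54
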