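import Groth.Agent.Lib.Helper54.GeomReduced
import Groth.Agent.Lib.Helper54.Transfer
import Groth.Agent.Lib.Helper54.FpqcTop

/-!
# Geometric reducedness of algebraic spaces over a field at a point: independence of the chart
-/

set_option autoImplicit false
universe u
open CategoryTheory CategoryTheory.Limits AlgebraicGeometry
open AlgSp

namespace Groth.Agent.Lib.Helper54

variable {S : Scheme.{u}}

/-- Two étale charts through the same point of a sheaf are dominated by a third one. -/
theorem exists_common_chart {X : Sp S} {U V : Over S} (a : (yon S).obj U ⟶ X) (ha : RepWith @Etale a)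
    (b : (yon S).obj V ⟶ X) (hb : RepWith @Etale b) (u : ↥U.left) (v : ↥V.left)
    (huv : Points.ofPt a u = Points.ofPt b v) :
    ∃ (W : Over S) (α : W ⟶ V) (β : W ⟶ U) (w : ↥W.left), Etale α.left ∧ Etale β.left ∧
      α.left w = v ∧ β.left w = u ∧ (yon S).map α ≫ b = (yon S).map β ≫ a := by
  obtain ⟨W, α, β, hα, sq, -⟩ := exists_chart_square (𝟙 X) b hb a ha
  have hb' : RepWith @Etale (b ≫ 𝟙 X) := by rw [Category.comp_id]; exact hb
  have hβ : Etale β.left := hb'.property a _ β sq
  obtain ⟨w, hw1, hw2⟩ := exists_pt_of_isPullback_yon sq (Points.ofScheme V v) u (by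
    rw [Category.comp_id, ← Points.ofPt_eq_map_ofScheme, huv])
  refine ⟨W, α, β, w, hα, hβ, ?_, hw2, by rw [← sq.w, Category.comp_id]⟩
  have : Points.ofScheme V (α.left w) = Points.ofScheme V v := by
    rw [← hw1]
    rw [← Category.comp_id ((yon S).map α), ofPt_yon_map_comp]
  exact (Points.schemeEquiv V).injective this

variable {k : Type u} [Field k]

/-- Geometric reducedness at a point of an algebraic space over a field does not depend on the étale chart. -/
theorem isGeomReducedAt_transfer {X : Sp (Spec (CommRingCat.of k))} {U V : Over (Spec (CommRingCat.of k))}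
    (a : (yon _).obj U ⟶ X) (ha : RepWith @Etale a) (b : (yon _).obj V ⟶ X) (hb : RepWith @Etale b)
    (u : ↥U.left) (v : ↥V.left) (huv : Points.ofPt a u = Points.ofPt b v)
    (h : FBase.IsGeomReducedAt U.hom u) : FBase.IsGeomReducedAt V.hom v := by
  obtain ⟨W, α, β, w, hα, hβ, hw1, hw2, -⟩ := exists_common_chart a ha b hb u v huv
  have h1 : FBase.IsGeomReducedAt (β.left ≫ U.hom) w :=
    (isGeomReducedAt_iff_of_etale β.left U.hom w).mpr (by rw [hw2]; exact h)
  have h2 : FBase.IsGeomReducedAt (α.left ≫ V.hom) w := by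
    rw [Over.w α, ← Over.w β]; exact h1
  have := (isGeomReducedAt_iff_of_etale α.left V.hom w).mp h2
  rwa [hw1] at this

/-- Every point of an algebraic space lies in the image of an étale chart. -/
theorem exists_chart_through {X : Sp S} (hX : IsAlgSpace X) (x : Points X) :
    ∃ (U : Over S) (a : (yon S).obj U ⟶ X) (u : ↥U.left), RepWith @Etale a ∧ Points.ofPt a u = x := by
  obtain ⟨U, p, hpe, hps⟩ := hX.atlas
  obtain ⟨u', rfl⟩ := Groth.Agent.H52.surjective_points_of_repWith_surjective p hps x
  obtain ⟨u, rfl⟩ := exists_ofScheme_eq U u'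
  exact ⟨U, p, u, hpe, Points.ofPt_eq_map_ofScheme p u⟩

end Groth.Agent.Lib.Helper54
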