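/-
Helper library (helper54): monomorphisms into a one-point space `Z` admitting an fppf morphism from the spectrum of a field.
-/
import Groth.Agent.Lib.Helper54.MonoField
import Groth.Agent.H52.FibreProd

set_option autoImplicit false
universe u
open CategoryTheory CategoryTheory.Limits AlgebraicGeometry

namespace Groth.Agent.Lib.Helper54

open AlgSp

variable {S : Scheme.{u}}

/-- A sheaf receiving a surjective map from the spectrum of a field has at most one point. -/
theorem subsingleton_points_of_surjective_fieldPt {Z : Sp S} {k : Type u} [Field k]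
    {str : Spec (CommRingCat.of k) ⟶ S} (p : (yon S).obj (Over.mk str) ⟶ Z) (hps : IsSurjectiveMor p) :
    Subsingleton (Points Z) := by
  constructor
  intro z z'
  obtain ⟨y, rfl⟩ := hps z
  obtain ⟨y', rfl⟩ := hps z'
  have : Subsingleton (Points ((yon S).obj (Over.mk str))) :=
    Groth.Agent.H52.subsingleton_points_spec_field str
  rw [Subsingleton.elim y y']

/-- A morphism from the spectrum of a field to an algebraic space which is flat, locally of finite presentation and
surjective is an epimorphism of sheaves. -/
theorem epi_of_fppf_fieldPt {Z : Sp S} (hZ : IsAlgSpace Z) {k : Type u} [Field k]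
    {str : Spec (CommRingCat.of k) ⟶ S} (p : (yon S).obj (Over.mk str) ⟶ Z)
    (hpp : LocP @LocallyOfFinitePresentation p) (hpf : LocP @Flat p) (hps : IsSurjectiveMor p) : Epi p := by
  obtain ⟨W, b, hbe, hbs⟩ := hZ.atlas
  have hid : RepWith @Etale (𝟙 ((yon S).obj (Over.mk str))) := repWith_id _ _
  obtain ⟨E, α, π, hα, sq, hrep⟩ := exists_chart_square p (𝟙 _) hid b hbe
  have hflat : Flat π.left := locP_of_chart_square hpf hbe sq hrep
  have hlfp : LocallyOfFinitePresentation π.left := locP_of_chart_square hpp hbe sq hrep
  have hsurj : Surjective π.left :=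
    ⟨surjective_of_chart_square sq (fun x => ⟨x, by rw [Points.map_id]⟩) hps⟩
  have h1 : Epi ((yon S).map π) := Groth.Agent.H52.epi_yon_map_of_fppf π
  have h2 : Epi b := Groth.Agent.H52.epi_of_repWith_etale_surjective b hbe hbs
  have h3 : Epi ((yon S).map α ≫ p) := by
    have hw := sq.w
    rw [Category.id_comp] at hw
    rw [hw]
    exact epi_comp _ _
  exact epi_of_epi ((yon S).map α) p

/-- A monomorphism from a nonempty algebraic space to an algebraic space `Z` admitting an fppf morphism from the spectrum of a
field is an isomorphism. -/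
theorem isIso_of_mono_of_fppf_fieldPt {Z' Z : Sp S} (hZ' : IsAlgSpace Z') (hZ : IsAlgSpace Z)
    (f : Z' ⟶ Z) [Mono f] {k : Type u} [Field k] {str : Spec (CommRingCat.of k) ⟶ S}
    (p : (yon S).obj (Over.mk str) ⟶ Z) (hpp : LocP @LocallyOfFinitePresentation p)
    (hpf : LocP @Flat p) (hps : IsSurjectiveMor p) (z' : Points Z') : IsIso f := by
  have hsub : Subsingleton (Points Z) := subsingleton_points_of_surjective_fieldPt p hps
  have hpepi : Epi p := epi_of_fppf_fieldPt hZ p hpp hpf hps
  have sq : IsPullback (pullback.fst p f) (pullback.snd p f) p f := IsPullback.of_hasPullback _ _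
  have hT : IsAlgSpace (pullback p f) :=
    Groth.Agent.H52.isAlgSpace_of_isPullback sq (IsAlgSpace.yon_obj _) hZ hZ'
  have hmono : Mono (pullback.fst p f) := inferInstance
  obtain ⟨t, -, -⟩ := exists_point_of_isPullback sq
    (Points.ofScheme (Over.mk str) (IsLocalRing.closedPoint k)) z' (Subsingleton.elim _ _)
  have hiso : IsIso (pullback.fst p f) := isIso_of_mono_to_field_of_isAlgSpace hT t _
  have hfac : (inv (pullback.fst p f) ≫ pullback.snd p f) ≫ f = p := by
    rw [Category.assoc, ← pullback.condition, IsIso.inv_hom_id_assoc]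
  have hfepi : Epi f := by
    have : Epi ((inv (pullback.fst p f) ≫ pullback.snd p f) ≫ f) := by
      rw [hfac]; exact hpepi
    exact epi_of_epi (inv (pullback.fst p f) ≫ pullback.snd p f) f
  exact isIso_of_mono_of_epi f

end Groth.Agent.Lib.Helper54
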