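import Groth.Agent.Lib.Helper54.ClosedPtSp
import Groth.Agent.Lib.Helper54.Reduced
import Groth.Agent.Lib.Helper51.QuotSpEff
import Groth.Agent.H52.Epi
import Groth.Agent.H53.NoSpec
import Groth.Agent.H53.Decent

/-!
# Reduced spaces mapping to a point factor through the quasi-compact monomorphism representing it
-/

set_option autoImplicit false
set_option backward.isDefEq.respectTransparency false
universe u
open AlgebraicGeometry CategoryTheory CategoryTheory.Limits Topology
open AlgSp

namespace Groth.Agent.Lib.Helper54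

variable {S : Scheme.{u}}

/-- L1: a morphism that factors through a monomorphism after precomposition with an epimorphism factors through it. -/
theorem exists_factor_mono_of_epi {A B B' X : Sp S} (m : A ⟶ X) [Mono m] (h : B ⟶ X) (e : B' ⟶ B) [Epi e]
    (g' : B' ⟶ A) (hg : g' ≫ m = e ≫ h) : ∃ g : B ⟶ A, g ≫ m = h := by
  have sq : IsPullback (pullback.fst h m) (pullback.snd h m) h m := IsPullback.of_hasPullback h m
  have hmono : Mono (pullback.fst h m) := sq.mono_fst_of_mono
  let l : B' ⟶ pullback h m := sq.lift e g' hg.symm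
  have hl : l ≫ pullback.fst h m = e := sq.lift_fst _ _ _
  have hepi : Epi (pullback.fst h m) := by
    have : Epi (l ≫ pullback.fst h m) := by rw [hl]; infer_instance
    exact epi_of_epi l _
  have hiso : IsIso (pullback.fst h m) := Groth.Agent.Lib.Helper51.isIso_of_mono_of_epi_sp _
  refine ⟨inv (pullback.fst h m) ≫ pullback.snd h m, ?_⟩
  rw [Category.assoc, ← sq.w, IsIso.inv_hom_id_assoc]

/-- L3: a morphism from a reduced scheme whose image is a single point `u` factors through `Spec κ(u)`. -/
theorem exists_factor_fromSpecResidueField_of_isReduced {W U : Scheme.{u}} [IsReduced W] (h : W ⟶ U) (u : ↥U)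
    (hu : ∀ w : ↥W, h w = u) : ∃ r : W ⟶ Spec (U.residueField u), r ≫ U.fromSpecResidueField u = h := by
  have hpre : IsPreimmersion (pullback.fst h (U.fromSpecResidueField u)) := inferInstance
  have hs : Surjective (pullback.fst h (U.fromSpecResidueField u)) := by
    refine ⟨fun w => ?_⟩
    obtain ⟨z, hz, -⟩ := Scheme.Pullback.exists_preimage_pullback (f := h) (g := U.fromSpecResidueField u) w
      (IsLocalRing.closedPoint (U.residueField u))
      (by rw [hu, Scheme.fromSpecResidueField_apply])
    exact ⟨z, hz⟩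
  have hci : IsClosedImmersion (pullback.fst h (U.fromSpecResidueField u)) :=
    IsClosedImmersion.of_isPreimmersion _ (by
      rw [(pullback.fst h (U.fromSpecResidueField u)).surjective.range_eq]; exact isClosed_univ)
  have hiso : IsIso (pullback.fst h (U.fromSpecResidueField u)) :=
    isIso_of_isClosedImmersion_of_surjective _
  exact ⟨inv (pullback.fst h (U.fromSpecResidueField u)) ≫ pullback.snd _ _, by
    rw [Category.assoc, ← pullback.condition, IsIso.inv_hom_id_assoc]⟩

/-- The fibre of an étale chart over a point represented by a quasi-compact field point is discrete: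
every point of the fibre has an open neighbourhood meeting the fibre only in that point. -/
theorem exists_open_inter_fibre_subset_singleton {X : Sp S} (p : FieldPt X)
    (hq : RepWith @QuasiCompact p.toHom) {U : Over S} (a : (yon S).obj U ⟶ X) (ha : RepWith @Etale a)
    (u : ↥U.left) (hu : Points.ofPt a u = Points.mk p) :
    ∃ O : Set ↥U.left, IsOpen O ∧ u ∈ O ∧ ∀ u' ∈ O, Points.ofPt a u' = Points.mk p → u' = u := by
  obtain ⟨_, ⟨W', hW, rfl⟩, huW, -⟩ :=
    (U.left.isBasis_affineOpens).exists_subset_of_mem_open (Set.mem_univ u) isOpen_univ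
  let W : U.left.Opens := W'
  have hfinaff : ∀ (V : Over S) (b : (yon S).obj V ⟶ X), IsAffine V.left → RepWith @Etale b →
      (Points.ofPt b ⁻¹' {Points.mk p}).Finite := by
    intro V b hV hb
    have : CompactSpace ↥V.left := inferInstance
    exact Groth.Agent.H53.finite_fibre_of_quasiCompact_point p hq b hb
  have hE : (RepWith (S := S) @Etale).IsMultiplicative := repWith_isMultiplicative _
  have hι : RepWith @Etale ((yon S).map (Groth.Agent.H53.ZarGlue.ovι U W)) :=
    (repWith_yon_map_iff _ _).2 (by change Etale W.ι; infer_instance)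
  have hb : RepWith @Etale ((yon S).map (Groth.Agent.H53.ZarGlue.ovι U W) ≫ a) :=
    MorphismProperty.comp_mem _ _ _ hι ha
  have hWaff : IsAffine (Groth.Agent.H53.ZarGlue.ov U W).left := hW
  have hfinW := hfinaff _ _ hWaff hb
  -- the finite set of other fibre points in `W`
  let Φ : Set ↥U.left := {u' | u' ∈ W ∧ Points.ofPt a u' = Points.mk p ∧ u' ≠ u}
  have hΦfin : Φ.Finite := by
    have himg : Φ ⊆ (fun w : ↥(Groth.Agent.H53.ZarGlue.ov U W).left =>
        (Groth.Agent.H53.ZarGlue.ovι U W).left w) ''
        (Points.ofPt ((yon S).map (Groth.Agent.H53.ZarGlue.ovι U W) ≫ a) ⁻¹' {Points.mk p}) := by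
      rintro u' ⟨hu'W, hu', -⟩
      refine ⟨⟨u', hu'W⟩, ?_, rfl⟩
      simp only [Set.mem_preimage, Set.mem_singleton_iff]
      rw [Groth.Agent.H53.FibrePts.ofPt_yon_map_comp]
      exact hu'
    exact (hfinW.image _).subset himg
  refine ⟨(W : Set ↥U.left) \ ⋃ u' ∈ Φ, closure {u'}, ?_, ⟨huW, ?_⟩, ?_⟩
  · exact W.2.sdiff (hΦfin.isClosed_biUnion fun _ _ => isClosed_closure)
  · simp only [Set.mem_iUnion, not_exists]
    intro u' hu'Φ hmem
    have hs : u' ⤳ u := specializes_iff_mem_closure.2 hmem
    exact hu'Φ.2.2 (Groth.Agent.H53.eq_of_specializes_of_finite_affine_fibres (Points.mk p) hfinaff a ha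
      u u' hu hu'Φ.2.1 hs).symm
  · rintro u' ⟨hu'W, hu'not⟩ hu'
    by_contra hne
    exact hu'not (Set.mem_biUnion (show u' ∈ Φ from ⟨hu'W, hu', hne⟩) (subset_closure rfl))

/-- Lemma P: the base change to an étale chart of a quasi-compact monomorphism `Spec k ⟶ X` is a preimmersion. -/
theorem isPreimmersion_of_qc_mono_point {X : Sp S} (p : FieldPt X) (hm : Mono p.toHom)
    (hq : RepWith @QuasiCompact p.toHom) {U T : Over S} (a : (yon S).obj U ⟶ X) (ha : RepWith @Etale a)
    (c : T ⟶ p.pt) (d : T ⟶ U) (sq : IsPullback ((yon S).map c) ((yon S).map d) p.toHom a) :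
    IsPreimmersion d.left := by
  have he : Etale c.left := Groth.Agent.H53.FibrePts.etale_fst p a ha c d sq
  have h1 : Mono ((yon S).map d) :=
    MorphismProperty.of_isPullback (P := MorphismProperty.monomorphisms (Sp S)) sq
      (MorphismProperty.monomorphisms.infer_property p.toHom)
  have h2 : Mono d := (yon S).mono_of_mono_map h1
  have h3 : Mono d.left := inferInstance
  have hs : SurjectiveOnStalks d.left := surjectiveOnStalks_of_mono_of_etale_field (K := p.K) c.left d.left
  have hdisc : DiscreteTopology ↥T.left :=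
    (Groth.Agent.H53.FieldQuot.discrete_reduced_of_etale_over_field (k := p.K) c.left).1
  have hr := Groth.Agent.H53.FibrePts.range_eq_fibre p a c d sq
  have hind : IsInducing d.left := by
    rw [isInducing_iff_nhds]
    intro t
    rw [nhds_discrete]
    apply le_antisymm
    · have h1 : pure t ≤ 𝓝 t := pure_le_nhds t
      exact h1.trans (d.left.continuous.tendsto t).le_comap
    · rw [Filter.le_pure_iff, Filter.mem_comap]
      have htΦ : Points.ofPt a (d.left t) = Points.mk p := by
        have : d.left t ∈ Points.ofPt a ⁻¹' {Points.mk p} := by rw [← hr]; exact ⟨t, rfl⟩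
        exact this
      obtain ⟨O, hO, htO, hOΦ⟩ := exists_open_inter_fibre_subset_singleton p hq a ha (d.left t) htΦ
      refine ⟨O, hO.mem_nhds htO, ?_⟩
      intro t' ht'O
      have ht'Φ : Points.ofPt a (d.left t') = Points.mk p := by
        have : d.left t' ∈ Points.ofPt a ⁻¹' {Points.mk p} := by rw [← hr]; exact ⟨t', rfl⟩
        exact this
      exact d.left.injective (hOΦ _ ht'O ht'Φ)
  exact { toSurjectiveOnStalks := hs, isEmbedding := ⟨hind, d.left.injective⟩ }

/-- Lemma K: a morphism from a reduced scheme to an algebraic space all of whose points go to the point of a quasi-compact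
monomorphism `Spec k ⟶ X` factors through it. -/
theorem exists_factor_of_isReduced_of_forall_ofPt {X : Sp S} (hX : IsAlgSpace X) (p : FieldPt X)
    (hm : Mono p.toHom) (hq : RepWith @QuasiCompact p.toHom) {V : Over S} [IsReduced V.left]
    (h : (yon S).obj V ⟶ X) (hh : ∀ v : ↥V.left, Points.ofPt h v = Points.mk p) :
    ∃ g : (yon S).obj V ⟶ (yon S).obj p.pt, g ≫ p.toHom = h := by
  obtain ⟨U, a, hae, has⟩ := hX.atlas
  have hrep : Representable p.toHom := hX.representable_from_yon p.toHom
  obtain ⟨T, c, d, sqT⟩ : ∃ (T : Over S) (c : T ⟶ p.pt) (d : T ⟶ U),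
      IsPullback ((yon S).map c) ((yon S).map d) p.toHom a := ⟨_, _, _, hrep.isPullback' a⟩
  obtain ⟨V', v₁, v₂, sqV, hv2e, hv2s⟩ : ∃ (V' : Over S) (v₁ : V' ⟶ U) (v₂ : V' ⟶ V),
      IsPullback ((yon S).map v₁) ((yon S).map v₂) a h ∧ Etale v₂.left ∧ Surjective v₂.left :=
    ⟨_, _, _, hae.rep.isPullback' h, hae.property_snd h, has.2 _ _ _ (hae.rep.isPullback h)⟩
  have hV'red : IsReduced V'.left := isReduced_of_etale_scheme v₂.left
  have hpre : IsPreimmersion d.left := isPreimmersion_of_qc_mono_point p hm hq a hae c d sqT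
  have hr := Groth.Agent.H53.FibrePts.range_eq_fibre p a c d sqT
  have hpre' : IsPreimmersion (pullback.fst v₁.left d.left) := inferInstance
  have hsurj : Surjective (pullback.fst v₁.left d.left) := by
    refine ⟨fun v' => ?_⟩
    have h1 : Points.ofPt a (v₁.left v') = Points.mk p := by
      rw [← Groth.Agent.H53.FibrePts.ofPt_yon_map_comp, sqV.w,
        Groth.Agent.H53.FibrePts.ofPt_yon_map_comp]
      exact hh _
    have h2 : v₁.left v' ∈ Set.range d.left := by rw [hr]; exact h1
    obtain ⟨t, ht⟩ := h2
    obtain ⟨z, hz, -⟩ := Scheme.Pullback.exists_preimage_pullback (f := v₁.left) (g := d.left) v' t ht.symm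
    exact ⟨z, hz⟩
  have hci : IsClosedImmersion (pullback.fst v₁.left d.left) :=
    IsClosedImmersion.of_isPreimmersion _ (by
      rw [(pullback.fst v₁.left d.left).surjective.range_eq]; exact isClosed_univ)
  have hiso : IsIso (pullback.fst v₁.left d.left) := isIso_of_isClosedImmersion_of_surjective _
  let r : V'.left ⟶ T.left := inv (pullback.fst v₁.left d.left) ≫ pullback.snd v₁.left d.left
  have hrd : r ≫ d.left = v₁.left := by
    rw [Category.assoc, ← pullback.condition, IsIso.inv_hom_id_assoc]
  let r' : V' ⟶ T := Over.homMk r (by rw [← Over.w d, ← Category.assoc, hrd, Over.w])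
  have hr'd : r' ≫ d = v₁ := by
    apply Over.OverMorphism.ext
    exact hrd
  have hfac : (yon S).map (r' ≫ c) ≫ p.toHom = (yon S).map v₂ ≫ h := by
    rw [Functor.map_comp, Category.assoc, sqT.w, ← Category.assoc, ← Functor.map_comp, hr'd, sqV.w]
  have hepi : Epi ((yon S).map v₂) := Groth.Agent.H52.epi_yon_map_of_fppf v₂
  exact exists_factor_mono_of_epi p.toHom h ((yon S).map v₂) ((yon S).map (r' ≫ c)) hfac

/-- S10373: a morphism from a reduced algebraic space with image the point of a quasi-compact monomorphism `Spec k ⟶ X`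
factors through it. -/
theorem exists_factor_of_reducedSp {X Y : Sp S} (hX : IsAlgSpace X) (p : FieldPt X)
    (hm : Mono p.toHom) (hq : RepWith @QuasiCompact p.toHom) (f : Y ⟶ X)
    (hY : EtaleLocally (fun U => IsReduced U) Y)
    (hf : ∀ y : Points Y, Points.map f y = Points.mk p) :
    ∃ g : Y ⟶ (yon S).obj p.pt, g ≫ p.toHom = f := by
  obtain ⟨V, b, hbe, hbs, hVred⟩ := hY
  have : IsReduced V.left := hVred
  obtain ⟨g₀, hg₀⟩ := exists_factor_of_isReduced_of_forall_ofPt hX p hm hq (b ≫ f) (fun v => by
    rw [← Points.map_ofPt]; exact hf _)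
  have hepi : Epi b := Groth.Agent.H52.epi_of_repWith_etale_surjective b hbe hbs
  exact exists_factor_mono_of_epi p.toHom f b g₀ hg₀

end Groth.Agent.Lib.Helper54
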