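import Groth.Agent.Lib.Helper54.FpqcDescent
import Groth.Agent.H52.AffineMor
import Groth.Agent.H53.ZarGlueAff
import Groth.Agent.H53.Proper

/-!
# fpqc descent of properties of affine morphisms (helper54)

Given that affine morphisms are fpqc local on the base, every property `Q` of morphisms of schemes
that implies affineness, is stable under base change, Zariski local on the target and satisfies
fpqc descent gives a property `RepWith Q` of morphisms of algebraic spaces that is fpqc local on the
base.
-/

set_option autoImplicit false
universe u
open CategoryTheory CategoryTheory.Limits AlgebraicGeometry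

namespace Groth.Agent.Lib.Helper54

open AlgSp

variable {S : Scheme.{u}}

theorem repWith_isLocalOnBase_fpqc_of_le_isAffineHom
    (hS10533 : IsLocalOnBase (IsFpqcCover (S := S)) IsAffineMor)
    (Q : MorphismProperty Scheme.{u}) [Q.IsStableUnderBaseChange]
    [IsZariskiLocalAtTarget Q] [Q.DescendsAlong (@Surjective ⊓ @Flat ⊓ @QuasiCompact)]
    (hQ : Q ≤ @IsAffineHom) : IsLocalOnBase (IsFpqcCover (S := S)) (RepWith Q) := by
  intro ι Y Yi g hY hYi hcov X f hX Xi p q hXi sq
  have hbc : (AlgSp.RepWith (S := S) Q).IsStableUnderBaseChange :=
    repWith_isStableUnderBaseChange _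
  constructor
  · intro hf i
    exact MorphismProperty.of_isPullback (sq i) hf
  · intro hp
    have haffm : IsAffineMor f :=
      (hS10533 Yi g hY hYi hcov f hX Xi p q hXi sq).2 (fun i =>
        Groth.Agent.H52.isAffineMor_of_repWith_isAffineHom _
          (Groth.Agent.H53.repWith_of_le hQ (hp i)))
    have hrep : Representable f := Groth.Agent.H53.ZarGlue.representable_of_isAffineMor haffm
    refine repWith_of_fpqc_local Q f hrep ?_
    intro T hT y
    obtain ⟨m, W, c, haff, hflat, hsurj, hl⟩ := hcov.2 T hT y
    refine ⟨m, W, c, haff, hflat, hsurj, fun j => ?_⟩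
    obtain ⟨i, l, hl⟩ := hl j
    refine ⟨pullback (p i) l, pullback.fst _ _ ≫ q i, pullback.snd _ _, ?_,
      MorphismProperty.of_isPullback (IsPullback.of_hasPullback (p i) l) (hp i)⟩
    have := (IsPullback.of_hasPullback (p i) l).paste_horiz (sq i)
    rwa [hl] at this

end Groth.Agent.Lib.Helper54
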