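import Groth.Agent.Lib.Helper54.SchematicLocusFE
import Groth.Agent.H53.SoberSp
import Groth.Agent.H53.ZarGlueInt
import Groth.Agent.H52.Descent
import Groth.Agent.S10268
import Groth.Agent.S2080

/-!
# Codimension zero points of a quasi-separated algebraic space lie in the schematic locus (helper54)
-/

set_option autoImplicit false
set_option linter.style.haveILetI false
universe u
open CategoryTheory CategoryTheory.Limits AlgebraicGeometry

namespace Groth.Agent.Lib.Helper54
open AlgSp Groth.Agent.H53.ZarGlue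

variable {S : Scheme.{u}}

/-- The schematic locus of an open subspace maps into the schematic locus. -/
theorem schematicLocus_of_openImmersion {X₁ X : Sp S} (j : X₁ ⟶ X) (hj : RepWith @IsOpenImmersion j)
    (x₁ : Points X₁) (h : x₁ ∈ schematicLocus X₁) : Points.map j x₁ ∈ schematicLocus X := by
  have hM : (RepWith (S := S) @IsOpenImmersion).IsMultiplicative := repWith_isMultiplicative _
  obtain ⟨T, a, ha, ξ, rfl⟩ := h
  exact ⟨T, a ≫ j, (RepWith (S := S) @IsOpenImmersion).comp_mem _ _ ha hj, ξ, by rw [Points.map_comp]⟩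

/-- If the restriction of `σ` over an open `U'` is finite, then every base change of `σ` along the inclusion of `U'`
is finite. -/
theorem isFinite_of_isPullback_of_morphismRestrict {A B A₁ : Scheme.{u}} (σ : A ⟶ B) (U' : B.Opens)
    (l : A₁ ⟶ A) (σ₁ : A₁ ⟶ (U' : Scheme.{u})) (sq : IsPullback l σ₁ σ U'.ι)
    (h : IsFinite (σ ∣_ U')) : IsFinite σ₁ := by
  have left : IsPullback (σ ⁻¹ᵁ U').ι (σ ∣_ U') σ U'.ι := (isPullback_morphismRestrict σ U').flip
  have e : σ₁ = (sq.isoIsPullback _ _ left).hom ≫ (σ ∣_ U') := (IsPullback.isoIsPullback_hom_snd _ _ sq left).symm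
  rw [e]
  infer_instance

/-- **Codimension zero points of a quasi-separated algebraic space lie in the schematic locus.** -/
theorem codim_zero_mem_schematicLocus_of_qs {X : Sp S} (hX : IsAlgSpace X) (hqs : IsQuasiSeparatedSp X)
    (x : Points X) (hx : HasAt (fun U u => ringKrullDim ↥(U.presheaf.stalk u) = 0) X x) :
    x ∈ schematicLocus X := by
  have hE : (RepWith (S := S) @Etale).IsMultiplicative := repWith_isMultiplicative _
  haveI : (RepWith (S := S) @Surjective).IsStableUnderBaseChange := repWith_isStableUnderBaseChange _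
  haveI : (RepWith (S := S) @Etale).IsStableUnderBaseChange := repWith_isStableUnderBaseChange _
  haveI : (RepWith (S := S) @IsFinite).IsStableUnderBaseChange := repWith_isStableUnderBaseChange _
  obtain ⟨V, b, v, hVaff, hbe, hbv, hVV⟩ :=
    Groth.Agent.H53.SoberSp.exists_affine_chart_over_affine hX x
  haveI := hVaff
  have hr := hbe.rep
  obtain ⟨t', ht'⟩ := (yon S).map_surjective (hr.fst b)
  have sq : IsPullback ((yon S).map t') ((yon S).map (hr.snd b)) b b := by
    rw [ht']
    exact hr.isPullback b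
  obtain ⟨s', hs'⟩ : ∃ s' : hr.pullback b ⟶ V, s' = hr.snd b := ⟨_, rfl⟩
  rw [← hs'] at sq
  haveI hRc : CompactSpace ↥(hr.pullback b).left :=
    Groth.Agent.H53.SoberSp.compactSpace_of_isPullback hqs hVV b b t' s' sq
  haveI : Etale s'.left := hbe.property b _ _ sq
  haveI : IsSeparated s'.left := Groth.Agent.H53.isSeparated_snd_of_isPullback sq
  have hdim : ringKrullDim ↥(V.left.presheaf.stalk v) = 0 :=
    ringKrullDim_stalk_eq_zero_of_hasAt b hbe v (hbv ▸ hx)
  have hη := closure_singleton_mem_irreducibleComponents_of_dim_zero v hdim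
  haveI := Groth.Agent.H53.locallyQuasiFinite_of_etale s'.left
  have hfinv : (s'.left ⁻¹' {v}).Finite := Scheme.Hom.finite_preimage_singleton s'.left v
  obtain ⟨V₁, hV₁, hvV₁, hfin₁⟩ := (Groth.Agent.S2080.result s'.left v hη).1 hfinv
  -- the open subspace `X₁`, image of `V₁`
  obtain ⟨N, hNdef⟩ : ∃ N : Set (Points X), N = Points.ofPt b '' (V₁ : Set ↥V.left) := ⟨_, rfl⟩
  have hN : IsOpen N := by
    rw [hNdef]
    exact Groth.Agent.H53.isOpenMap_ofPt_of_etale b hbe _ V₁.2
  have hι₁ := repWith_isOpenImmersion_openSubι X N hN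
  have hX₁ : IsAlgSpace (openSub X N) := isAlgSpace_openSub hX N hN
  obtain ⟨b₁, hb₁⟩ : ∃ b₁ : (yon S).obj (Groth.Agent.H52.overOpen V V₁) ⟶ X,
    b₁ = (yon S).map (Groth.Agent.H52.overOpenι V V₁) ≫ b := ⟨_, rfl⟩
  have hb₁e : RepWith @Etale b₁ := by
    rw [hb₁]
    exact (RepWith (S := S) @Etale).comp_mem _ _ (Groth.Agent.H52.repWith_etale_overOpenι V V₁) hbe
  have hb₁pt : ∀ w, Points.ofPt b₁ w = Points.ofPt b ((Groth.Agent.H52.overOpenι V V₁).left w) := by
    intro w
    rw [hb₁, ofPt_yon_map_comp]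
  have himage : Set.range (Points.map (openSubι X N)) = Set.range (Points.ofPt b₁) := by
    rw [range_points_map_openSubι, hNdef]
    ext y
    constructor
    · rintro ⟨w, hw, rfl⟩
      obtain ⟨w₁, hw₁⟩ : ∃ w₁ : ↥(Groth.Agent.H52.overOpen V V₁).left,
        (Groth.Agent.H52.overOpenι V V₁).left w₁ = w := ⟨⟨w, hw⟩, rfl⟩
      exact ⟨w₁, by rw [hb₁pt, hw₁]⟩
    · rintro ⟨w₁, rfl⟩
      exact ⟨(Groth.Agent.H52.overOpenι V V₁).left w₁, w₁.2, (hb₁pt w₁).symm⟩
  obtain ⟨b₁', hb₁', hb₁'e, hb₁'s, hmono⟩ :=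
    Groth.Agent.H53.exists_factor_etale_surjective b₁ hb₁e (openSubι X N) hι₁ himage
  -- the saturation `Y₁` of `V₁`
  obtain ⟨Y₁, q₁, f₁, sqY⟩ : ∃ (Y₁ : Sp S) (q₁ : Y₁ ⟶ (yon S).obj V) (f₁ : Y₁ ⟶ openSub X N),
      IsPullback q₁ f₁ b (openSubι X N) := ⟨_, _, _, IsPullback.of_hasPullback b (openSubι X N)⟩
  have hq₁oi : RepWith @IsOpenImmersion q₁ := MorphismProperty.of_isPullback sqY.flip hι₁
  have hf₁e : RepWith @Etale f₁ := MorphismProperty.of_isPullback sqY hbe
  have hY₁ : IsAlgSpace Y₁ :=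
    Groth.Agent.Lib.Helper51.isAlgSpace_of_representable (IsAlgSpace.yon_obj V) q₁ hq₁oi.rep
  have hf₁surj : Function.Surjective (Points.map f₁) := by
    intro x₁
    have h1 : Points.map (openSubι X N) x₁ ∈ Set.range (Points.map (openSubι X N)) := ⟨x₁, rfl⟩
    rw [range_points_map_openSubι X N] at h1
    obtain ⟨w, -, hw⟩ := (Set.ext_iff.1 hNdef _).1 h1
    rw [Points.ofPt_eq_map_ofScheme] at hw
    obtain ⟨p, -, hp⟩ := Groth.Agent.H52.exists_point_of_isPullback sqY (Points.ofScheme V w) x₁ hw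
    exact ⟨p, hp⟩
  have hf₁s : RepWith @Surjective f₁ :=
    Groth.Agent.H52.repWith_surjective_of_surjective_points f₁ hf₁e.rep hf₁surj
  -- finiteness of `f₁` by descent along the chart `b₁'`
  have hf₁fin : RepWith @IsFinite f₁ := by
    rw [← isFiniteMor_iff_repWith]
    have sqP := IsPullback.of_hasPullback f₁ b₁'
    refine (Groth.Agent.S10268.result (X := ⟨Y₁, hY₁⟩) (Y := ⟨openSub X N, hX₁⟩)
      (ObjectProperty.homMk f₁) (Groth.Agent.H52.overOpen V V₁) b₁' hb₁'e hb₁'s
      (pullback.fst f₁ b₁') (pullback.snd f₁ b₁') sqP).2 ?_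
    rw [isFiniteMor_iff_repWith]
    -- the outer rectangle
    have big : IsPullback (pullback.fst f₁ b₁' ≫ q₁) (pullback.snd f₁ b₁') b b₁ := by
      have := sqP.paste_horiz sqY
      rwa [hb₁'] at this
    have sqR₁ := hr.isPullback b₁
    obtain ⟨ε, hε⟩ : ∃ ε : pullback f₁ b₁' ≅ (yon S).obj (hr.pullback b₁),
        ε.hom ≫ (yon S).map (hr.snd b₁) = pullback.snd f₁ b₁' :=
      ⟨big.isoIsPullback _ _ sqR₁, IsPullback.isoIsPullback_hom_snd _ _ big sqR₁⟩
    rw [← hε]
    refine (MorphismProperty.cancel_left_of_respectsIso (RepWith (S := S) @IsFinite) ε.hom _).2 ?_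
    refine (repWith_yon_map_iff @IsFinite _).2 ?_
    -- `hr.snd b₁` is a base change of `s'` along `V₁ ⟶ V`
    have hw : hr.fst b₁ ≫ b = ((yon S).map (hr.snd b₁) ≫ (yon S).map (Groth.Agent.H52.overOpenι V V₁)) ≫ b := by
      rw [Category.assoc, ← hb₁]
      exact sqR₁.w
    obtain ⟨l, hl⟩ := (yon S).map_surjective (sq.lift (hr.fst b₁)
      ((yon S).map (hr.snd b₁) ≫ (yon S).map (Groth.Agent.H52.overOpenι V V₁)) hw)
    have hl1 : (yon S).map l ≫ (yon S).map t' = hr.fst b₁ := by rw [hl, sq.lift_fst]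
    have hl2 : (yon S).map l ≫ (yon S).map s' =
        (yon S).map (hr.snd b₁) ≫ (yon S).map (Groth.Agent.H52.overOpenι V V₁) := by
      rw [hl, sq.lift_snd]
    have left : IsPullback ((yon S).map l) ((yon S).map (hr.snd b₁)) ((yon S).map s')
        ((yon S).map (Groth.Agent.H52.overOpenι V V₁)) := by
      refine IsPullback.of_right ?_ hl2 sq
      rw [hl1, ← hb₁]
      exact sqR₁
    have leftS := Groth.Agent.H52.isPullback_left_of_isPullback_yon left
    exact isFinite_of_isPullback_of_morphismRestrict s'.left V₁ l.left (hr.snd b₁).left leftS hfin₁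
  -- `Y₁` is a scheme `W`, open in `V`
  have hkr := hq₁oi.rep
  have sq1 := hkr.isPullback (𝟙 ((yon S).obj V))
  have hiso : IsIso (hkr.fst (𝟙 ((yon S).obj V))) := sq1.isIso_fst_of_isIso
  have hιW : IsOpenImmersion (hkr.snd (𝟙 ((yon S).obj V))).left := hq₁oi.property_snd _
  haveI : QuasiSeparatedSpace ↥(hkr.pullback (𝟙 ((yon S).obj V))).left :=
    (hkr.snd (𝟙 ((yon S).obj V))).left.isOpenEmbedding.quasiSeparatedSpace
  have sqp : IsPullback (hkr.fst (𝟙 ((yon S).obj V))) (hkr.fst (𝟙 ((yon S).obj V)) ≫ f₁) f₁ (𝟙 _) :=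
    IsPullback.of_horiz_isIso ⟨by rw [Category.comp_id]⟩
  have ha'f : RepWith @IsFinite (hkr.fst (𝟙 ((yon S).obj V)) ≫ f₁) := MorphismProperty.of_isPullback sqp hf₁fin
  have ha'e : RepWith @Etale (hkr.fst (𝟙 ((yon S).obj V)) ≫ f₁) := MorphismProperty.of_isPullback sqp hf₁e
  have ha's : RepWith @Surjective (hkr.fst (𝟙 ((yon S).obj V)) ≫ f₁) := MorphismProperty.of_isPullback sqp hf₁s
  -- the point `x₁` of `X₁` over `x`
  obtain ⟨v₁, hv₁⟩ : ∃ v₁ : ↥(Groth.Agent.H52.overOpen V V₁).left,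
    (Groth.Agent.H52.overOpenι V V₁).left v₁ = v := ⟨⟨v, hvV₁⟩, rfl⟩
  have hx₁ : HasAt (fun U u => ringKrullDim ↥(U.presheaf.stalk u) = 0) (openSub X N) (Points.ofPt b₁' v₁) := by
    refine ⟨Groth.Agent.H52.overOpen V V₁, b₁', v₁, hb₁'e, rfl, ?_⟩
    haveI : IsOpenImmersion (Groth.Agent.H52.overOpenι V V₁).left := (inferInstance : IsOpenImmersion V₁.ι)
    change ringKrullDim ↥((Groth.Agent.H52.overOpen V V₁).left.presheaf.stalk v₁) = 0
    rw [Groth.Agent.H52.ringKrullDim_stalk_eq_of_etale (Groth.Agent.H52.overOpenι V V₁).left v₁, hv₁]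
    exact hdim
  have hmem := codim_zero_mem_schematicLocus _ ha'f ha'e ha's (Points.ofPt b₁' v₁) hx₁
  have := schematicLocus_of_openImmersion (openSubι X N) hι₁ _ hmem
  rwa [Points.map_ofPt, hb₁', hb₁pt, hv₁, hbv] at this

/-- Codimension zero points of `X` in an open subspace are codimension zero points of the open subspace. -/
theorem hasAt_dim_zero_of_openImmersion {X₁ X : Sp S} (j : X₁ ⟶ X) (hj : RepWith @IsOpenImmersion j)
    (x₁ : Points X₁)
    (h : HasAt (fun U u => ringKrullDim ↥(U.presheaf.stalk u) = 0) X (Points.map j x₁)) :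
    HasAt (fun U u => ringKrullDim ↥(U.presheaf.stalk u) = 0) X₁ x₁ := by
  haveI : (RepWith (S := S) @Etale).IsStableUnderBaseChange := repWith_isStableUnderBaseChange _
  obtain ⟨U, a, u, hae, hau, hdim⟩ := h
  have hjr := hj.rep
  have sq := hjr.isPullback a
  have ha₁ : RepWith @Etale (hjr.fst a) := MorphismProperty.of_isPullback sq.flip hae
  rw [Points.ofPt_eq_map_ofScheme] at hau
  obtain ⟨p, hp1, hp2⟩ := Groth.Agent.H52.exists_point_of_isPullback sq x₁ (Points.ofScheme U u) hau.symm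
  obtain ⟨u₁, rfl⟩ := (Points.schemeEquiv _).surjective p
  have hu₁ : (hjr.snd a).left u₁ = u := by
    apply (Points.schemeEquiv U).injective
    exact (Groth.Agent.H52.points_map_ofScheme (hjr.snd a) u₁).symm.trans hp2
  refine ⟨hjr.pullback a, hjr.fst a, u₁, ha₁, (Points.ofPt_eq_map_ofScheme _ u₁).trans hp1, ?_⟩
  haveI : IsOpenImmersion (hjr.snd a).left := hj.property_snd a
  change ringKrullDim ↥((hjr.pullback a).left.presheaf.stalk u₁) = 0
  rw [Groth.Agent.H52.ringKrullDim_stalk_eq_of_etale (hjr.snd a).left u₁, hu₁]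
  exact hdim

/-- Every point of a scheme has a generization whose local ring has dimension zero. -/
theorem exists_dim_zero_generization (U : Scheme.{u}) (u₀ : U) :
    ∃ η : U, η ⤳ u₀ ∧ ringKrullDim ↥(U.presheaf.stalk η) = 0 := by
  have hirr : IsIrreducible (irreducibleComponent u₀) := isIrreducible_irreducibleComponent
  obtain ⟨η, hη⟩ := QuasiSober.sober hirr isClosed_irreducibleComponent
  have hmem : u₀ ∈ closure ({η} : Set U) := by
    rw [hη.def]
    exact mem_irreducibleComponent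
  refine ⟨η, specializes_iff_mem_closure.2 hmem, ?_⟩
  rw [ringKrullDim_stalk_eq_coheight]
  have hmax : IsMax η := by
    intro ζ (hζ : ζ ⤳ η)
    change η ⤳ ζ
    have h1 : closure ({η} : Set U) ⊆ closure ({ζ} : Set U) :=
      (isClosed_closure.closure_subset_iff).2 (Set.singleton_subset_iff.2 (specializes_iff_mem_closure.1 hζ))
    have h2 : closure ({ζ} : Set U) ⊆ irreducibleComponent u₀ := by
      refine (irreducibleComponent_mem_irreducibleComponents u₀).2 isIrreducible_singleton.closure ?_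
      rw [← hη.def]
      exact h1
    rw [← hη.def] at h2
    exact specializes_iff_mem_closure.2 (h2 (subset_closure rfl))
  exact_mod_cast Order.coheight_eq_zero.2 hmax

/-- The codimension zero points of an algebraic space are dense. -/
theorem dense_of_codim_zero_subset {X : Sp S} (hX : IsAlgSpace X) (M : Set (Points X))
    (hM : ∀ x, HasAt (fun U u => ringKrullDim ↥(U.presheaf.stalk u) = 0) X x → x ∈ M) : Dense M := by
  rw [dense_iff_inter_open]
  rintro N hN ⟨x₀, hx₀⟩
  obtain ⟨U, p, hpe, hps⟩ := hX.atlas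
  obtain ⟨ξ, rfl⟩ := Groth.Agent.H52.surjective_points_of_repWith_surjective p hps x₀
  obtain ⟨u₀, rfl⟩ := (Points.schemeEquiv U).surjective ξ
  obtain ⟨η, hη, hdim⟩ := exists_dim_zero_generization U.left u₀
  have hopen : IsOpen (Points.ofPt p ⁻¹' N) := hN.preimage (Points.continuous_ofPt p)
  have hu₀ : u₀ ∈ Points.ofPt p ⁻¹' N := by
    rw [Set.mem_preimage, Points.ofPt_eq_map_ofScheme]
    exact hx₀
  have hηN : η ∈ Points.ofPt p ⁻¹' N := hη.mem_open hopen hu₀
  exact ⟨Points.ofPt p η, hηN, hM _ ⟨U, p, η, hpe, rfl, hdim⟩⟩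

/-- **Zariski locally quasi-separated algebraic spaces**: codimension zero points lie in the schematic locus, which
is dense. -/
theorem schematicLocus_of_zariski_locally_qs {X : Sp S} (hX : IsAlgSpace X) {ι : Type u} (Xi : ι → Sp S)
    (j : ∀ i, Xi i ⟶ X) (hXi : ∀ i, IsAlgSpace (Xi i)) (hcov : IsZarCover Xi j)
    (hqs : ∀ i, IsQuasiSeparatedSp (Xi i)) :
    Dense (schematicLocus X) ∧
      ∀ x, HasAt (fun U u => ringKrullDim ↥(U.presheaf.stalk u) = 0) X x → x ∈ schematicLocus X := by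
  have key : ∀ x, HasAt (fun U u => ringKrullDim ↥(U.presheaf.stalk u) = 0) X x → x ∈ schematicLocus X := by
    intro x hx
    obtain ⟨i, xi, rfl⟩ := hcov.2 x
    have hxi := hasAt_dim_zero_of_openImmersion (j i) (hcov.1 i) xi hx
    exact schematicLocus_of_openImmersion (j i) (hcov.1 i) xi
      (codim_zero_mem_schematicLocus_of_qs (hXi i) (hqs i) xi hxi)
  exact ⟨dense_of_codim_zero_subset hX _ key, key⟩

end Groth.Agent.Lib.Helper54
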