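import Mathlib.Topology.Irreducible
import Mathlib.Topology.Sober

/-!
# Topological lemmas on irreducible components (helper54)
-/

set_option autoImplicit false
open Topology TopologicalSpace

namespace Groth.Agent.Lib.Helper54

/-- If a space with finitely many irreducible components maps continuously with dense range to `T`, then `T` has finitely
many irreducible components. -/
theorem finite_irreducibleComponents_of_denseRange {V T : Type*} [TopologicalSpace V] [TopologicalSpace T]
    (ι : V → T) (hι : Continuous ι) (hd : DenseRange ι) (hV : (irreducibleComponents V).Finite) :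
    (irreducibleComponents T).Finite := by
  classical
  refine (hV.image (fun Z => closure (ι '' Z))).subset ?_
  intro C hC
  have hcov : (Set.univ : Set T) = ⋃ Z ∈ irreducibleComponents V, closure (ι '' Z) := by
    rw [← hV.closure_biUnion, ← Set.image_iUnion₂, ← Set.sUnion_eq_biUnion, sUnion_irreducibleComponents,
      Set.image_univ, hd.closure_range]
  have hCirr : IsIrreducible C := hC.1
  have := (isIrreducible_iff_sUnion_isClosed.1 hCirr)
    (hV.toFinset.image (fun Z => closure (ι '' Z))) (by
      intro z hz
      rw [Finset.mem_image] at hz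
      obtain ⟨Z, -, rfl⟩ := hz
      exact isClosed_closure) (by
      intro c _
      have hc : c ∈ (Set.univ : Set T) := trivial
      rw [hcov] at hc
      obtain ⟨Z, hZ, hcZ⟩ := Set.mem_iUnion₂.1 hc
      refine Set.mem_sUnion.2 ⟨closure (ι '' Z), ?_, hcZ⟩
      rw [Finset.mem_coe, Finset.mem_image]
      exact ⟨Z, hV.mem_toFinset.2 hZ, rfl⟩)
  obtain ⟨z, hz, hCz⟩ := this
  rw [Finset.mem_image] at hz
  obtain ⟨Z, hZ, rfl⟩ := hz
  have hZ' : Z ∈ irreducibleComponents V := hV.mem_toFinset.1 hZ
  refine ⟨Z, hZ', ?_⟩
  have hirr : IsIrreducible (closure (ι '' Z)) := (hZ'.1.image ι hι.continuousOn).closure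
  exact le_antisymm (hC.2 hirr hCz) hCz

/-- An open subspace of a space with finitely many irreducible components has finitely many irreducible components. -/
theorem finite_irreducibleComponents_of_isOpenEmbedding {V T : Type*} [TopologicalSpace V] [TopologicalSpace T]
    (ι : V → T) (hι : IsOpenEmbedding ι) (hT : (irreducibleComponents T).Finite) :
    (irreducibleComponents V).Finite := by
  refine (hT.image (fun C => ι ⁻¹' C)).subset ?_
  intro Z hZ
  have hZirr : IsIrreducible Z := hZ.1
  have himg : IsIrreducible (ι '' Z) := hZirr.image ι hι.continuous.continuousOn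
  obtain ⟨C, hCpre, hsub, hCmax⟩ := exists_preirreducible (ι '' Z) himg.2
  have hCne : C.Nonempty := himg.1.mono hsub
  have hC : C ∈ irreducibleComponents T := by
    refine ⟨⟨hCne, hCpre⟩, fun D hD hCD => ?_⟩
    exact (hCmax D hD.2 hCD).le
  refine ⟨C, hC, ?_⟩
  have hZsub : Z ⊆ ι ⁻¹' C := fun z hz => hsub ⟨z, hz, rfl⟩
  have hpre : IsIrreducible (ι ⁻¹' C) := ⟨hZirr.1.mono hZsub, hCpre.preimage hι⟩
  exact le_antisymm (hZ.2 hpre hZsub) hZsub

/-- In a quasi-sober space every nonempty open subset contains the generic point of an irreducible component. -/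
theorem exists_generic_mem_of_isOpen {T : Type*} [TopologicalSpace T] [QuasiSober T] (W : Set T) (hW : IsOpen W)
    (hne : W.Nonempty) : ∃ x ∈ W, ∃ Z ∈ irreducibleComponents T, IsGenericPoint x Z := by
  obtain ⟨w, hw⟩ := hne
  obtain ⟨x, hx⟩ := QuasiSober.sober (isIrreducible_irreducibleComponent (x := w)) isClosed_irreducibleComponent
  refine ⟨x, ?_, irreducibleComponent w, irreducibleComponent_mem_irreducibleComponents w, hx⟩
  exact (hx.specializes mem_irreducibleComponent).mem_open hW hw

/-- In a T0 space with finitely many irreducible components, the generic points of irreducible components form a finite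
set. -/
theorem finite_generic_points {T : Type*} [TopologicalSpace T] [T0Space T]
    (hT : (irreducibleComponents T).Finite) :
    {x : T | ∃ Z ∈ irreducibleComponents T, IsGenericPoint x Z}.Finite := by
  have : {x : T | ∃ Z ∈ irreducibleComponents T, IsGenericPoint x Z} =
      ⋃ Z ∈ irreducibleComponents T, {x | IsGenericPoint x Z} := by
    ext x
    simp only [Set.mem_ofPred_eq, Set.mem_iUnion, exists_prop]
  rw [this]
  refine hT.biUnion fun Z _ => Set.Subsingleton.finite ?_
  intro x hx y hy
  exact hx.eq hy

end Groth.Agent.Lib.Helper54
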