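import Groth.Agent.Lib.Helper54.DecentSober
import Groth.Agent.Lib.Helper54.IrredTop
import Groth.Agent.H53.FibrePts3

/-!
# Decency from generic points (helper54)

An algebraic space with a dense open subscheme having finitely many irreducible components whose generic points are
quasi-compact is decent.
-/

set_option autoImplicit false
set_option backward.isDefEq.respectTransparency false
set_option linter.style.haveILetI false
universe u
open CategoryTheory CategoryTheory.Limits AlgebraicGeometry Topology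
open AlgSp

namespace Groth.Agent.Lib.Helper54

open Groth.Agent.H53.ZarGlue (schematicLocus)

variable {S : Scheme.{u}}

/-- Over a point with a quasi-compact monomorphic representative, the field-valued fibres of an étale chart from an affine
scheme are bounded. -/
theorem exists_notMem_degGE_of_mono_qc {X : Sp S} (hX : IsAlgSpace X) {U R : Over S}
    [IsAffine U.left] (a : (yon S).obj U ⟶ X) (ha : RepWith @Etale a) (s t : R ⟶ U)
    (sq : IsPullback ((yon S).map t) ((yon S).map s) a a) (y : ↥U.left)
    (p : FieldPt X) (hp : Points.mk p = Points.ofPt a y) (hm : Mono p.toHom)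
    (hq : RepWith @QuasiCompact p.toHom) :
    ∃ d, y ∉ degGE s.left d := by
  obtain ⟨P, f, c, sqP⟩ : ∃ (P : Over S) (f : P ⟶ U) (c : P ⟶ p.pt),
      IsPullback ((yon S).map f) ((yon S).map c) a p.toHom := by
    have hrep := ha.rep
    obtain ⟨f, hf⟩ := (yon S).map_surjective (hrep.fst p.toHom)
    exact ⟨_, f, hrep.snd p.toHom, hf ▸ hrep.isPullback p.toHom⟩
  haveI hce : Etale c.left := ha.property p.toHom _ _ sqP
  have hfqc : QuasiCompact f.left := hq.property a _ _ sqP.flip
  haveI : CompactSpace ↥P.left := QuasiCompact.compactSpace_of_compactSpace f.left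
  haveI : LocallyQuasiFinite c.left := locallyQuasiFinite_of_etale _
  haveI : IsAffine p.pt.left := inferInstanceAs (IsAffine (Spec (CommRingCat.of p.K)))
  obtain ⟨m, hmb⟩ := exists_fibBound_of_compactSpace c.left
  refine ⟨m + 1, ?_⟩
  rintro ⟨K', _, x', hx', F, hF⟩
  obtain ⟨Z, hZdef⟩ : ∃ Z : Over S, Z = Over.mk (x' ≫ U.hom) := ⟨_, rfl⟩
  subst hZdef
  let x'o : Over.mk (x' ≫ U.hom) ⟶ U := Over.homMk x' rfl
  have hh : ∀ v : ↥(Over.mk (x' ≫ U.hom)).left,
      Points.ofPt ((yon S).map x'o ≫ a) v = Points.mk p := by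
    intro v
    rw [Groth.Agent.H52.ofPt_yon_map_comp, hp]
    congr 1
    change x' v = y
    rw [← hx', fieldPt_eq K' v]
  haveI : IsReduced (Over.mk (x' ≫ U.hom)).left :=
    inferInstanceAs (IsReduced (Spec (CommRingCat.of K')))
  obtain ⟨g, hg⟩ := exists_factor_of_isReduced_of_forall_ofPt hX p hm hq ((yon S).map x'o ≫ a) hh
  obtain ⟨g₀, rfl⟩ := (yon S).map_surjective g
  -- the fibre of `s` over `x'`
  let Ao : Over S := Over.mk (pullback.snd s.left x' ≫ x' ≫ U.hom)
  let fstA : Ao ⟶ R := Over.homMk (pullback.fst s.left x') (by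
    change pullback.fst s.left x' ≫ R.hom = pullback.snd s.left x' ≫ x' ≫ U.hom
    rw [← Over.w s, ← Category.assoc, pullback.condition, Category.assoc])
  let sndA : Ao ⟶ Over.mk (x' ≫ U.hom) := Over.homMk (pullback.snd s.left x') rfl
  have sqA : IsPullback ((yon S).map fstA) ((yon S).map sndA) ((yon S).map s) ((yon S).map x'o) := by
    refine isPullback_yon_of_isPullback_left' ?_ (IsPullback.of_hasPullback s.left x')
    ext
    exact pullback.condition
  have bigA := sqA.paste_horiz sq
  have hw : ((yon S).map fstA ≫ (yon S).map t) ≫ a = ((yon S).map sndA ≫ (yon S).map g₀) ≫ p.toHom := by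
    rw [Category.assoc ((yon S).map sndA), hg]
    exact bigA.w
  obtain ⟨ko, hko⟩ := (yon S).map_surjective (sqP.lift _ _ hw)
  have hko1 : (yon S).map ko ≫ (yon S).map f = (yon S).map fstA ≫ (yon S).map t := by
    rw [hko, sqP.lift_fst]
  have hko2 : (yon S).map ko ≫ (yon S).map c = (yon S).map sndA ≫ (yon S).map g₀ := by
    rw [hko, sqP.lift_snd]
  have sqK : IsPullback ((yon S).map ko) ((yon S).map sndA) ((yon S).map c) ((yon S).map g₀) := by
    refine IsPullback.of_right ?_ hko2 sqP
    rw [hko1, hg]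
    exact bigA
  have sqK' : IsPullback ko.left (pullback.snd s.left x') c.left g₀.left :=
    Groth.Agent.H52.isPullback_left_of_isPullback_yon sqK
  have hbd : FibBound (pullback.snd s.left x') m := hmb.of_isPullback sqK'
  have hiso : IsIso (pullback.fst (pullback.snd s.left x') (𝟙 _)) := inferInstance
  let ε := (asIso (pullback.fst (pullback.snd s.left x') (𝟙 _))).symm
  have := hbd K' (𝟙 _) (F.map ⟨fun z => ε.hom z, ε.hom.homeomorph.injective⟩)
  rw [Finset.card_map] at this
  omega

/-- A point outside a degree stratum has a finite fibre. -/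
theorem finite_fibre_of_notMem_degGE {R U : Scheme.{u}} (s : R ⟶ U) (u : ↥U) (d : ℕ) (h : u ∉ degGE s d) :
    (s ⁻¹' {u}).Finite := by
  classical
  by_contra hinf
  have hinf' : (s ⁻¹' {u}).Infinite := hinf
  obtain ⟨F₀, hF₀sub, hF₀card⟩ := hinf'.exists_subset_card_eq d
  apply h
  let x := U.fromSpecResidueField u
  have hx : x (fieldPt (U.residueField u)) = u := Scheme.fromSpecResidueField_apply _ _
  have hex : ∀ r : ↥R, r ∈ F₀ → ∃ w : ↥(pullback s x), pullback.fst s x w = r := by
    intro r hr
    have hr' : s r = u := hF₀sub hr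
    obtain ⟨w, hw1, -⟩ := Scheme.Pullback.exists_preimage_pullback (f := s) (g := x) r
      (fieldPt (U.residueField u)) (hr'.trans hx.symm)
    exact ⟨w, hw1⟩
  choose w hw using hex
  refine ⟨U.residueField u, inferInstance, x, hx, F₀.attach.map ⟨fun r => w r.1 r.2, ?_⟩, ?_⟩
  · intro r r' hrr'
    have h1 := hw r.1 r.2
    have h2 := hw r'.1 r'.2
    have hrr'' : w r.1 r.2 = w r'.1 r'.2 := hrr'
    rw [hrr''] at h1
    exact Subtype.ext (h1.symm.trans h2)
  · rw [Finset.card_map, Finset.card_attach, hF₀card]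

/-- The field-valued point of a sheaf defined by a point of a scheme mapping monomorphically to the sheaf is a
monomorphism. -/
theorem mono_toHom_ofPt_of_mono {X : Sp S} {Y : Over S} (j : (yon S).obj Y ⟶ X) [Mono j] (y : ↥Y.left) :
    Mono (FieldPt.ofPt j y).toHom := by
  rw [FieldPt.toHom_ofPt]
  haveI : Mono (Over.homMk (Y.left.fromSpecResidueField y) rfl :
      Over.mk (Y.left.fromSpecResidueField y ≫ Y.hom) ⟶ Y) := by
    have : Mono (Y.left.fromSpecResidueField y) := inferInstance
    exact Over.mono_of_mono_left _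
  haveI : Mono ((yon S).map (Over.homMk (Y.left.fromSpecResidueField y) rfl :
      Over.mk (Y.left.fromSpecResidueField y ≫ Y.hom) ⟶ Y)) := inferInstance
  exact mono_comp _ _

/-- An algebraic space with a dense open subscheme having finitely many irreducible components whose generic points
are quasi-compact is decent. -/
theorem isDecent_of_dense_open_generic_qc {X : Sp S} (hX : IsAlgSpace X) {X' : Over S}
    (j : (yon S).obj X' ⟶ X) (hj : RepWith @IsOpenImmersion j) (hd : Dense (Set.range (Points.ofPt j)))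
    (hfin : (irreducibleComponents ↥X'.left).Finite)
    (hq : ∀ x' : ↥X'.left, (∃ T ∈ irreducibleComponents ↥X'.left, IsGenericPoint x' T) →
      RepWith @QuasiCompact (FieldPt.ofPt j x').toHom) : IsDecent X := by
  classical
  intro x
  refine (Groth.Agent.H53.FibrePts.finite_fibres_iff_exists_mono_qc hX x).1 ?_
  intro U φ hU hφ R s t sqR
  haveI := hU
  haveI : IsSeparated U.hom := inferInstance
  haveI hsep : IsSeparated s.left := isSeparated_of_kernelPair φ s t sqR
  haveI : Etale s.left := hφ.property φ _ _ sqR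
  haveI : CompactSpace ↥U.left := inferInstance
  haveI hjm : Mono j := mono_of_isOpenImmersion j hj
  have hmono : ∀ x' : ↥X'.left, Mono (FieldPt.ofPt j x').toHom := fun x' => mono_toHom_ofPt_of_mono j x'
  -- the finitely many generic points
  let G : Set ↥X'.left := {x' | ∃ T ∈ irreducibleComponents ↥X'.left, IsGenericPoint x' T}
  have hG : G.Finite := finite_generic_points hfin
  let E : Set ↥U.left := ⋃ x' ∈ G, Points.ofPt φ ⁻¹' {Points.mk (FieldPt.ofPt j x')}
  have hE : E.Finite := hG.biUnion fun x' hx' =>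
    finite_fibre_of_quasiCompact_point (FieldPt.ofPt j x') (hq x' hx') φ hφ
  have hbd : ∀ η ∈ E, ∃ d, η ∉ degGE s.left d := by
    intro η hη
    obtain ⟨x', hx', hηx'⟩ := Set.mem_iUnion₂.1 hη
    exact exists_notMem_degGE_of_mono_qc hX φ hφ s t sqR η (FieldPt.ofPt j x') hηx'.symm (hmono x')
      (hq x' hx')
  choose! dη hdη using hbd
  obtain ⟨d, hdub⟩ := (hE.image dη).bddAbove
  have hempty : ∀ u : ↥U.left, u ∉ degGE s.left d := by
    intro u hu
    have hopen : IsOpen (degGE s.left d) := isOpen_degGE d s.left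
    have hW : IsOpen (Points.ofPt φ '' degGE s.left d) :=
      Groth.Agent.H53.isOpenMap_ofPt_of_etale φ hφ _ hopen
    have hWne : (Points.ofPt φ '' degGE s.left d).Nonempty := ⟨_, u, hu, rfl⟩
    obtain ⟨ξ, hξW, x₁, hx₁⟩ := hd.inter_open_nonempty _ hW hWne
    have hW' : IsOpen (Points.ofPt j ⁻¹' (Points.ofPt φ '' degGE s.left d)) :=
      hW.preimage (Points.continuous_ofPt j)
    have hx₁W : x₁ ∈ Points.ofPt j ⁻¹' (Points.ofPt φ '' degGE s.left d) := by
      change Points.ofPt j x₁ ∈ Points.ofPt φ '' degGE s.left d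
      rw [hx₁]; exact hξW
    obtain ⟨x', hx'W, hx'G⟩ := exists_generic_mem_of_isOpen _ hW' ⟨x₁, hx₁W⟩
    obtain ⟨η, hηd, hη⟩ := hx'W
    have hηE : η ∈ E := Set.mem_iUnion₂.2 ⟨x', hx'G, hη⟩
    have h1 : dη η ≤ d := hdub ⟨η, hηE, rfl⟩
    exact hdη η hηE (degGE_anti s.left h1 hηd)
  have hsfin : ∀ u : ↥U.left, (s.left ⁻¹' {u}).Finite := fun u =>
    finite_fibre_of_notMem_degGE s.left u d (hempty u)
  have hfib : (Points.ofPt φ ⁻¹' {x}).Finite := by
    by_cases hne : (Points.ofPt φ ⁻¹' {x}).Nonempty
    · obtain ⟨u₀, hu₀⟩ := hne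
      refine ((hsfin u₀).image t.left).subset ?_
      intro u hu
      have hu' : Points.map φ (Points.ofScheme U u) = Points.ofPt φ u₀ := by
        rw [← Points.ofPt_eq_map_ofScheme]
        exact (show Points.ofPt φ u = x from hu).trans (show Points.ofPt φ u₀ = x from hu₀).symm
      obtain ⟨r, hr1, hr2⟩ := exists_pt_of_isPullback_yon sqR (Points.ofScheme U u) u₀ hu'
      refine ⟨r, hr2, ?_⟩
      have := congrArg (Points.toScheme U) hr1
      rw [Points.toScheme_ofPt, Points.toScheme_ofScheme] at this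
      exact this
    · rw [Set.not_nonempty_iff_eq_empty] at hne
      rw [hne]
      exact Set.finite_empty
  refine ⟨hfib, ?_⟩
  have hset : Points.ofPt ((yon S).map t ≫ φ) ⁻¹' {x} = s.left ⁻¹' (Points.ofPt φ ⁻¹' {x}) := by
    ext r
    simp only [Set.mem_preimage, Set.mem_singleton_iff]
    rw [sqR.w, Groth.Agent.H52.ofPt_yon_map_comp]
  rw [hset]
  exact hfib.preimage' fun u _ => hsfin u

/-- In a decent algebraic space, every point of an open subscheme is given by a quasi-compact morphism from the spectrum of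
its residue field. -/
theorem repWith_quasiCompact_ofPt_of_isDecent {X : Sp S} (hX : IsAlgSpace X) (hXd : IsDecent X) {Y : Over S}
    (j : (yon S).obj Y ⟶ X) [Mono j] (y : ↥Y.left) :
    RepWith @QuasiCompact (FieldPt.ofPt j y).toHom := by
  haveI hm := mono_toHom_ofPt_of_mono j y
  apply Groth.Agent.H53.FibrePts.repWith_quasiCompact_of_finFib hX
  intro U' φ' hU' hφ' T c d sq
  rw [Groth.Agent.H53.FibrePts.isFinite_iff_fibre_finite _ φ' hφ' c d sq]
  exact ((Groth.Agent.H53.FibrePts.finite_fibres_iff_exists_mono_qc hX _).2 (hXd _) U' φ' hU' hφ'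
    (hφ'.rep.pullback φ') (hφ'.rep.snd φ') (hφ'.rep.fst' φ') (hφ'.rep.isPullback' φ')).1

/-- The schematic locus of an algebraic space as an open subscheme. -/
theorem exists_schematic_open {X : Sp S} (hX : IsAlgSpace X) :
    ∃ (Y : Over S) (j : (yon S).obj Y ⟶ X), RepWith @IsOpenImmersion j ∧
      Set.range (Points.ofPt j) = schematicLocus X ∧ IsOpenEmbedding (Points.ofPt j) := by
  have hM : (RepWith (S := S) @IsOpenImmersion).IsMultiplicative := repWith_isMultiplicative _
  have hopen := Groth.Agent.H53.ZarGlue.isOpen_schematicLocus X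
  obtain ⟨Y, ⟨e⟩⟩ := Groth.Agent.H53.ZarGlue.exists_iso_yon_openSub_schematicLocus hX
  obtain ⟨j, hjdef⟩ : ∃ j : (yon S).obj Y ⟶ X, j = e.hom ≫ openSubι X (schematicLocus X) := ⟨_, rfl⟩
  have hj : RepWith @IsOpenImmersion j := by
    rw [hjdef]
    exact (RepWith (S := S) @IsOpenImmersion).comp_mem _ _ (MorphismProperty.of_isIso _ e.hom)
      (repWith_isOpenImmersion_openSubι X _ hopen)
  have hjrange : Set.range (Points.map j) = schematicLocus X := by
    rw [← range_points_map_openSubι X (schematicLocus X), hjdef]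
    ext ξ
    constructor
    · rintro ⟨η, rfl⟩
      exact ⟨Points.map e.hom η, (Points.map_comp _ _ _).symm⟩
    · rintro ⟨ζ, rfl⟩
      refine ⟨Points.map e.inv ζ, ?_⟩
      rw [Points.map_comp, ← Points.map_comp e.inv, e.inv_hom_id, Points.map_id]
  have himm : RepWith @IsImmersion j :=
    Groth.Agent.H53.repWith_of_le (fun A B φ hφ => by
      have : IsOpenImmersion φ := hφ
      infer_instance) hj
  have hemb : IsEmbedding (Points.map j) :=
    (Groth.Agent.H53.isEmbedding_points_of_repWith_isImmersion hX j himm).1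
  have hoe : IsOpenEmbedding (Points.map j) := ⟨hemb, by rw [hjrange]; exact hopen⟩
  have hcomp : Points.ofPt j = Points.map j ∘ (Points.schemeHomeo Y) := by
    funext y
    exact Points.ofPt_eq_map_ofScheme j y
  refine ⟨Y, j, hj, ?_, ?_⟩
  · rw [hcomp, Set.range_comp, (Points.schemeHomeo Y).surjective.range_eq, Set.image_univ, hjrange]
  · rw [hcomp]
    exact hoe.comp (Points.schemeHomeo Y).isOpenEmbedding

end Groth.Agent.Lib.Helper54
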