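import Groth.Agent.Lib.Helper54.BddSchematic
import Groth.Agent.Lib.Helper54.ReducedFactor
import Groth.Agent.Lib.Helper54.DecentPts
import Mathlib.RingTheory.Spectrum.Prime.Topology

/-!
# Decent algebraic spaces have a dense schematic locus (helper54)
-/

set_option autoImplicit false
set_option backward.isDefEq.respectTransparency false
set_option linter.style.haveILetI false
universe u
open CategoryTheory CategoryTheory.Limits AlgebraicGeometry
open AlgSp

namespace Groth.Agent.Lib.Helper54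

open Groth.Agent.H52 (overOpen overOpenι)
open Groth.Agent.H53.ZarGlue (schematicLocus)

variable {S : Scheme.{u}}

/-- The projections of the kernel pair of a chart from a scheme separated over `S` are separated. -/
theorem isSeparated_of_kernelPair {X : Sp S} {U R : Over S} (a : (yon S).obj U ⟶ X) (s t : R ⟶ U)
    (sq : IsPullback ((yon S).map t) ((yon S).map s) a a) [IsSeparated U.hom] : IsSeparated s.left := by
  let m : R.left ⟶ pullback U.hom U.hom := pullback.lift t.left s.left (by rw [Over.w, Over.w])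
  have hm1 : m ≫ pullback.fst U.hom U.hom = t.left := pullback.lift_fst _ _ _
  have hm2 : m ≫ pullback.snd U.hom U.hom = s.left := pullback.lift_snd _ _ _
  have hmono : Mono m := by
    constructor
    intro T g h hgh
    have h1 : g ≫ t.left = h ≫ t.left := by rw [← hm1, ← Category.assoc, hgh, Category.assoc]
    have h2 : g ≫ s.left = h ≫ s.left := by rw [← hm2, ← Category.assoc, hgh, Category.assoc]
    have hR : h ≫ R.hom = g ≫ R.hom := by
      rw [← Over.w s, ← Category.assoc, ← h2, Category.assoc]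
    let g' : Over.mk (g ≫ R.hom) ⟶ R := Over.homMk g rfl
    let h' : Over.mk (g ≫ R.hom) ⟶ R := Over.homMk h hR
    have e : (yon S).map g' = (yon S).map h' := by
      apply sq.hom_ext
      · rw [← Functor.map_comp, ← Functor.map_comp]
        congr 1
        ext
        exact h1
      · rw [← Functor.map_comp, ← Functor.map_comp]
        congr 1
        ext
        exact h2
    have := (yon S).map_injective e
    exact congrArg (fun φ => φ.left) this
  rw [← hm2]
  infer_instance

/-- A countable family of dense open subsets of the prime spectrum of a nonzero ring has a common point. -/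
theorem exists_mem_iInter_of_dense_open_primeSpectrum {A : Type*} [CommRing A] [Nontrivial A]
    (D : ℕ → Set (PrimeSpectrum A)) (hDo : ∀ d, IsOpen (D d)) (hD : ∀ d, Dense (D d)) :
    ∃ p : PrimeSpectrum A, ∀ d, p ∈ D d := by
  have step : ∀ (d : ℕ) (f : {f : A // ¬ IsNilpotent f}), ∃ f' : {f : A // ¬ IsNilpotent f},
      (PrimeSpectrum.basicOpen f'.1 : Set (PrimeSpectrum A)) ⊆ PrimeSpectrum.basicOpen f.1 ∩ D d := by
    intro d f
    have hne : (PrimeSpectrum.basicOpen f.1 : Set (PrimeSpectrum A)).Nonempty := by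
      rw [Set.nonempty_iff_ne_empty]
      intro h
      apply f.2
      rw [← PrimeSpectrum.basicOpen_eq_bot_iff]
      exact TopologicalSpace.Opens.ext h
    obtain ⟨p, hp1, hp2⟩ := (hD d).inter_open_nonempty _ (PrimeSpectrum.basicOpen f.1).2 hne
    have hopen : IsOpen ((PrimeSpectrum.basicOpen f.1 : Set (PrimeSpectrum A)) ∩ D d) :=
      (PrimeSpectrum.basicOpen f.1).2.inter (hDo d)
    obtain ⟨_, ⟨g, rfl⟩, hpg, hsub⟩ :=
      PrimeSpectrum.isTopologicalBasis_basic_opens.exists_subset_of_mem_open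
        (show p ∈ (PrimeSpectrum.basicOpen f.1 : Set (PrimeSpectrum A)) ∩ D d from ⟨hp1, hp2⟩) hopen
    refine ⟨⟨g, fun hnil => ?_⟩, hsub⟩
    rw [← PrimeSpectrum.basicOpen_eq_bot_iff] at hnil
    have hpg' : p ∈ PrimeSpectrum.basicOpen g := hpg
    rw [hnil] at hpg'
    exact hpg'
  choose nxt hnxt using step
  have h1 : ¬ IsNilpotent (1 : A) := fun ⟨n, hn⟩ => one_ne_zero (α := A) (by rw [one_pow] at hn; exact hn)
  let g : ℕ → {f : A // ¬ IsNilpotent f} := fun d => Nat.rec ⟨1, h1⟩ (fun d f => nxt d f) d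
  have hgs : ∀ d, g (d + 1) = nxt d (g d) := fun d => rfl
  have hsub : ∀ d, (PrimeSpectrum.basicOpen (g (d + 1)).1 : Set (PrimeSpectrum A)) ⊆
      PrimeSpectrum.basicOpen (g d).1 ∩ D d := fun d => by rw [hgs]; exact hnxt d (g d)
  have hanti : ∀ d e, d ≤ e → (PrimeSpectrum.basicOpen (g e).1 : Set (PrimeSpectrum A)) ⊆
      PrimeSpectrum.basicOpen (g d).1 := by
    intro d e hde
    induction hde with
    | refl => exact subset_rfl
    | step h ih => exact ((hsub _).trans Set.inter_subset_left).trans ih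
  let M : Submonoid A := Submonoid.closure (Set.range fun d => (g d).1)
  have hM : ∀ m ∈ M, ∃ d, (PrimeSpectrum.basicOpen (g d).1 : Set (PrimeSpectrum A)) ⊆
      PrimeSpectrum.basicOpen m := by
    intro m hm
    induction hm using Submonoid.closure_induction with
    | mem x hx =>
      obtain ⟨d, rfl⟩ := hx
      exact ⟨d, subset_rfl⟩
    | one =>
      refine ⟨0, ?_⟩
      rw [PrimeSpectrum.basicOpen_one]
      exact Set.subset_univ _
    | mul x y _ _ hx hy =>
      obtain ⟨d₁, h₁⟩ := hx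
      obtain ⟨d₂, h₂⟩ := hy
      refine ⟨max d₁ d₂, ?_⟩
      rw [PrimeSpectrum.basicOpen_mul]
      exact Set.subset_inter ((hanti _ _ (le_max_left _ _)).trans h₁)
        ((hanti _ _ (le_max_right _ _)).trans h₂)
  have hdisj : Disjoint ((⊥ : Ideal A) : Set A) M := by
    rw [Set.disjoint_left]
    intro x hx hxM
    have hx0 : x = 0 := hx
    obtain ⟨d, hd⟩ := hM x hxM
    apply (g d).2
    rw [← PrimeSpectrum.basicOpen_eq_bot_iff]
    apply TopologicalSpace.Opens.ext
    rw [hx0, PrimeSpectrum.basicOpen_zero] at hd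
    exact Set.subset_empty_iff.1 hd
  obtain ⟨p, hp, -, hpM⟩ := Ideal.exists_le_prime_disjoint ⊥ M hdisj
  refine ⟨⟨p, hp⟩, fun d => ?_⟩
  have h1 : (⟨p, hp⟩ : PrimeSpectrum A) ∈ (PrimeSpectrum.basicOpen (g (d + 1)).1 : Set (PrimeSpectrum A)) := by
    change (g (d + 1)).1 ∉ p
    intro hmem
    exact Set.disjoint_left.1 hpM hmem (Submonoid.subset_closure ⟨d + 1, rfl⟩)
  exact (hsub d h1).2

/-- A countable family of dense open subsets of a nonempty affine scheme has a common point. -/
theorem exists_mem_iInter_of_dense_opens (Y : Scheme.{u}) [IsAffine Y] [Nonempty ↥Y] (D : ℕ → Y.Opens)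
    (hD : ∀ d, Dense (D d : Set ↥Y)) : ∃ y : ↥Y, ∀ d, y ∈ D d := by
  let e : ↥Y ≃ₜ PrimeSpectrum Γ(Y, ⊤) := Scheme.homeoOfIso Y.isoSpec
  have : Nonempty (PrimeSpectrum Γ(Y, ⊤)) := ⟨e (Classical.arbitrary _)⟩
  have : Nontrivial Γ(Y, ⊤) := (PrimeSpectrum.nonempty_iff_nontrivial).1 this
  obtain ⟨p, hp⟩ := exists_mem_iInter_of_dense_open_primeSpectrum (fun d => e '' (D d : Set ↥Y))
    (fun d => e.isOpenMap _ (D d).2) (fun d => by
      exact e.surjective.denseRange.dense_image e.continuous (hD d))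
  refine ⟨e.symm p, fun d => ?_⟩
  obtain ⟨y, hy, hyp⟩ := hp d
  rw [← hyp, e.symm_apply_apply]
  exact hy

/-- A locally quasi-finite morphism of finite type from a quasi-compact scheme to an affine scheme has bounded fibres. -/
theorem exists_fibBound_of_compactSpace {P T : Scheme.{u}} [CompactSpace ↥P] [IsAffine T] (g : P ⟶ T)
    [LocallyQuasiFinite g] [LocallyOfFiniteType g] : ∃ n, FibBound g n := by
  classical
  have hloc : ∀ A : P.affineOpens, ∃ n, FibBound (A.1.ι ≫ g) n := by
    intro A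
    haveI : IsAffine (A.1 : Scheme.{u}) := A.2
    exact exists_fibBound_of_isAffine (A.1.ι ≫ g)
  choose n hn using hloc
  obtain ⟨t, ht⟩ := isCompact_univ.elim_finite_subcover (fun A : P.affineOpens => (A.1 : Set ↥P))
    (fun A => A.1.2) (fun p _ => by
      obtain ⟨A, hA, hpA, -⟩ := exists_isAffineOpen_mem_and_subset (x := p) (U := ⊤) trivial
      exact Set.mem_iUnion.2 ⟨⟨A, hA⟩, hpA⟩)
  refine ⟨∑ k : t, n k.1, FibBound.of_openCover g (fun k : t => (k.1.1 : Scheme.{u}))
    (fun k => k.1.1.ι) ?_ (fun k => n k.1) (fun k => hn k.1)⟩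
  intro p
  obtain ⟨A, hA, hpA⟩ := Set.mem_iUnion₂.1 (ht (Set.mem_univ p))
  exact ⟨⟨A, hA⟩, ⟨⟨p, hpA⟩, rfl⟩⟩

/-- Over a point of a decent space, the field-valued fibres of an étale chart from an affine scheme are bounded. -/
theorem exists_notMem_degGE_of_isDecent {X : Sp S} (hX : IsAlgSpace X) (hXd : IsDecent X) {U R : Over S}
    [IsAffine U.left] (a : (yon S).obj U ⟶ X) (ha : RepWith @Etale a) (s t : R ⟶ U)
    (sq : IsPullback ((yon S).map t) ((yon S).map s) a a) (y : ↥U.left) :
    ∃ d, y ∉ degGE s.left d := by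
  obtain ⟨p, hp, hm, hq⟩ := hXd (Points.ofPt a y)
  obtain ⟨P, f, c, sqP⟩ : ∃ (P : Over S) (f : P ⟶ U) (c : P ⟶ p.pt),
      IsPullback ((yon S).map f) ((yon S).map c) a p.toHom := by
    have hrep := ha.rep
    obtain ⟨f, hf⟩ := (yon S).map_surjective (hrep.fst p.toHom)
    exact ⟨_, f, hrep.snd p.toHom, hf ▸ hrep.isPullback p.toHom⟩
  haveI hce : Etale c.left := ha.property p.toHom _ _ sqP
  have hfqc : QuasiCompact f.left := hq.property a _ _ sqP.flip
  haveI : CompactSpace ↥P.left := QuasiCompact.compactSpace_of_compactSpace f.left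
  haveI : LocallyQuasiFinite c.left := locallyQuasiFinite_of_etale _
  haveI : IsAffine p.pt.left := inferInstanceAs (IsAffine (Spec (CommRingCat.of p.K)))
  obtain ⟨m, hmb⟩ := exists_fibBound_of_compactSpace c.left
  refine ⟨m + 1, ?_⟩
  rintro ⟨K', _, x', hx', F, hF⟩
  obtain ⟨Z, hZdef⟩ : ∃ Z : Over S, Z = Over.mk (x' ≫ U.hom) := ⟨_, rfl⟩
  subst hZdef
  let x'o : Over.mk (x' ≫ U.hom) ⟶ U := Over.homMk x' rfl
  have hh : ∀ v : ↥(Over.mk (x' ≫ U.hom)).left,
      Points.ofPt ((yon S).map x'o ≫ a) v = Points.mk p := by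
    intro v
    rw [Groth.Agent.H52.ofPt_yon_map_comp, hp]
    congr 1
    change x' v = y
    rw [← hx', fieldPt_eq K' v]
  haveI : IsReduced (Over.mk (x' ≫ U.hom)).left :=
    inferInstanceAs (IsReduced (Spec (CommRingCat.of K')))
  obtain ⟨g, hg⟩ := exists_factor_of_isReduced_of_forall_ofPt hX p hm hq ((yon S).map x'o ≫ a) hh
  obtain ⟨g₀, rfl⟩ := (yon S).map_surjective g
  -- the fibre of `s` over `x'`
  let Ao : Over S := Over.mk (pullback.snd s.left x' ≫ x' ≫ U.hom)
  let fstA : Ao ⟶ R := Over.homMk (pullback.fst s.left x') (by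
    change pullback.fst s.left x' ≫ R.hom = pullback.snd s.left x' ≫ x' ≫ U.hom
    rw [← Over.w s, ← Category.assoc, pullback.condition, Category.assoc])
  let sndA : Ao ⟶ Over.mk (x' ≫ U.hom) := Over.homMk (pullback.snd s.left x') rfl
  have sqA : IsPullback ((yon S).map fstA) ((yon S).map sndA) ((yon S).map s) ((yon S).map x'o) := by
    refine isPullback_yon_of_isPullback_left' ?_ (IsPullback.of_hasPullback s.left x')
    ext
    exact pullback.condition
  have bigA := sqA.paste_horiz sq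
  have hw : ((yon S).map fstA ≫ (yon S).map t) ≫ a = ((yon S).map sndA ≫ (yon S).map g₀) ≫ p.toHom := by
    rw [Category.assoc ((yon S).map sndA), hg]
    exact bigA.w
  obtain ⟨ko, hko⟩ := (yon S).map_surjective (sqP.lift _ _ hw)
  have hko1 : (yon S).map ko ≫ (yon S).map f = (yon S).map fstA ≫ (yon S).map t := by
    rw [hko, sqP.lift_fst]
  have hko2 : (yon S).map ko ≫ (yon S).map c = (yon S).map sndA ≫ (yon S).map g₀ := by
    rw [hko, sqP.lift_snd]
  have sqK : IsPullback ((yon S).map ko) ((yon S).map sndA) ((yon S).map c) ((yon S).map g₀) := by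
    refine IsPullback.of_right ?_ hko2 sqP
    rw [hko1, hg]
    exact bigA
  have sqK' : IsPullback ko.left (pullback.snd s.left x') c.left g₀.left :=
    Groth.Agent.H52.isPullback_left_of_isPullback_yon sqK
  have hbd : FibBound (pullback.snd s.left x') m := hmb.of_isPullback sqK'
  have hiso : IsIso (pullback.fst (pullback.snd s.left x') (𝟙 _)) := inferInstance
  let ε := (asIso (pullback.fst (pullback.snd s.left x') (𝟙 _))).symm
  have := hbd K' (𝟙 _) (F.map ⟨fun z => ε.hom z, ε.hom.homeomorph.injective⟩)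
  rw [Finset.card_map] at this
  omega

/-- The schematic locus of a decent algebraic space is dense. -/
theorem dense_schematicLocus_of_isDecent {X : Sp S} (hX : IsAlgSpace X) (hXd : IsDecent X) :
    Dense (schematicLocus X) := by
  have hE : (RepWith (S := S) @Etale).IsMultiplicative := repWith_isMultiplicative _
  rw [dense_iff_inter_open]
  rintro W hW ⟨x₀, hx₀⟩
  obtain ⟨U₀, a₀, u₀, hU₀, ha₀, hu₀⟩ := exists_affine_chart_through hX x₀
  let O₀ : U₀.left.Opens := ⟨Points.ofPt a₀ ⁻¹' W, hW.preimage (Points.continuous_ofPt a₀)⟩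
  have hu₀O : u₀ ∈ O₀ := by
    change Points.ofPt a₀ u₀ ∈ W
    rw [hu₀]; exact hx₀
  obtain ⟨A, hA, hu₀A, hAsub⟩ := exists_isAffineOpen_mem_and_subset (x := u₀) (U := O₀) hu₀O
  obtain ⟨a, hadef⟩ : ∃ a : (yon S).obj (overOpen U₀ A) ⟶ X,
    a = (yon S).map (overOpenι U₀ A) ≫ a₀ := ⟨_, rfl⟩
  have ha : RepWith @Etale a := by
    rw [hadef]
    exact (RepWith (S := S) @Etale).comp_mem _ _ (Groth.Agent.H52.repWith_etale_overOpenι U₀ A) ha₀
  have haW : ∀ u : ↥(overOpen U₀ A).left, Points.ofPt a u ∈ W := by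
    intro u
    rw [hadef, Groth.Agent.H52.ofPt_yon_map_comp]
    exact hAsub u.2
  haveI hAff : IsAffine (overOpen U₀ A).left := hA
  obtain ⟨R, t, s, sq⟩ : ∃ (R : Over S) (t s : R ⟶ overOpen U₀ A),
      IsPullback ((yon S).map t) ((yon S).map s) a a := by
    have hr := ha.rep
    obtain ⟨t, ht⟩ := (yon S).map_surjective (hr.fst a)
    exact ⟨_, t, hr.snd a, ht ▸ hr.isPullback a⟩
  haveI : IsSeparated (overOpen U₀ A).hom := inferInstance
  haveI hsep : IsSeparated s.left := isSeparated_of_kernelPair a s t sq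
  haveI : Etale s.left := ha.property a _ _ sq
  let D : ℕ → (overOpen U₀ A).left.Opens := fun d => ⟨degGE s.left d, isOpen_degGE d s.left⟩
  by_cases hdense : ∀ d, Dense (D d : Set ↥(overOpen U₀ A).left)
  · exfalso
    haveI : Nonempty ↥(overOpen U₀ A).left := ⟨⟨u₀, hu₀A⟩⟩
    obtain ⟨y, hy⟩ := exists_mem_iInter_of_dense_opens (overOpen U₀ A).left D hdense
    obtain ⟨d, hd⟩ := exists_notMem_degGE_of_isDecent hX hXd a ha s t sq y
    exact hd (hy d)
  · push Not at hdense
    obtain ⟨d, hd⟩ := hdense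
    rw [dense_iff_inter_open] at hd
    push Not at hd
    obtain ⟨N, hN, hNne, hNd⟩ := hd
    obtain ⟨n, rfl⟩ : ∃ n, d = n + 1 := by
      cases d with
      | zero =>
        exfalso
        obtain ⟨z, hz⟩ := hNne
        refine Set.eq_empty_iff_forall_notMem.1 hNd z ⟨hz, ?_⟩
        change z ∈ degGE s.left 0
        rw [degGE_zero]
        trivial
      | succ n => exact ⟨n, rfl⟩
    let O : (overOpen U₀ A).left.Opens := ⟨N, hN⟩
    obtain ⟨R'', s'', t'', sq'', hsep'', hb''⟩ := exists_kernelPair_fibBound_restrict a ha s t sq O n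
      (fun o ho => Set.eq_empty_iff_forall_notMem.1 hNd (O.ι o) ⟨o.2, ho⟩)
    haveI := hsep''
    have ha' : RepWith @Etale ((yon S).map (overOpenι (overOpen U₀ A) O) ≫ a) :=
      (RepWith (S := S) @Etale).comp_mem _ _ (Groth.Agent.H52.repWith_etale_overOpenι _ O) ha
    have hWo : IsOpen (Set.range (Points.ofPt ((yon S).map (overOpenι (overOpen U₀ A) O) ≫ a))) := by
      rw [← Set.image_univ]
      exact Groth.Agent.H53.isOpenMap_ofPt_of_etale _ ha' _ isOpen_univ
    have hWne : (Set.range (Points.ofPt ((yon S).map (overOpenι (overOpen U₀ A) O) ≫ a))).Nonempty := by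
      obtain ⟨z, hz⟩ := hNne
      exact ⟨_, ⟨⟨z, hz⟩, rfl⟩⟩
    obtain ⟨ξ, ⟨o, rfl⟩, hξ⟩ := exists_mem_schematicLocus_of_fibBound n _ ha' s'' t'' sq'' hb'' _ hWo hWne
      subset_rfl
    refine ⟨_, ?_, hξ⟩
    rw [Groth.Agent.H52.ofPt_yon_map_comp]
    exact haW _

end Groth.Agent.Lib.Helper54
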