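import Groth.Agent.Lib.Helper54.DecentSober
import Groth.Agent.S10338
import Groth.Agent.S10340
import Groth.Agent.S10343
import Mathlib.Topology.KrullDimension
import Groth.Agent.Lib.Helper63.SpecOrder

/-!
# Topology of the space of points of a decent algebraic space via étale charts (helper54)
-/

set_option autoImplicit false
set_option backward.isDefEq.respectTransparency false
set_option linter.style.haveILetI false
universe u
open CategoryTheory CategoryTheory.Limits AlgebraicGeometry Topology
open AlgSp

namespace Groth.Agent.Lib.Helper54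

variable {S : Scheme.{u}}

theorem t0Space_points_of_isDecent {X : Sp S} (hX : IsAlgSpace X) (hXd : IsDecent X) :
    T0Space (Points X) :=
  Groth.Agent.S10338.result ⟨X, hX⟩ hXd

/-- Specializations in an étale chart of a decent space which stay in a fibre are trivial. -/
theorem eq_of_specializes_of_ofPt_eq {X : Sp S} (hX : IsAlgSpace X) (hXd : IsDecent X) {U : Over S}
    (a : (yon S).obj U ⟶ X) (ha : RepWith @Etale a) (u u' : ↥U.left)
    (he : Points.ofPt a u = Points.ofPt a u') (hs : u' ⤳ u) : u = u' :=
  Groth.Agent.S10340.result ⟨X, hX⟩ hXd a ha u u' he hs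

/-- Generizations lift along étale charts of a decent space. -/
theorem exists_generization_of_isDecent {X : Sp S} (hX : IsAlgSpace X) (hXd : IsDecent X) {U : Over S}
    (a : (yon S).obj U ⟶ X) (ha : RepWith @Etale a) (u : ↥U.left) (x' : Points X)
    (h : x' ⤳ Points.ofPt a u) : ∃ u' : ↥U.left, u' ⤳ u ∧ Points.ofPt a u' = x' :=
  Groth.Agent.S10343.result ⟨X, hX⟩ (Points.ofPt a u) x' h (hXd x') a ha u rfl

attribute [local instance] specializationOrder in
/-- The codimension of a point of a decent space is the codimension of any point over it in an étale chart. -/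
theorem coheight_ofPt_eq {X : Sp S} (hX : IsAlgSpace X) (hXd : IsDecent X) {U : Over S}
    (a : (yon S).obj U ⟶ X) (ha : RepWith @Etale a) (u : ↥U.left) :
    haveI := t0Space_points_of_isDecent hX hXd
    Order.coheight (Points.ofPt a u) = Order.coheight u := by
  haveI := t0Space_points_of_isDecent hX hXd
  refine (Order.coheight_eq_of_strictMono (Points.ofPt a) ?_ ?_ u).symm
  · intro u₁ u₂ h
    have h1 : u₂ ⤳ u₁ := h.le
    have h2 : ¬ u₁ ⤳ u₂ := fun h' => h.not_ge h'
    refine lt_of_le_of_ne (h1.map (Points.continuous_ofPt a)) ?_
    intro he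
    exact h2 (by rw [eq_of_specializes_of_ofPt_eq hX hXd a ha u₁ u₂ he h1])
  · intro u₁ x hx
    have h1 : x ⤳ Points.ofPt a u₁ := hx.le
    obtain ⟨u', hu', rfl⟩ := exists_generization_of_isDecent hX hXd a ha u₁ x h1
    refine ⟨u', ?_, rfl⟩
    refine lt_of_le_not_ge hu' ?_
    intro h'
    have h2 : Points.ofPt a u₁ ⤳ Points.ofPt a u' := Specializes.map h' (Points.continuous_ofPt a)
    exact hx.not_ge h2

attribute [local instance] specializationOrder in
/-- The codimension of an irreducible closed subset of the points of a decent space is the dimension of the local ring of an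
étale chart at a point over its generic point. -/
theorem coheight_irreducibleCloseds_eq {X : Sp S} (hX : IsAlgSpace X) (hXd : IsDecent X)
    (T : TopologicalSpace.IrreducibleCloseds (Points X)) (ξ : Points X)
    (hξ : IsGenericPoint ξ (T : Set (Points X))) {U : Over S} (a : (yon S).obj U ⟶ X)
    (ha : RepWith @Etale a) (u : ↥U.left) (hu : Points.ofPt a u = ξ) :
    (Order.coheight T : WithBot ℕ∞) = ringKrullDim ↥(U.left.presheaf.stalk u) := by
  haveI := t0Space_points_of_isDecent hX hXd
  haveI := quasiSober_points_of_isDecent hX hXd
  rw [ringKrullDim_stalk_eq_coheight]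
  congr 1
  rw [← coheight_ofPt_eq hX hXd a ha u, hu,
    ← Order.coheight_orderIso (irreducibleSetEquivPoints (α := Points X)) T]
  congr 1
  exact (T.2.isGenericPoint_genericPoint_closure).eq (by rw [T.3.closure_eq]; exact hξ)

attribute [local instance] specializationPreorder in
/-- The codimension of a point of a decent space, for the specialization preorder. -/
theorem coheight_ofPt_eq' {X : Sp S} (hX : IsAlgSpace X) (hXd : IsDecent X) {U : Over S}
    (a : (yon S).obj U ⟶ X) (ha : RepWith @Etale a) (u : ↥U.left) :
    Order.coheight (Points.ofPt a u) = Order.coheight u :=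
  coheight_ofPt_eq hX hXd a ha u

attribute [local instance] specializationPreorder in
/-- In an étale chart of a decent space, the points of codimension zero are those over the generic points of the
irreducible components. -/
theorem ringKrullDim_stalk_eq_zero_iff_of_isDecent {X : Sp S} (hX : IsAlgSpace X) (hXd : IsDecent X)
    {U : Over S} (a : (yon S).obj U ⟶ X) (ha : RepWith @Etale a) (u : ↥U.left) :
    ringKrullDim ↥(U.left.presheaf.stalk u) = 0 ↔
      closure ({Points.ofPt a u} : Set (Points X)) ∈ irreducibleComponents (Points X) := by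
  haveI := quasiSober_points_of_isDecent hX hXd
  rw [ringKrullDim_stalk_eq_coheight, ← Groth.Agent.Lib.Helper63.isMax_iff_closure_mem_irreducibleComponents,
    ← Order.coheight_eq_zero, coheight_ofPt_eq' hX hXd a ha u]
  exact_mod_cast Iff.rfl

/-- A point of a decent space is the generic point of an irreducible component iff it has codimension zero. -/
theorem isGenericPoint_component_iff_hasAt {X : Sp S} (hX : IsAlgSpace X) (hXd : IsDecent X) (x : Points X) :
    (∃ T ∈ irreducibleComponents (Points X), IsGenericPoint x T) ↔
      HasAt (fun U u => ringKrullDim ↥(U.presheaf.stalk u) = 0) X x := by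
  constructor
  · rintro ⟨T, hT, hx⟩
    obtain ⟨U, a, u, ha, rfl⟩ := exists_chart_through hX x
    refine ⟨U, a, u, ha, rfl, (ringKrullDim_stalk_eq_zero_iff_of_isDecent hX hXd a ha u).2 ?_⟩
    rw [hx.def]
    exact hT
  · rintro ⟨U, a, u, ha, rfl, hdim⟩
    exact ⟨_, (ringKrullDim_stalk_eq_zero_iff_of_isDecent hX hXd a ha u).1 hdim, isGenericPoint_closure⟩

end Groth.Agent.Lib.Helper54
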