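import Groth.Agent.H53.EtReduced
import Groth.Agent.H53.SpTop
import Groth.Prelude.Def_AlgSpDec
import Groth.Prelude.Def_AlgSpOX

/-!
# Global functions on an integral algebraic space form a domain
-/

set_option autoImplicit false
set_option backward.isDefEq.respectTransparency false
universe u
open AlgebraicGeometry CategoryTheory CategoryTheory.Limits Topology Opposite
open AlgSp

namespace Groth.Agent.Lib.Helper54

variable {S : Scheme.{u}} {X : Sp S}

/-- The component of a global function at an object of the small étale site. -/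
noncomputable def gsec (s : ↥(gsectEt (OEt X))) (E : EtOver X) : Γ(E.obj.left.left, ⊤) :=
  ((limit.π (OEt X).obj (op E)) s).down

theorem gsec_naturality (s : ↥(gsectEt (OEt X))) {E E' : EtOver X} (g : E ⟶ E') :
    g.hom.left.left.appTop (gsec s E') = gsec s E := by
  have h := limit.w (OEt X).obj g.op
  have h2 := congrArg (fun k => (k s).down) h
  exact h2

theorem gsec_mul (s t : ↥(gsectEt (OEt X))) (E : EtOver X) : gsec (s * t) E = gsec s E * gsec t E := by
  unfold gsec
  rw [map_mul]
  rfl

theorem gsec_zero (E : EtOver X) : gsec (0 : ↥(gsectEt (OEt X))) E = 0 := by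
  unfold gsec
  rw [map_zero]
  rfl

theorem gsec_one (E : EtOver X) : gsec (1 : ↥(gsectEt (OEt X))) E = 1 := by
  unfold gsec
  rw [map_one]
  rfl

theorem gsec_ext (s t : ↥(gsectEt (OEt X))) (h : ∀ E : EtOver X, gsec s E = gsec t E) : s = t := by
  apply Concrete.limit_ext
  intro j
  have := h j.unop
  exact ULift.ext _ _ this

/-- The non-vanishing locus in `|X|` of a global function. -/
def gD (s : ↥(gsectEt (OEt X))) : Set (Points X) :=
  ⋃ E : EtOver X, Points.ofPt E.obj.hom '' (E.obj.left.left.basicOpen (gsec s E) : Set ↥E.obj.left.left)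

theorem isOpen_gD (s : ↥(gsectEt (OEt X))) : IsOpen (gD s) := by
  refine isOpen_iUnion fun E => ?_
  exact Groth.Agent.H53.isOpenMap_ofPt_of_etale E.obj.hom E.property _
    (E.obj.left.left.basicOpen (gsec s E)).2

theorem gD_inter_subset (s t : ↥(gsectEt (OEt X))) : gD s ∩ gD t ⊆ gD (s * t) := by
  rintro x ⟨hxs, hxt⟩
  simp only [gD, Set.mem_iUnion] at hxs hxt ⊢
  obtain ⟨E, e, he, rfl⟩ := hxs
  obtain ⟨E', e', he', hee'⟩ := hxt
  obtain ⟨z, hz1, hz2⟩ := Groth.Agent.H53.exists_point_prodObj' E E' e e' hee'.symm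
  refine ⟨EtOver.prodObj E E', z, ?_, ?_⟩
  · rw [gsec_mul, Scheme.basicOpen_mul]
    constructor
    · rw [← gsec_naturality s (EtOver.prodFst E E')]
      have : z ∈ (EtOver.prodFst E E').hom.left.left ⁻¹ᵁ (E.obj.left.left.basicOpen (gsec s E)) := by
        show (EtOver.prodFst E E').hom.left.left z ∈ E.obj.left.left.basicOpen (gsec s E)
        rw [hz1]; exact he
      rw [Scheme.preimage_basicOpen] at this
      simpa using this
    · rw [← gsec_naturality t (EtOver.prodSnd E E')]
      have : z ∈ (EtOver.prodSnd E E').hom.left.left ⁻¹ᵁ (E'.obj.left.left.basicOpen (gsec t E')) := by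
        show (EtOver.prodSnd E E').hom.left.left z ∈ E'.obj.left.left.basicOpen (gsec t E')
        rw [hz2]; exact he'
      rw [Scheme.preimage_basicOpen] at this
      simpa using this
  · have h1 := Groth.Agent.H53.ofPt_yon_map_comp (EtOver.prodFst E E').hom.left E.obj.hom z
    rw [EtOver.w] at h1
    rw [h1, hz1]

theorem gD_zero : gD (0 : ↥(gsectEt (OEt X))) = ∅ := by
  simp only [gD, gsec_zero, Scheme.basicOpen_zero]
  simp

/-- If the non-vanishing locus of a global function on a reduced space is empty, the function is zero. -/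
theorem eq_zero_of_gD_eq_empty
    (hred : ∀ x : Points X, HasAt (fun U u => _root_.IsReduced ↥(U.presheaf.stalk u)) X x)
    (s : ↥(gsectEt (OEt X))) (h : gD s = ∅) : s = 0 := by
  apply gsec_ext
  intro E
  rw [gsec_zero]
  have hE : AlgebraicGeometry.IsReduced E.obj.left.left := Groth.Agent.H53.isReduced_of_etOver hred E
  rw [← basicOpen_eq_bot_iff]
  ext e
  simp only [TopologicalSpace.Opens.coe_bot, Set.mem_empty_iff_false, iff_false]
  intro he
  have : Points.ofPt E.obj.hom e ∈ gD s := by
    simp only [gD, Set.mem_iUnion]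
    exact ⟨E, e, he, rfl⟩
  rw [h] at this
  exact this

/-- S10494. -/
theorem isDomain_gsectEt_of_isIntegralSp (hXalg : IsAlgSpace X) (hX : IsIntegralSp X) :
    IsDomain ↥(gsectEt (OEt X)) := by
  obtain ⟨hred, -, hirr⟩ := hX
  have hred' := Groth.Agent.H53.hasAt_isReduced_of_isReducedSp hred
  have hnz : NoZeroDivisors ↥(gsectEt (OEt X)) := by
    constructor
    intro s t hst
    have hdisj : gD s ∩ gD t = ∅ := by
      have := gD_inter_subset s t
      rw [hst, gD_zero] at this
      exact Set.subset_empty_iff.1 this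
    by_contra hcon
    push Not at hcon
    have hs : (gD s).Nonempty := by
      rw [Set.nonempty_iff_ne_empty]
      exact fun h => hcon.1 (eq_zero_of_gD_eq_empty hred' s h)
    have ht : (gD t).Nonempty := by
      rw [Set.nonempty_iff_ne_empty]
      exact fun h => hcon.2 (eq_zero_of_gD_eq_empty hred' t h)
    have := nonempty_preirreducible_inter (isOpen_gD s) (isOpen_gD t) hs ht
    rw [hdisj] at this
    exact Set.not_nonempty_empty this
  have hnt : Nontrivial ↥(gsectEt (OEt X)) := by
    refine ⟨0, 1, fun h01 => ?_⟩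
    obtain ⟨x⟩ := hirr.toNonempty
    obtain ⟨U, a, hae, has⟩ := hXalg.atlas
    obtain ⟨u, -⟩ := Groth.Agent.H53.surjective_ofPt_of_surjective a has x
    have h1 := congrArg (fun s => gsec s (EtOver.mk a hae)) h01
    simp only [gsec_zero, gsec_one] at h1
    have hne : Nonempty ↥(⊤ : (EtOver.mk a hae).obj.left.left.Opens) := ⟨⟨u, trivial⟩⟩
    have : Nontrivial Γ((EtOver.mk a hae).obj.left.left, ⊤) :=
      @Scheme.component_nontrivial _ ⊤ hne
    exact zero_ne_one h1
  exact NoZeroDivisors.to_isDomain _

end Groth.Agent.Lib.Helper54
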