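import Groth.Agent.Lib.Helper54.DecentSchematic
import Groth.Agent.H53.IntegralSub
import Groth.Agent.H53.Immersion

/-!
# The space of points of a decent algebraic space is quasi-sober (helper54)
-/

set_option autoImplicit false
set_option backward.isDefEq.respectTransparency false
set_option linter.style.haveILetI false
universe u
open CategoryTheory CategoryTheory.Limits AlgebraicGeometry Topology
open AlgSp

namespace Groth.Agent.Lib.Helper54

open Groth.Agent.H53.ZarGlue (schematicLocus)

variable {S : Scheme.{u}}

/-- A decent algebraic space whose space of points is irreducible has a generic point. -/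
theorem exists_isGenericPoint_univ_of_isDecent {Z : Sp S} (hZ : IsAlgSpace Z) (hZd : IsDecent Z)
    [IrreducibleSpace (Points Z)] : ∃ ζ : Points Z, IsGenericPoint ζ (Set.univ : Set (Points Z)) := by
  have hM : (RepWith (S := S) @IsOpenImmersion).IsMultiplicative := repWith_isMultiplicative _
  have hdense := dense_schematicLocus_of_isDecent hZ hZd
  have hopen := Groth.Agent.H53.ZarGlue.isOpen_schematicLocus Z
  obtain ⟨Y, ⟨e⟩⟩ := Groth.Agent.H53.ZarGlue.exists_iso_yon_openSub_schematicLocus hZ
  obtain ⟨j, hjdef⟩ : ∃ j : (yon S).obj Y ⟶ Z, j = e.hom ≫ openSubι Z (schematicLocus Z) := ⟨_, rfl⟩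
  have hj : RepWith @IsOpenImmersion j := by
    rw [hjdef]
    exact (RepWith (S := S) @IsOpenImmersion).comp_mem _ _ (MorphismProperty.of_isIso _ e.hom)
      (repWith_isOpenImmersion_openSubι Z _ hopen)
  have hjrange : Set.range (Points.map j) = schematicLocus Z := by
    rw [← range_points_map_openSubι Z (schematicLocus Z), hjdef]
    ext ξ
    constructor
    · rintro ⟨η, rfl⟩
      exact ⟨Points.map e.hom η, (Points.map_comp _ _ _).symm⟩
    · rintro ⟨ζ, rfl⟩
      refine ⟨Points.map e.inv ζ, ?_⟩
      rw [Points.map_comp, ← Points.map_comp e.inv, e.inv_hom_id, Points.map_id]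
  have himm : RepWith @IsImmersion j :=
    Groth.Agent.H53.repWith_of_le (fun A B φ hφ => by
      have : IsOpenImmersion φ := hφ
      infer_instance) hj
  have hemb : IsEmbedding (Points.map j) :=
    (Groth.Agent.H53.isEmbedding_points_of_repWith_isImmersion hZ j himm).1
  have hoe : IsOpenEmbedding (Points.map j) := ⟨hemb, by rw [hjrange]; exact hopen⟩
  haveI : QuasiSober (Points ((yon S).obj Y)) :=
    (Points.schemeHomeo Y).symm.isOpenEmbedding.quasiSober
  have hpre : IsPreirreducible (Set.univ : Set (Points ((yon S).obj Y))) := by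
    have := (IrreducibleSpace.isIrreducible_univ (Points Z)).2.preimage hoe
    rwa [Set.preimage_univ] at this
  have hne : (Set.univ : Set (Points ((yon S).obj Y))).Nonempty := by
    obtain ⟨z, hz⟩ := hdense.nonempty
    rw [← hjrange] at hz
    obtain ⟨η, -⟩ := hz
    exact ⟨η, trivial⟩
  obtain ⟨η, hη⟩ := QuasiSober.sober ⟨hne, hpre⟩ isClosed_univ
  refine ⟨Points.map j η, ?_⟩
  rw [IsGenericPoint, ← Set.univ_subset_iff, ← hdense.closure_eq, ← hjrange, ← Set.image_univ, ← hη.def]
  refine closure_minimal ?_ isClosed_closure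
  exact (image_closure_subset_closure_image (Points.continuous_map j)).trans (by rw [Set.image_singleton])

/-- The space of points of a decent algebraic space is quasi-sober. -/
theorem quasiSober_points_of_isDecent {X : Sp S} (hX : IsAlgSpace X) (hXd : IsDecent X) :
    QuasiSober (Points X) := by
  constructor
  intro T hTi hTc
  obtain ⟨Z, i, hZ, hci, ⟨hred, hZd, hZirr⟩, hr⟩ :=
    Groth.Agent.H53.IntegralSub.exists_integral_closed_subspace hX hXd T hTc hTi
  haveI := hZirr
  obtain ⟨ζ, hζ⟩ := exists_isGenericPoint_univ_of_isDecent hZ hZd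
  refine ⟨Points.map i ζ, ?_⟩
  have h := hζ.image (Points.continuous_map i)
  rwa [Set.image_univ, hr, hTc.closure_eq] at h

end Groth.Agent.Lib.Helper54
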