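/-
Helper library (helper54): being locally Noetherian descends along fppf surjective morphisms of schemes.
-/
import Mathlib.AlgebraicGeometry.Noetherian
import Mathlib.AlgebraicGeometry.Morphisms.Flat
import Mathlib.AlgebraicGeometry.Morphisms.UniversallyOpen
import Mathlib.AlgebraicGeometry.Morphisms.FinitePresentation
import Mathlib.RingTheory.Flat.FaithfullyFlat.Algebra
import Mathlib.AlgebraicGeometry.Limits

set_option autoImplicit false
universe u

open CategoryTheory AlgebraicGeometry Limits

namespace Groth.Agent.Lib.Helper54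

/-- Noetherianity descends along faithfully flat ring maps. -/
theorem isNoetherianRing_of_faithfullyFlat (A B : Type u) [CommRing A] [CommRing B] [Algebra A B]
    [Module.FaithfullyFlat A B] [IsNoetherianRing B] : IsNoetherianRing A := by
  rw [isNoetherianRing_iff, isNoetherian_iff']
  let φ : Ideal A ↪o Ideal B := OrderEmbedding.ofMapLEIff (Ideal.map (algebraMap A B)) (fun I J =>
    ⟨fun h => by
      have := Ideal.comap_mono (f := algebraMap A B) h
      rwa [Ideal.comap_map_eq_self_of_faithfullyFlat, Ideal.comap_map_eq_self_of_faithfullyFlat] at this,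
     fun h => Ideal.map_mono h⟩)
  exact φ.wellFoundedGT

/-- Affine target case. -/
theorem isLocallyNoetherian_of_fppf_of_isAffine {V W : Scheme.{u}} (h : V ⟶ W) [IsAffine W] [Flat h]
    [LocallyOfFinitePresentation h] [Surjective h] [IsLocallyNoetherian V] : IsLocallyNoetherian W := by
  let 𝒰 := V.affineCover
  have hopen : ∀ j, IsOpen (Set.range (𝒰.f j ≫ h)) := fun j =>
    (𝒰.f j ≫ h).isOpenMap.isOpen_range
  have hcov : (Set.univ : Set W) ⊆ ⋃ j, Set.range (𝒰.f j ≫ h) := by
    intro w _
    obtain ⟨v, rfl⟩ := h.surjective w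
    obtain ⟨j, x, rfl⟩ := 𝒰.exists_eq v
    exact Set.mem_iUnion.2 ⟨j, x, by simp⟩
  obtain ⟨t, ht⟩ := isCompact_univ.elim_finite_subcover _ hopen hcov
  let Z : Scheme.{u} := ∐ fun j : t => 𝒰.X j.1
  let g : Z ⟶ W := Sigma.desc fun j : t => 𝒰.f j.1 ≫ h
  have hfl : ∀ j : t, Flat (𝒰.f j.1 ≫ h) := fun j => inferInstance
  have hflat : Flat g := inferInstance
  have hsurj : Surjective g := by
    refine ⟨fun w => ?_⟩
    obtain ⟨j, hj, x, hx⟩ : ∃ j ∈ t, w ∈ Set.range (𝒰.f j ≫ h) := by
      have := ht (Set.mem_univ w)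
      simpa using this
    refine ⟨Sigma.ι (fun j : t => 𝒰.X j.1) ⟨j, hj⟩ x, ?_⟩
    rw [← Scheme.Hom.comp_apply, Sigma.ι_desc]
    exact hx
  have : IsLocallyNoetherian Z := by
    rw [isLocallyNoetherian_iff_openCover (sigmaOpenCover _)]
    intro (j : t)
    change IsLocallyNoetherian (𝒰.X j.1)
    exact @isLocallyNoetherian_of_isOpenImmersion _ _ (𝒰.f j.1) (𝒰.map_prop j.1) _
  have hff : g.appTop.hom.FaithfullyFlat :=
    (Flat.flat_and_surjective_iff_faithfullyFlat_of_isAffine g).1 ⟨hflat, hsurj⟩
  have : IsNoetherianRing Γ(Z, ⊤) := IsLocallyNoetherian.component_noetherian ⟨⊤, isAffineOpen_top Z⟩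
  have : IsNoetherianRing Γ(W, ⊤) := by
    algebraize [g.appTop.hom]
    exact isNoetherianRing_of_faithfullyFlat Γ(W, ⊤) Γ(Z, ⊤)
  exact isLocallyNoetherian_of_isOpenImmersion W.isoSpec.hom


/-- Being locally Noetherian descends along fppf surjective morphisms. -/
theorem isLocallyNoetherian_of_fppf {V W : Scheme.{u}} (h : V ⟶ W) [Flat h]
    [LocallyOfFinitePresentation h] [Surjective h] [IsLocallyNoetherian V] : IsLocallyNoetherian W := by
  rw [isLocallyNoetherian_iff_openCover W.affineCover]
  intro i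
  have : IsLocallyNoetherian (pullback h (W.affineCover.f i)) :=
    isLocallyNoetherian_of_isOpenImmersion (pullback.fst h (W.affineCover.f i))
  exact isLocallyNoetherian_of_fppf_of_isAffine (pullback.snd h (W.affineCover.f i))

end Groth.Agent.Lib.Helper54
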