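import Groth.Agent.Lib.Helper54.UnivBddComp
import Groth.Agent.Lib.Helper54.Points
import Groth.Prelude.Def_W4decUnivBdd

/-!
# Universally bounded fibres: composition, for maps from schemes to algebraic spaces
-/

set_option autoImplicit false
universe u
open CategoryTheory CategoryTheory.Limits AlgebraicGeometry
open AlgSp

namespace Groth.Agent.Lib.Helper54

variable {S : Scheme.{u}}

/-- A pullback square of schemes over `S` gives a pullback square of representable sheaves. -/
theorem isPullback_yon_of_isPullback_left {A B C D : Over S} {f' : A ⟶ B} {g' : A ⟶ C} {h : B ⟶ D}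
    {i : C ⟶ D} (e : f' ≫ h = g' ≫ i) (sq : IsPullback f'.left g'.left h.left i.left) :
    IsPullback ((yon S).map f') ((yon S).map g') ((yon S).map h) ((yon S).map i) := by
  have sq' : IsPullback f' g' h i := IsPullback.of_map (Over.forget S) e sq
  exact sq'.map (yon S)

theorem hasUnivBddFibres_comp (X : AlgSp.Space S) {U V : Over S} (f : V ⟶ U)
    (g : (AlgSp.yon S).obj U ⟶ X.obj) (hf : W4dec.HasUnivBddFibres ((AlgSp.yon S).map f))
    (hg : W4dec.HasUnivBddFibres g) : W4dec.HasUnivBddFibres ((AlgSp.yon S).map f ≫ g) := by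
  obtain ⟨m, hm⟩ := hf
  obtain ⟨n, hn⟩ := hg
  refine ⟨m * n, ?_⟩
  intro q T'' c'' snd'' sq''
  have hrep := X.property.representable_from_yon g
  have sqT := hrep.isPullback q.toHom
  obtain ⟨hcfin, hcrank⟩ := hn q (hrep.pullback q.toHom) (hrep.snd q.toHom) (hrep.fst q.toHom) sqT.flip
  -- the lift `T'' ⟶ T`
  have comm : (snd'' ≫ (yon S).map f) ≫ g = (yon S).map c'' ≫ q.toHom := by
    rw [Category.assoc]; exact sq''.w.symm
  obtain ⟨lam, hlam⟩ := (yon S).map_surjective (sqT.lift (snd'' ≫ (yon S).map f) ((yon S).map c'') comm)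
  have hl1 : (yon S).map lam ≫ hrep.fst q.toHom = snd'' ≫ (yon S).map f := by
    rw [hlam]; exact sqT.lift_fst _ _ _
  have hl2 : (yon S).map lam ≫ (yon S).map (hrep.snd q.toHom) = (yon S).map c'' := by
    rw [hlam]; exact sqT.lift_snd _ _ _
  have hlc : lam ≫ hrep.snd q.toHom = c'' := (yon S).map_injective (by rw [Functor.map_comp, hl2])
  have top : IsPullback snd'' ((yon S).map lam) ((yon S).map f) (hrep.fst q.toHom) := by
    refine IsPullback.of_bot ?_ hl1.symm sqT
    rw [hl2]
    exact sq''.flip
  -- apply the scheme-level statement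
  have hcfin' : IsFinite (hrep.snd q.toHom).left := hcfin
  have key := isFinite_comp_of_fibres (K := q.K) lam.left (hrep.snd q.toHom).left n m hcrank (by
    intro κ _ t F a b sq
    let t' : Over.mk (t ≫ (hrep.pullback q.toHom).hom) ⟶ hrep.pullback q.toHom := Over.homMk t rfl
    let r : FieldPt ((yon S).obj U) :=
      fieldPtOfHom κ (t ≫ (hrep.pullback q.toHom).hom) ((yon S).map t' ≫ hrep.fst q.toHom)
    let F' : Over S := Over.mk (b ≫ t ≫ (hrep.pullback q.toHom).hom)
    let b' : F' ⟶ r.pt := Over.homMk b rfl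
    let a' : F' ⟶ T'' := Over.homMk a (by
      change a ≫ T''.hom = b ≫ t ≫ (hrep.pullback q.toHom).hom
      rw [← Over.w lam, ← Category.assoc, sq.w, Category.assoc])
    have e : a' ≫ lam = b' ≫ t' := by
      apply Over.OverMorphism.ext
      exact sq.w
    have sqF : IsPullback ((yon S).map a') ((yon S).map b') ((yon S).map lam) ((yon S).map t') :=
      isPullback_yon_of_isPullback_left e sq
    have big := sqF.paste_horiz top
    have hr : r.toHom = (yon S).map t' ≫ hrep.fst q.toHom := fieldPtOfHom_toHom _ _ _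
    exact hm r F' b' ((yon S).map a' ≫ snd'') (by rw [hr]; exact big.flip))
  have hleft : c''.left = lam.left ≫ (hrep.snd q.toHom).left := by
    rw [← hlc]; rfl
  rw [hleft]
  exact key

end Groth.Agent.Lib.Helper54
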