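import Groth.Agent.Lib.Helper54.QAffEtaleImage
import Groth.Agent.H53.FiniteComp
import Groth.Agent.H53.Unram
import Groth.Agent.H53.ZarGlueAff
import Groth.Agent.S1482
import Mathlib.AlgebraicGeometry.Morphisms.UniversallyInjective
import Mathlib.AlgebraicGeometry.Morphisms.FlatMono

/-!
# Separated locally quasi-finite algebraic spaces over a scheme are schemes (helper54)

Stacks 0418 / 03XX.  The proof avoids quotients by finite équivalence relations: by the étale
localisation of quasi-finite morphisms with purely inseparable residue field extensions (S1482,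
helper7), an étale chart of `X` becomes, after an étale base change `T' ⟶ T`, a scheme `V` finite
over `T'` with a single point over `t'` whose residue field is purely inseparable over `κ(t')`.
Then `V ⟶ X_{T'}` is an étale monomorphism over a neighbourhood of `t'`
(`exists_open_mono_of_radicial`), hence an open immersion, and `QAffEtaleImage` (Stacks 0417) shows
that the image of `V` in `X` is an open subscheme.
-/

set_option autoImplicit false
set_option backward.isDefEq.respectTransparency false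
universe u
open CategoryTheory CategoryTheory.Limits AlgebraicGeometry

namespace Groth.Agent.Lib.Helper54
open AlgSp
variable {S : Scheme.{u}}

set_option backward.isDefEq.respectTransparency.types false in
set_option backward.defeqAttrib.useBackward true in
/-- Two field-valued points with the same underlying point at which the residue field extension is
purely inseparable agree as soon as their images agree. -/
theorem eq_of_comp_eq_of_isPurelyInseparable {X Y : Scheme.{u}} (f : X ⟶ Y) {K : Type u} [Field K]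
    (g₁ g₂ : Spec (.of K) ⟶ X) (hg : g₁ ≫ f = g₂ ≫ f)
    (hpt : g₁ (IsLocalRing.closedPoint K) = g₂ (IsLocalRing.closedPoint K))
    (hpi : (f.residueFieldMap (g₁ (IsLocalRing.closedPoint K))).hom.IsPurelyInseparable) :
    g₁ = g₂ := by
  obtain ⟨e, h⟩ := Scheme.SpecToEquivOfField_eq_iff.mp congr((Y.SpecToEquivOfField K) $(hg))
  apply (X.SpecToEquivOfField K).injective
  dsimp at e h
  simp only [Scheme.descResidueField_stalkClosedPointTo_comp] at e h
  rw [← f.residueFieldMap_congr'_assoc hpt, CommRingCat.hom_ext_iff] at h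
  rw [Scheme.SpecToEquivOfField_eq_iff]
  let x := g₁ (IsLocalRing.closedPoint K)
  algebraize [(f.residueFieldMap (g₁ (IsLocalRing.closedPoint K))).hom]
  refine ⟨hpt, CommRingCat.hom_ext ?_⟩
  exact IsPurelyInseparable.injective_comp_algebraMap
    (Y.residueField (f x)) (X.residueField x) _ h

/-- A representable étale monomorphism is an open immersion. -/
theorem repWith_isOpenImmersion_of_etale_of_mono {F G : Sp S} (j : F ⟶ G) [Mono j]
    (hj : RepWith @Etale j) : RepWith @IsOpenImmersion j := by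
  refine ⟨hj.rep, fun T V g fst snd sq => ?_⟩
  have he : Etale snd.left := hj.property g fst snd sq
  have hm1 : Mono ((yon S).map snd) := sq.mono_snd_of_mono
  have hm2 : Mono snd := (yon S).mono_of_mono_map hm1
  have hm3 : Mono snd.left := inferInstance
  exact IsOpenImmersion.of_flat_of_mono snd.left

/-- An étale map from a scheme finite over `T₁` to an algebraic space separated over `T₁`, which is
radicial over a point `t₁`, is a monomorphism over an open neighbourhood of `t₁`. -/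
theorem exists_open_mono_of_radicial {T₁ : Over S} {Y : Sp S} (h : Y ⟶ (yon S).obj T₁)
    (hsep : IsSeparatedMor h) {V : Over S} (πV : V ⟶ T₁) (hfin : IsFinite πV.left)
    (aV : (yon S).obj V ⟶ Y) (haV : aV ≫ h = (yon S).map πV) (hae : RepWith @Etale aV)
    (t₁ : ↥T₁.left)
    (hrad : ∀ (K : Type u) [Field K] (y₁ y₂ : Spec (.of K) ⟶ V.left),
      y₁ ≫ πV.left = y₂ ≫ πV.left → (y₁ ≫ πV.left) (IsLocalRing.closedPoint K) = t₁ → y₁ = y₂) :
    ∃ T₂ : T₁.left.Opens, t₁ ∈ T₂ ∧ ∀ T₃ : T₁.left.Opens, T₃ ≤ T₂ →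
      Mono ((yon S).map (Groth.Agent.H52.overOpenι V (πV.left ⁻¹ᵁ T₃)) ≫ aV) := by
  -- the fibre product `V ×_Y V` as a closed subscheme of `V ×_{T₁} V`
  have sqVV : IsPullback ((yon S).map (pullback.fst πV πV)) ((yon S).map (pullback.snd πV πV))
      (aV ≫ h) (aV ≫ h) := by
    rw [haV]
    exact (IsPullback.of_hasPullback πV πV).map (yon S)
  obtain ⟨R, c, s', sqR, hc⟩ := Groth.Agent.H53.exists_closedImmersion_of_comp_separated aV h hsep
    aV (pullback.snd πV πV) ((yon S).map (pullback.fst πV πV)) sqVV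
  obtain ⟨s, rfl⟩ := (yon S).map_surjective s'
  obtain ⟨t, ht⟩ : ∃ t : R ⟶ V, t = c ≫ pullback.snd πV πV := ⟨_, rfl⟩
  rw [← ht] at sqR
  have hst : s ≫ πV = t ≫ πV := by
    apply (yon S).map_injective
    rw [Functor.map_comp, Functor.map_comp, ← haV, ← Category.assoc, sqR.w, Category.assoc]
  -- `R ⟶ T₁` is finite, hence closed
  have hfin2 : IsFinite (pullback.snd πV πV).left :=
    MorphismProperty.of_isPullback (P := @IsFinite)
      (isPullback_left (IsPullback.of_hasPullback πV πV)) hfin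
  have hρfin : IsFinite (t ≫ πV).left := by
    rw [ht, Over.comp_left, Over.comp_left]
    infer_instance
  have hρcl : IsClosedMap (t ≫ πV).left := (t ≫ πV).left.isClosedMap
  -- the diagonal
  obtain ⟨δ, hδ⟩ := (yon S).map_surjective (sqR.lift (𝟙 _) (𝟙 _) rfl)
  have hδs : δ ≫ s = 𝟙 _ := by
    apply (yon S).map_injective
    rw [Functor.map_comp, hδ, sqR.lift_fst, CategoryTheory.Functor.map_id]
  have hδt : δ ≫ t = 𝟙 _ := by
    apply (yon S).map_injective
    rw [Functor.map_comp, hδ, sqR.lift_snd, CategoryTheory.Functor.map_id]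
  have hte : Etale t.left := hae.property aV _ t sqR
  have hδtl : δ.left ≫ t.left = 𝟙 _ := by
    rw [← Over.comp_left, hδt]
    rfl
  have hδe : Etale δ.left := by
    have : Etale (δ.left ≫ t.left) := by
      rw [hδtl]
      infer_instance
    exact Etale.of_comp δ.left t.left
  have hδm : Mono δ.left := mono_of_mono_fac hδtl
  have hδo : IsOpenImmersion δ.left := IsOpenImmersion.of_flat_of_mono δ.left
  -- the bad locus
  have hstl : (s ≫ πV).left = (t ≫ πV).left := by rw [hst]
  obtain ⟨ρT, hρT⟩ : ∃ ρT : R.left ⟶ T₁.left, ρT = (t ≫ πV).left := ⟨_, rfl⟩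
  rw [← hρT] at hρcl hstl
  obtain ⟨Z, hZdef⟩ : ∃ Z : Set ↥T₁.left, Z = ρT '' (Set.range δ.left)ᶜ := ⟨_, rfl⟩
  have hZ : IsClosed Z := by
    rw [hZdef]
    exact hρcl _ δ.left.isOpenEmbedding.isOpen_range.isClosed_compl
  refine ⟨⟨Zᶜ, hZ.isOpen_compl⟩, ?_, ?_⟩
  · intro hmem
    rw [hZdef] at hmem
    obtain ⟨r, hr, hrt⟩ := hmem
    apply hr
    obtain ⟨K, _, y, hy⟩ : ∃ (K : Type u) (_ : Field K) (y : Spec (.of K) ⟶ R.left),
        y (IsLocalRing.closedPoint K) = r :=
      ⟨R.left.residueField r, inferInstance, R.left.fromSpecResidueField r,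
        Scheme.fromSpecResidueField_apply _ _⟩
    have h12 : y ≫ s.left = y ≫ t.left := by
      apply hrad
      · rw [Category.assoc, Category.assoc, ← Over.comp_left, ← Over.comp_left, hst]
      · rw [Category.assoc, ← Over.comp_left, hstl, Scheme.Hom.comp_apply, hy]
        exact hrt
    let SpK : Over S := Over.mk (y ≫ R.hom)
    let yO : SpK ⟶ R := Over.homMk y rfl
    have hyO : yO ≫ t = yO ≫ s := by
      ext1
      exact h12.symm
    have hfac : yO = (yO ≫ s) ≫ δ := by
      apply (yon S).map_injective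
      apply sqR.hom_ext
      · rw [← Functor.map_comp, ← Functor.map_comp, Category.assoc, hδs, Category.comp_id]
      · rw [← Functor.map_comp, ← Functor.map_comp, Category.assoc, hδt, Category.comp_id, hyO]
    have hfacl : y = (yO ≫ s).left ≫ δ.left := congrArg (fun φ => φ.left) hfac
    refine ⟨(yO ≫ s).left (IsLocalRing.closedPoint K), ?_⟩
    rw [← Scheme.Hom.comp_apply, ← hfacl]
    exact hy
  · intro T₃ hT₃
    constructor
    intro F α β hαβ
    apply Groth.Agent.H52.sp_hom_ext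
    intro W x
    obtain ⟨α', hα'⟩ := (yon S).map_surjective (x ≫ α)
    obtain ⟨β', hβ'⟩ := (yon S).map_surjective (x ≫ β)
    have hw : (yon S).map (α' ≫ Groth.Agent.H52.overOpenι V _) ≫ aV =
        (yon S).map (β' ≫ Groth.Agent.H52.overOpenι V _) ≫ aV := by
      rw [Functor.map_comp, Functor.map_comp, hα', hβ', Category.assoc, Category.assoc,
        Category.assoc, Category.assoc, hαβ]
    obtain ⟨ρ, hρ⟩ := (yon S).map_surjective (sqR.lift _ _ hw)
    have hρs : ρ ≫ s = α' ≫ Groth.Agent.H52.overOpenι V _ := by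
      apply (yon S).map_injective
      rw [Functor.map_comp, hρ, sqR.lift_fst]
    have hρt : ρ ≫ t = β' ≫ Groth.Agent.H52.overOpenι V _ := by
      apply (yon S).map_injective
      rw [Functor.map_comp, hρ, sqR.lift_snd]
    have hrange : Set.range ρ.left ⊆ Set.range δ.left := by
      rintro _ ⟨w, rfl⟩
      by_contra hcon
      have hmem : πV.left (α'.left w).1 ∈ (⟨Zᶜ, hZ.isOpen_compl⟩ : T₁.left.Opens) :=
        hT₃ (α'.left w).2
      apply hmem
      refine hZdef.ge ⟨ρ.left w, hcon, ?_⟩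
      rw [← hstl, Over.comp_left, Scheme.Hom.comp_apply, ← Scheme.Hom.comp_apply ρ.left,
        ← Over.comp_left, hρs]
      rfl
    have hlift : IsOpenImmersion.lift δ.left ρ.left hrange ≫ δ.left = ρ.left :=
      IsOpenImmersion.lift_fac _ _ _
    generalize IsOpenImmersion.lift δ.left ρ.left hrange = l at hlift
    have hδsl : δ.left ≫ s.left = 𝟙 _ := by
      rw [← Over.comp_left, hδs]
      rfl
    have h1 : (α' ≫ Groth.Agent.H52.overOpenι V _).left = l := by
      rw [← hρs, Over.comp_left, ← hlift, Category.assoc, hδsl, Category.comp_id]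
    have h2 : (β' ≫ Groth.Agent.H52.overOpenι V _).left = l := by
      rw [← hρt, Over.comp_left, ← hlift, Category.assoc, hδtl, Category.comp_id]
    have h3 : α' ≫ Groth.Agent.H52.overOpenι V _ = β' ≫ Groth.Agent.H52.overOpenι V _ := by
      ext1
      rw [h1, h2]
    have hmono : Mono (Groth.Agent.H52.overOpenι V (πV.left ⁻¹ᵁ T₃)) := by
      have : Mono (Groth.Agent.H52.overOpenι V (πV.left ⁻¹ᵁ T₃)).left :=
        (inferInstance : Mono (Scheme.Opens.ι _))
      exact Groth.Agent.H52.mono_over_of_mono_left _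
    have h4 : α' = β' := (cancel_mono _).1 h3
    rw [← hα', ← hβ', h4]


/-- Stacks 0418, affine base: an algebraic space separated and locally quasi-finite over an affine
scheme is a scheme. -/
theorem isRepresentable_of_lqf_separated_affine {T : Over S} (hT : IsAffine T.left) {X : Sp S}
    (hX : IsAlgSpace X) (f : X ⟶ (yon S).obj T) (hsep : IsSeparatedMor f)
    (hqf : LocP (@LocallyQuasiFinite ⊓ @LocallyOfFiniteType) f) : X.obj.IsRepresentable := by
  have hE : (RepWith (S := S) @Etale).IsMultiplicative := repWith_isMultiplicative _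
  apply isRepresentable_of_schematicLocus_eq_univ hX
  rw [Set.eq_univ_iff_forall]
  intro x
  obtain ⟨U₀, p, hpe, hps⟩ := hX.atlas
  obtain ⟨u₀, rfl⟩ := Groth.Agent.H53.surjective_ofPt_of_surjective p hps x
  obtain ⟨g, hg⟩ := (yon S).map_surjective (p ≫ f)
  have hPg : (@LocallyQuasiFinite ⊓ @LocallyOfFiniteType : MorphismProperty Scheme.{u}) g.left :=
    hqf p (𝟙 _) g hpe (repWith_id _ T) (by rw [Category.comp_id, hg])
  have hg1 : LocallyQuasiFinite g.left := hPg.1
  have hg2 : LocallyOfFiniteType g.left := hPg.2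
  -- étale localisation
  obtain ⟨T₁s, e₁, t₁, he₁, ht₁, J, hJ, Vo, v, hV, -, hcov⟩ :=
    Groth.Agent.S1482.result g.left (g.left u₀) (fun _ : Unit => u₀)
      (fun _ _ _ => Subsingleton.elim _ _) (fun _ => rfl) (fun _ => g.left.quasiFiniteAt u₀)
  obtain ⟨w₀, hw₀1, hw₀2⟩ := Scheme.Pullback.exists_preimage_pullback (f := g.left) (g := e₁)
    u₀ t₁ ht₁.symm
  obtain ⟨j₀, hj₀⟩ := hcov w₀ () hw₀2 hw₀1
  obtain ⟨hvV, hVfin, hvt, hVuniq, ⟨-, hVpi⟩, hvu⟩ := hV () j₀
  -- objects over `S`
  let T₁ : Over S := Over.mk (e₁ ≫ T.hom)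
  let e₁O : T₁ ⟶ T := Over.homMk e₁ rfl
  let U' : Over S := Over.mk (pullback.fst g.left e₁ ≫ U₀.hom)
  let q1 : U' ⟶ U₀ := Over.homMk (pullback.fst g.left e₁) rfl
  let q2 : U' ⟶ T₁ := Over.homMk (pullback.snd g.left e₁) (by
    change pullback.snd g.left e₁ ≫ e₁ ≫ T.hom = pullback.fst g.left e₁ ≫ U₀.hom
    rw [← Over.w g, ← Category.assoc, ← Category.assoc, pullback.condition])
  have sqU' : IsPullback q1 q2 g e₁O := by
    refine IsPullback.of_map (Over.forget S) ?_ ?_
    · ext1
      exact pullback.condition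
    · exact IsPullback.of_hasPullback g.left e₁
  let V : Over S := Groth.Agent.H52.overOpen U' (Vo () j₀)
  let ιV : V ⟶ U' := Groth.Agent.H52.overOpenι U' (Vo () j₀)
  let πV : V ⟶ T₁ := ιV ≫ q2
  have hπVfin : IsFinite πV.left := hVfin
  -- the base change `Y` of `X`
  obtain ⟨Y, pY, h, sqY⟩ : ∃ (Y : Sp S) (pY : Y ⟶ X) (h : Y ⟶ (yon S).obj T₁),
      IsPullback pY h f ((yon S).map e₁O) := ⟨_, _, _, IsPullback.of_hasPullback _ _⟩
  have hsepY : IsSeparatedMor h :=
    Groth.Agent.H52.repWith_diagonal_of_isPullback @IsClosedImmersion sqY hsep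
  have ha'w : ((yon S).map q1 ≫ p) ≫ f = (yon S).map q2 ≫ (yon S).map e₁O := by
    rw [Category.assoc, ← hg, ← Functor.map_comp, ← Functor.map_comp, sqU'.w]
  obtain ⟨a', ha'1, ha'2⟩ : ∃ a' : (yon S).obj U' ⟶ Y, a' ≫ pY = (yon S).map q1 ≫ p ∧
      a' ≫ h = (yon S).map q2 := ⟨sqY.lift _ _ ha'w, sqY.lift_fst _ _ _, sqY.lift_snd _ _ _⟩
  have sqa' : IsPullback a' ((yon S).map q1) pY p := by
    refine IsPullback.of_right ?_ ha'1 sqY.flip
    rw [ha'2, ← hg]
    exact (sqU'.flip).map (yon S)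
  have ha'e : RepWith @Etale a' := MorphismProperty.of_isPullback sqa'.flip hpe
  obtain ⟨aV, haVdef⟩ : ∃ aV : (yon S).obj V ⟶ Y, aV = (yon S).map ιV ≫ a' := ⟨_, rfl⟩
  have haVe : RepWith @Etale aV := by
    rw [haVdef]
    exact (RepWith (S := S) @Etale).comp_mem _ _ (Groth.Agent.H52.repWith_etale_overOpenι U' _) ha'e
  have haVh : aV ≫ h = (yon S).map πV := by
    rw [haVdef, Category.assoc, ha'2, ← Functor.map_comp]
  -- the radicial property
  have hrad : ∀ (K : Type u) [Field K] (y₁ y₂ : Spec (.of K) ⟶ V.left),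
      y₁ ≫ πV.left = y₂ ≫ πV.left → (y₁ ≫ πV.left) (IsLocalRing.closedPoint K) = t₁ →
      y₁ = y₂ := by
    intro K _ y₁ y₂ h12 hpt
    have h12' : (y₁ ≫ (Vo () j₀).ι) ≫ pullback.snd g.left e₁ =
        (y₂ ≫ (Vo () j₀).ι) ≫ pullback.snd g.left e₁ := by
      rw [Category.assoc, Category.assoc]
      exact h12
    have hpt1 : ((y₁ ≫ (Vo () j₀).ι) ≫ pullback.snd g.left e₁) (IsLocalRing.closedPoint K) = t₁ := by
      rw [Category.assoc]
      exact hpt
    have hz1 : (y₁ ≫ (Vo () j₀).ι) (IsLocalRing.closedPoint K) = v () j₀ := by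
      apply hVuniq
      · rw [Scheme.Hom.comp_apply]
        exact (y₁ (IsLocalRing.closedPoint K)).2
      · rw [← Scheme.Hom.comp_apply]
        exact hpt1
    have hz2 : (y₂ ≫ (Vo () j₀).ι) (IsLocalRing.closedPoint K) = v () j₀ := by
      apply hVuniq
      · rw [Scheme.Hom.comp_apply]
        exact (y₂ (IsLocalRing.closedPoint K)).2
      · rw [← Scheme.Hom.comp_apply, ← h12']
        exact hpt1
    apply (cancel_mono (Vo () j₀).ι).1
    refine eq_of_comp_eq_of_isPurelyInseparable (pullback.snd g.left e₁) _ _ h12'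
      (hz1.trans hz2.symm) ?_
    rw [hz1]
    exact hVpi
  obtain ⟨T₂, ht₁T₂, hmonoT₂⟩ :=
    exists_open_mono_of_radicial h hsepY πV hπVfin aV haVh haVe t₁ hrad
  obtain ⟨T₃, hT₃aff, ht₁T₃, hT₃T₂⟩ :=
    exists_isAffineOpen_mem_and_subset (x := t₁) (U := T₂) ht₁T₂
  have hmono₃ := hmonoT₂ T₃ hT₃T₂
  -- the étale neighbourhood `T'`
  let T' : Over S := Groth.Agent.H52.overOpen T₁ T₃
  let oι : T' ⟶ T₁ := Groth.Agent.H52.overOpenι T₁ T₃
  have hT' : IsAffine T'.left := hT₃aff
  let e : T' ⟶ T := oι ≫ e₁O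
  have he : Etale e.left := by
    change Etale (T₃.ι ≫ e₁)
    infer_instance
  -- the affine scheme `V₃`
  let V₃ : Over S := Groth.Agent.H52.overOpen V (πV.left ⁻¹ᵁ T₃)
  let ι₃ : V₃ ⟶ V := Groth.Agent.H52.overOpenι V (πV.left ⁻¹ᵁ T₃)
  have hV₃aff : IsAffine V₃.left := by
    have : IsAffineHom πV.left := inferInstance
    exact hT₃aff.preimage πV.left
  have hV₃qa : V₃.left.IsQuasiAffine := inferInstance
  have hrange₃ : Set.range (ι₃ ≫ πV).left ⊆ Set.range T₃.ι := by
    rintro _ ⟨w, rfl⟩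
    rw [Scheme.Opens.range_ι]
    exact w.2
  obtain ⟨v3l, hv3l⟩ : ∃ v3l : V₃.left ⟶ (T₃ : Scheme.{u}), v3l ≫ T₃.ι = (ι₃ ≫ πV).left :=
    ⟨IsOpenImmersion.lift T₃.ι _ hrange₃, IsOpenImmersion.lift_fac _ _ _⟩
  let v3 : V₃ ⟶ T' := Over.homMk v3l (by
    change v3l ≫ T₃.ι ≫ T₁.hom = V₃.hom
    rw [← Category.assoc, hv3l, Over.w])
  have hv3 : v3 ≫ oι = ι₃ ≫ πV := by
    ext1
    exact hv3l
  -- the fibre product `P` and the open immersion `j`
  obtain ⟨P, p2, p1, sqP⟩ : ∃ (P : Sp S) (p2 : P ⟶ X) (p1 : P ⟶ (yon S).obj T'),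
      IsPullback p2 p1 f ((yon S).map e) := ⟨_, _, _, IsPullback.of_hasPullback _ _⟩
  have hκw : p2 ≫ f = (p1 ≫ (yon S).map oι) ≫ (yon S).map e₁O := by
    rw [Category.assoc, ← Functor.map_comp]
    exact sqP.w
  obtain ⟨κ, hκ1, hκ2⟩ : ∃ κ : P ⟶ Y, κ ≫ pY = p2 ∧ κ ≫ h = p1 ≫ (yon S).map oι :=
    ⟨sqY.lift _ _ hκw, sqY.lift_fst _ _ _, sqY.lift_snd _ _ _⟩
  have sqκ : IsPullback κ p1 h ((yon S).map oι) := by
    refine IsPullback.of_right ?_ hκ2 sqY
    rw [hκ1, ← Functor.map_comp]
    exact sqP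
  have hκo : RepWith @IsOpenImmersion κ := MorphismProperty.of_isPullback sqκ.flip
    ((repWith_yon_map_iff _ _).2 (inferInstance : IsOpenImmersion T₃.ι))
  have hκm : Mono κ := Groth.Agent.H52.mono_of_repWith κ @IsOpenImmersion
    (fun _ _ φ hφ => by have := hφ; infer_instance) hκo
  have hjw : ((yon S).map (ι₃ ≫ ιV ≫ q1) ≫ p) ≫ f = (yon S).map v3 ≫ (yon S).map e := by
    rw [Category.assoc, ← hg, ← Functor.map_comp, ← Functor.map_comp]
    congr 1
    change _ = v3 ≫ oι ≫ e₁O
    rw [Category.assoc, Category.assoc, sqU'.w, ← Category.assoc v3, hv3, Category.assoc,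
      Category.assoc]
  obtain ⟨j, hj1, hj2⟩ : ∃ j : (yon S).obj V₃ ⟶ P,
      j ≫ p2 = (yon S).map (ι₃ ≫ ιV ≫ q1) ≫ p ∧ j ≫ p1 = (yon S).map v3 :=
    ⟨sqP.lift _ _ hjw, sqP.lift_fst _ _ _, sqP.lift_snd _ _ _⟩
  have hjκ : j ≫ κ = (yon S).map ι₃ ≫ aV := by
    apply sqY.hom_ext
    · rw [Category.assoc, hκ1, hj1, Category.assoc, haVdef, Category.assoc, ha'1,
        Functor.map_comp, Functor.map_comp, Category.assoc, Category.assoc]
    · rw [Category.assoc, hκ2, ← Category.assoc, hj2, ← Functor.map_comp, hv3, Category.assoc,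
        haVh, ← Functor.map_comp]
  have hjm : Mono j := mono_of_mono_fac hjκ
  have hje : RepWith @Etale j := Groth.Agent.H53.repWith_of_comp_mono _ j κ (by
    rw [hjκ]
    exact (RepWith (S := S) @Etale).comp_mem _ _
      (Groth.Agent.H52.repWith_etale_overOpenι V _) haVe)
  have hjo : RepWith @IsOpenImmersion j := repWith_isOpenImmersion_of_etale_of_mono j hje
  have hrep := isRepresentable_image_of_quasiAffine_over_etale hT hT' e he hX f hsep hqf p1 p2
    sqP hV₃qa j hjo
  obtain ⟨⟨Yn, ⟨rn⟩⟩⟩ := hrep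
  have hp2e : RepWith @Etale p2 :=
    MorphismProperty.of_isPullback sqP.flip ((repWith_yon_map_iff _ _).2 he)
  have hbe : RepWith @Etale (j ≫ p2) := (RepWith (S := S) @Etale).comp_mem _ _ hje hp2e
  refine ⟨Yn, (isoOfRepresentableBy rn).hom ≫ Sheaf.imageι (j ≫ p2),
    MorphismProperty.RespectsIso.precomp _ _ _
      (Groth.Agent.H52.repWith_isOpenImmersion_imageι _ hbe), ?_⟩
  have hmem₃ : (⟨v () j₀, hvV⟩ : ↥(Vo () j₀)) ∈ πV.left ⁻¹ᵁ T₃ := by
    change pullback.snd g.left e₁ (v () j₀) ∈ T₃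
    rw [hvt]
    exact ht₁T₃
  have hx : Points.ofPt p u₀ ∈ Set.range (Points.map (Sheaf.imageι (j ≫ p2))) := by
    rw [Groth.Agent.H52.range_points_map_imageι _ hbe]
    refine ⟨⟨⟨v () j₀, hvV⟩, hmem₃⟩, ?_⟩
    rw [hj1, Groth.Agent.H53.ofPt_yon_map_comp]
    congr 1
  obtain ⟨z, hz⟩ := hx
  refine ⟨Points.map (isoOfRepresentableBy rn).inv z, ?_⟩
  rw [← Points.map_comp, Iso.inv_hom_id_assoc, hz]


/-- Stacks 0418: a separated locally quasi-finite morphism of algebraic spaces is representable. -/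
theorem representable_of_lqf_separated {X Y : Sp S} (hX : IsAlgSpace X) (hY : IsAlgSpace Y)
    (f : X ⟶ Y) (hqf : LocP (@LocallyQuasiFinite ⊓ @LocallyOfFiniteType) f)
    (hsep : IsSeparatedMor f) : Representable f := by
  refine Groth.Agent.H53.ZarGlue.representable_of_affine_local (fun Z hZ g => ?_)
  have sq := IsPullback.of_hasPullback f g
  have hP : IsAlgSpace (pullback f g) :=
    Groth.Agent.H52.isAlgSpace_of_isPullback sq hX hY (IsAlgSpace.yon_obj Z)
  have hsep' : IsSeparatedMor (pullback.snd f g) :=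
    Groth.Agent.H52.repWith_diagonal_of_isPullback @IsClosedImmersion sq hsep
  have hqf' : LocP (@LocallyQuasiFinite ⊓ @LocallyOfFiniteType) (pullback.snd f g) :=
    Groth.Agent.H52.isEtLocal_lqf_lft.locP_of_isPullback hX hY (IsAlgSpace.yon_obj Z) sq hqf
  obtain ⟨⟨W, ⟨r⟩⟩⟩ := isRepresentable_of_lqf_separated_affine hZ hP (pullback.snd f g) hsep' hqf'
  obtain ⟨i, hi⟩ := (yon S).map_surjective ((isoOfRepresentableBy r).hom ≫ pullback.snd f g)
  refine ⟨W, i, (isoOfRepresentableBy r).hom ≫ pullback.fst f g, ?_⟩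
  rw [hi]
  exact IsPullback.of_iso sq (isoOfRepresentableBy r).symm (Iso.refl _) (Iso.refl _) (Iso.refl _)
    (by simp) (by simp) (by simp) (by simp)

/-- Stacks 0418: an algebraic space with a separated locally quasi-finite morphism to a scheme is a
scheme. -/
theorem isRepresentable_of_lqf_separated {T : Over S} {X : Sp S} (hX : IsAlgSpace X)
    (f : X ⟶ (yon S).obj T) (hqf : LocP (@LocallyQuasiFinite ⊓ @LocallyOfFiniteType) f)
    (hsep : IsSeparatedMor f) : X.obj.IsRepresentable := by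
  have hr := representable_of_lqf_separated hX (IsAlgSpace.yon_obj T) f hqf hsep
  have sq1 := hr.isPullback (𝟙 _)
  have hiso : IsIso (hr.fst (𝟙 ((yon S).obj T))) := sq1.isIso_fst_of_isIso
  exact (representableByOfIso (asIso (hr.fst (𝟙 _)))).isRepresentable

end Groth.Agent.Lib.Helper54
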