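import Groth.Agent.Lib.Helper54.DecentGeneric
import Groth.Agent.Lib.Helper54.EtaleOverField
import Groth.Agent.H52.QSChart3
import Groth.Agent.H52.UnivInj
import Groth.Agent.H53.QSDecent
import Groth.Agent.S10355

/-!
# Monomorphisms into schemes with discrete underlying space (helper54)
-/

set_option autoImplicit false
set_option linter.style.haveILetI false
universe u
open CategoryTheory CategoryTheory.Limits AlgebraicGeometry Topology
open AlgSp

namespace Groth.Agent.Lib.Helper54

variable {S : Scheme.{u}}

/-- A monomorphism of sheaves is injective on points. -/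
theorem injective_points_of_mono {F G : Sp S} (m : F ⟶ G) [Mono m] : Function.Injective (Points.map m) := by
  apply Groth.Agent.H52.KInj.injective_points
  intro K _ str a b hab
  exact (cancel_mono m).1 hab

/-- An algebraic space with a monomorphism to a scheme with discrete underlying space is quasi-separated. -/
theorem isQuasiSeparatedSp_of_mono_discrete {X : Sp S} (hX : IsAlgSpace X) {Y : Over S}
    [DiscreteTopology ↥Y.left] (m : X ⟶ (yon S).obj Y) [Mono m] : IsQuasiSeparatedSp X := by
  refine Groth.Agent.H52.isQuasiSeparatedSp_of_affine_pullback_compact hX ?_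
  intro U V P a b fst snd hU hV sq
  have sq' := isPullback_comp_mono sq m
  obtain ⟨a', ha'⟩ := (yon S).map_surjective (a ≫ m)
  obtain ⟨b', hb'⟩ := (yon S).map_surjective (b ≫ m)
  rw [← ha', ← hb'] at sq'
  have sqL : IsPullback fst.left snd.left a'.left b'.left := isPullback_left_of_isPullback_yon sq'
  haveI : CompactSpace ↥U.left := by have := hU; infer_instance
  haveI : CompactSpace ↥V.left := by have := hV; infer_instance
  have hqc : QuasiCompact a'.left := by
    constructor
    intro W _ _
    exact ((isClosed_discrete W).preimage a'.left.continuous).isCompact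
  have : QuasiCompact snd.left := MorphismProperty.of_isPullback (P := @QuasiCompact) sqL hqc
  exact QuasiCompact.compactSpace_of_compactSpace snd.left

/-- An algebraic space with a monomorphism to a scheme with discrete underlying space is a scheme. -/
theorem isRepresentable_of_mono_discrete {X : Sp S} (hX : IsAlgSpace X) {Y : Over S}
    [DiscreteTopology ↥Y.left] (m : X ⟶ (yon S).obj Y) [Mono m] : X.obj.IsRepresentable := by
  apply isRepresentable_of_schematicLocus_eq_univ hX
  rw [Set.eq_univ_iff_forall]
  intro x
  haveI : DiscreteTopology (Points ((yon S).obj Y)) :=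
    (Points.schemeHomeo Y).symm.isEmbedding.discreteTopology
  have hinj := injective_points_of_mono m
  have hWopen : IsOpen ({x} : Set (Points X)) := by
    have : ({x} : Set (Points X)) = Points.map m ⁻¹' {Points.map m x} := by
      ext z
      simp only [Set.mem_singleton_iff, Set.mem_preimage]
      exact ⟨fun h => by rw [h], fun h => hinj h⟩
    rw [this]
    exact (isOpen_discrete _).preimage (Points.continuous_map m)
  have hι : RepWith @IsOpenImmersion (openSubι X {x}) := repWith_isOpenImmersion_openSubι X _ hWopen
  haveI : Mono (openSubι X {x}) := mono_of_isOpenImmersion _ hι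
  have hsub : IsAlgSpace (openSub X {x}) := isAlgSpace_openSub hX _ hWopen
  have hqs : IsQuasiSeparatedSp (openSub X {x}) := isQuasiSeparatedSp_of_mono_discrete hsub (openSubι X {x} ≫ m)
  have hdec : IsDecent (openSub X {x}) := Groth.Agent.H53.FieldQuot.isDecent_of_isQuasiSeparatedSp hsub hqs
  have hrange := range_points_map_openSubι X ({x} : Set (Points X))
  have hinj' := injective_points_of_isOpenImmersion _ hι
  haveI : Nonempty (Points (openSub X {x})) := by
    have : x ∈ Set.range (Points.map (openSubι X {x})) := by rw [hrange]; rfl
    obtain ⟨z, -⟩ := this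
    exact ⟨z⟩
  haveI : Subsingleton (Points (openSub X {x})) := by
    constructor
    intro z z'
    apply hinj'
    have hall : ∀ w : Points (openSub X {x}), Points.map (openSubι X {x}) w ∈ ({x} : Set (Points X)) := by
      intro w
      have hw : Points.map (openSubι X {x}) w ∈ Set.range (Points.map (openSubι X {x})) := ⟨w, rfl⟩
      exact hrange.subset hw
    have h1 := hall z
    have h2 := hall z'
    rw [Set.mem_singleton_iff] at h1 h2
    rw [h1, h2]
  have hrep : (openSub X {x}).obj.IsRepresentable :=
    Groth.Agent.S10355.result ⟨openSub X {x}, hsub⟩ hdec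
  exact subset_schematicLocus_of_representable {x} hWopen hrep rfl

end Groth.Agent.Lib.Helper54
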