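/-
Helper library (helper54): flatness over schemes étale over a field, and the consequence for morphisms to a scheme receiving
a flat surjective morphism from such a scheme.
-/
import Mathlib.AlgebraicGeometry.Artinian
import Mathlib.AlgebraicGeometry.Morphisms.QuasiFinite
import Mathlib.AlgebraicGeometry.Morphisms.Etale
import Mathlib.RingTheory.SimpleModule.InjectiveProjective
import Mathlib.RingTheory.Unramified.LocalStructure
import Groth.Agent.Lib.Helper54.Reduced
import Groth.Agent.Lib.Helper7.FlatDescent

set_option autoImplicit false
universe u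
open CategoryTheory CategoryTheory.Limits AlgebraicGeometry

namespace Groth.Agent.Lib.Helper54

/-- Every morphism to a reduced locally Artinian scheme is flat. -/
theorem flat_of_isLocallyArtinian_of_isReduced {T E : Scheme.{u}} (g : T ⟶ E) [IsLocallyArtinian E]
    [AlgebraicGeometry.IsReduced E] : Flat g := by
  rw [HasRingHomProperty.iff_appLE (P := @Flat)]
  intro U V e
  have : IsArtinianRing Γ(E, U.1) := IsLocallyArtinian.isArtinianRing_presheaf_obj U
  have : IsSemisimpleRing Γ(E, U.1) := IsArtinianRing.isSemisimpleRing_of_isReduced _
  algebraize [(g.appLE U.1 V.1 e).hom]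
  have : Module.Projective Γ(E, U.1) Γ(T, V.1) := Module.projective_of_isSemisimpleRing _ _
  change Module.Flat Γ(E, U.1) Γ(T, V.1)
  infer_instance

/-- Étale morphisms are locally quasi-finite. -/
theorem locallyQuasiFinite_of_etale {X Y : Scheme.{u}} (f : X ⟶ Y) [Etale f] : LocallyQuasiFinite f := by
  rw [HasRingHomProperty.iff_appLE (P := @LocallyQuasiFinite)]
  intro U V e
  have h : (f.appLE U.1 V.1 e).hom.Etale := HasRingHomProperty.appLE @Etale f ‹_› U V e
  algebraize [(f.appLE U.1 V.1 e).hom]
  change Algebra.QuasiFinite Γ(Y, U.1) Γ(X, V.1)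
  infer_instance

/-- Every morphism to a scheme étale over a field is flat. -/
theorem flat_of_etale_over_field {k : Type u} [Field k] {T E : Scheme.{u}}
    (α : E ⟶ Spec (CommRingCat.of k)) [Etale α] (g : T ⟶ E) : Flat g := by
  have : AlgebraicGeometry.IsReduced E := isReduced_of_etale_scheme α
  have : LocallyQuasiFinite α := locallyQuasiFinite_of_etale α
  have : IsLocallyArtinian E := IsLocallyArtinian.of_locallyQuasiFinite α
  exact flat_of_isLocallyArtinian_of_isReduced g

/-- If `V` receives a flat surjective morphism from a scheme étale over a field, then every morphism to `V` is flat. -/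
theorem flat_of_flat_surjective_from_etale_over_field {k : Type u} [Field k] {U V E : Scheme.{u}}
    (α : E ⟶ Spec (CommRingCat.of k)) [Etale α] (π : E ⟶ V) [Flat π] [Surjective π] (h : U ⟶ V) :
    Flat h := by
  have h1 : Flat (pullback.snd h π) := flat_of_etale_over_field α _
  have h2 : Flat (pullback.fst h π ≫ h) := by
    rw [pullback.condition]
    infer_instance
  exact Groth.Agent.Lib.Helper7.flat_of_flat_comp_of_flat_surjective (pullback.fst h π) h

end Groth.Agent.Lib.Helper54
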