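/-
Helper library (helper54): generic points of irreducible components of reduced schemes; flatness of `Spec κ(η) ⟶ X`.
-/
import Mathlib.AlgebraicGeometry.Morphisms.Flat
import Mathlib.AlgebraicGeometry.Stalk
import Mathlib.AlgebraicGeometry.ResidueField
import Mathlib.AlgebraicGeometry.Properties

set_option autoImplicit false
universe u
open CategoryTheory CategoryTheory.Limits AlgebraicGeometry

namespace Groth.Agent.Lib.Helper54

/-- The canonical morphism `Spec 𝒪_{X,x} ⟶ X` is flat. -/
theorem flat_fromSpecStalk (X : Scheme.{u}) (x : ↥X) : Flat (X.fromSpecStalk x) := by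
  let U := (X.affineCover.f (X.affineCover.idx x)).opensRange
  have hU : IsAffineOpen U := isAffineOpen_opensRange _
  have hxU : x ∈ U := X.affineCover.covers x
  rw [← hU.fromSpecStalk_eq_fromSpecStalk hxU, IsAffineOpen.fromSpecStalk]
  have : Flat (Spec.map (X.presheaf.germ U x hxU)) := by
    rw [HasRingHomProperty.Spec_iff (P := @Flat)]
    let := X.presheaf.algebra_section_stalk (U := U) ⟨x, hxU⟩
    have := hU.isLocalization_stalk ⟨x, hxU⟩
    exact IsLocalization.flat _ (hU.primeIdealOf ⟨x, hxU⟩).asIdeal.primeCompl
  infer_instance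

/-- If the local ring at `x` is a field, then `Spec κ(x) ⟶ X` is flat. -/
theorem flat_fromSpecResidueField_of_isField (X : Scheme.{u}) (x : ↥X)
    (h : IsField (X.presheaf.stalk x)) : Flat (X.fromSpecResidueField x) := by
  have h1 : Flat (X.fromSpecStalk x) := flat_fromSpecStalk X x
  have h2 : Flat (Spec.map (X.residue x)) := by
    rw [HasRingHomProperty.Spec_iff (P := @Flat)]
    apply RingHom.Flat.of_bijective
    refine ⟨?_, Ideal.Quotient.mk_surjective⟩
    rw [injective_iff_map_eq_zero]
    intro a ha
    have hm : IsLocalRing.maximalIdeal (X.presheaf.stalk x) = ⊥ :=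
      IsLocalRing.isField_iff_maximalIdeal_eq.1 h
    have : a ∈ IsLocalRing.maximalIdeal (X.presheaf.stalk x) := Ideal.Quotient.eq_zero_iff_mem.1 ha
    rwa [hm] at this
  change Flat (Spec.map (X.residue x) ≫ X.fromSpecStalk x)
  infer_instance

/-- A nonempty reduced scheme has a point whose local ring is a field (the generic point of an irreducible
component). -/
theorem exists_isField_stalk (X : Scheme.{u}) [IsReduced X] (x₀ : ↥X) :
    ∃ η : ↥X, η ⤳ x₀ ∧ IsField (X.presheaf.stalk η) := by
  have hirr : IsIrreducible (irreducibleComponent x₀) := isIrreducible_irreducibleComponent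
  have hcl : IsClosed (irreducibleComponent x₀) := isClosed_irreducibleComponent
  let η := hirr.genericPoint
  have hη : IsGenericPoint η (irreducibleComponent x₀) := hirr.isGenericPoint_genericPoint hcl
  refine ⟨η, ?_, ?_⟩
  · exact hη.specializes mem_irreducibleComponent
  · apply isField_stalk_of_closure_mem_irreducibleComponents
    rw [hη.def]
    exact irreducibleComponent_mem_irreducibleComponents x₀

end Groth.Agent.Lib.Helper54
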