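/-
Helper library (helper54): schemes all of whose local rings are fields ("reduced of dimension zero"), and their images under flat
surjective morphisms.
-/
import Groth.Agent.Lib.Helper54.FlatPoint
import Mathlib.AlgebraicGeometry.Morphisms.UniversallyOpen
import Mathlib.AlgebraicGeometry.Morphisms.ClosedImmersion
import Mathlib.AlgebraicGeometry.Morphisms.FiniteType

set_option autoImplicit false
universe u
open CategoryTheory CategoryTheory.Limits AlgebraicGeometry

namespace Groth.Agent.Lib.Helper54

/-- In a reduced scheme, the local ring at a point without proper generalizations is a field. -/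
theorem isField_stalk_of_forall_specializes_eq (X : Scheme.{u}) [AlgebraicGeometry.IsReduced X] (x : ↥X)
    (h : ∀ y : ↥X, y ⤳ x → y = x) : IsField (X.presheaf.stalk x) := by
  rw [← PrimeSpectrum.subsingleton_iff_isField_of_isReduced]
  constructor
  intro a b
  have inj : Function.Injective (X.fromSpecStalk x) := (X.fromSpecStalk x).isEmbedding.injective
  have key : ∀ c : ↥(Spec (X.presheaf.stalk x)), X.fromSpecStalk x c = x := by
    intro c
    apply h
    have : X.fromSpecStalk x c ∈ Set.range (X.fromSpecStalk x) := ⟨c, rfl⟩
    rwa [Scheme.range_fromSpecStalk] at this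
  exact inj ((key a).trans (key b).symm)

/-- A point whose local ring is a field has no proper generalizations. -/
theorem eq_of_specializes_of_isField_stalk (X : Scheme.{u}) (x : ↥X)
    (h : IsField (X.presheaf.stalk x)) (y : ↥X) (hy : y ⤳ x) : y = x := by
  have hy' : y ∈ Set.range (X.fromSpecStalk x) := by rw [Scheme.range_fromSpecStalk]; exact hy
  obtain ⟨c, rfl⟩ := hy'
  have hx : x ∈ Set.range (X.fromSpecStalk x) := by
    rw [Scheme.range_fromSpecStalk]; exact specializes_rfl
  obtain ⟨d, hd⟩ := hx
  have : Subsingleton (PrimeSpectrum (X.presheaf.stalk x)) := by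
    letI := h.toField; infer_instance
  have hcd : c = d := Subsingleton.elim (α := PrimeSpectrum (X.presheaf.stalk x)) c d
  rw [hcd, hd]

/-- If all local rings of a scheme are fields then every point is closed. -/
theorem isClosed_singleton_of_forall_isField_stalk (X : Scheme.{u})
    (h : ∀ x : ↥X, IsField (X.presheaf.stalk x)) (x : ↥X) : IsClosed ({x} : Set ↥X) := by
  rw [← closure_eq_iff_isClosed]
  apply Set.Subset.antisymm _ subset_closure
  intro y hy
  have : x ⤳ y := specializes_iff_mem_closure.2 hy
  exact (eq_of_specializes_of_isField_stalk X y (h y) x this).symm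

/-- If `π : E ⟶ W` is flat and surjective, `W` is reduced and no point of `E` has a proper generalization, then all local rings
of `W` are fields. -/
theorem isField_stalk_of_flat_surjective {E W : Scheme.{u}} (π : E ⟶ W) [Flat π] [Surjective π]
    [AlgebraicGeometry.IsReduced W] (hE : ∀ e e' : ↥E, e' ⤳ e → e' = e) (w : ↥W) :
    IsField (W.presheaf.stalk w) := by
  apply isField_stalk_of_forall_specializes_eq
  intro y hy
  obtain ⟨e, rfl⟩ := π.surjective w
  obtain ⟨e', he', rfl⟩ := Flat.generalizingMap π hy
  rw [hE e e' he']

/-- If `π : E ⟶ W` is flat and surjective with `E` étale over a field, then all local rings of `W` are fields. -/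
theorem isField_stalk_of_flat_surjective_of_etale_over_field {k : Type u} [Field k] {E W : Scheme.{u}}
    (α : E ⟶ Spec (CommRingCat.of k)) [Etale α] (π : E ⟶ W) [Flat π] [Surjective π] (w : ↥W) :
    IsField (W.presheaf.stalk w) := by
  have : AlgebraicGeometry.IsReduced E := isReduced_of_etale_scheme α
  have : LocallyQuasiFinite α := locallyQuasiFinite_of_etale α
  have : IsLocallyArtinian E := IsLocallyArtinian.of_locallyQuasiFinite α
  have : AlgebraicGeometry.IsReduced W := isReduced_of_flat_of_surjective π
  apply isField_stalk_of_flat_surjective π _ w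
  intro e e' he
  have : DiscreteTopology ↥E := inferInstance
  exact (specializes_iff_eq.1 he)

end Groth.Agent.Lib.Helper54
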