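import Groth.Agent.Lib.Helper54.SourceLocal2
import Groth.Agent.H52.LocPInst
import Groth.Agent.H52.FibreProd
import Groth.Agent.H52.SmoothSource

/-!
# Locality on the source of `LocP P`, for arbitrary `P` local at the source for a precoverage of schemes
-/

set_option autoImplicit false
universe u
open AlgebraicGeometry CategoryTheory CategoryTheory.Limits
open AlgSp

namespace Groth.Agent.Lib.Helper54

variable {S : Scheme.{u}}

/-- Compatibility between a precoverage `K` of schemes, a property `Q` of morphisms of schemes and a covering notion `τ` of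
algebraic spaces, sufficient to transfer locality on the source from `K` to `τ`. -/
structure SrcCompat (K : Precoverage Scheme.{u}) (Q : MorphismProperty Scheme.{u}) (τ : CovNotion S) : Prop where
  of_etale : ∀ ⦃U' U : Scheme.{u}⦄ (e : U' ⟶ U), Etale e → Surjective e → Presieve.singleton e ∈ K U
  pair : ∀ ⦃A B : Scheme.{u}⦄ (m : A ⟶ B), Q m →
    ((PreZeroHypercover.singleton.{0} m).sum (PreZeroHypercover.singleton.{0} (𝟙 B))).presieve₀ ∈ K B
  cancel : ∀ ⦃W Z V : Scheme.{u}⦄ (k : W ⟶ Z) (e : Z ⟶ V), Etale e → Q (k ≫ e) → Q k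
  locQ : ∀ ⦃ι : Type u⦄ ⦃X : Sp S⦄ (Xi : ι → Sp S) (g : ∀ i, Xi i ⟶ X), τ Xi g → ∀ i, LocP Q (g i)
  cover : ∀ ⦃ι : Type u⦄ ⦃X : Sp S⦄ (Xi : ι → Sp S) (g : ∀ i, Xi i ⟶ X), IsAlgSpace X →
    (∀ i, IsAlgSpace (Xi i)) → τ Xi g → ∀ (U : Over S) (a : (yon S).obj U ⟶ X), RepWith @Etale a →
    ∀ (Ui : ι → Over S) (c : ∀ i, (yon S).obj (Ui i) ⟶ pullback a (g i)),
      (∀ i, RepWith @Etale (c i)) → (∀ i, RepWith @Surjective (c i)) →
      ∀ (k : ∀ i, Ui i ⟶ U), (∀ i, (yon S).map (k i) = c i ≫ pullback.fst a (g i)) →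
      Presieve.ofArrows (fun i => (Ui i).left) (fun i => (k i).left) ∈ K U.left

/-- Transfer of locality on the source. -/
theorem isLocalOnSource_locP_of_srcCompat {K : Precoverage Scheme.{u}} {Q : MorphismProperty Scheme.{u}}
    {τ : CovNotion S} (hc : SrcCompat K Q τ) (P : MorphismProperty Scheme.{u}) (hP : P.IsLocalAtSource K) :
    IsLocalOnSource τ (LocP P) := by
  have : (RepWith (S := S) @Etale).IsMultiplicative := repWith_isMultiplicative _
  have : (RepWith (S := S) @Etale).IsStableUnderBaseChange := repWith_isStableUnderBaseChange _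
  intro ι X Xi g hX hXi hτ Y f hY
  constructor
  · intro hf i U V a b h ha hb comm
    obtain ⟨X₀, c, hce, hcs⟩ := hX.atlas
    -- `V₀ = X₀ ×_Y V`
    have sqV := hb.rep.isPullback (c ≫ f)
    obtain ⟨h₀, hh₀⟩ := (yon S).map_surjective (hb.rep.fst (c ≫ f))
    rw [← hh₀] at sqV
    have hsnd₀e : Etale (hb.rep.snd (c ≫ f)).left := hb.property_snd (c ≫ f)
    have hsnd₀e' : RepWith @Etale ((yon S).map (hb.rep.snd (c ≫ f))) :=
      (repWith_yon_map_iff @Etale _).2 hsnd₀e
    have hPh₀ : P h₀.left := hf ((yon S).map (hb.rep.snd (c ≫ f)) ≫ c) b h₀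
      ((RepWith (S := S) @Etale).comp_mem _ _ hsnd₀e' hce) hb (by
        rw [Category.assoc]; exact sqV.w.symm)
    -- `U' = U ×_X X₀`
    have sqU := hce.rep.isPullback (a ≫ g i)
    obtain ⟨pr2, hpr2⟩ := (yon S).map_surjective (hce.rep.fst (a ≫ g i))
    rw [← hpr2] at sqU
    have hpr1e : Etale (hce.rep.snd (a ≫ g i)).left := hce.property_snd (a ≫ g i)
    have hpr1s : Surjective (hce.rep.snd (a ≫ g i)).left := hcs.property_snd (a ≫ g i)
    have hpr1e' : RepWith @Etale ((yon S).map (hce.rep.snd (a ≫ g i))) :=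
      (repWith_yon_map_iff @Etale _).2 hpr1e
    have hQpr2 : Q pr2.left := hc.locQ Xi g hτ i ((yon S).map (hce.rep.snd (a ≫ g i)) ≫ a) c pr2
      ((RepWith (S := S) @Etale).comp_mem _ _ hpr1e' ha) hce (by
        rw [Category.assoc]; exact sqU.w.symm)
    -- the morphism `m : U' ⟶ V₀`
    have hm : (yon S).map (hce.rep.snd (a ≫ g i) ≫ h) ≫ b = (yon S).map pr2 ≫ c ≫ f := by
      have w' := sqU.w
      calc (yon S).map (hce.rep.snd (a ≫ g i) ≫ h) ≫ b
          = (yon S).map (hce.rep.snd (a ≫ g i)) ≫ (a ≫ g i) ≫ f := by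
            rw [Functor.map_comp, Category.assoc, ← comm]; simp only [Category.assoc]
        _ = ((yon S).map pr2 ≫ c) ≫ f := by rw [w']; simp only [Category.assoc]
        _ = _ := Category.assoc _ _ _
    obtain ⟨m, hm'⟩ := (yon S).map_surjective (sqV.lift _ _ hm)
    have hm1 : m ≫ h₀ = hce.rep.snd (a ≫ g i) ≫ h := by
      apply (yon S).map_injective
      rw [Functor.map_comp, hm', sqV.lift_fst]
    have hm2 : m ≫ hb.rep.snd (c ≫ f) = pr2 := by
      apply (yon S).map_injective
      rw [Functor.map_comp, hm', sqV.lift_snd]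
    have hQm : Q m.left := by
      refine hc.cancel m.left (hb.rep.snd (c ≫ f)).left hsnd₀e ?_
      have : m.left ≫ (hb.rep.snd (c ≫ f)).left = pr2.left := by rw [← hm2]; rfl
      rw [this]; exact hQpr2
    have hR := hc.pair m.left hQm
    have hmem : ((PreZeroHypercover.singleton.{0} m.left).sum
        (PreZeroHypercover.singleton.{0} (𝟙 _))).presieve₀ m.left := by
      rw [PreZeroHypercover.presieve₀_sum]
      exact Or.inl (by rw [PreZeroHypercover.presieve₀_singleton]; exact Presieve.singleton.mk)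
    have hPmh₀ : P (m.left ≫ h₀.left) := hP.comp hR m.left hmem hPh₀
    have hmh : m.left ≫ h₀.left = (hce.rep.snd (a ≫ g i)).left ≫ h.left := by
      have := congrArg (fun t => t.left) hm1
      exact this
    rw [hmh] at hPmh₀
    refine hP.of_forall_comp (hc.of_etale _ hpr1e hpr1s) ?_
    rintro _ _ ⟨⟩
    exact hPmh₀
  · intro hall U V a b h ha hb comm
    have hT : ∀ i, IsAlgSpace (pullback a (g i)) := fun i =>
      Groth.Agent.H52.isAlgSpace_of_isPullback (IsPullback.of_hasPullback a (g i))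
        (IsAlgSpace.yon_obj U) hX (hXi i)
    choose Ui c hce hcs using fun i => (hT i).atlas
    choose k hk using fun i => (yon S).map_surjective (c i ≫ pullback.fst a (g i))
    have hsnde : ∀ i, RepWith @Etale (pullback.snd a (g i)) := fun i =>
      MorphismProperty.of_isPullback (IsPullback.of_hasPullback a (g i)) ha
    refine hP.of_forall_comp (hc.cover Xi g hX hXi hτ U a ha Ui c hce hcs k hk) ?_
    rintro _ _ ⟨i⟩
    exact hall i (c i ≫ pullback.snd a (g i)) b (k i ≫ h)
      ((RepWith (S := S) @Etale).comp_mem _ _ (hce i) (hsnde i)) hb (by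
        rw [Category.assoc, ← Category.assoc (pullback.snd a (g i)), ← pullback.condition, Category.assoc, comm,
          Functor.map_comp, hk, Category.assoc, Category.assoc])

/-- Joint surjectivity of the scheme-level family obtained from atlases of the fibre products `h_U ×_X X_i`. -/
theorem exists_mem_range_of_points_surjective {ι : Type u} {X : Sp S} (Xi : ι → Sp S) (g : ∀ i, Xi i ⟶ X)
    (hsurj : ∀ x : Points X, ∃ i, x ∈ Set.range (Points.map (g i)))
    (U : Over S) (a : (yon S).obj U ⟶ X)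
    (Ui : ι → Over S) (c : ∀ i, (yon S).obj (Ui i) ⟶ pullback a (g i))
    (hcs : ∀ i, RepWith @Surjective (c i))
    (k : ∀ i, Ui i ⟶ U) (hk : ∀ i, (yon S).map (k i) = c i ≫ pullback.fst a (g i)) (u : ↥U.left) :
    ∃ i, u ∈ Set.range (k i).left := by
  obtain ⟨i, xi, hxi⟩ := hsurj (Points.ofPt a u)
  obtain ⟨t, ht1, ht2⟩ := exists_point_of_isPullback (IsPullback.of_hasPullback a (g i)) (Points.ofScheme U u) xi (by
    rw [hxi, Points.ofPt_eq_map_ofScheme])
  obtain ⟨ui', hui'⟩ := Groth.Agent.H52.surjective_points_of_repWith_surjective (c i) (hcs i) t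
  obtain ⟨ui, rfl⟩ := exists_ofScheme_eq _ ui'
  refine ⟨i, ui, ?_⟩
  apply (Points.schemeEquiv U).injective
  change Points.ofScheme U _ = Points.ofScheme U u
  rw [← Groth.Agent.H52.points_map_ofScheme, hk, Points.map_comp, hui', ht1]

/-- The scheme-level family obtained from atlases of the fibre products `h_U ×_X X_i` inherits `Q` from the `g i`. -/
theorem prop_left_of_locP_of_atlas {Q : MorphismProperty Scheme.{u}} {X Xi : Sp S} (g : Xi ⟶ X) (hg : LocP Q g)
    (U : Over S) (a : (yon S).obj U ⟶ X) (ha : RepWith @Etale a)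
    (Ui : Over S) (c : (yon S).obj Ui ⟶ pullback a g) (hce : RepWith @Etale c)
    (k : Ui ⟶ U) (hk : (yon S).map k = c ≫ pullback.fst a g) : Q k.left := by
  have : (RepWith (S := S) @Etale).IsMultiplicative := repWith_isMultiplicative _
  have : (RepWith (S := S) @Etale).IsStableUnderBaseChange := repWith_isStableUnderBaseChange _
  have hsnde : RepWith @Etale (pullback.snd a g) :=
    MorphismProperty.of_isPullback (IsPullback.of_hasPullback a g) ha
  exact hg (c ≫ pullback.snd a g) a k ((RepWith (S := S) @Etale).comp_mem _ _ hce hsnde) ha (by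
    rw [Category.assoc, ← pullback.condition, ← Category.assoc, hk])

/-- The compatibility for the precoverage of jointly surjective families of `Q`-morphisms. -/
theorem srcCompat_precoverage (Q : MorphismProperty Scheme.{u}) (hQ : Groth.Agent.H52.IsEtLocal Q)
    (hQe : ∀ ⦃A B : Scheme.{u}⦄ (e : A ⟶ B), Etale e → Q e)
    (T : MorphismProperty (Sp S)) (hT : ∀ ⦃X Y : Sp S⦄ (f : X ⟶ Y), T f → LocP Q f) :
    SrcCompat (S := S) (Scheme.precoverage Q) Q (fun _ _ Y g => IsCover T Y g) where
  of_etale U' U e he hs := by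
    rw [Scheme.singleton_mem_precoverage_iff]
    exact ⟨hs.surj, hQe e he⟩
  pair A B m hm := by
    rw [Scheme.presieve₀_mem_precoverage_iff]
    refine ⟨fun x => ⟨Sum.inr PUnit.unit, x, rfl⟩, ?_⟩
    rintro (_ | _)
    · exact hm
    · exact hQe _ (inferInstanceAs (Etale (𝟙 B)))
  cancel W Z V k e he h := hQ.cancel k e he h
  locQ ι X Xi g hτ i := hT _ (hτ.1 i)
  cover ι X Xi g hX hXi hτ U a ha Ui c hce hcs k hk := by
    rw [Scheme.ofArrows_mem_precoverage_iff]
    refine ⟨fun u => exists_mem_range_of_points_surjective Xi g hτ.2 U a Ui c hcs k hk u, fun i => ?_⟩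
    exact prop_left_of_locP_of_atlas (g i) (hT _ (hτ.1 i)) U a ha (Ui i) (c i) (hce i) (k i) (hk i)

/-- The scheme-level family obtained from atlases of the fibre products `h_U ×_X X_i`, for an fpqc covering `X_i ⟶ X` of algebraic
spaces, is an fpqc covering of `U`. -/
theorem ofArrows_mem_fpqcPrecoverage_of_isFpqcCover {ι : Type u} {X : Sp S} (Xi : ι → Sp S) (g : ∀ i, Xi i ⟶ X)
    (hτ : IsFpqcCover Xi g) (U : Over S) (a : (yon S).obj U ⟶ X) (ha : RepWith @Etale a)
    (Ui : ι → Over S) (c : ∀ i, (yon S).obj (Ui i) ⟶ pullback a (g i))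
    (hce : ∀ i, RepWith @Etale (c i)) (hcs : ∀ i, RepWith @Surjective (c i))
    (k : ∀ i, Ui i ⟶ U) (hk : ∀ i, (yon S).map (k i) = c i ≫ pullback.fst a (g i)) :
    Presieve.ofArrows (fun i => (Ui i).left) (fun i => (k i).left) ∈ Scheme.fpqcPrecoverage U.left := by
  let E : PreZeroHypercover.{u} U.left := ⟨ι, fun i => (Ui i).left, fun i => (k i).left⟩
  change E.presieve₀ ∈ (Scheme.qcPrecoverage ⊓ Scheme.precoverage @Flat) U.left
  have hflat : ∀ i, Flat (k i).left := fun i =>
    prop_left_of_locP_of_atlas (g i) (hτ.1 i) U a ha (Ui i) (c i) (hce i) (k i) (hk i)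
  have hsurj : ∀ u, ∃ i, u ∈ Set.range (k i).left :=
    exists_mem_range_of_points_surjective Xi g (points_surjective_of_isFpqcCover g hτ) U a Ui c hcs k hk
  refine ⟨Scheme.presieve₀_mem_qcPrecoverage_iff.2 ⟨fun {Z} hZ => ?_⟩,
    (Scheme.presieve₀_mem_precoverage_iff E).2 ⟨hsurj, hflat⟩⟩
  -- quasi-compactness
  have hZaff : IsAffine (Groth.Agent.H52.overOpen U Z).left := hZ
  obtain ⟨m, W, cW, hWaff, -, hWsurj, hlift⟩ := hτ.2 (Groth.Agent.H52.overOpen U Z) hZaff
    ((yon S).map (Groth.Agent.H52.overOpenι U Z) ≫ a)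
  choose idx l hl using hlift
  -- the morphisms `W j ⟶ h_U ×_X X_{idx j}`
  have hs : ∀ j, (yon S).map (cW j ≫ Groth.Agent.H52.overOpenι U Z) ≫ a = l j ≫ g (idx j) := fun j => by
    rw [Functor.map_comp, Category.assoc]; exact (hl j).symm
  let s : ∀ j, (yon S).obj (W j) ⟶ pullback a (g (idx j)) := fun j =>
    pullback.lift ((yon S).map (cW j ≫ Groth.Agent.H52.overOpenι U Z)) (l j) (hs j)
  have sqW := fun j => (hce (idx j)).rep.isPullback (s j)
  have hsnde : ∀ j, Etale ((hce (idx j)).rep.snd (s j)).left := fun j => (hce (idx j)).property_snd (s j)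
  have hsnds : ∀ j, Surjective ((hce (idx j)).rep.snd (s j)).left := fun j => (hcs (idx j)).property_snd (s j)
  choose t ht using fun j => (yon S).map_surjective ((hce (idx j)).rep.fst (s j))
  have hcompat : ∀ j, t j ≫ k (idx j) =
      (hce (idx j)).rep.snd (s j) ≫ cW j ≫ Groth.Agent.H52.overOpenι U Z := fun j => by
    apply (yon S).map_injective
    rw [Functor.map_comp, ht, hk, ← Category.assoc, (sqW j).w, Category.assoc, Functor.map_comp]
    congr 1
    exact pullback.lift_fst _ _ _
  -- compact opens of the `W' j` surjecting onto `W j`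
  have hV : ∀ j, ∃ V : ((hce (idx j)).rep.pullback (s j)).left.Opens, IsCompact V.carrier ∧
      ((hce (idx j)).rep.snd (s j)).left '' V = Set.univ := fun j => by
    have := hWaff j
    have := hsnde j
    have := hsnds j
    exact ((hce (idx j)).rep.snd (s j)).left.isOpenMap.exists_opens_image_eq_of_prespectralSpace
      ((hce (idx j)).rep.snd (s j)).left.continuous
      (by rw [((hce (idx j)).rep.snd (s j)).left.surjective.range_eq]) isOpen_univ isCompact_univ
  choose V hVc hVs using hV
  refine IsCompactOpenCovered.of_comp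
    (g := fun j : Fin m => ⇑((hce (idx j)).rep.snd (s j) ≫ cW j ≫ Groth.Agent.H52.overOpenι U Z).left)
    (a := idx) (fun j => ⇑(t j).left) (fun j => (t j).left.continuous) (fun j => ?_)
    (fun i => (k i).left.continuous) Z.2 ?_
  · funext x
    have := congrArg (fun φ => φ.left x) (hcompat j)
    exact this.symm
  · refine IsCompactOpenCovered.of_finite (κ := Fin m) id V hVc ?_
    apply Set.Subset.antisymm
    · intro z hz
      simp only [Set.mem_iUnion] at hz
      obtain ⟨j, v, -, rfl⟩ := hz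
      exact ((cW j).left (((hce (idx j)).rep.snd (s j)).left v)).2
    · intro z hz
      obtain ⟨z', hz'⟩ : ∃ z' : ↥(Groth.Agent.H52.overOpen U Z).left,
          (Groth.Agent.H52.overOpenι U Z).left z' = z := ⟨(⟨z, hz⟩ : ↥Z), rfl⟩
      obtain ⟨j, w, hw⟩ := hWsurj z'
      have hwV : w ∈ ((hce (idx j)).rep.snd (s j)).left '' V j := by rw [hVs j]; trivial
      obtain ⟨v, hv, rfl⟩ := hwV
      simp only [Set.mem_iUnion]
      refine ⟨j, v, hv, ?_⟩
      rw [← hz', ← hw]
      rfl

/-- The compatibility for the fpqc precoverage and fpqc coverings of algebraic spaces. -/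
theorem srcCompat_fpqc : SrcCompat (S := S) Scheme.fpqcPrecoverage @Flat (IsFpqcCover (S := S)) where
  of_etale U' U e he hs := by
    change Presieve.singleton e ∈ (Scheme.qcPrecoverage ⊓ Scheme.precoverage @Flat) U
    refine ⟨?_, (Scheme.singleton_mem_precoverage_iff _ e).2 ⟨hs.surj, inferInstance⟩⟩
    exact Scheme.precoverage_le_qcPrecoverage_of_isOpenMap (P := @Etale) (fun X Y f (hf : Etale f) => f.isOpenMap) U
      ((Scheme.singleton_mem_precoverage_iff _ e).2 ⟨hs.surj, he⟩)
  pair A B m hm := by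
    change _ ∈ (Scheme.qcPrecoverage ⊓ Scheme.precoverage @Flat) B
    refine ⟨Scheme.presieve₀_mem_qcPrecoverage_iff.2 inferInstance, ?_⟩
    refine (Scheme.presieve₀_mem_precoverage_iff _).2 ⟨fun x => ⟨Sum.inr PUnit.unit, x, rfl⟩, ?_⟩
    rintro (_ | _)
    · exact hm
    · exact inferInstanceAs (Flat (𝟙 B))
  cancel W Z V k e he h := Groth.Agent.H52.isEtLocal_flat.cancel k e he h
  locQ ι X Xi g hτ i := hτ.1 i
  cover ι X Xi g hX hXi hτ U a ha Ui c hce hcs k hk :=
    ofArrows_mem_fpqcPrecoverage_of_isFpqcCover Xi g hτ U a ha Ui c hce hcs k hk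

/-- Locality on the source of `LocP P` for the fpqc, fppf, smooth and étale coverings of algebraic spaces, for `P` local at the
source for the corresponding precoverage of schemes. -/
theorem isLocalOnSource_locP_of_isLocalAtSource (S : Scheme.{u}) (P : MorphismProperty Scheme.{u}) :
    (P.IsLocalAtSource Scheme.fpqcPrecoverage → AlgSp.IsLocalOnSource (AlgSp.IsFpqcCover (S := S)) (AlgSp.LocP P)) ∧
    (P.IsLocalAtSource Scheme.fppfPrecoverage → AlgSp.IsLocalOnSource (AlgSp.IsFppfCover (S := S)) (AlgSp.LocP P)) ∧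
    (P.IsLocalAtSource (Scheme.precoverage @Smooth) → AlgSp.IsLocalOnSource (AlgSp.IsSmCover (S := S)) (AlgSp.LocP P)) ∧
    (P.IsLocalAtSource Scheme.etalePrecoverage → AlgSp.IsLocalOnSource (AlgSp.IsEtCover (S := S)) (AlgSp.LocP P)) := by
  refine ⟨fun hP => isLocalOnSource_locP_of_srcCompat srcCompat_fpqc P hP, fun hP => ?_, fun hP => ?_, fun hP => ?_⟩
  · exact isLocalOnSource_locP_of_srcCompat
      (srcCompat_precoverage (@Flat ⊓ @LocallyOfFinitePresentation)
        (Groth.Agent.H52.isEtLocal_flat.inf Groth.Agent.H52.isEtLocal_lfp)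
        (fun A B e he => ⟨inferInstance, inferInstance⟩)
        (fun _ _ f => LocP @Flat f ∧ LocP @LocallyOfFinitePresentation f)
        (fun X Y f hf U V a b h ha hb comm => ⟨hf.1 a b h ha hb comm, hf.2 a b h ha hb comm⟩)) P hP
  · exact isLocalOnSource_locP_of_srcCompat
      (srcCompat_precoverage @Smooth Groth.Agent.H52.isEtLocal_smooth
        (fun A B e he => inferInstance) (LocP @Smooth) (fun X Y f hf => hf)) P hP
  · exact isLocalOnSource_locP_of_srcCompat
      (srcCompat_precoverage @Etale Groth.Agent.H52.isEtLocal_etale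
        (fun A B e he => he) IsEtaleMor (fun X Y f hf => locP_etale_of_isEtaleMor hf)) P hP

end Groth.Agent.Lib.Helper54
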