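import Mathlib.AlgebraicGeometry.PullbackCarrier
import Mathlib.AlgebraicGeometry.Morphisms.Etale
import Mathlib.AlgebraicGeometry.Morphisms.FormallyUnramified
import Mathlib.AlgebraicGeometry.Morphisms.Separated
import Mathlib.AlgebraicGeometry.Morphisms.QuasiFinite
import Mathlib.AlgebraicGeometry.ResidueField
import Mathlib.RingTheory.Artinian.Module
import Mathlib.RingTheory.TensorProduct.Finite
import Mathlib.RingTheory.ZariskisMainTheorem

/-!
# Bounds on the number of points in field-valued fibres (helper54)

`FibBound g n`: every fibre of `g : T' ⟶ T` over a field-valued point of `T` has at most `n`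
points.  This is the measure for the induction in the proof that quasi-affine opens of an étale
base change of a separated locally quasi-finite space descend to open subschemes.

* `card_finset_primeSpectrum_le_finrank`
* `FibBound.of_isPullback`, `FibBound.comp_openImmersion`, `FibBound.of_openCover`
* `FibBound.isEmpty_of_zero`
* `fibBound_spec_of_finite`
-/

set_option autoImplicit false
universe u
open CategoryTheory CategoryTheory.Limits AlgebraicGeometry TensorProduct

namespace Groth.Agent.Lib.Helper54

theorem card_finset_primeSpectrum_le_finrank (K A : Type*) [Field K] [CommRing A] [Algebra K A]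
    [Module.Finite K A] (s : Finset (PrimeSpectrum A)) : s.card ≤ Module.finrank K A := by
  classical
  have hart : IsArtinianRing A := IsArtinianRing.of_finite K A
  have hmax : ∀ p : s, (p.1.asIdeal).IsMaximal := fun p => inferInstance
  have hcop : Pairwise (Function.onFun IsCoprime fun p : s => p.1.asIdeal) := by
    intro p q hpq
    rw [Function.onFun, Ideal.isCoprime_iff_sup_eq]
    refine Ideal.IsMaximal.coprime_of_ne (hmax p) (hmax q) ?_
    intro h
    exact hpq (Subtype.ext (PrimeSpectrum.ext h))
  choose e he using fun p : s =>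
    Ideal.pi_quotient_surjective hcop (fun q => if q = p then (1 : A ⧸ q.1.asIdeal) else 0)
  have hli : LinearIndependent K e := by
    rw [Fintype.linearIndependent_iff]
    intro c hc p
    have h1 := congrArg (Ideal.Quotient.mk p.1.asIdeal) hc
    rw [map_sum, map_zero, Finset.sum_eq_single p] at h1
    · rw [Algebra.smul_def, map_mul, he p p, if_pos rfl, mul_one] at h1
      have hinj : Function.Injective ((Ideal.Quotient.mk p.1.asIdeal).comp (algebraMap K A)) :=
        RingHom.injective _
      exact hinj (by simpa using h1)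
    · intro q _ hqp
      rw [Algebra.smul_def, map_mul, he q p, if_neg (Ne.symm hqp), mul_zero]
    · intro h
      exact absurd (Finset.mem_univ p) h
  have := hli.fintype_card_le_finrank
  simpa using this

/-- Every field-valued fibre of `g` has at most `n` points. -/
def FibBound {T' T : Scheme.{u}} (g : T' ⟶ T) (n : ℕ) : Prop :=
  ∀ (K : Type u) [Field K] (x : Spec (.of K) ⟶ T) (s : Finset ↥(pullback g x)), s.card ≤ n

theorem FibBound.mono {T' T : Scheme.{u}} {g : T' ⟶ T} {n m : ℕ} (h : FibBound g n) (hnm : n ≤ m) :
    FibBound g m := fun K _ x s => (h K x s).trans hnm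

/-- Points of a pullback square of schemes. -/
theorem exists_preimage_of_isPullback {P X Y Z : Scheme.{u}} {fst : P ⟶ X} {snd : P ⟶ Y}
    {f : X ⟶ Z} {g : Y ⟶ Z} (sq : IsPullback fst snd f g) (x : X) (y : Y) (h : f x = g y) :
    ∃ p : P, fst p = x ∧ snd p = y := by
  obtain ⟨z, hz1, hz2⟩ := Scheme.Pullback.exists_preimage_pullback x y h
  refine ⟨sq.isoPullback.inv z, ?_, ?_⟩
  · rw [← Scheme.Hom.comp_apply, sq.isoPullback_inv_fst, hz1]
  · rw [← Scheme.Hom.comp_apply, sq.isoPullback_inv_snd, hz2]

/-- Fibre bounds are stable under base change. -/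
theorem FibBound.of_isPullback {P T' Z T : Scheme.{u}} {fst : P ⟶ T'} {snd : P ⟶ Z} {g : T' ⟶ T}
    {h : Z ⟶ T} (sq : IsPullback fst snd g h) {n : ℕ} (hg : FibBound g n) : FibBound snd n := by
  intro K _ x s
  classical
  have big : IsPullback (pullback.fst snd x ≫ fst) (pullback.snd snd x) g (x ≫ h) :=
    (IsPullback.of_hasPullback snd x).paste_horiz sq
  have hinj : Function.Injective (fun z => big.isoPullback.hom z) :=
    (big.isoPullback.hom.homeomorph).injective
  have h1 := hg K (x ≫ h) (s.image fun z => big.isoPullback.hom z)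
  have h2 : (s.image fun z => big.isoPullback.hom z).card = s.card :=
    Finset.card_image_of_injective s hinj
  exact (le_of_eq h2.symm).trans h1

theorem FibBound.comp_iso {T' T T₁ : Scheme.{u}} {g : T' ⟶ T} {n : ℕ} (hg : FibBound g n)
    (ε : T ≅ T₁) : FibBound (g ≫ ε.hom) n := by
  refine hg.of_isPullback (fst := 𝟙 T') (h := ε.inv) ?_
  exact IsPullback.of_horiz_isIso ⟨by simp⟩

theorem FibBound.iso_comp {T'₁ T' T : Scheme.{u}} {g : T' ⟶ T} {n : ℕ} (hg : FibBound g n)
    (ε : T'₁ ≅ T') : FibBound (ε.hom ≫ g) n := by
  refine hg.of_isPullback (fst := ε.hom) (h := 𝟙 T) ?_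
  exact IsPullback.of_horiz_isIso ⟨by simp⟩

/-- The comparison map `O ×_T Spec K ⟶ Y ×_T Spec K` for `j : O ⟶ Y`. -/
noncomputable def fibMap {O Y T Z : Scheme.{u}} (j : O ⟶ Y) (h : Y ⟶ T) (x : Z ⟶ T) :
    pullback (j ≫ h) x ⟶ pullback h x :=
  pullback.lift (pullback.fst _ _ ≫ j) (pullback.snd _ _)
    (by rw [Category.assoc, pullback.condition])

theorem isPullback_fibMap {O Y T Z : Scheme.{u}} (j : O ⟶ Y) (h : Y ⟶ T) (x : Z ⟶ T) :
    IsPullback (fibMap j h x) (pullback.fst (j ≫ h) x) (pullback.fst h x) j := by
  refine IsPullback.of_right ?_ (pullback.lift_fst _ _ _) (IsPullback.of_hasPullback h x).flip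
  have : fibMap j h x ≫ pullback.snd h x = pullback.snd (j ≫ h) x := pullback.lift_snd _ _ _
  rw [this]
  exact (IsPullback.of_hasPullback (j ≫ h) x).flip

/-- Fibre bounds pass to open subschemes of the source. -/
theorem FibBound.comp_openImmersion {O Y T : Scheme.{u}} (j : O ⟶ Y) [IsOpenImmersion j]
    {h : Y ⟶ T} {n : ℕ} (hh : FibBound h n) : FibBound (j ≫ h) n := by
  intro K _ x s
  classical
  have hoi : IsOpenImmersion (fibMap j h x) :=
    MorphismProperty.of_isPullback (P := @IsOpenImmersion) (isPullback_fibMap j h x).flip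
      inferInstance
  have hinj : Function.Injective (fun z => fibMap j h x z) :=
    (fibMap j h x).isOpenEmbedding.injective
  have h1 := hh K x (s.image fun z => fibMap j h x z)
  have h2 : (s.image fun z => fibMap j h x z).card = s.card :=
    Finset.card_image_of_injective s hinj
  exact (le_of_eq h2.symm).trans h1

/-- Fibre bounds add up over a finite open cover of the source. -/
theorem FibBound.of_openCover {ι : Type*} [Fintype ι] {T' T : Scheme.{u}} (g : T' ⟶ T)
    (O : ι → Scheme.{u}) (i : ∀ k, O k ⟶ T') (hcov : ∀ t : T', ∃ k, t ∈ Set.range (i k))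
    (n : ι → ℕ) (hn : ∀ k, FibBound (i k ≫ g) (n k)) : FibBound g (∑ k, n k) := by
  intro K _ x s
  classical
  have key : ∀ k, (s.filter fun z => pullback.fst g x z ∈ Set.range (i k)).card ≤ n k := by
    intro k
    have hsub : (↑(s.filter fun z => pullback.fst g x z ∈ Set.range (i k)) : Set ↥(pullback g x)) ⊆
        (fun z' => fibMap (i k) g x z') '' Set.univ := by
      intro z hz
      rw [Finset.coe_filter] at hz
      obtain ⟨o, ho⟩ := hz.2
      obtain ⟨z', hz1, -⟩ :=
        exists_preimage_of_isPullback (isPullback_fibMap (i k) g x) z o ho.symm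
      exact ⟨z', trivial, hz1⟩
    obtain ⟨s', -, hs'⟩ := Finset.subset_set_image_iff.1 hsub
    rw [← hs']
    exact Finset.card_image_le.trans (hn k K x s')
  have hcovs : s ⊆ Finset.univ.biUnion fun k =>
      s.filter fun z => pullback.fst g x z ∈ Set.range (i k) := by
    intro z hz
    obtain ⟨k, hk⟩ := hcov (pullback.fst g x z)
    exact Finset.mem_biUnion.2 ⟨k, Finset.mem_univ k, Finset.mem_filter.2 ⟨hz, hk⟩⟩
  calc s.card ≤ _ := Finset.card_le_card hcovs
    _ ≤ ∑ k, (s.filter fun z => pullback.fst g x z ∈ Set.range (i k)).card :=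
      Finset.card_biUnion_le
    _ ≤ ∑ k, n k := Finset.sum_le_sum fun k _ => key k

/-- A morphism with empty field-valued fibres has empty source. -/
theorem FibBound.isEmpty_of_zero {T' T : Scheme.{u}} {g : T' ⟶ T} (h : FibBound g 0) :
    IsEmpty T' := by
  constructor
  intro t'
  let x' : Spec (T'.residueField t') ⟶ T' := T'.fromSpecResidueField t'
  let σ : Spec (T'.residueField t') ⟶ pullback g (x' ≫ g) :=
    pullback.lift x' (𝟙 _) (by rw [Category.id_comp])
  have := h (T'.residueField t') (x' ≫ g) {σ (IsLocalRing.closedPoint _)}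
  simp at this

/-- The inductive step: removing the diagonal from `T' ×_T T'` lowers the fibre bound of the
projection to `T'` by one. -/
theorem FibBound.offDiagonal {T' T : Scheme.{u}} (g : T' ⟶ T) (C : (pullback g g).Opens)
    (hC : Disjoint (C : Set ↥(pullback g g)) (Set.range (pullback.diagonal g)))
    {n : ℕ} (hg : FibBound g (n + 1)) : FibBound (C.ι ≫ pullback.snd g g) n := by
  intro K _ x' s
  classical
  let θ : pullback g (x' ≫ g) ⟶ pullback g g :=
    pullback.lift (pullback.fst g (x' ≫ g)) (pullback.snd g (x' ≫ g) ≫ x')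
      (by rw [Category.assoc, pullback.condition])
  have hθ1 : θ ≫ pullback.fst g g = pullback.fst g (x' ≫ g) := pullback.lift_fst _ _ _
  have hθ2 : θ ≫ pullback.snd g g = pullback.snd g (x' ≫ g) ≫ x' := pullback.lift_snd _ _ _
  have sqA : IsPullback θ (pullback.snd g (x' ≫ g)) (pullback.snd g g) x' := by
    refine IsPullback.of_right ?_ hθ2 (IsPullback.of_hasPullback g g)
    rw [hθ1]
    exact IsPullback.of_hasPullback g (x' ≫ g)
  let φ : pullback (C.ι ≫ pullback.snd g g) x' ⟶ pullback g (x' ≫ g) :=
    sqA.lift (pullback.fst _ _ ≫ C.ι) (pullback.snd _ _)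
      (by rw [Category.assoc]; exact pullback.condition)
  have hφ1 : φ ≫ θ = pullback.fst _ _ ≫ C.ι := sqA.lift_fst _ _ _
  have hφ2 : φ ≫ pullback.snd g (x' ≫ g) = pullback.snd _ _ := sqA.lift_snd _ _ _
  have sqB : IsPullback φ (pullback.fst (C.ι ≫ pullback.snd g g) x') θ C.ι := by
    refine IsPullback.of_right ?_ hφ1 sqA.flip
    rw [hφ2]
    exact (IsPullback.of_hasPullback (C.ι ≫ pullback.snd g g) x').flip
  have hoi : IsOpenImmersion φ :=
    MorphismProperty.of_isPullback (P := @IsOpenImmersion) sqB.flip inferInstance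
  have hinj : Function.Injective (fun z => φ z) := φ.isOpenEmbedding.injective
  let σ : Spec (.of K) ⟶ pullback g (x' ≫ g) :=
    pullback.lift x' (𝟙 _) (by rw [Category.id_comp])
  have hσθ : σ ≫ θ = x' ≫ pullback.diagonal g := by
    apply pullback.hom_ext
    · rw [Category.assoc, hθ1, pullback.lift_fst, Category.assoc, pullback.diagonal_fst,
        Category.comp_id]
    · rw [Category.assoc, hθ2, ← Category.assoc, pullback.lift_snd, Category.id_comp,
        Category.assoc, pullback.diagonal_snd, Category.comp_id]
  let pt : ↥(Spec (.of K)) := IsLocalRing.closedPoint K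
  have hnot : σ pt ∉ s.image fun z => φ z := by
    intro hmem
    obtain ⟨z, -, hz⟩ := Finset.mem_image.1 hmem
    have h1 : θ (φ z) ∈ (C : Set ↥(pullback g g)) := by
      rw [← Scheme.Hom.comp_apply, hφ1, Scheme.Hom.comp_apply]
      exact (pullback.fst (C.ι ≫ pullback.snd g g) x' z).2
    have h2 : θ (φ z) ∈ Set.range (pullback.diagonal g) := by
      rw [hz, ← Scheme.Hom.comp_apply, hσθ, Scheme.Hom.comp_apply]
      exact ⟨_, rfl⟩
    exact Set.disjoint_left.1 hC h1 h2
  have h1 := hg K (x' ≫ g) (insert (σ pt) (s.image fun z => φ z))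
  rw [Finset.card_insert_of_notMem hnot] at h1
  have h2 : (s.image fun z => φ z).card = s.card := Finset.card_image_of_injective s hinj
  omega

theorem finrank_baseChange_le {R B : Type u} [CommRing R] [CommRing B] [Algebra R B] {m : ℕ}
    (v : Fin m → B) (hv : Submodule.span R (Set.range v) = ⊤)
    (K : Type u) [Field K] [Algebra R K] : Module.finrank K (K ⊗[R] B) ≤ m := by
  have : Submodule.span K (Set.range fun i => (1 : K) ⊗ₜ[R] v i) = ⊤ := by
    rw [eq_top_iff]
    rintro x -
    induction x with
    | zero => exact zero_mem _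
    | tmul x y =>
      have hy : y ∈ Submodule.span R (Set.range v) := by rw [hv]; trivial
      induction hy using Submodule.span_induction with
      | mem z hz =>
        obtain ⟨i, rfl⟩ := hz
        have : x ⊗ₜ[R] v i = x • ((1 : K) ⊗ₜ[R] v i) := by
          rw [TensorProduct.smul_tmul', smul_eq_mul, mul_one]
        rw [this]
        exact Submodule.smul_mem _ _ (Submodule.subset_span ⟨i, rfl⟩)
      | zero => rw [TensorProduct.tmul_zero]; exact zero_mem _
      | add a b _ _ ha hb => rw [TensorProduct.tmul_add]; exact add_mem ha hb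
      | smul r a _ ha =>
        rw [TensorProduct.tmul_smul]
        have : r • x ⊗ₜ[R] a = (algebraMap R K r) • (x ⊗ₜ[R] a) := by
          rw [algebraMap_smul]
        rw [this]
        exact Submodule.smul_mem _ _ ha
    | add x y hx hy => exact add_mem hx hy
  have := finrank_le_of_span_eq_top this
  simpa using this

theorem fibBound_spec_of_finite_aux {R B : Type u} [CommRing R] [CommRing B] [Algebra R B] {m : ℕ}
    (v : Fin m → B) (hv : Submodule.span R (Set.range v) = ⊤) (K : Type u) [Field K] [Algebra R K]
    (s : Finset ↥(pullback (Spec.map (CommRingCat.ofHom (algebraMap R B)))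
      (Spec.map (CommRingCat.ofHom (algebraMap R K))))) : s.card ≤ m := by
  classical
  have : Module.Finite R B := ⟨⟨Finset.univ.image v, by
    rw [Finset.coe_image, Finset.coe_univ, Set.image_univ]; exact hv⟩⟩
  let e := pullbackSymmetry _ _ ≪≫ pullbackSpecIso R K B
  have hinj : Function.Injective (fun z => e.hom z) := (e.hom.homeomorph).injective
  have h1 := card_finset_primeSpectrum_le_finrank K (K ⊗[R] B) (s.image (fun z => e.hom z))
  have h2 : (s.image (fun z => e.hom z)).card = s.card := Finset.card_image_of_injective s hinj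
  exact (le_of_eq h2.symm).trans (h1.trans (finrank_baseChange_le v hv K))

/-- The spectrum of a module-finite algebra has bounded fibres. -/
theorem fibBound_spec_of_finite {R B : Type u} [CommRing R] [CommRing B] [Algebra R B] {m : ℕ}
    (v : Fin m → B) (hv : Submodule.span R (Set.range v) = ⊤) :
    FibBound (Spec.map (CommRingCat.ofHom (algebraMap R B))) m := by
  intro K _ x s
  obtain ⟨φ, rfl⟩ := Spec.map_surjective x
  let _ : Algebra R K := φ.hom.toAlgebra
  exact fibBound_spec_of_finite_aux v hv K s

theorem exists_fibBound_spec_of_finite (R B : Type u) [CommRing R] [CommRing B] [Algebra R B]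
    [Module.Finite R B] : ∃ m, FibBound (Spec.map (CommRingCat.ofHom (algebraMap R B))) m := by
  obtain ⟨m, v, hv⟩ := Module.Finite.exists_fin (R := R) (M := B)
  exact ⟨m, fibBound_spec_of_finite v hv⟩

/-- A quasi-finite algebra of finite type has bounded fibres. -/
theorem exists_fibBound_spec_of_quasiFinite (R S : Type u) [CommRing R] [CommRing S] [Algebra R S]
    [Algebra.FiniteType R S] [Algebra.QuasiFinite R S] :
    ∃ n, FibBound (Spec.map (CommRingCat.ofHom (algebraMap R S))) n := by
  classical
  -- local finite models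
  have hloc : ∀ q : PrimeSpectrum S, ∃ (r : S) (n : ℕ), r ∉ q.asIdeal ∧
      FibBound (Spec.map (CommRingCat.ofHom (algebraMap S (Localization.Away r))) ≫
        Spec.map (CommRingCat.ofHom (algebraMap R S))) n := by
    intro q
    obtain ⟨S', hS', r, hrq, hbij⟩ :=
      Algebra.QuasiFiniteAt.exists_fg_and_exists_notMem_and_awayMap_bijective (R := R) q.asIdeal
    have : Module.Finite R S' := ⟨(Submodule.fg_top _).mpr hS'⟩
    obtain ⟨m, hm⟩ := exists_fibBound_spec_of_finite R S'
    refine ⟨r.1, m, hrq, ?_⟩
    let ε : Localization.Away r ≃+* Localization.Away (S'.val.toRingHom r) :=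
      RingEquiv.ofBijective _ hbij
    have heq : (algebraMap S (Localization.Away r.1)).comp (algebraMap R S) =
        (ε.toRingHom.comp (algebraMap S' (Localization.Away r))).comp (algebraMap R S') := by
      ext x
      simp only [RingHom.comp_apply]
      change _ = Localization.awayMap S'.val.toRingHom r (algebraMap S' _ (algebraMap R S' x))
      rw [Localization.awayMap, IsLocalization.Away.map, IsLocalization.map_eq]
      rfl
    have h1 : Spec.map (CommRingCat.ofHom (algebraMap S (Localization.Away r.1))) ≫
        Spec.map (CommRingCat.ofHom (algebraMap R S)) =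
        (Spec.map (CommRingCat.ofHom ε.toRingHom) ≫
          Spec.map (CommRingCat.ofHom (algebraMap S' (Localization.Away r)))) ≫
          Spec.map (CommRingCat.ofHom (algebraMap R S')) := by
      rw [← Spec.map_comp, ← Spec.map_comp, ← Spec.map_comp, ← CommRingCat.ofHom_comp,
        ← CommRingCat.ofHom_comp, ← CommRingCat.ofHom_comp, heq]
      rfl
    rw [h1]
    have h0 : IsIso (Spec.map (CommRingCat.ofHom ε.toRingHom)) := by
      have : IsIso (CommRingCat.ofHom ε.toRingHom) :=
        (ε.toCommRingCatIso).isIso_hom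
      infer_instance
    have h0' : IsOpenImmersion (Spec.map (CommRingCat.ofHom ε.toRingHom)) := inferInstance
    have h3 : IsOpenImmersion
        (Spec.map (CommRingCat.ofHom (algebraMap S' (Localization.Away r)))) := inferInstance
    have h4 : IsOpenImmersion (Spec.map (CommRingCat.ofHom ε.toRingHom) ≫
        Spec.map (CommRingCat.ofHom (algebraMap S' (Localization.Away r)))) :=
      MorphismProperty.comp_mem (W := @IsOpenImmersion) _ _ h0' h3
    exact @FibBound.comp_openImmersion _ _ _ _ h4 _ _ hm
  choose r n hrq hn using hloc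
  -- a finite subcover
  obtain ⟨t, ht⟩ := isCompact_univ.elim_finite_subcover
    (fun q : PrimeSpectrum S => (PrimeSpectrum.basicOpen (r q) : Set (PrimeSpectrum S)))
    (fun q => (PrimeSpectrum.basicOpen (r q)).2)
    (fun q _ => Set.mem_iUnion.2 ⟨q, hrq q⟩)
  refine ⟨∑ k : t, n k.1, FibBound.of_openCover _ (fun k : t => Spec (.of (Localization.Away (r k.1))))
    (fun k => Spec.map (CommRingCat.ofHom (algebraMap S (Localization.Away (r k.1))))) ?_
    (fun k => n k.1) (fun k => hn k.1)⟩
  intro q
  have hq := ht (Set.mem_univ q)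
  obtain ⟨k, hk, hqk⟩ := Set.mem_iUnion₂.1 hq
  refine ⟨⟨k, hk⟩, ?_⟩
  have := Scheme.Hom.opensRange_localizationAway (R := .of S) (r k)
  have h2 : q ∈ (Spec.map (CommRingCat.ofHom (algebraMap S (Localization.Away (r k))))).opensRange := by
    rw [this]; exact hqk
  exact h2

/-- A quasi-finite morphism of finite type between affine schemes has bounded fibres. -/
theorem exists_fibBound_of_isAffine {T' T : Scheme.{u}} [IsAffine T'] [IsAffine T] (g : T' ⟶ T)
    [LocallyQuasiFinite g] [LocallyOfFiniteType g] : ∃ n, FibBound g n := by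
  have h1 : RingHom.QuasiFinite g.appTop.hom :=
    (HasRingHomProperty.iff_of_isAffine (P := @LocallyQuasiFinite)).1 inferInstance
  have h2 : RingHom.FiniteType g.appTop.hom :=
    (HasRingHomProperty.iff_of_isAffine (P := @LocallyOfFiniteType)).1 inferInstance
  algebraize [g.appTop.hom]
  obtain ⟨n, hn⟩ := exists_fibBound_spec_of_quasiFinite Γ(T, ⊤) Γ(T', ⊤)
  refine ⟨n, ?_⟩
  have e : g = T'.isoSpec.hom ≫ Spec.map g.appTop ≫ T.isoSpec.inv := by
    rw [← Category.assoc, Scheme.isoSpec_hom_naturality, Category.assoc, Iso.hom_inv_id,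
      Category.comp_id]
  rw [e]
  have hn' : FibBound (Spec.map g.appTop) n := hn
  exact (hn'.comp_iso T.isoSpec.symm).iso_comp T'.isoSpec

end Groth.Agent.Lib.Helper54
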