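import Groth.Agent.Lib.Helper54.Reduced
import Groth.Agent.Lib.Helper54.FibBound
import Groth.Agent.Lib.Helper62.PerfectReducedSch
import Groth.Prelude.Def_FDesc

/-!
# Geometric reducedness at a point is étale local
-/

set_option autoImplicit false
universe u
open CategoryTheory CategoryTheory.Limits AlgebraicGeometry

namespace Groth.Agent.Lib.Helper54

/-- Reducedness of stalks ascends along étale morphisms. -/
theorem isReduced_stalk_of_etale {X Y : Scheme.{u}} (f : X ⟶ Y) [Etale f] (x : X)
    [_root_.IsReduced (Y.presheaf.stalk (f x))] : _root_.IsReduced (X.presheaf.stalk x) := by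
  have hW : AlgebraicGeometry.IsReduced (pullback f (Y.fromSpecStalk (f x))) :=
    isReduced_of_etale_scheme (pullback.snd f (Y.fromSpecStalk (f x)))
  obtain ⟨w, hw, -⟩ := Scheme.Pullback.exists_preimage_pullback (f := f) (g := Y.fromSpecStalk (f x))
    x (IsLocalRing.closedPoint (Y.presheaf.stalk (f x))) (by rw [Scheme.fromSpecStalk_closedPoint])
  have := Groth.Agent.Lib.Helper62.isReduced_stalk_of_flat (pullback.fst f (Y.fromSpecStalk (f x))) w
  rwa [hw] at this

-- `exists_preimage_of_isPullback` (points of a pullback square of schemes) now lives in `FibBound.lean`.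

/-- The base change of `φ : W ⟶ U` along the projection of a fibre product `U ×_B B'`. -/
theorem exists_baseChange_map {W U B B' : Scheme.{u}} (φ : W ⟶ U) (hU : U ⟶ B) (g : B' ⟶ B) :
    ∃ ψ : pullback (φ ≫ hU) g ⟶ pullback hU g,
      IsPullback (pullback.fst (φ ≫ hU) g) ψ φ (pullback.fst hU g) ∧
      ψ ≫ pullback.snd hU g = pullback.snd (φ ≫ hU) g := by
  refine ⟨pullback.lift (pullback.fst _ _ ≫ φ) (pullback.snd _ _)
    (by rw [Category.assoc, pullback.condition]), ?_, pullback.lift_snd _ _ _⟩
  refine IsPullback.of_bot ?_ (pullback.lift_fst _ _ _).symm (IsPullback.of_hasPullback hU g)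
  rw [pullback.lift_snd]
  exact IsPullback.of_hasPullback _ _

variable {k : Type u} [Field k]

/-- Geometric reducedness at a point is étale local. -/
theorem isGeomReducedAt_iff_of_etale {W U : Scheme.{u}} (φ : W ⟶ U) [Etale φ]
    (hU : U ⟶ Spec (CommRingCat.of k)) (w : W) :
    FBase.IsGeomReducedAt (φ ≫ hU) w ↔ FBase.IsGeomReducedAt hU (φ w) := by
  have key : ∀ (K : Type u) [Field K] [Algebra k K], ∃ ψ : FBase.bc (φ ≫ hU) K ⟶ FBase.bc hU K,
      IsPullback (FBase.bcπ (φ ≫ hU) K) ψ φ (FBase.bcπ hU K) := fun K _ _ => by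
    obtain ⟨ψ, h1, -⟩ := exists_baseChange_map φ hU (Spec.map (CommRingCat.ofHom (algebraMap k K)))
    exact ⟨ψ, h1⟩
  constructor
  · intro h K _ _ u' hu'
    obtain ⟨ψ, sq⟩ := key K
    obtain ⟨w', hw1, hw2⟩ := exists_preimage_of_isPullback sq w u' hu'.symm
    have := h K w' hw1
    have : Flat ψ := MorphismProperty.of_isPullback sq (inferInstance : Flat φ)
    have := Groth.Agent.Lib.Helper62.isReduced_stalk_of_flat ψ w'
    rwa [hw2] at this
  · intro h K _ _ w' hw'
    obtain ⟨ψ, sq⟩ := key K
    have : Etale ψ := MorphismProperty.of_isPullback sq ‹Etale φ›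
    have := h K (ψ w') (by rw [← Scheme.Hom.comp_apply, ← sq.w, Scheme.Hom.comp_apply, hw'])
    exact isReduced_stalk_of_etale ψ w'

end Groth.Agent.Lib.Helper54
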