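import Groth.Agent.Lib.Helper54.GeomReducedSp
import Groth.Agent.Lib.Helper54.OpenSubspace

/-!
# Geometric reducedness at a point and base change of the ground field
-/

set_option autoImplicit false
universe u
open CategoryTheory CategoryTheory.Limits AlgebraicGeometry
open AlgSp

namespace Groth.Agent.Lib.Helper54

variable {k : Type u} [Field k]

/-- Transitivity of base change: `(U_K)_L ≅ U_L`. -/
theorem exists_bc_bc_iso {U : Scheme.{u}} (hU : U ⟶ Spec (CommRingCat.of k)) (K : Type u) [Field K]
    [Algebra k K] (L : Type u) [Field L] [Algebra K L] [Algebra k L] [IsScalarTower k K L] :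
    ∃ e : FBase.bc (FBase.bcStr hU K) L ≅ FBase.bc hU L,
      e.hom ≫ FBase.bcπ hU L = FBase.bcπ (FBase.bcStr hU K) L ≫ FBase.bcπ hU K ∧
      e.hom ≫ FBase.bcStr hU L = FBase.bcStr (FBase.bcStr hU K) L := by
  have s1 : IsPullback (FBase.bcπ (FBase.bcStr hU K) L) (FBase.bcStr (FBase.bcStr hU K) L)
      (FBase.bcStr hU K) (Spec.map (CommRingCat.ofHom (algebraMap K L))) := IsPullback.of_hasPullback _ _
  have s2 : IsPullback (FBase.bcπ hU K) (FBase.bcStr hU K) hU
      (Spec.map (CommRingCat.ofHom (algebraMap k K))) := IsPullback.of_hasPullback _ _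
  have s := s1.paste_horiz s2
  have hmap : Spec.map (CommRingCat.ofHom (algebraMap K L)) ≫ Spec.map (CommRingCat.ofHom (algebraMap k K)) =
      Spec.map (CommRingCat.ofHom (algebraMap k L)) := by
    rw [← Spec.map_comp, ← CommRingCat.ofHom_comp, ← IsScalarTower.algebraMap_eq]
  rw [hmap] at s
  exact ⟨s.isoPullback, s.isoPullback_hom_fst, s.isoPullback_hom_snd⟩

/-- The key descent step: if `K` and `k'` embed compatibly in a field `L` and a pair of `L`-points of `U_K` and `U_{k'}`
agree in `U`, then reducedness of the stalks of `(U_K)_L` above the first point descends to the second. -/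
theorem isReduced_stalk_of_common_ext {U : Scheme.{u}} (hU : U ⟶ Spec (CommRingCat.of k)) (K : Type u)
    [Field K] [Algebra k K] (k' : Type u) [Field k'] [Algebra k k'] (L : Type u) [Field L] [Algebra K L]
    [Algebra k' L]
    (hcomm : (algebraMap K L).comp (algebraMap k K) = (algebraMap k' L).comp (algebraMap k k'))
    (s₁ : Spec (CommRingCat.of L) ⟶ FBase.bc hU K) (s₂ : Spec (CommRingCat.of L) ⟶ FBase.bc hU k')
    (h1 : s₁ ≫ FBase.bcStr hU K = Spec.map (CommRingCat.ofHom (algebraMap K L)))
    (h2 : s₂ ≫ FBase.bcStr hU k' = Spec.map (CommRingCat.ofHom (algebraMap k' L)))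
    (h12 : s₁ ≫ FBase.bcπ hU K = s₂ ≫ FBase.bcπ hU k')
    (pt : ↥(Spec (CommRingCat.of L)))
    (h : FBase.IsGeomReducedAt (FBase.bcStr hU K) (s₁ pt)) :
    _root_.IsReduced ((FBase.bc hU k').presheaf.stalk (s₂ pt)) := by
  have hmap : Spec.map (CommRingCat.ofHom (algebraMap K L)) ≫ Spec.map (CommRingCat.ofHom (algebraMap k K)) =
      Spec.map (CommRingCat.ofHom (algebraMap k' L)) ≫ Spec.map (CommRingCat.ofHom (algebraMap k k')) := by
    rw [← Spec.map_comp, ← Spec.map_comp, ← CommRingCat.ofHom_comp, ← CommRingCat.ofHom_comp, hcomm]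
  -- the section
  let s : Spec (CommRingCat.of L) ⟶ FBase.bc (FBase.bcStr hU K) L :=
    pullback.lift s₁ (𝟙 _) (by rw [Category.id_comp]; exact h1)
  have hs1 : s ≫ FBase.bcπ (FBase.bcStr hU K) L = s₁ := pullback.lift_fst _ _ _
  have hs2 : s ≫ FBase.bcStr (FBase.bcStr hU K) L = 𝟙 _ := pullback.lift_snd _ _ _
  -- the flat map
  have s1 : IsPullback (FBase.bcπ (FBase.bcStr hU K) L) (FBase.bcStr (FBase.bcStr hU K) L)
      (FBase.bcStr hU K) (Spec.map (CommRingCat.ofHom (algebraMap K L))) := IsPullback.of_hasPullback _ _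
  have s2 : IsPullback (FBase.bcπ hU K) (FBase.bcStr hU K) hU
      (Spec.map (CommRingCat.ofHom (algebraMap k K))) := IsPullback.of_hasPullback _ _
  have s3 : IsPullback (FBase.bcπ hU k') (FBase.bcStr hU k') hU
      (Spec.map (CommRingCat.ofHom (algebraMap k k'))) := IsPullback.of_hasPullback _ _
  have big := s1.paste_horiz s2
  rw [hmap] at big
  let g : FBase.bc (FBase.bcStr hU K) L ⟶ FBase.bc hU k' :=
    s3.lift (FBase.bcπ (FBase.bcStr hU K) L ≫ FBase.bcπ hU K)
      (FBase.bcStr (FBase.bcStr hU K) L ≫ Spec.map (CommRingCat.ofHom (algebraMap k' L)))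
      (by rw [big.w, Category.assoc])
  have hg1 : g ≫ FBase.bcπ hU k' = FBase.bcπ (FBase.bcStr hU K) L ≫ FBase.bcπ hU K := s3.lift_fst _ _ _
  have hg2 : g ≫ FBase.bcStr hU k' =
      FBase.bcStr (FBase.bcStr hU K) L ≫ Spec.map (CommRingCat.ofHom (algebraMap k' L)) := s3.lift_snd _ _ _
  have left : IsPullback g (FBase.bcStr (FBase.bcStr hU K) L) (FBase.bcStr hU k')
      (Spec.map (CommRingCat.ofHom (algebraMap k' L))) := by
    refine IsPullback.of_right ?_ hg2 s3
    rw [hg1]
    exact big
  have hflat : Flat (Spec.map (CommRingCat.ofHom (algebraMap k' L))) := by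
    rw [Flat.SpecMap_iff]
    change (algebraMap k' L).Flat
    rw [RingHom.flat_algebraMap_iff]
    infer_instance
  have : Flat g := MorphismProperty.of_isPullback left.flip hflat
  have hsg : s ≫ g = s₂ := by
    apply s3.hom_ext
    · rw [Category.assoc, hg1, ← Category.assoc, hs1, h12]
    · rw [Category.assoc, hg2, ← Category.assoc, hs2, Category.id_comp, h2]
  have hred := h L (s pt) (by
    rw [← Scheme.Hom.comp_apply, hs1])
  have := Groth.Agent.Lib.Helper62.isReduced_stalk_of_flat g (s pt)
  rwa [← Scheme.Hom.comp_apply, hsg] at this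

/-- Geometric reducedness at a point is insensitive to extension of the ground field. -/
theorem isGeomReducedAt_bc_iff {U : Scheme.{u}} (hU : U ⟶ Spec (CommRingCat.of k)) (K : Type u) [Field K]
    [Algebra k K] (u' : ↥(FBase.bc hU K)) :
    FBase.IsGeomReducedAt hU (FBase.bcπ hU K u') ↔ FBase.IsGeomReducedAt (FBase.bcStr hU K) u' := by
  constructor
  · intro h L _ _ x'' hx''
    let : Algebra k L := ((algebraMap K L).comp (algebraMap k K)).toAlgebra
    have : IsScalarTower k K L := IsScalarTower.of_algebraMap_eq (fun _ => rfl)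
    obtain ⟨e, he1, -⟩ := exists_bc_bc_iso hU K L
    have hred := h L (e.hom x'') (by
      rw [← Scheme.Hom.comp_apply, he1, Scheme.Hom.comp_apply]
      exact congrArg _ hx'')
    have := Groth.Agent.Lib.Helper62.isReduced_stalk_of_flat e.inv (e.hom x'')
    rwa [Scheme.hom_inv_apply] at this
  · intro h k' _ _ y hy
    replace hy : (FBase.bcπ hU k') y = (FBase.bcπ hU K) u' := hy
    obtain ⟨t, ht1, ht2⟩ := Scheme.Pullback.exists_preimage_pullback (f := FBase.bcπ hU K)
      (g := FBase.bcπ hU k') u' y hy.symm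
    let T : Scheme.{u} := pullback (FBase.bcπ hU K) (FBase.bcπ hU k')
    change ↥T at t
    let L : Type u := T.residueField t
    let j : Spec (CommRingCat.of L) ⟶ T := T.fromSpecResidueField t
    let φK : K →+* L := (Spec.preimage (j ≫ pullback.fst _ _ ≫ FBase.bcStr hU K)).hom
    let φk' : k' →+* L := (Spec.preimage (j ≫ pullback.snd _ _ ≫ FBase.bcStr hU k')).hom
    let : Algebra K L := φK.toAlgebra
    let : Algebra k' L := φk'.toAlgebra
    have h1 : (j ≫ pullback.fst _ _) ≫ FBase.bcStr hU K = Spec.map (CommRingCat.ofHom (algebraMap K L)) := by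
      change _ = Spec.map (CommRingCat.ofHom φK)
      rw [CommRingCat.ofHom_hom, Spec.map_preimage, Category.assoc]
    have h2 : (j ≫ pullback.snd _ _) ≫ FBase.bcStr hU k' = Spec.map (CommRingCat.ofHom (algebraMap k' L)) := by
      change _ = Spec.map (CommRingCat.ofHom φk')
      rw [CommRingCat.ofHom_hom, Spec.map_preimage, Category.assoc]
    have h12 : (j ≫ pullback.fst _ _) ≫ FBase.bcπ hU K = (j ≫ pullback.snd _ _) ≫ FBase.bcπ hU k' := by
      rw [Category.assoc, Category.assoc, pullback.condition]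
    have hcomm : (algebraMap K L).comp (algebraMap k K) = (algebraMap k' L).comp (algebraMap k k') := by
      have e1 : Spec.map (CommRingCat.ofHom ((algebraMap K L).comp (algebraMap k K))) =
          Spec.map (CommRingCat.ofHom ((algebraMap k' L).comp (algebraMap k k'))) := by
        have c1 : FBase.bcπ hU K ≫ hU = FBase.bcStr hU K ≫ Spec.map (CommRingCat.ofHom (algebraMap k K)) :=
          pullback.condition
        have c2 : FBase.bcπ hU k' ≫ hU = FBase.bcStr hU k' ≫ Spec.map (CommRingCat.ofHom (algebraMap k k')) :=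
          pullback.condition
        rw [CommRingCat.ofHom_comp, CommRingCat.ofHom_comp, Spec.map_comp, Spec.map_comp, ← h1, ← h2]
        simp only [Category.assoc]
        rw [← c1, ← c2]
        have := h12 =≫ hU
        simpa only [Category.assoc] using this
      have e2 := Spec.map_injective e1
      exact congrArg CommRingCat.Hom.hom e2
    have pt : ↥(Spec (CommRingCat.of L)) := IsLocalRing.closedPoint L
    have hpt : j pt = t := Scheme.fromSpecResidueField_apply _ _
    have hred := isReduced_stalk_of_common_ext hU K k' L hcomm (j ≫ pullback.fst _ _) (j ≫ pullback.snd _ _)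
      h1 h2 h12 pt (by rw [Scheme.Hom.comp_apply, hpt, ht1]; exact h)
    rwa [Scheme.Hom.comp_apply, hpt, ht2] at hred

/-! ### Base change of charts -/

/-- The base change `U_K` of a `k`-scheme, as a scheme over `k`. -/
noncomputable def bcOver (U : Over (Spec (CommRingCat.of k))) (K : Type u) [Field K] [Algebra k K] :
    Over (Spec (CommRingCat.of k)) :=
  Over.mk (FBase.bcπ U.hom K ≫ U.hom)

/-- The projection `U_K ⟶ U`. -/
noncomputable def bcOverπ (U : Over (Spec (CommRingCat.of k))) (K : Type u) [Field K] [Algebra k K] :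
    bcOver U K ⟶ U :=
  Over.homMk (FBase.bcπ U.hom K) rfl

/-- The structure morphism `U_K ⟶ Spec K`. -/
noncomputable def bcOverStr (U : Over (Spec (CommRingCat.of k))) (K : Type u) [Field K] [Algebra k K] :
    bcOver U K ⟶ Over.mk (Spec.map (CommRingCat.ofHom (algebraMap k K))) :=
  Over.homMk (FBase.bcStr U.hom K) pullback.condition.symm

/-- The base change of a chart. -/
noncomputable def bcChart {X : Sp (Spec (CommRingCat.of k))} {U : Over (Spec (CommRingCat.of k))}
    (a : (yon _).obj U ⟶ X) (K : Type u) [Field K] [Algebra k K] :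
    (yon _).obj (bcOver U K) ⟶
      X ⨯ (yon (Spec (CommRingCat.of k))).obj (Over.mk (Spec.map (CommRingCat.ofHom (algebraMap k K)))) :=
  prod.lift ((yon _).map (bcOverπ U K) ≫ a) ((yon _).map (bcOverStr U K))

theorem bcChart_fst {X : Sp (Spec (CommRingCat.of k))} {U : Over (Spec (CommRingCat.of k))}
    (a : (yon _).obj U ⟶ X) (K : Type u) [Field K] [Algebra k K] :
    bcChart a K ≫ prod.fst = (yon _).map (bcOverπ U K) ≫ a := prod.lift_fst _ _

theorem bcChart_snd {X : Sp (Spec (CommRingCat.of k))} {U : Over (Spec (CommRingCat.of k))}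
    (a : (yon _).obj U ⟶ X) (K : Type u) [Field K] [Algebra k K] :
    bcChart a K ≫ prod.snd = (yon _).map (bcOverStr U K) := prod.lift_snd _ _

theorem isPullback_bcChart {X : Sp (Spec (CommRingCat.of k))} {U : Over (Spec (CommRingCat.of k))}
    (a : (yon _).obj U ⟶ X) (K : Type u) [Field K] [Algebra k K] :
    IsPullback (bcChart a K) ((yon _).map (bcOverπ U K)) prod.fst a := by
  refine isPullback_of_forall_yon _ _ _ _ (bcChart_fst a K) ?_ ?_
  · intro T c c' h1 h2
    obtain ⟨γ, rfl⟩ := (yon _).map_surjective c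
    obtain ⟨γ', rfl⟩ := (yon _).map_surjective c'
    congr 1
    have h3 := congrArg (· ≫ prod.snd) h1
    simp only [Category.assoc, bcChart_snd, ← Functor.map_comp] at h3
    replace h3 := (yon _).map_injective h3
    rw [← Functor.map_comp, ← Functor.map_comp] at h2
    replace h2 := (yon _).map_injective h2
    apply Over.OverMorphism.ext
    apply pullback.hom_ext
    · exact congrArg CommaMorphism.left h2
    · exact congrArg CommaMorphism.left h3
  · intro T b c hbc
    obtain ⟨γ, rfl⟩ := (yon _).map_surjective c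
    obtain ⟨δ, hδ⟩ := (yon _).map_surjective (b ≫ prod.snd)
    have hw : γ.left ≫ U.hom = δ.left ≫ Spec.map (CommRingCat.ofHom (algebraMap k K)) := by
      rw [Over.w γ]; exact (Over.w δ).symm
    let ε : T ⟶ bcOver U K := Over.homMk (pullback.lift γ.left δ.left hw) (by
      change pullback.lift γ.left δ.left hw ≫ pullback.fst _ _ ≫ U.hom = T.hom
      rw [pullback.lift_fst_assoc, Over.w γ])
    have hε1 : ε ≫ bcOverπ U K = γ := by
      apply Over.OverMorphism.ext
      exact pullback.lift_fst _ _ _
    have hε2 : ε ≫ bcOverStr U K = δ := by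
      apply Over.OverMorphism.ext
      exact pullback.lift_snd _ _ _
    refine ⟨(yon _).map ε, ?_, by rw [← Functor.map_comp, hε1]⟩
    apply Limits.prod.hom_ext
    · rw [Category.assoc, bcChart_fst, ← Functor.map_comp_assoc, hε1, hbc]
    · rw [Category.assoc, bcChart_snd, ← Functor.map_comp, hε2, hδ]

theorem repWith_etale_bcChart {X : Sp (Spec (CommRingCat.of k))} {U : Over (Spec (CommRingCat.of k))}
    (a : (yon _).obj U ⟶ X) (ha : RepWith @Etale a) (K : Type u) [Field K] [Algebra k K] :
    RepWith @Etale (bcChart a K) := by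
  have : (RepWith (S := Spec (CommRingCat.of k)) @Etale).IsStableUnderBaseChange :=
    repWith_isStableUnderBaseChange _
  exact MorphismProperty.of_isPullback (isPullback_bcChart a K).flip ha

/-- Points of `X_K` above a point in the image of a chart lift to the base change of the chart. -/
theorem exists_pt_bcChart {X : Sp (Spec (CommRingCat.of k))} {U : Over (Spec (CommRingCat.of k))}
    (a : (yon _).obj U ⟶ X) (K : Type u) [Field K] [Algebra k K] (u : ↥U.left)
    (x' : Points (X ⨯ (yon (Spec (CommRingCat.of k))).obj (Over.mk (Spec.map (CommRingCat.ofHom (algebraMap k K))))))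
    (hx' : Points.map prod.fst x' = Points.ofPt a u) :
    ∃ u' : ↥(FBase.bc U.hom K), Points.ofPt (bcChart a K) u' = x' ∧ FBase.bcπ U.hom K u' = u :=
  exists_pt_of_isPullback_yon (isPullback_bcChart a K) x' u hx'

/-- The main comparison: geometric reducedness of `X` at `x` and of `X_K` at a point `x'` above `x`. -/
theorem geomReducedAt_iff_bc (X : AlgSp.Space (Spec (CommRingCat.of k))) (K : Type u) [Field K] [Algebra k K]
    (x : AlgSp.Points X.obj) (x' : AlgSp.Points (X.obj ⨯ (AlgSp.yon (Spec (CommRingCat.of k))).obj (Over.mk (Spec.map (CommRingCat.ofHom (algebraMap k K))))))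
    (hx' : AlgSp.Points.map (Limits.prod.fst : (X.obj ⨯ (AlgSp.yon (Spec (CommRingCat.of k))).obj (Over.mk (Spec.map (CommRingCat.ofHom (algebraMap k K))))) ⟶ X.obj) x' = x) :
    (∃ (U : Over (Spec (CommRingCat.of k))) (a : (AlgSp.yon (Spec (CommRingCat.of k))).obj U ⟶ X.obj) (u : ↥U.left),
      AlgSp.RepWith @Etale a ∧ AlgSp.Points.ofPt a u = x ∧ FBase.IsGeomReducedAt U.hom u) ↔
      ∃ (U' : Over (Spec (CommRingCat.of k))) (a' : (AlgSp.yon (Spec (CommRingCat.of k))).obj U' ⟶ (X.obj ⨯ (AlgSp.yon (Spec (CommRingCat.of k))).obj (Over.mk (Spec.map (CommRingCat.ofHom (algebraMap k K))))))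
        (q : U' ⟶ Over.mk (Spec.map (CommRingCat.ofHom (algebraMap k K)))) (u' : ↥U'.left),
        AlgSp.RepWith @Etale a' ∧ a' ≫ Limits.prod.snd = (AlgSp.yon (Spec (CommRingCat.of k))).map q ∧
          AlgSp.Points.ofPt a' u' = x' ∧ FBase.IsGeomReducedAt q.left u' := by
  constructor
  · rintro ⟨U, a, u, ha, hu, hred⟩
    obtain ⟨u', hu'1, hu'2⟩ := exists_pt_bcChart a K u x' (by rw [hx', hu])
    refine ⟨bcOver U K, bcChart a K, bcOverStr U K, u', repWith_etale_bcChart a ha K, bcChart_snd a K, hu'1, ?_⟩
    have := (isGeomReducedAt_bc_iff U.hom K u').1 (by rw [hu'2]; exact hred)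
    exact this
  · rintro ⟨U', a', q, u', ha', hq, hu', hred⟩
    obtain ⟨U, a, u, ha, hu⟩ := exists_chart_through X.property x
    obtain ⟨u'', hu''1, hu''2⟩ := exists_pt_bcChart a K u x' (by rw [hx', hu])
    refine ⟨U, a, u, ha, hu, ?_⟩
    rw [← hu''2, isGeomReducedAt_bc_iff U.hom K u'']
    obtain ⟨W, α, β, w, hα, hβ, hw1, hw2, hcomm⟩ := exists_common_chart a' ha' (bcChart a K)
      (repWith_etale_bcChart a ha K) u' u'' (by rw [hu', hu''1])
    have hq2 : α ≫ bcOverStr U K = β ≫ q := by
      apply (yon _).map_injective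
      rw [Functor.map_comp, Functor.map_comp, ← bcChart_snd a K, ← hq, ← Category.assoc, hcomm,
        Category.assoc]
    have hq3 : α.left ≫ FBase.bcStr U.hom K = β.left ≫ q.left := congrArg CommaMorphism.left hq2
    have h1 : FBase.IsGeomReducedAt (β.left ≫ q.left) w :=
      (isGeomReducedAt_iff_of_etale β.left q.left w).mpr (by rw [hw2]; exact hred)
    rw [← hq3] at h1
    have := (isGeomReducedAt_iff_of_etale α.left (FBase.bcStr U.hom K) w).mp h1
    rwa [hw1] at this

/-- `|X_K| ⟶ |X|` is surjective. -/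
theorem exists_point_bc_over (X : AlgSp.Space (Spec (CommRingCat.of k))) (K : Type u) [Field K] [Algebra k K]
    (x : AlgSp.Points X.obj) :
    ∃ x' : AlgSp.Points (X.obj ⨯ (AlgSp.yon (Spec (CommRingCat.of k))).obj (Over.mk (Spec.map (CommRingCat.ofHom (algebraMap k K))))),
      AlgSp.Points.map (Limits.prod.fst : (X.obj ⨯ (AlgSp.yon (Spec (CommRingCat.of k))).obj (Over.mk (Spec.map (CommRingCat.ofHom (algebraMap k K))))) ⟶ X.obj) x' = x := by
  obtain ⟨U, a, u, ha, hu⟩ := exists_chart_through X.property x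
  have hsurj : Function.Surjective (bcOverπ U K).left := by
    have h1 : AlgebraicGeometry.Surjective (Spec.map (CommRingCat.ofHom (algebraMap k K))) := by
      constructor
      intro s
      exact ⟨IsLocalRing.closedPoint K, Subsingleton.elim _ _⟩
    have : AlgebraicGeometry.Surjective (pullback.fst U.hom (Spec.map (CommRingCat.ofHom (algebraMap k K)))) :=
      inferInstance
    exact this.surj
  obtain ⟨u', hu'⟩ := hsurj u
  refine ⟨Points.ofPt (bcChart a K) u', ?_⟩
  rw [Points.map_ofPt, bcChart_fst, ofPt_yon_map_comp, hu', hu]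

end Groth.Agent.Lib.Helper54
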