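import Groth.Agent.Lib.Helper54.DecentTop
import Groth.Agent.Lib.Helper55.DimStalk

/-!
# Dimension of decent algebraic spaces (helper54)
-/

set_option autoImplicit false
set_option linter.style.haveILetI false
universe u
open CategoryTheory CategoryTheory.Limits AlgebraicGeometry Topology
open AlgSp

namespace Groth.Agent.Lib.Helper54

variable {S : Scheme.{u}}

/-- The codimension of a point of a topological space, for the specialization preorder. -/
noncomputable def ptCoheight {α : Type*} [TopologicalSpace α] (x : α) : ℕ∞ :=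
  @Order.coheight α (specializationPreorder α) x

theorem ptCoheight_ofPt_eq {X : Sp S} (hX : IsAlgSpace X) (hXd : IsDecent X) {U : Over S}
    (a : (yon S).obj U ⟶ X) (ha : RepWith @Etale a) (u : ↥U.left) :
    ptCoheight (Points.ofPt a u) = Order.coheight u :=
  coheight_ofPt_eq' hX hXd a ha u

section
attribute [local instance] specializationOrder

theorem topologicalKrullDim_eq_iSup_ptCoheight (α : Type*) [TopologicalSpace α] [QuasiSober α] [T0Space α] :
    topologicalKrullDim α = ⨆ x : α, (ptCoheight x : WithBot ℕ∞) := by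
  rw [topologicalKrullDim, Order.krullDim_eq_of_orderIso (irreducibleSetEquivPoints (α := α)),
    Order.krullDim_eq_iSup_coheight]
  rfl

theorem ptCoheight_subtype_of_isOpen {α : Type*} [TopologicalSpace α] [QuasiSober α] [T0Space α]
    (W : TopologicalSpace.Opens α) (x : W) : ptCoheight x = ptCoheight (x : α) := by
  haveI : QuasiSober ↥W := W.isOpenEmbedding'.quasiSober
  exact (Topology.IsOpenEmbedding.coheight_eq (x := x) Subtype.val W.isOpenEmbedding').symm

theorem topologicalKrullDim_opens_eq_iSup_ptCoheight {α : Type*} [TopologicalSpace α] [QuasiSober α] [T0Space α]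
    (W : TopologicalSpace.Opens α) :
    topologicalKrullDim ↥W = ⨆ x : W, (ptCoheight (x : α) : WithBot ℕ∞) := by
  haveI : QuasiSober ↥W := W.isOpenEmbedding'.quasiSober
  rw [topologicalKrullDim_eq_iSup_ptCoheight]
  exact iSup_congr fun x => by rw [ptCoheight_subtype_of_isOpen W x]

end

/-- The Krull dimension of the space of points of a decent algebraic space is the dimension of the space. -/
theorem topologicalKrullDim_points_eq_dim {X : Sp S} (hX : IsAlgSpace X) (hXd : IsDecent X) :
    topologicalKrullDim (Points X) = AlgSp.dim X := by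
  haveI := t0Space_points_of_isDecent hX hXd
  haveI := quasiSober_points_of_isDecent hX hXd
  have hpts := topologicalKrullDim_eq_iSup_ptCoheight (Points X)
  apply le_antisymm
  · rw [hpts]
    apply iSup_le
    intro x
    obtain ⟨U, a, u, ha, rfl⟩ := exists_chart_through hX x
    rw [ptCoheight_ofPt_eq hX hXd a ha u, ← ringKrullDim_stalk_eq_coheight]
    refine (Groth.Agent.Lib.Helper55.ringKrullDim_stalk_le_topologicalKrullDim U.left u).trans ?_
    exact le_iSup_of_le U (le_iSup_of_le a (le_iSup_of_le ha le_rfl))
  · unfold AlgSp.dim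
    apply iSup_le
    intro U
    apply iSup_le
    intro a
    apply iSup_le
    intro ha
    rw [Groth.Agent.Lib.Helper55.topologicalKrullDim_eq_iSup_ringKrullDim_stalk]
    apply iSup_le
    intro u
    rw [ringKrullDim_stalk_eq_coheight, ← ptCoheight_ofPt_eq hX hXd a ha u, hpts]
    exact le_iSup (fun x : Points X => (ptCoheight x : WithBot ℕ∞)) _

/-- The local dimension of an étale chart of a decent space at a point is the local dimension of the space of points at
its image. -/
theorem localDim_chart_eq_localDim_points {X : Sp S} (hX : IsAlgSpace X) (hXd : IsDecent X) {U : Over S}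
    (a : (yon S).obj U ⟶ X) (ha : RepWith @Etale a) (u : ↥U.left) :
    FlatMor.localDim ↥U.left u = FlatMor.localDim (Points X) (Points.ofPt a u) := by
  haveI := t0Space_points_of_isDecent hX hXd
  haveI := quasiSober_points_of_isDecent hX hXd
  unfold FlatMor.localDim
  apply le_antisymm
  · apply le_iInf
    rintro ⟨W, hW⟩
    let N : TopologicalSpace.Opens ↥U.left :=
      ⟨Points.ofPt a ⁻¹' (W : Set (Points X)), W.2.preimage (Points.continuous_ofPt a)⟩
    refine (iInf_le _ (⟨N, hW⟩ : {N : TopologicalSpace.Opens ↥U.left // u ∈ N})).trans ?_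
    change topologicalKrullDim ↥N ≤ topologicalKrullDim ↥W
    rw [topologicalKrullDim_opens_eq_iSup_ptCoheight, topologicalKrullDim_opens_eq_iSup_ptCoheight]
    apply iSup_le
    intro u'
    have h1 : ptCoheight (u' : ↥U.left) = ptCoheight (Points.ofPt a u') :=
      (ptCoheight_ofPt_eq hX hXd a ha u').symm
    rw [h1]
    exact le_iSup (fun x : W => (ptCoheight (x : Points X) : WithBot ℕ∞)) ⟨Points.ofPt a u', u'.2⟩
  · apply le_iInf
    rintro ⟨N, hN⟩
    let W : TopologicalSpace.Opens (Points X) :=
      ⟨Points.ofPt a '' (N : Set ↥U.left), Groth.Agent.H53.isOpenMap_ofPt_of_etale a ha _ N.2⟩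
    refine (iInf_le _ (⟨W, ⟨u, hN, rfl⟩⟩ : {W : TopologicalSpace.Opens (Points X) // Points.ofPt a u ∈ W})).trans ?_
    change topologicalKrullDim ↥W ≤ topologicalKrullDim ↥N
    rw [topologicalKrullDim_opens_eq_iSup_ptCoheight, topologicalKrullDim_opens_eq_iSup_ptCoheight]
    apply iSup_le
    rintro ⟨x', u', hu', rfl⟩
    have h1 : ptCoheight (Points.ofPt a u') = ptCoheight u' := ptCoheight_ofPt_eq hX hXd a ha u'
    change (ptCoheight (Points.ofPt a u') : WithBot ℕ∞) ≤ _
    rw [h1]
    exact le_iSup (fun x : N => (ptCoheight (x : ↥U.left) : WithBot ℕ∞)) ⟨u', hu'⟩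

end Groth.Agent.Lib.Helper54
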