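import Mathlib.Algebra.Category.Ring.Under.Limits
import Mathlib.Algebra.Category.Ring.EqualizerPushout
import Mathlib.CategoryTheory.Limits.Over
import Mathlib.CategoryTheory.Limits.Preserves.Shapes.Equalizers

/-!
# Equalizers of commutative rings: faithfully flat descent and flat base change (helper54)

* `isLimit_fork_of_faithfullyFlat_of_isPushout`: a faithfully flat ring map `ε : E ⟶ C'` is the
  equalizer of the two maps to any pushout of `ε` with itself.
* `isLimit_fork_pushout_of_flat`: pushing out an equalizer fork along a flat ring map gives an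
  equalizer fork, for arbitrary choices of the pushouts.
-/

set_option autoImplicit false
universe u
open CategoryTheory CategoryTheory.Limits

namespace Groth.Agent.Lib.Helper54

/-- Faithfully flat descent: `ε` is the equalizer of the two maps to a pushout of `ε` with itself. -/
theorem isLimit_fork_of_faithfullyFlat_of_isPushout {E C' D' : CommRingCat.{u}} (ε : E ⟶ C')
    (hε : ε.hom.FaithfullyFlat) {σ' τ' : C' ⟶ D'} (hp : IsPushout ε ε σ' τ') :
    Nonempty (IsLimit (Fork.ofι ε hp.w)) := by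
  have h0 := CommRingCat.isLimitForkPushoutSelfOfFaithfullyFlat ε hε
  refine ⟨Fork.isLimitOfIsos _ h0 (Fork.ofι ε hp.w) (Iso.refl _) hp.isoPushout.symm (Iso.refl _)
    ?_ ?_ ?_⟩
  · simp
  · simp
  · simp

/-- Flat base change of equalizers of commutative rings, for arbitrary pushouts. -/
theorem isLimit_fork_pushout_of_flat {A A' B C D B' C' D' : CommRingCat.{u}}
    (α : A ⟶ C) (σ τ : C ⟶ D) (hστ : α ≫ σ = α ≫ τ)
    (ι : B ⟶ C) (hι : ι ≫ σ = ι ≫ τ) (hB : IsLimit (Fork.ofι ι hι))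
    (αB : A ⟶ B) (hαB : αB ≫ ι = α)
    (f : A ⟶ A') (hf : f.hom.Flat)
    {γ : C ⟶ C'} {αC' : A' ⟶ C'} (hC' : IsPushout α f γ αC')
    {δ : D ⟶ D'} {αD' : A' ⟶ D'} (hD' : IsPushout (α ≫ σ) f δ αD')
    {β : B ⟶ B'} {αB' : A' ⟶ B'} (hB' : IsPushout αB f β αB')
    (σ' τ' : C' ⟶ D') (hσ1 : γ ≫ σ' = σ ≫ δ) (hσ2 : αC' ≫ σ' = αD')
    (hτ1 : γ ≫ τ' = τ ≫ δ) (hτ2 : αC' ≫ τ' = αD')
    (ι' : B' ⟶ C') (hι'1 : β ≫ ι' = ι ≫ γ) (hι'2 : αB' ≫ ι' = αC') :
    ∃ (w : ι' ≫ σ' = ι' ≫ τ'), Nonempty (IsLimit (Fork.ofι ι' w)) := by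
  have w : ι' ≫ σ' = ι' ≫ τ' := by
    apply hB'.hom_ext
    · rw [reassoc_of% hι'1, reassoc_of% hι'1, hσ1, hτ1, reassoc_of% hι]
    · rw [reassoc_of% hι'2, reassoc_of% hι'2, hσ2, hτ2]
  refine ⟨w, ?_⟩
  -- the fork in `Under A`
  let Bu : Under A := Under.mk αB
  let Cu : Under A := Under.mk α
  let Du : Under A := Under.mk (α ≫ σ)
  let ιu : Bu ⟶ Cu := Under.homMk ι hαB
  let σu : Cu ⟶ Du := Under.homMk σ rfl
  let τu : Cu ⟶ Du := Under.homMk τ hστ.symm
  have hιu : ιu ≫ σu = ιu ≫ τu := by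
    apply Under.UnderMorphism.ext
    exact hι
  have hlimu : IsLimit (Fork.ofι ιu hιu) :=
    isLimitOfReflects (Under.forget A)
      ((isLimitMapConeForkEquiv (Under.forget A) hιu).symm hB)
  have : PreservesFiniteLimits (Under.pushout f) :=
    CommRingCat.Under.preservesFiniteLimits_of_flat f hf
  have hlimF := isLimitForkMapOfIsLimit (Under.pushout f) hιu hlimu
  have hlimR := isLimitForkMapOfIsLimit (Under.forget A') _ hlimF
  -- transport along the comparison isomorphisms of pushouts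
  let Sσ : pushout α f ⟶ pushout (α ≫ σ) f :=
    pushout.desc (σ ≫ pushout.inl _ _) (pushout.inr _ _) (by rw [← Category.assoc, pushout.condition])
  let Sτ : pushout α f ⟶ pushout (α ≫ σ) f :=
    pushout.desc (τ ≫ pushout.inl _ _) (pushout.inr _ _)
      (by rw [← Category.assoc, ← hστ, pushout.condition])
  let Sι : pushout αB f ⟶ pushout α f :=
    pushout.desc (ι ≫ pushout.inl _ _) (pushout.inr _ _)
      (by rw [← Category.assoc, hαB, pushout.condition])
  have c1 : σ' ≫ hD'.isoPushout.hom = hC'.isoPushout.hom ≫ Sσ := by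
    apply hC'.hom_ext
    · rw [reassoc_of% hσ1, IsPushout.inl_isoPushout_hom, IsPushout.inl_isoPushout_hom_assoc]
      exact (pushout.inl_desc _ _ _).symm
    · rw [reassoc_of% hσ2, IsPushout.inr_isoPushout_hom, IsPushout.inr_isoPushout_hom_assoc]
      exact (pushout.inr_desc _ _ _).symm
  have c2 : τ' ≫ hD'.isoPushout.hom = hC'.isoPushout.hom ≫ Sτ := by
    apply hC'.hom_ext
    · rw [reassoc_of% hτ1, IsPushout.inl_isoPushout_hom, IsPushout.inl_isoPushout_hom_assoc]
      exact (pushout.inl_desc _ _ _).symm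
    · rw [reassoc_of% hτ2, IsPushout.inr_isoPushout_hom, IsPushout.inr_isoPushout_hom_assoc]
      exact (pushout.inr_desc _ _ _).symm
  have c3 : ι' ≫ hC'.isoPushout.hom = hB'.isoPushout.hom ≫ Sι := by
    apply hB'.hom_ext
    · rw [reassoc_of% hι'1, IsPushout.inl_isoPushout_hom, IsPushout.inl_isoPushout_hom_assoc]
      exact (pushout.inl_desc _ _ _).symm
    · rw [reassoc_of% hι'2, IsPushout.inr_isoPushout_hom, IsPushout.inr_isoPushout_hom_assoc]
      exact (pushout.inr_desc _ _ _).symm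
  refine ⟨Fork.isLimitOfIsos _ hlimR (Fork.ofι ι' w) hC'.isoPushout.symm hD'.isoPushout.symm
    hB'.isoPushout.symm ?_ ?_ ?_⟩
  · change hC'.isoPushout.inv ≫ σ' = Sσ ≫ hD'.isoPushout.inv
    rw [Iso.inv_comp_eq, ← Category.assoc, Iso.eq_comp_inv]
    exact c1
  · change hC'.isoPushout.inv ≫ τ' = Sτ ≫ hD'.isoPushout.inv
    rw [Iso.inv_comp_eq, ← Category.assoc, Iso.eq_comp_inv]
    exact c2
  · change hB'.isoPushout.inv ≫ ι' = Sι ≫ hC'.isoPushout.inv
    rw [Iso.inv_comp_eq, ← Category.assoc, Iso.eq_comp_inv]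
    exact c3

end Groth.Agent.Lib.Helper54
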