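import Groth.Agent.Lib.Helper54.AffineDescentRing
import Mathlib.AlgebraicGeometry.Morphisms.Flat
import Mathlib.AlgebraicGeometry.Morphisms.Affine

/-!
# Flat base change of affine quotients (helper54)

For an affine scheme `V` whose ring of functions is the equalizer of `Γ(U) ⇉ Γ(R)` (the affine
quotient of `R ⇉ U`), the base change of `V` along a flat morphism of affine schemes `W ⟶ Z` is
again such a quotient; in particular any faithfully flat `U_W ⟶ V'` with kernel pair `R_W` factoring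
the map to `V_W` identifies `V'` with `V_W`.
-/

set_option autoImplicit false
universe u
open CategoryTheory CategoryTheory.Limits AlgebraicGeometry

namespace Groth.Agent.Lib.Helper54

/-- A morphism between two limit forks over the same pair is an isomorphism. -/
theorem isIso_of_isLimit_fork {C : Type*} [Category C] {X Y P Q : C} {f g : X ⟶ Y} {ι₁ : P ⟶ X}
    {ι₂ : Q ⟶ X} {w₁ : ι₁ ≫ f = ι₁ ≫ g} {w₂ : ι₂ ≫ f = ι₂ ≫ g} (h₁ : IsLimit (Fork.ofι ι₁ w₁))
    (h₂ : IsLimit (Fork.ofι ι₂ w₂)) (θ : P ⟶ Q) (hθ : θ ≫ ι₂ = ι₁) : IsIso θ := by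
  have he : (h₁.conePointUniqueUpToIso h₂).hom ≫ ι₂ = ι₁ :=
    IsLimit.conePointUniqueUpToIso_hom_comp h₁ h₂ WalkingParallelPair.zero
  have : θ = (h₁.conePointUniqueUpToIso h₂).hom := by
    apply Fork.IsLimit.hom_ext h₂
    change θ ≫ ι₂ = _ ≫ ι₂
    rw [hθ, he]
  rw [this]
  infer_instance

/-- A morphism of affine schemes that is an isomorphism on global sections is an isomorphism. -/
theorem isIso_of_isIso_appTop {X Y : Scheme.{u}} [IsAffine X] [IsAffine Y] (f : X ⟶ Y)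
    [IsIso f.appTop] : IsIso f := by
  have h := Scheme.isoSpec_hom_naturality f
  have : f = X.isoSpec.hom ≫ Spec.map f.appTop ≫ Y.isoSpec.inv := by
    rw [← Category.assoc, h, Category.assoc, Iso.hom_inv_id, Category.comp_id]
  rw [this]
  infer_instance

/-- Flat base change of an affine quotient. -/
theorem isIso_of_affine_quotient_baseChange
    {Z U R W V UW RW VW V' : Scheme.{u}} [IsAffine Z] [IsAffine U] [IsAffine R] [IsAffine W]
    [IsAffine V] [IsAffine V']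
    (h : U ⟶ Z) (s t : R ⟶ U) (hst : s ≫ h = t ≫ h) (c : W ⟶ Z) [Flat c]
    (k : U ⟶ V) (v : V ⟶ Z) (hkv : k ≫ v = h)
    (w : k.appTop ≫ s.appTop = k.appTop ≫ t.appTop) (hlim : IsLimit (Fork.ofι k.appTop w))
    {p1 : UW ⟶ U} {p2 : UW ⟶ W} (sqU : IsPullback p1 p2 h c)
    {q1 : RW ⟶ R} {q2 : RW ⟶ W} (sqR : IsPullback q1 q2 (s ≫ h) c)
    {r1 : VW ⟶ V} {r2 : VW ⟶ W} (sqV : IsPullback r1 r2 v c)
    (sW tW : RW ⟶ UW) (hs1 : sW ≫ p1 = q1 ≫ s) (hs2 : sW ≫ p2 = q2)
    (ht1 : tW ≫ p1 = q1 ≫ t) (ht2 : tW ≫ p2 = q2)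
    (u : UW ⟶ V') [Flat u] [Surjective u] (sqK : IsPullback sW tW u u)
    (ψ : V' ⟶ VW) (hψ1 : u ≫ ψ ≫ r1 = p1 ≫ k) (hψ2 : u ≫ ψ ≫ r2 = p2) : IsIso ψ := by
  have hUW : IsAffine UW := IsAffine.of_isPullback sqU
  have hRW : IsAffine RW := IsAffine.of_isPullback sqR
  have hVW : IsAffine VW := IsAffine.of_isPullback sqV
  -- (i) faithfully flat descent
  have hp : IsPushout u.appTop u.appTop sW.appTop tW.appTop := isPushout_appTop_of_isPullback sqK
  have hff : u.appTop.hom.FaithfullyFlat :=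
    (Flat.flat_and_surjective_iff_faithfullyFlat_of_isAffine u).mp ⟨‹_›, ‹_›⟩
  obtain ⟨h1⟩ := isLimit_fork_of_faithfullyFlat_of_isPushout u.appTop hff hp
  -- (ii) flat base change
  let kW : UW ⟶ VW := sqV.lift (p1 ≫ k) p2 (by rw [Category.assoc, hkv, sqU.w])
  have hkW1 : kW ≫ r1 = p1 ≫ k := sqV.lift_fst _ _ _
  have hkW2 : kW ≫ r2 = p2 := sqV.lift_snd _ _ _
  have hD' : IsPushout (h.appTop ≫ s.appTop) c.appTop q1.appTop q2.appTop := by
    have := isPushout_appTop_of_isPullback sqR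
    rwa [Scheme.Hom.comp_appTop] at this
  obtain ⟨w2, ⟨h2⟩⟩ := isLimit_fork_pushout_of_flat h.appTop s.appTop t.appTop
    (by rw [← Scheme.Hom.comp_appTop, ← Scheme.Hom.comp_appTop, hst])
    k.appTop w hlim v.appTop (by rw [← Scheme.Hom.comp_appTop, hkv])
    c.appTop (Scheme.Hom.flat_appTop c)
    (isPushout_appTop_of_isPullback sqU) hD'
    (isPushout_appTop_of_isPullback sqV)
    sW.appTop tW.appTop
    (by rw [← Scheme.Hom.comp_appTop, ← Scheme.Hom.comp_appTop, hs1])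
    (by rw [← Scheme.Hom.comp_appTop, hs2])
    (by rw [← Scheme.Hom.comp_appTop, ← Scheme.Hom.comp_appTop, ht1])
    (by rw [← Scheme.Hom.comp_appTop, ht2])
    kW.appTop
    (by rw [← Scheme.Hom.comp_appTop, ← Scheme.Hom.comp_appTop, hkW1])
    (by rw [← Scheme.Hom.comp_appTop, hkW2])
  -- (iii) comparison
  have hψ : u ≫ ψ = kW := by
    apply sqV.hom_ext
    · rw [Category.assoc, hψ1, hkW1]
    · rw [Category.assoc, hψ2, hkW2]
  have hψ' : ψ.appTop ≫ u.appTop = kW.appTop := by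
    rw [← Scheme.Hom.comp_appTop, hψ]
  have : IsIso ψ.appTop := isIso_of_isLimit_fork h2 h1 ψ.appTop hψ'
  exact isIso_of_isIso_appTop ψ

/-- The affine quotient of a pair of morphisms of affine schemes over an affine scheme. -/
theorem exists_affine_quotient {Z U R : Scheme.{u}} [IsAffine Z] [IsAffine U] [IsAffine R]
    (h : U ⟶ Z) (s t : R ⟶ U) (hst : s ≫ h = t ≫ h) :
    ∃ (V : Scheme.{u}) (_ : IsAffine V) (k : U ⟶ V) (v : V ⟶ Z), k ≫ v = h ∧ s ≫ k = t ≫ k ∧
      ∃ (w : k.appTop ≫ s.appTop = k.appTop ≫ t.appTop), Nonempty (IsLimit (Fork.ofι k.appTop w)) := by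
  let ιB := equalizer.ι s.appTop t.appTop
  have hαB : h.appTop ≫ s.appTop = h.appTop ≫ t.appTop := by
    rw [← Scheme.Hom.comp_appTop, ← Scheme.Hom.comp_appTop, hst]
  let αB := equalizer.lift h.appTop hαB
  let k : U ⟶ Spec (equalizer s.appTop t.appTop) := U.isoSpec.hom ≫ Spec.map ιB
  let v : Spec (equalizer s.appTop t.appTop) ⟶ Z := Spec.map αB ≫ Z.isoSpec.inv
  have hk : k.appTop = (Scheme.ΓSpecIso _).hom ≫ ιB := by
    change (U.isoSpec.hom ≫ Spec.map ιB).appTop = _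
    rw [Scheme.Hom.comp_appTop, ← Scheme.ΓSpecIso_naturality]
    congr 1
    rw [Scheme.isoSpec_hom]
    exact Scheme.toSpecΓ_appTop U
  have hkv : k ≫ v = h := by
    change (U.isoSpec.hom ≫ Spec.map ιB) ≫ Spec.map αB ≫ Z.isoSpec.inv = h
    rw [Category.assoc, ← Category.assoc (Spec.map ιB), ← Spec.map_comp, equalizer.lift_ι,
      ← Category.assoc, Scheme.isoSpec_hom_naturality, Category.assoc, Iso.hom_inv_id,
      Category.comp_id]
  have hsk : s ≫ k = t ≫ k := by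
    change s ≫ U.isoSpec.hom ≫ Spec.map ιB = t ≫ U.isoSpec.hom ≫ Spec.map ιB
    rw [← Category.assoc, ← Category.assoc, ← Scheme.isoSpec_hom_naturality,
      ← Scheme.isoSpec_hom_naturality, Category.assoc, Category.assoc, ← Spec.map_comp,
      ← Spec.map_comp, equalizer.condition]
  have w : k.appTop ≫ s.appTop = k.appTop ≫ t.appTop := by
    rw [← Scheme.Hom.comp_appTop, ← Scheme.Hom.comp_appTop, hsk]
  refine ⟨Spec (equalizer s.appTop t.appTop), inferInstance, k, v, hkv, hsk, w, ⟨?_⟩⟩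
  refine Fork.isLimitOfIsos _ (equalizerIsEqualizer s.appTop t.appTop) (Fork.ofι k.appTop w)
    (Iso.refl _) (Iso.refl _) (Scheme.ΓSpecIso _).symm ?_ ?_ ?_
  · simp
  · simp
  · change (Scheme.ΓSpecIso _).inv ≫ k.appTop = ιB ≫ 𝟙 _
    rw [hk, Iso.inv_hom_id_assoc, Category.comp_id]

end Groth.Agent.Lib.Helper54
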