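import Groth.Agent.Lib.Helper54.FibBound
import Mathlib.AlgebraicGeometry.Morphisms.UniversallyOpen
import Mathlib.AlgebraicGeometry.Morphisms.Finite

/-!
# Images of nowhere dense closed sets under finite étale morphisms (helper54)

* `interior_nonempty_of_etale_image`: for a separated étale morphism `t : R ⟶ V` with bounded fibres, a closed
  subset `Z` of `R` whose image contains a nonempty open set has nonempty interior.
* `interior_image_eq_empty_of_finite_etale`: a finite étale morphism maps closed sets with empty interior to sets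
  with empty interior.
-/

set_option autoImplicit false
set_option linter.style.haveILetI false
universe u
open CategoryTheory CategoryTheory.Limits AlgebraicGeometry

namespace Groth.Agent.Lib.Helper54

theorem interior_nonempty_of_etale_image (n : ℕ) : ∀ {R V : Scheme.{u}} (t : R ⟶ V) [Etale t]
    [IsSeparated t], FibBound t n → ∀ (Z : Set R), IsClosed Z → ∀ N : Set V, IsOpen N → N.Nonempty →
    N ⊆ t '' Z → (interior Z).Nonempty := by
  induction n with
  | zero =>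
    intro R V t _ _ hb Z hZ N hN hNne hsub
    have := hb.isEmpty_of_zero
    obtain ⟨v, hv⟩ := hNne
    obtain ⟨z, -, -⟩ := hsub hv
    exact (IsEmpty.false z).elim
  | succ n ih =>
    intro R V t _ _ hb Z hZ N hN hNne hsub
    have hΔc : IsClosed (Set.range (pullback.diagonal t)) :=
      (pullback.diagonal t).isClosedEmbedding.isClosed_range
    let C : (pullback t t).Opens := ⟨(Set.range (pullback.diagonal t))ᶜ, hΔc.isOpen_compl⟩
    have hC : Disjoint (C : Set ↥(pullback t t)) (Set.range (pullback.diagonal t)) :=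
      disjoint_compl_left
    have hb' : FibBound (C.ι ≫ pullback.snd t t) n := hb.offDiagonal t C hC
    let Z' : Set ↥(C : Scheme.{u}) := (C.ι ≫ pullback.fst t t) ⁻¹' Z
    have hZ' : IsClosed Z' := hZ.preimage (C.ι ≫ pullback.fst t t).continuous
    have hNR : IsOpen (t ⁻¹' N) := hN.preimage t.continuous
    by_cases hNZ : t ⁻¹' N ⊆ Z
    · obtain ⟨v, hv⟩ := hNne
      obtain ⟨z, -, hz⟩ := hsub hv
      exact ⟨z, interior_maximal hNZ hNR (by rw [Set.mem_preimage, hz]; exact hv)⟩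
    · obtain ⟨r, hrN, hrZ⟩ := Set.not_subset.1 hNZ
      have hN' : IsOpen (t ⁻¹' N ∩ Zᶜ) := hNR.inter hZ.isOpen_compl
      have hsub' : t ⁻¹' N ∩ Zᶜ ⊆ (C.ι ≫ pullback.snd t t) '' Z' := by
        rintro r' ⟨hr'N, hr'Z⟩
        obtain ⟨z, hzZ, hz⟩ := hsub hr'N
        obtain ⟨p, hp1, hp2⟩ := Scheme.Pullback.exists_preimage_pullback z r' hz
        have hpC : p ∈ C := by
          rintro ⟨r'', rfl⟩
          have h1 : z = r'' := by
            rw [← hp1, ← Scheme.Hom.comp_apply, pullback.diagonal_fst]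
            rfl
          have h2 : r' = r'' := by
            rw [← hp2, ← Scheme.Hom.comp_apply, pullback.diagonal_snd]
            rfl
          exact hr'Z (h2 ▸ h1 ▸ hzZ)
        obtain ⟨q, hq⟩ : ∃ q : ↥(C : Scheme.{u}), C.ι q = p := ⟨⟨p, hpC⟩, rfl⟩
        refine ⟨q, ?_, ?_⟩
        · change (C.ι ≫ pullback.fst t t) q ∈ Z
          rw [Scheme.Hom.comp_apply, hq, hp1]
          exact hzZ
        · rw [Scheme.Hom.comp_apply, hq]
          exact hp2
      obtain ⟨w, hw⟩ := ih (C.ι ≫ pullback.snd t t) hb' Z' hZ' _ hN' ⟨r, hrN, hrZ⟩ hsub'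
      have hopen : IsOpenMap (C.ι ≫ pullback.fst t t) := (C.ι ≫ pullback.fst t t).isOpenMap
      refine ⟨(C.ι ≫ pullback.fst t t) w, ?_⟩
      have hsubZ : (C.ι ≫ pullback.fst t t) '' interior Z' ⊆ Z := by
        rintro _ ⟨x, hx, rfl⟩
        have hx' : x ∈ Z' := interior_subset hx
        exact hx' 
      exact interior_maximal hsubZ (hopen _ isOpen_interior) ⟨w, hw, rfl⟩

/-- A finite étale morphism maps closed sets with empty interior to sets with empty interior. -/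
theorem interior_image_eq_empty_of_finite_etale {R V : Scheme.{u}} (t : R ⟶ V) [IsFinite t] [Etale t]
    (Z : Set R) (hZ : IsClosed Z) (hZi : interior Z = ∅) : interior (t '' Z) = ∅ := by
  by_contra hne
  obtain ⟨v, hv⟩ := Set.nonempty_iff_ne_empty.2 hne
  obtain ⟨V₀, hV₀, hvV₀, hV₀sub⟩ := exists_isAffineOpen_mem_and_subset
    (x := v) (U := ⟨interior (t '' Z), isOpen_interior⟩) hv
  haveI : IsAffine (V₀ : Scheme.{u}) := hV₀
  haveI : IsAffine ((t ⁻¹ᵁ V₀ : R.Opens) : Scheme.{u}) := isAffine_of_isAffineHom (t ∣_ V₀)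
  obtain ⟨n, hn⟩ := exists_fibBound_of_isAffine (t ∣_ V₀)
  let Z₀ : Set ↥((t ⁻¹ᵁ V₀ : R.Opens) : Scheme.{u}) := (t ⁻¹ᵁ V₀).ι ⁻¹' Z
  have hZ₀ : IsClosed Z₀ := hZ.preimage (t ⁻¹ᵁ V₀).ι.continuous
  have hsub : (Set.univ : Set ↥(V₀ : Scheme.{u})) ⊆ (t ∣_ V₀) '' Z₀ := by
    intro v' _
    have hv' : V₀.ι v' ∈ t '' Z := interior_subset (hV₀sub v'.2)
    obtain ⟨z, hzZ, hz⟩ := hv'
    have hzV : z ∈ t ⁻¹ᵁ V₀ := by
      change t z ∈ V₀
      rw [hz]
      exact v'.2
    obtain ⟨q, hq⟩ : ∃ q : ↥((t ⁻¹ᵁ V₀ : R.Opens) : Scheme.{u}), (t ⁻¹ᵁ V₀).ι q = z := ⟨⟨z, hzV⟩, rfl⟩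
    refine ⟨q, ?_, ?_⟩
    · change (t ⁻¹ᵁ V₀).ι q ∈ Z
      rw [hq]
      exact hzZ
    · apply V₀.ι.isOpenEmbedding.injective
      rw [← Scheme.Hom.comp_apply, morphismRestrict_ι, Scheme.Hom.comp_apply, hq, hz]
  obtain ⟨w, hw⟩ := interior_nonempty_of_etale_image n (t ∣_ V₀) hn Z₀ hZ₀ Set.univ isOpen_univ
    ⟨⟨v, hvV₀⟩, trivial⟩ hsub
  have hopen : IsOpenMap (t ⁻¹ᵁ V₀).ι := (t ⁻¹ᵁ V₀).ι.isOpenEmbedding.isOpenMap
  have hsubZ : (t ⁻¹ᵁ V₀).ι '' interior Z₀ ⊆ Z := by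
    rintro _ ⟨x, hx, rfl⟩
    have hx' : x ∈ Z₀ := interior_subset hx
    exact hx'
  have : (t ⁻¹ᵁ V₀).ι w ∈ interior Z :=
    interior_maximal hsubZ (hopen _ isOpen_interior) ⟨w, hw, rfl⟩
  rw [hZi] at this
  exact this

end Groth.Agent.Lib.Helper54
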