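import Groth.Agent.Lib.Helper54.DenseFinAff
import Groth.Agent.Lib.Helper54.EtaleNowhereDense
import Groth.Agent.H52.QC

/-!
# A dense open subscheme of the target of a finite étale chart (helper54)
-/

set_option autoImplicit false
set_option linter.style.haveILetI false
universe u
open CategoryTheory CategoryTheory.Limits AlgebraicGeometry

namespace Groth.Agent.Lib.Helper54
open AlgSp

variable {S : Scheme.{u}}

theorem ofPt_yon_map_eq {T T' : Over S} (φ : T ⟶ T') (t : ↥T.left) :
    Points.ofPt ((yon S).map φ) t = Points.ofScheme T' (φ.left t) := by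
  rw [Points.ofPt_eq_map_ofScheme, Groth.Agent.H52.points_map_ofScheme]

/-- A finite étale chart maps closed sets with empty interior to sets with empty interior. -/
theorem interior_ofPt_image_eq_empty {X : Sp S} {U : Over S} (a : (yon S).obj U ⟶ X)
    (hf : RepWith @IsFinite a) (he : RepWith @Etale a)
    (T : Set ↥U.left) (hT : IsClosed T) (hTi : interior T = ∅) :
    interior (Points.ofPt a '' T) = ∅ := by
  by_contra hne
  obtain ⟨x, hx⟩ := Set.nonempty_iff_ne_empty.2 hne
  have hr := hf.rep
  obtain ⟨t', ht'⟩ := (yon S).map_surjective (hr.fst a)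
  have sq : IsPullback ((yon S).map t') ((yon S).map (hr.snd a)) a a := by
    rw [ht']
    exact hr.isPullback a
  haveI hsfin : IsFinite (hr.snd a).left := hf.property a _ _ sq
  haveI hset : Etale (hr.snd a).left := he.property a _ _ sq
  haveI htet : Etale t'.left := he.property a _ _ sq.flip
  have hkey : Points.ofPt a ⁻¹' (Points.ofPt a '' T) = (hr.snd a).left '' (t'.left ⁻¹' T) := by
    have h1 : Points.ofPt a '' T = Points.map a '' (Points.ofScheme U '' T) := by
      rw [Set.image_image]
      exact Set.image_congr fun u _ => Points.ofPt_eq_map_ofScheme a u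
    rw [h1, Groth.Agent.H52.ofPt_preimage_image sq]
    congr 1
    ext r
    simp only [Set.mem_preimage, ofPt_yon_map_eq]
    constructor
    · rintro ⟨u, hu, hur⟩
      have := (Points.schemeEquiv U).injective hur
      exact this ▸ hu
    · intro h
      exact ⟨_, h, rfl⟩
  have hZ : IsClosed (t'.left ⁻¹' T) := hT.preimage t'.left.continuous
  have hint : (interior ((hr.snd a).left '' (t'.left ⁻¹' T))).Nonempty := by
    obtain ⟨u, huT, hu⟩ := interior_subset hx
    have hsub : Points.ofPt a ⁻¹' interior (Points.ofPt a '' T) ⊆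
        (hr.snd a).left '' (t'.left ⁻¹' T) := by
      rw [← hkey]
      exact Set.preimage_mono interior_subset
    have hmem : u ∈ Points.ofPt a ⁻¹' interior (Points.ofPt a '' T) := by
      rw [Set.mem_preimage, hu]
      exact hx
    exact ⟨u, interior_maximal hsub (isOpen_interior.preimage (Points.continuous_ofPt a)) hmem⟩
  have hZi : (interior (t'.left ⁻¹' T)).Nonempty := by
    by_contra h
    rw [Set.not_nonempty_iff_eq_empty] at h
    rw [interior_image_eq_empty_of_finite_etale (hr.snd a).left _ hZ h] at hint
    exact Set.not_nonempty_empty hint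
  obtain ⟨z, hz⟩ := hZi
  have hopen : IsOpenMap t'.left := t'.left.isOpenMap
  have hsub : t'.left '' interior (t'.left ⁻¹' T) ⊆ T := by
    rintro _ ⟨r, hr', rfl⟩
    have hr'' : r ∈ t'.left ⁻¹' T := interior_subset hr'
    exact hr''
  have : t'.left z ∈ interior T := interior_maximal hsub (hopen _ isOpen_interior) ⟨z, hz, rfl⟩
  rw [hTi] at this
  exact this

/-- If an algebraic space (or any sheaf) has a finite étale surjective chart from a scheme, then it has a dense
open subspace which is a scheme. -/
theorem exists_dense_open_scheme_of_finite_etale {X : Sp S} {U : Over S} (a : (yon S).obj U ⟶ X)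
    (hf : RepWith @IsFinite a) (he : RepWith @Etale a) (hs : RepWith @Surjective a) :
    ∃ V' : Set (Points X), IsOpen V' ∧ Dense V' ∧ (openSub X V').obj.IsRepresentable := by
  obtain ⟨W, hWd, hWfa⟩ := exists_dense_open_finAff U.left
  have ha₀ : RepWith @IsOpenImmersion ((yon S).map (Groth.Agent.H52.overOpenι U W)) :=
    (repWith_yon_map_iff _ _).2 (inferInstance : IsOpenImmersion W.ι)
  have hflf : RepWith finLocFree a := by
    refine ⟨hf.rep, fun T V g fst snd sq => ?_⟩
    have h1 : IsFinite snd.left := hf.property g fst snd sq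
    have h2 : Etale snd.left := he.property g fst snd sq
    exact ⟨h1, (inferInstance : Flat snd.left), (inferInstance : LocallyOfFinitePresentation snd.left)⟩
  obtain ⟨hV, hrep⟩ := representable_openSub_of_finLocFree a hflf hs
    ((yon S).map (Groth.Agent.H52.overOpenι U W)) ha₀ hWfa
  refine ⟨_, hV, ?_, hrep⟩
  rw [← interior_eq_empty_iff_dense_compl]
  have himg : Points.map a '' (Set.range (Points.ofPt ((yon S).map (Groth.Agent.H52.overOpenι U W))))ᶜ =
      Points.ofPt a '' ((W : Set ↥U.left)ᶜ) := by
    ext x
    constructor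
    · rintro ⟨ξ, hξ, rfl⟩
      obtain ⟨u, rfl⟩ := (Points.schemeEquiv U).surjective ξ
      refine ⟨u, fun hu => ?_, Points.ofPt_eq_map_ofScheme a u⟩
      obtain ⟨w, hw⟩ : ∃ w : ↥(Groth.Agent.H52.overOpen U W).left,
        (Groth.Agent.H52.overOpenι U W).left w = u := ⟨⟨u, hu⟩, rfl⟩
      refine hξ ⟨w, ?_⟩
      rw [ofPt_yon_map_eq, hw]
      rfl
    · rintro ⟨u, hu, rfl⟩
      refine ⟨Points.ofScheme U u, ?_, (Points.ofPt_eq_map_ofScheme a u).symm⟩
      rintro ⟨w, hw⟩
      rw [ofPt_yon_map_eq] at hw
      have := (Points.schemeEquiv U).injective hw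
      exact hu (this ▸ w.2)
  rw [himg]
  refine interior_ofPt_image_eq_empty a hf he _ W.2.isClosed_compl ?_
  rw [interior_eq_empty_iff_dense_compl, compl_compl]
  exact hWd

end Groth.Agent.Lib.Helper54
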