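import Groth.Agent.Lib.Helper54.FinEtaleDense
import Groth.Agent.H53.ZarGlueMax
import Groth.Agent.H52.DimLocal
import Groth.Agent.S7386

/-!
# The schematic locus of the target of a finite étale chart from a quasi-separated scheme (helper54)
-/

set_option autoImplicit false
set_option linter.style.haveILetI false
universe u
open CategoryTheory CategoryTheory.Limits AlgebraicGeometry

namespace Groth.Agent.Lib.Helper54
open AlgSp

variable {S : Scheme.{u}}

theorem image_compl_range_overOpen {X : Sp S} {U : Over S} (a : (yon S).obj U ⟶ X) (W : U.left.Opens) :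
    Points.map a '' (Set.range (Points.ofPt ((yon S).map (Groth.Agent.H52.overOpenι U W))))ᶜ =
      Points.ofPt a '' ((W : Set ↥U.left)ᶜ) := by
  ext x
  constructor
  · rintro ⟨ξ, hξ, rfl⟩
    obtain ⟨u, rfl⟩ := (Points.schemeEquiv U).surjective ξ
    refine ⟨u, fun hu => ?_, Points.ofPt_eq_map_ofScheme a u⟩
    obtain ⟨w, hw⟩ : ∃ w : ↥(Groth.Agent.H52.overOpen U W).left,
      (Groth.Agent.H52.overOpenι U W).left w = u := ⟨⟨u, hu⟩, rfl⟩
    refine hξ ⟨w, ?_⟩
    rw [ofPt_yon_map_eq, hw]
    rfl
  · rintro ⟨u, hu, rfl⟩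
    refine ⟨Points.ofScheme U u, ?_, (Points.ofPt_eq_map_ofScheme a u).symm⟩
    rintro ⟨w, hw⟩
    rw [ofPt_yon_map_eq] at hw
    have := (Points.schemeEquiv U).injective hw
    exact hu (this ▸ w.2)

/-- An open subspace which is a scheme lies in the schematic locus. -/
theorem subset_schematicLocus_of_representable {X : Sp S} (V' : Set (Points X)) (hV : IsOpen V')
    (hrep : (openSub X V').obj.IsRepresentable) : V' ⊆ Groth.Agent.H53.ZarGlue.schematicLocus X := by
  have hM : (RepWith (S := S) @IsOpenImmersion).IsMultiplicative := repWith_isMultiplicative _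
  obtain ⟨⟨M, ⟨r⟩⟩⟩ := hrep
  obtain ⟨e, -⟩ : ∃ e : (yon S).obj M ≅ openSub X V', e = isoOfRepresentableBy r := ⟨_, rfl⟩
  have he : RepWith @IsOpenImmersion e.hom := MorphismProperty.of_isIso _ e.hom
  intro x hx
  refine ⟨M, e.hom ≫ openSubι X V', (RepWith (S := S) @IsOpenImmersion).comp_mem _ _ he
    (repWith_isOpenImmersion_openSubι X V' hV), ?_⟩
  rw [← range_points_map_openSubι X V'] at hx
  obtain ⟨ξ, rfl⟩ := hx
  refine ⟨Points.map e.inv ξ, ?_⟩
  rw [← Points.map_comp, ← Category.assoc, e.inv_hom_id, Category.id_comp]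

/-- The fibres of a finite chart are finite. -/
theorem finite_fibre_of_finite {X : Sp S} {U : Over S} (a : (yon S).obj U ⟶ X)
    (hf : RepWith @IsFinite a) (u₀ : ↥U.left) :
    (Points.ofPt a ⁻¹' {Points.ofPt a u₀}).Finite := by
  have hr := hf.rep
  obtain ⟨t', ht'⟩ := (yon S).map_surjective (hr.fst a)
  have sq : IsPullback ((yon S).map t') ((yon S).map (hr.snd a)) a a := by
    rw [ht']
    exact hr.isPullback a
  haveI htfin : IsFinite t'.left := hf.property a _ _ sq.flip
  have h1 : ({Points.ofPt a u₀} : Set (Points X)) = Points.map a '' {Points.ofScheme U u₀} := by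
    rw [Set.image_singleton, Points.ofPt_eq_map_ofScheme]
  rw [h1, Groth.Agent.H52.ofPt_preimage_image sq]
  refine Set.Finite.image _ ?_
  have h2 : Points.ofPt ((yon S).map t') ⁻¹' {Points.ofScheme U u₀} = t'.left ⁻¹' {u₀} := by
    ext r
    simp only [Set.mem_preimage, Set.mem_singleton_iff, ofPt_yon_map_eq]
    exact ⟨fun h => (Points.schemeEquiv U).injective h, fun h => congrArg _ h⟩
  rw [h2]
  exact Scheme.Hom.finite_preimage_singleton t'.left u₀

/-- The dimension of the local ring at a point of an étale chart only depends on the image point. -/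
theorem ringKrullDim_stalk_eq_zero_of_hasAt {X : Sp S} {U : Over S} (a : (yon S).obj U ⟶ X)
    (he : RepWith @Etale a) (u : ↥U.left)
    (hx : HasAt (fun U u => ringKrullDim ↥(U.presheaf.stalk u) = 0) X (Points.ofPt a u)) :
    ringKrullDim ↥(U.left.presheaf.stalk u) = 0 := by
  obtain ⟨V, b, v, hb, hbv, hdim⟩ := hx
  obtain ⟨W, k, k', w, hk, hk', hkw, hk'w, -⟩ :=
    Groth.Agent.H52.exists_common_refinement b a hb he v u hbv
  haveI := hk
  haveI := hk'
  have h1 := Groth.Agent.H52.ringKrullDim_stalk_eq_of_etale k.left w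
  have h2 := Groth.Agent.H52.ringKrullDim_stalk_eq_of_etale k'.left w
  rw [hkw] at h1
  rw [hk'w] at h2
  rw [← h2, h1, hdim]

/-- A point whose local ring has dimension zero is the generic point of an irreducible component. -/
theorem closure_singleton_mem_irreducibleComponents_of_dim_zero {X : Scheme.{u}} (η : X)
    (h : ringKrullDim ↥(X.presheaf.stalk η) = 0) :
    closure ({η} : Set X) ∈ irreducibleComponents (X : Type u) := by
  rw [ringKrullDim_stalk_eq_coheight] at h
  have h0 : Order.coheight η = 0 := by exact_mod_cast h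
  have hmax : IsMax η := Order.coheight_eq_zero.1 h0
  refine ⟨isIrreducible_singleton.closure, fun t ht hle => ?_⟩
  obtain ⟨ζ, hζ⟩ := QuasiSober.sober ht.closure isClosed_closure
  have hη : η ∈ closure ({ζ} : Set X) := by
    rw [hζ.def]
    exact subset_closure (hle (subset_closure rfl))
  have h1 : ζ ⤳ η := specializes_iff_mem_closure.2 hη
  have h2 : η ⤳ ζ := hmax (show η ≤ ζ from h1)
  intro y hy
  have hy' : y ∈ closure ({ζ} : Set X) := by
    rw [hζ.def]
    exact subset_closure hy
  exact specializes_iff_mem_closure.1 (h2.trans (specializes_iff_mem_closure.2 hy'))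

/-- If `h_U ⟶ X` is finite étale surjective with `U` quasi-separated, every codimension `0` point of `X` lies in
the schematic locus. -/
theorem codim_zero_mem_schematicLocus {X : Sp S} {U : Over S} (a : (yon S).obj U ⟶ X)
    (hf : RepWith @IsFinite a) (he : RepWith @Etale a) (hs : RepWith @Surjective a)
    [QuasiSeparatedSpace ↥U.left] (x : Points X)
    (hx : HasAt (fun U u => ringKrullDim ↥(U.presheaf.stalk u) = 0) X x) :
    x ∈ Groth.Agent.H53.ZarGlue.schematicLocus X := by
  obtain ⟨ξ, rfl⟩ := Groth.Agent.H52.surjective_points_of_repWith_surjective a hs x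
  obtain ⟨u₀, rfl⟩ := (Points.schemeEquiv U).surjective ξ
  have hx' : HasAt (fun U u => ringKrullDim ↥(U.presheaf.stalk u) = 0) X (Points.ofPt a u₀) := by
    rw [Points.ofPt_eq_map_ofScheme]
    exact hx
  have hfin := finite_fibre_of_finite a hf u₀
  obtain ⟨n, η, hη⟩ := hfin.fin_embedding
  have hηmem : ∀ i, Points.ofPt a (η i) = Points.ofPt a u₀ := by
    intro i
    have : η i ∈ Points.ofPt a ⁻¹' {Points.ofPt a u₀} := hη ▸ ⟨i, rfl⟩
    exact this
  have hηc : ∀ i, closure ({η i} : Set ↥U.left) ∈ irreducibleComponents (↥U.left) := by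
    intro i
    refine closure_singleton_mem_irreducibleComponents_of_dim_zero (η i) ?_
    exact ringKrullDim_stalk_eq_zero_of_hasAt a he (η i) (by rw [hηmem i]; exact hx')
  obtain ⟨A, hA, -, hAη⟩ := Groth.Agent.S7386.result U.left η hηc u₀
  have hflf : RepWith finLocFree a := by
    refine ⟨hf.rep, fun T V g fst snd sq => ?_⟩
    have h1 : IsFinite snd.left := hf.property g fst snd sq
    have h2 : Etale snd.left := he.property g fst snd sq
    exact ⟨h1, (inferInstance : Flat snd.left), (inferInstance : LocallyOfFinitePresentation snd.left)⟩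
  have ha₀ : RepWith @IsOpenImmersion ((yon S).map (Groth.Agent.H52.overOpenι U A)) :=
    (repWith_yon_map_iff _ _).2 (inferInstance : IsOpenImmersion A.ι)
  haveI : IsAffine (Groth.Agent.H52.overOpen U A).left := hA
  obtain ⟨hV, hrep⟩ := representable_openSub_of_finLocFree a hflf hs
    ((yon S).map (Groth.Agent.H52.overOpenι U A)) ha₀ (finAff_of_isAffine _)
  refine subset_schematicLocus_of_representable _ hV hrep ?_
  rw [image_compl_range_overOpen]
  change Points.map a (Points.ofScheme U u₀) ∈ _
  rw [← Points.ofPt_eq_map_ofScheme]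
  rintro ⟨u, hu, huu₀⟩
  have : u ∈ Set.range η := by
    rw [hη]
    exact huu₀
  obtain ⟨i, rfl⟩ := this
  exact hu (hAη i)

end Groth.Agent.Lib.Helper54
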