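import Groth.Agent.Lib.Helper54.DegStrata
import Groth.Agent.Lib.Helper54.FinEtaleDense
import Groth.Agent.Lib.Helper54.SchematicLocusFE
import Groth.Agent.Lib.Helper54.QSepSchematic
import Groth.Agent.H52.Descent
import Groth.Agent.H52.OpenSub
import Groth.Agent.H53.SpTop

/-!
# Spaces with an étale chart with bounded fibres have a dense schematic locus (helper54)
-/

set_option autoImplicit false
set_option backward.isDefEq.respectTransparency false
set_option linter.style.haveILetI false
universe u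
open CategoryTheory CategoryTheory.Limits AlgebraicGeometry
open AlgSp

namespace Groth.Agent.Lib.Helper54

open Groth.Agent.H52 (overOpen overOpenι)
open Groth.Agent.H53.ZarGlue (schematicLocus)

variable {S : Scheme.{u}}

/-- The restriction of a morphism over `S` over an open subset of its target. -/
noncomputable def overRestrict {R U : Over S} (s : R ⟶ U) (V : U.left.Opens) :
    overOpen R (s.left ⁻¹ᵁ V) ⟶ overOpen U V :=
  Over.homMk (s.left ∣_ V) (by
    change (s.left ∣_ V) ≫ V.ι ≫ U.hom = (s.left ⁻¹ᵁ V).ι ≫ R.hom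
    rw [← Category.assoc, morphismRestrict_ι, Category.assoc, Over.w])

theorem overRestrict_left {R U : Over S} (s : R ⟶ U) (V : U.left.Opens) :
    (overRestrict s V).left = s.left ∣_ V := rfl

theorem isPullback_overRestrict {R U : Over S} (s : R ⟶ U) (V : U.left.Opens) :
    IsPullback ((yon S).map (overOpenι R (s.left ⁻¹ᵁ V))) ((yon S).map (overRestrict s V))
      ((yon S).map s) ((yon S).map (overOpenι U V)) := by
  refine isPullback_yon_of_isPullback_left' ?_ ?_
  · ext
    change (s.left ⁻¹ᵁ V).ι ≫ s.left = (s.left ∣_ V) ≫ V.ι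
    rw [morphismRestrict_ι]
  · exact (isPullback_morphismRestrict s.left V).flip

/-- The kernel pair of the restriction of a chart to an open subscheme, in terms of the kernel pair of the chart. -/
theorem exists_kernelPair_restrict {X : Sp S} {U R : Over S} (a : (yon S).obj U ⟶ X) (ha : RepWith @Etale a)
    (s t : R ⟶ U) (sq : IsPullback ((yon S).map t) ((yon S).map s) a a) (O : U.left.Opens) {R'' : Over S}
    (s'' t'' : R'' ⟶ overOpen U O)
    (sq'' : IsPullback ((yon S).map t'') ((yon S).map s'') ((yon S).map (overOpenι U O) ≫ a)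
      ((yon S).map (overOpenι U O) ≫ a)) :
    ∃ (R₁ : Over S) (s₁ : R₁ ⟶ overOpen U O) (k₁ : R₁ ⟶ R) (k₂ : R'' ⟶ R₁),
      IsPullback k₁.left s₁.left s.left O.ι ∧ IsOpenImmersion k₂.left ∧ k₂ ≫ s₁ = s'' := by
  have hr := ha.rep
  have sq₁ := hr.isPullback ((yon S).map (overOpenι U O) ≫ a)
  obtain ⟨t₁, ht₁⟩ := (yon S).map_surjective (hr.fst ((yon S).map (overOpenι U O) ≫ a))
  rw [← ht₁] at sq₁
  obtain ⟨s₁, hs₁⟩ : ∃ s₁, s₁ = hr.snd ((yon S).map (overOpenι U O) ≫ a) := ⟨_, rfl⟩
  rw [← hs₁] at sq₁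
  -- step 1
  obtain ⟨k₁, hk₁⟩ := (yon S).map_surjective (sq.lift ((yon S).map t₁)
    ((yon S).map s₁ ≫ (yon S).map (overOpenι U O)) (by rw [Category.assoc]; exact sq₁.w))
  have hk₁t : (yon S).map k₁ ≫ (yon S).map t = (yon S).map t₁ := by rw [hk₁, sq.lift_fst]
  have hk₁s : (yon S).map k₁ ≫ (yon S).map s = (yon S).map s₁ ≫ (yon S).map (overOpenι U O) := by
    rw [hk₁, sq.lift_snd]
  have sqk₁ : IsPullback ((yon S).map k₁) ((yon S).map s₁) ((yon S).map s)
      ((yon S).map (overOpenι U O)) := by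
    refine IsPullback.of_right ?_ hk₁s sq
    rw [hk₁t]
    exact sq₁
  -- step 2
  obtain ⟨k₂, hk₂⟩ := (yon S).map_surjective (sq₁.lift ((yon S).map t'' ≫ (yon S).map (overOpenι U O))
    ((yon S).map s'') (by rw [Category.assoc]; exact sq''.w))
  have hk₂t : (yon S).map k₂ ≫ (yon S).map t₁ = (yon S).map t'' ≫ (yon S).map (overOpenι U O) := by
    rw [hk₂, sq₁.lift_fst]
  have hk₂s : (yon S).map k₂ ≫ (yon S).map s₁ = (yon S).map s'' := by rw [hk₂, sq₁.lift_snd]
  have sqk₂ : IsPullback ((yon S).map t'') ((yon S).map k₂) ((yon S).map (overOpenι U O))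
      ((yon S).map t₁) := by
    refine IsPullback.of_bot ?_ hk₂t.symm sq₁
    rw [hk₂s]
    exact sq''
  refine ⟨_, s₁, k₁, k₂, Groth.Agent.H52.isPullback_left_of_isPullback_yon sqk₁, ?_, ?_⟩
  · have h := Groth.Agent.H52.isPullback_left_of_isPullback_yon sqk₂
    exact MorphismProperty.of_isPullback (P := @IsOpenImmersion) h (inferInstance : IsOpenImmersion O.ι)
  · apply (yon S).map_injective
    rw [Functor.map_comp, hk₂s]

/-- The kernel pair of the restriction of a chart to an open subscheme missing a degree stratum has smaller fibres. -/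
theorem exists_kernelPair_fibBound_restrict {X : Sp S} {U R : Over S} (a : (yon S).obj U ⟶ X)
    (ha : RepWith @Etale a) (s t : R ⟶ U) (sq : IsPullback ((yon S).map t) ((yon S).map s) a a)
    [IsSeparated s.left] (O : U.left.Opens) (n : ℕ)
    (hdisj : ∀ o : ↥(O : Scheme.{u}), O.ι o ∉ degGE s.left (n + 1)) :
    ∃ (R'' : Over S) (s'' t'' : R'' ⟶ overOpen U O),
      IsPullback ((yon S).map t'') ((yon S).map s'') ((yon S).map (overOpenι U O) ≫ a)
        ((yon S).map (overOpenι U O) ≫ a) ∧ IsSeparated s''.left ∧ FibBound s''.left n := by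
  have hE : (RepWith (S := S) @Etale).IsMultiplicative := repWith_isMultiplicative _
  have ha' : RepWith @Etale ((yon S).map (overOpenι U O) ≫ a) :=
    (RepWith (S := S) @Etale).comp_mem _ _ (Groth.Agent.H52.repWith_etale_overOpenι U O) ha
  obtain ⟨R'', t'', s'', sq''⟩ : ∃ (R'' : Over S) (t'' s'' : R'' ⟶ overOpen U O),
      IsPullback ((yon S).map t'') ((yon S).map s'') ((yon S).map (overOpenι U O) ≫ a)
        ((yon S).map (overOpenι U O) ≫ a) := by
    have hr' := ha'.rep
    obtain ⟨t'', ht''⟩ := (yon S).map_surjective (hr'.fst ((yon S).map (overOpenι U O) ≫ a))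
    exact ⟨_, t'', hr'.snd _, ht'' ▸ hr'.isPullback _⟩
  obtain ⟨R₁, s₁, k₁, k₂, sqk₁, hk₂, hk₂s⟩ := exists_kernelPair_restrict a ha s t sq O s'' t'' sq''
  haveI := hk₂
  have hs₁sep : IsSeparated s₁.left :=
    MorphismProperty.of_isPullback (P := @IsSeparated) sqk₁ inferInstance
  have hs''eq : s''.left = k₂.left ≫ s₁.left := by rw [← hk₂s]; rfl
  refine ⟨R'', s'', t'', sq'', by rw [hs''eq]; infer_instance, ?_⟩
  apply FibBound.of_degGE_eq_empty
  rw [Set.eq_empty_iff_forall_notMem]
  intro o ho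
  rw [hs''eq] at ho
  have h1 := degGE_comp_openImmersion_subset k₂.left s₁.left (n + 1) ho
  rw [degGE_of_isPullback sqk₁ (n + 1)] at h1
  exact hdisj o h1

/-- If an étale chart of `X` has a separated kernel pair whose field-valued fibres are bounded, then every nonempty open
subset of its image meets the schematic locus of `X`. -/
theorem exists_mem_schematicLocus_of_fibBound (n : ℕ) : ∀ {X : Sp S} {U R : Over S}
    (a : (yon S).obj U ⟶ X) (_ : RepWith @Etale a) (s t : R ⟶ U)
    (_ : IsPullback ((yon S).map t) ((yon S).map s) a a) [IsSeparated s.left], FibBound s.left n →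
    ∀ W : Set (Points X), IsOpen W → W.Nonempty → W ⊆ Set.range (Points.ofPt a) →
      (W ∩ schematicLocus X).Nonempty := by
  induction n with
  | zero =>
    intro X U R a ha s t sq _ hb W hW hWne hsub
    have hR := hb.isEmpty_of_zero
    obtain ⟨w, hw⟩ := hWne
    obtain ⟨u, -⟩ := hsub hw
    obtain ⟨δ, -⟩ := (yon S).map_surjective (sq.lift (𝟙 _) (𝟙 _) rfl)
    exact (hR.false (δ.left u)).elim
  | succ n ih =>
    intro X U R a ha s t sq _ hb W hW hWne hsub
    have hE : (RepWith (S := S) @Etale).IsMultiplicative := repWith_isMultiplicative _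
    haveI : (RepWith (S := S) @Etale).IsStableUnderBaseChange := repWith_isStableUnderBaseChange _
    haveI : Etale s.left := ha.property a _ _ sq
    let V : U.left.Opens := ⟨degGE s.left (n + 1), isOpen_degGE (n + 1) s.left⟩
    by_cases hcase : ∃ u ∈ V, Points.ofPt a u ∈ W
    · obtain ⟨u₀, hu₀V, hu₀W⟩ := hcase
      obtain ⟨aV, haVdef⟩ : ∃ aV : (yon S).obj (overOpen U V) ⟶ X,
        aV = (yon S).map (overOpenι U V) ≫ a := ⟨_, rfl⟩
      have haV : RepWith @Etale aV := by
        rw [haVdef]
        exact (RepWith (S := S) @Etale).comp_mem _ _ (Groth.Agent.H52.repWith_etale_overOpenι U V) ha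
      obtain ⟨j₁, hj₁def⟩ : ∃ j₁ : Sheaf.image aV ⟶ X, j₁ = Sheaf.imageι aV := ⟨_, rfl⟩
      obtain ⟨c, hcdef⟩ : ∃ c : (yon S).obj (overOpen U V) ⟶ Sheaf.image aV, c = Sheaf.toImage aV :=
        ⟨_, rfl⟩
      have hcj : c ≫ j₁ = aV := by rw [hcdef, hj₁def]; exact Sheaf.toImage_ι aV
      have hj₁ : RepWith @IsOpenImmersion j₁ := by
        rw [hj₁def]; exact Groth.Agent.H52.repWith_isOpenImmersion_imageι aV haV
      have hce : RepWith @Etale c := by rw [hcdef]; exact Groth.Agent.H52.repWith_etale_toImage aV haV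
      have hcs : RepWith @Surjective c := by
        rw [hcdef]; exact Groth.Agent.H52.repWith_surjective_toImage aV haV
      have hrange : Set.range (Points.map j₁) = Set.range (Points.ofPt aV) := by
        rw [hj₁def]; exact Groth.Agent.H52.range_points_map_imageι aV haV
      have hjr := hj₁.rep
      have sq₁ := hjr.isPullback a
      obtain ⟨a₁, ha₁def⟩ : ∃ a₁, a₁ = hjr.fst a := ⟨_, rfl⟩
      obtain ⟨k, hkdef⟩ : ∃ k, k = hjr.snd a := ⟨_, rfl⟩
      rw [← ha₁def, ← hkdef] at sq₁
      have ha₁e : RepWith @Etale a₁ :=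
        MorphismProperty.of_isPullback (P := RepWith (S := S) @Etale) sq₁.flip ha
      have ha₁s : RepWith @Surjective a₁ := by
        refine Groth.Agent.H52.repWith_surjective_of_surjective_points a₁ ha₁e.rep ?_
        intro ξ
        have h1 : Points.map j₁ ξ ∈ Set.range (Points.ofPt aV) := by
          rw [← hrange]; exact ⟨ξ, rfl⟩
        obtain ⟨v, hv⟩ := h1
        have h2 : Points.map a (Points.ofScheme U ((overOpenι U V).left v)) = Points.map j₁ ξ := by
          rw [← Points.ofPt_eq_map_ofScheme, ← Groth.Agent.H52.ofPt_yon_map_comp, ← haVdef, hv]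
        obtain ⟨p, hp1, -⟩ := Groth.Agent.H52.exists_point_of_isPullback sq₁ ξ (Points.ofScheme U _) h2.symm
        exact ⟨p, hp1⟩
      have sqRV := isPullback_overRestrict s V
      have big := sqRV.paste_horiz sq
      have hfinV : IsFinite (s.left ∣_ V) := isFinite_morphismRestrict_degGE (n + 1) s.left hb V rfl
      have hsVfin : RepWith @IsFinite ((yon S).map (overRestrict s V)) :=
        (repWith_yon_map_iff @IsFinite _).2 hfinV
      have hw : ((yon S).map (overOpenι R (s.left ⁻¹ᵁ V)) ≫ (yon S).map t) ≫ a =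
          ((yon S).map (overRestrict s V) ≫ c) ≫ j₁ := by
        rw [Category.assoc ((yon S).map (overRestrict s V)), hcj, haVdef]
        exact big.w
      obtain ⟨p, hpdef⟩ : ∃ p, p = sq₁.flip.lift _ _ hw := ⟨_, rfl⟩
      have hp1 : p ≫ (yon S).map k = (yon S).map (overOpenι R (s.left ⁻¹ᵁ V)) ≫ (yon S).map t := by
        rw [hpdef]; exact sq₁.flip.lift_fst _ _ _
      have hp2 : p ≫ a₁ = (yon S).map (overRestrict s V) ≫ c := by
        rw [hpdef]; exact sq₁.flip.lift_snd _ _ _
      have sqF : IsPullback p ((yon S).map (overRestrict s V)) a₁ c := by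
        refine IsPullback.of_right ?_ hp2 sq₁.flip
        rw [hp1, hcj, haVdef]
        exact big
      have hdesc := Groth.Agent.Lib.Helper1.descendsAlong_isFinite_fpqc.{u}
      have ha₁f : RepWith @IsFinite a₁ :=
        Groth.Agent.H52.repWith_of_etale_surjective_base_change @IsFinite sqF ha₁e.rep hce hcs hsVfin
      obtain ⟨V', hV'o, hV'd, hV'rep⟩ := exists_dense_open_scheme_of_finite_etale a₁ ha₁f ha₁e ha₁s
      have hWo : IsOpen (Points.map j₁ ⁻¹' W) := hW.preimage (Points.continuous_map j₁)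
      have hWne₁ : (Points.map j₁ ⁻¹' W).Nonempty := by
        refine ⟨Points.map c (Points.ofScheme (overOpen U V) ⟨u₀, hu₀V⟩), ?_⟩
        rw [Set.mem_preimage, ← Points.map_comp, hcj, ← Points.ofPt_eq_map_ofScheme, haVdef,
          Groth.Agent.H52.ofPt_yon_map_comp]
        exact hu₀W
      obtain ⟨ξ₁, hξW, hξV'⟩ := hV'd.inter_open_nonempty _ hWo hWne₁
      exact ⟨Points.map j₁ ξ₁, hξW, schematicLocus_of_openImmersion j₁ hj₁ ξ₁
        (subset_schematicLocus_of_representable V' hV'o hV'rep hξV')⟩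
    · push Not at hcase
      let O : U.left.Opens := ⟨Points.ofPt a ⁻¹' W, hW.preimage (Points.continuous_ofPt a)⟩
      have ha' : RepWith @Etale ((yon S).map (overOpenι U O) ≫ a) :=
        (RepWith (S := S) @Etale).comp_mem _ _ (Groth.Agent.H52.repWith_etale_overOpenι U O) ha
      obtain ⟨R'', s'', t'', sq'', hsep'', hb''⟩ := exists_kernelPair_fibBound_restrict a ha s t sq O n
        (fun o ho => hcase (O.ι o) ho o.2)
      haveI := hsep''
      refine ih _ ha' s'' t'' sq'' hb'' W hW hWne ?_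
      intro w hw
      obtain ⟨u, rfl⟩ := hsub hw
      exact ⟨⟨u, hw⟩, Groth.Agent.H52.ofPt_yon_map_comp (overOpenι U O) a _⟩

end Groth.Agent.Lib.Helper54
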