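import Mathlib.AlgebraicGeometry.Morphisms.Flat
import Mathlib.AlgebraicGeometry.Morphisms.ClosedImmersion
import Mathlib.AlgebraicGeometry.IdealSheaf.Functorial

/-!
# Flat base change of scheme-theoretic images, affine case (helper54)

For a morphism of affine schemes `h : U ⟶ Z`, a flat morphism of affine schemes `c : W ⟶ Z`, and a
closed subscheme `v : V' ⟶ W` through which the base change `U ×_Z W ⟶ W` factors via a flat
surjective morphism, `V'` is the base change of the scheme-theoretic image of `h`.
-/

set_option autoImplicit false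
universe u
open CategoryTheory CategoryTheory.Limits AlgebraicGeometry

namespace Groth.Agent.Lib.Helper54

open TensorProduct in
/-- In a pushout square of commutative rings with `f` injective and `g` flat, `inr` is injective. -/
theorem injective_inr_of_isPushout_of_flat {R A B P : CommRingCat.{u}} {f : R ⟶ A} {g : R ⟶ B}
    {inl : A ⟶ P} {inr : B ⟶ P} (h : IsPushout f g inl inr) (hf : Function.Injective f.hom)
    (hg : g.hom.Flat) : Function.Injective inr.hom := by
  algebraize [f.hom, g.hom]
  have h' := CommRingCat.isPushout_tensorProduct R A B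
  have hR : (CommRingCat.ofHom (algebraMap R A)) = f := rfl
  have hR' : (CommRingCat.ofHom (algebraMap R B)) = g := rfl
  have e1 : inr ≫ (h.isoIsPushout _ _ h').hom = _ := h.inr_isoIsPushout_hom _ _ h'
  have hinj : Function.Injective
      (CommRingCat.ofHom (Algebra.TensorProduct.includeRight (R := R) (A := A) (B := B)).toRingHom).hom := by
    exact Algebra.TensorProduct.includeRight_injective (R := R) (A := A) (B := B) hf
  have : inr = CommRingCat.ofHom
      (Algebra.TensorProduct.includeRight (R := R) (A := A) (B := B)).toRingHom ≫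
        (h.isoIsPushout _ _ h').inv := by
    rw [Iso.eq_comp_inv]
    exact e1
  rw [this, CommRingCat.hom_comp, RingHom.coe_comp]
  exact (ConcreteCategory.bijective_of_isIso (h.isoIsPushout _ _ h').inv).1.comp hinj

/-- Flat base change preserves injectivity on global sections, for affine schemes. -/
theorem injective_appTop_of_isPullback_of_flat {P X Y Z : Scheme.{u}} {fst : P ⟶ X} {snd : P ⟶ Y}
    {f : X ⟶ Z} {g : Y ⟶ Z} [IsAffine X] [IsAffine Y] [IsAffine Z] (h : IsPullback fst snd f g)
    [Flat g] (hf : Function.Injective f.appTop.hom) : Function.Injective snd.appTop.hom :=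
  injective_inr_of_isPushout_of_flat (isPushout_appTop_of_isPullback h) hf (Scheme.Hom.flat_appTop g)

/-- A morphism to an affine scheme that is injective on global sections has trivial kernel. -/
theorem ker_eq_bot_of_injective_appTop {X Y : Scheme.{u}} (f : X ⟶ Y) [IsAffine Y]
    (hf : Function.Injective f.appTop.hom) : f.ker = ⊥ := by
  rw [Scheme.ker_of_isAffine]
  have : RingHom.ker f.appTop.hom = ⊥ := (RingHom.injective_iff_ker_eq_bot _).1 hf
  rw [this]
  exact map_bot (Scheme.IdealSheafData.equivOfIsAffine (X := Y)).symm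

/-- A flat surjective morphism of affine schemes has trivial kernel. -/
theorem ker_eq_bot_of_flat_of_surjective {X Y : Scheme.{u}} (f : X ⟶ Y) [IsAffine X] [IsAffine Y]
    [Flat f] [Surjective f] : f.ker = ⊥ :=
  ker_eq_bot_of_injective_appTop f
    ((Flat.flat_and_surjective_iff_faithfullyFlat_of_isAffine f).mp ⟨‹_›, ‹_›⟩).injective

/-- If `f` has trivial kernel, then `f ≫ g` and `g` have the same kernel. -/
theorem ker_comp_of_ker_eq_bot {X Y Z : Scheme.{u}} (f : X ⟶ Y) (g : Y ⟶ Z) (hf : f.ker = ⊥) :
    (f ≫ g).ker = g.ker := by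
  rw [Scheme.Hom.ker_comp, hf, Scheme.IdealSheafData.map_bot]

end Groth.Agent.Lib.Helper54

namespace Groth.Agent.Lib.Helper54

/-- The comparison from a base change of the source to the base change of the scheme-theoretic
image. -/
noncomputable def toPullbackImage {U Z W UW : Scheme.{u}} (h : U ⟶ Z) (c : W ⟶ Z) {p1 : UW ⟶ U}
    {p2 : UW ⟶ W} (sqU : IsPullback p1 p2 h c) : UW ⟶ pullback h.imageι c :=
  pullback.lift (p1 ≫ h.toImage) p2 (by rw [Category.assoc, Scheme.Hom.toImage_imageι, sqU.w])

theorem toPullbackImage_snd {U Z W UW : Scheme.{u}} (h : U ⟶ Z) (c : W ⟶ Z) {p1 : UW ⟶ U}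
    {p2 : UW ⟶ W} (sqU : IsPullback p1 p2 h c) :
    toPullbackImage h c sqU ≫ pullback.snd h.imageι c = p2 := pullback.lift_snd _ _ _

theorem toPullbackImage_fst {U Z W UW : Scheme.{u}} (h : U ⟶ Z) (c : W ⟶ Z) {p1 : UW ⟶ U}
    {p2 : UW ⟶ W} (sqU : IsPullback p1 p2 h c) :
    toPullbackImage h c sqU ≫ pullback.fst h.imageι c = p1 ≫ h.toImage := pullback.lift_fst _ _ _

theorem isPullback_toPullbackImage {U Z W UW : Scheme.{u}} (h : U ⟶ Z) (c : W ⟶ Z) {p1 : UW ⟶ U}
    {p2 : UW ⟶ W} (sqU : IsPullback p1 p2 h c) :
    IsPullback p1 (toPullbackImage h c sqU) h.toImage (pullback.fst h.imageι c) := by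
  have right : IsPullback (pullback.snd h.imageι c) (pullback.fst h.imageι c) c h.imageι :=
    (IsPullback.of_hasPullback h.imageι c).flip
  have big : IsPullback (toPullbackImage h c sqU ≫ pullback.snd h.imageι c) p1 c
      (h.toImage ≫ h.imageι) := by
    rw [toPullbackImage_snd, Scheme.Hom.toImage_imageι]
    exact sqU.flip
  exact (IsPullback.of_right big (toPullbackImage_fst h c sqU) right).flip

/-- Flat base change of the scheme-theoretic image in the affine case: a closed subscheme of `W`
receiving a flat surjection from `U ×_Z W` is the base change of the image of `U ⟶ Z`. -/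
theorem exists_iso_pullback_imageι {U Z W UW Vj : Scheme.{u}} [IsAffine U] [IsAffine Z]
    [IsAffine W] (h : U ⟶ Z) (c : W ⟶ Z) [Flat c] {p1 : UW ⟶ U} {p2 : UW ⟶ W}
    (sqU : IsPullback p1 p2 h c) (v : Vj ⟶ W) [IsClosedImmersion v] (u : UW ⟶ Vj) [Flat u]
    [Surjective u] (hu : u ≫ v = p2) :
    ∃ e : Vj ⟶ pullback h.imageι c, IsIso e ∧ e ≫ pullback.snd h.imageι c = v ∧
      u ≫ e = toPullbackImage h c sqU := by
  have hVaff : IsAffine h.image := isAffine_of_isAffineHom h.imageι
  have hVjaff : IsAffine Vj := isAffine_of_isAffineHom v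
  have hUWaff : IsAffine UW := IsAffine.of_isPullback sqU
  have hVWaff : IsAffine (pullback h.imageι c) := inferInstance
  have hinj : Function.Injective h.toImage.appTop.hom :=
    h.toImage_app_injective ⟨⊤, isAffineOpen_top Z⟩
  have hl : (toPullbackImage h c sqU).ker = ⊥ :=
    ker_eq_bot_of_injective_appTop _
      (injective_appTop_of_isPullback_of_flat (isPullback_toPullbackImage h c sqU) hinj)
  have hk1 : p2.ker = (pullback.snd h.imageι c).ker := by
    rw [← toPullbackImage_snd h c sqU]
    exact ker_comp_of_ker_eq_bot _ _ hl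
  have hk2 : p2.ker = v.ker := by
    rw [← hu]
    exact ker_comp_of_ker_eq_bot _ _ (ker_eq_bot_of_flat_of_surjective u)
  have hk : (pullback.snd h.imageι c).ker = v.ker := hk1.symm.trans hk2
  have hiso := IsClosedImmersion.isIso_lift (pullback.snd h.imageι c) v hk
  refine ⟨IsClosedImmersion.lift (pullback.snd h.imageι c) v hk.le, hiso,
    IsClosedImmersion.lift_fac _ _ _, ?_⟩
  rw [← cancel_mono (pullback.snd h.imageι c), Category.assoc, IsClosedImmersion.lift_fac, hu,
    toPullbackImage_snd]

end Groth.Agent.Lib.Helper54
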