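import Groth.Agent.Lib.Helper54.ResiduePair

/-!
# A point whose relation fibre is finite is represented by a monomorphism from the spectrum of a field
-/

set_option autoImplicit false
set_option backward.isDefEq.respectTransparency false
universe u
open AlgebraicGeometry CategoryTheory CategoryTheory.Limits
open AlgSp

namespace Groth.Agent.Lib.Helper54

variable {S : Scheme.{u}}

/-- The morphism `Spec κ(r) ⟶ Spec κ(f r)` over `S` induced by a morphism `f : R ⟶ U` of schemes over `S`. -/
noncomputable def residueMap {R U : Over S} (f : R ⟶ U) (r : ↥R.left) : residuePt R r ⟶ residuePt U (f.left r) :=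
  Over.homMk (Spec.map (f.left.residueFieldMap r)) (by
    change Spec.map (f.left.residueFieldMap r) ≫ U.left.fromSpecResidueField (f.left r) ≫ U.hom =
      R.left.fromSpecResidueField r ≫ R.hom
    rw [← Category.assoc, Scheme.Hom.SpecMap_residueFieldMap_fromSpecResidueField, Category.assoc, Over.w f])

theorem residueMap_comp {R U : Over S} (f : R ⟶ U) (r : ↥R.left) :
    residueMap f r ≫ residueHom U (f.left r) = residueHom R r ≫ f := by
  apply Over.OverMorphism.ext
  exact Scheme.Hom.SpecMap_residueFieldMap_fromSpecResidueField f.left r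

/-- The points of a scheme finite over the spectrum of a field are finitely many. -/
theorem finite_of_isFinite_field {L : Type u} [Field L] {T : Scheme.{u}} (f : T ⟶ Spec (CommRingCat.of L))
    [IsFinite f] : Finite ↥T := by
  have : LocallyQuasiFinite f := inferInstance
  have hfin := f.finite_preimage_singleton (IsLocalRing.closedPoint L)
  have huniv : f ⁻¹' {IsLocalRing.closedPoint L} = Set.univ := by
    ext t
    simp only [Set.mem_preimage, Set.mem_singleton_iff, Set.mem_univ, iff_true]
    exact Subsingleton.elim _ _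
  rw [huniv] at hfin
  exact Set.finite_univ_iff.1 hfin

instance subsingleton_residuePt (T : Over S) (t : ↥T.left) : Subsingleton ↥(residuePt T t).left := by
  change Subsingleton (PrimeSpectrum (T.left.residueField t))
  infer_instance

instance nonempty_residuePt (T : Over S) (t : ↥T.left) : Nonempty ↥(residuePt T t).left := by
  change Nonempty (PrimeSpectrum (T.left.residueField t))
  infer_instance

theorem residueHom_left_apply (T : Over S) (t : ↥T.left) (z : ↥(residuePt T t).left) :
    (residueHom T t).left z = t :=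
  Scheme.fromSpecResidueField_apply _ _

theorem over_comp_left_apply {A B C : Over S} (f : A ⟶ B) (g : B ⟶ C) (a : ↥A.left) :
    (f ≫ g).left a = g.left (f.left a) := rfl

theorem subsingleton_points_residuePt (T : Over S) (t : ↥T.left) :
    Subsingleton (Points ((yon S).obj (residuePt T t))) :=
  (Points.schemeEquiv (residuePt T t)).symm.injective.subsingleton

/-- (1) ⇒ (4): if the fibre of `R = U ×_X U` over a pair of points `(u, u')` of an étale chart with the same image `x` is finite,
then `x` is represented by a monomorphism from the spectrum of a field. -/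
theorem exists_mono_point_of_finite_relation_fibre {X : Sp S} {U : Over S}
    (φ : (yon S).obj U ⟶ X) (hφ : RepWith @Etale φ) (u u' : ↥U.left)
    (he : Points.ofPt φ u = Points.ofPt φ u')
    (hfin : ∀ (R : Over S) (s t : R ⟶ U), IsPullback ((yon S).map t) ((yon S).map s) φ φ →
          {r : ↥R.left | s.left r = u ∧ t.left r = u'}.Finite) :
    ∃ p : FieldPt X, Points.mk p = Points.ofPt φ u ∧ Mono p.toHom := by
  obtain ⟨R, tR, sR, sqR⟩ : ∃ (R : Over S) (tR sR : R ⟶ U),
      IsPullback ((yon S).map tR) ((yon S).map sR) φ φ := by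
    have sqR := hφ.rep.isPullback φ
    obtain ⟨tR, htR⟩ := (yon S).map_surjective (hφ.rep.fst φ)
    rw [← htR] at sqR
    exact ⟨_, tR, _, sqR⟩
  have hfinR := hfin R sR tR sqR
  obtain ⟨r₀, hr₀1, hr₀s⟩ := exists_pt_of_isPullback_yon sqR (Points.ofScheme U u') u (by
    rw [← Points.ofPt_eq_map_ofScheme]; exact he.symm)
  have hr₀t : tR.left r₀ = u' := by
    apply (Points.schemeEquiv U).injective
    change Points.ofScheme U _ = Points.ofScheme U u'
    rw [← Groth.Agent.H52.points_map_ofScheme, ← Points.ofPt_eq_map_ofScheme]; exact hr₀1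
  subst hr₀s hr₀t
  obtain ⟨W, sW, tW, sqW, hsWe, -⟩ := exists_residuePair φ hφ (sR.left r₀) (sR.left r₀)
  obtain ⟨W', sW', tW', sqW', hsW'e, hW'inj⟩ := exists_residuePair φ hφ (tR.left r₀) (sR.left r₀)
  obtain ⟨j, hjinj, hj1, hj2⟩ := hW'inj R sR tR sqR
  -- finiteness of `W'`
  have hW'fin : Finite ↥W'.left := by
    have : Finite ↥{r : ↥R.left | sR.left r = sR.left r₀ ∧ tR.left r = tR.left r₀} := hfinR
    refine Finite.of_injective
      (β := ↥{r : ↥R.left | sR.left r = sR.left r₀ ∧ tR.left r = tR.left r₀})
      (fun w => ⟨j.left w, ?_, ?_⟩) (fun w₁ w₂ h => hjinj (Subtype.ext_iff.1 h))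
    · rw [← over_comp_left_apply, hj2, over_comp_left_apply, residueHom_left_apply]
    · rw [← over_comp_left_apply, hj1, over_comp_left_apply, residueHom_left_apply]
  have hW'cpt : CompactSpace ↥W'.left := Finite.compactSpace
  have hsW'fin : IsFinite sW'.left :=
    Groth.Agent.H53.FieldQuot.isFinite_of_etale_of_compact (k := U.left.residueField (tR.left r₀)) sW'.left
  -- the scheme `T = Spec κ(r₀) ×_{Spec κ(u')} W'`
  have hcompat : (yon S).map (residueMap sR r₀) ≫ (yon S).map (residueHom U (sR.left r₀)) ≫ φ =
      (yon S).map (residueMap tR r₀) ≫ (yon S).map (residueHom U (tR.left r₀)) ≫ φ := by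
    rw [← Category.assoc, ← Functor.map_comp, residueMap_comp, ← Category.assoc, ← Functor.map_comp,
      residueMap_comp, Functor.map_comp, Functor.map_comp, Category.assoc, Category.assoc, sqR.w]
  obtain ⟨T, pT1, pT2, sqT₀⟩ : ∃ (T : Over S) (pT1 : T ⟶ residuePt R r₀) (pT2 : T ⟶ W'),
      IsPullback pT1 pT2 (residueMap tR r₀) sW' := ⟨_, _, _, IsPullback.of_hasPullback _ _⟩
  have sqT := sqT₀.map (yon S)
  have bigT := sqT.flip.paste_horiz sqW'.flip
  rw [← hcompat] at bigT
  have hcomm : ((yon S).map pT1 ≫ (yon S).map (residueMap sR r₀)) ≫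
      (yon S).map (residueHom U (sR.left r₀)) ≫ φ =
      ((yon S).map pT2 ≫ (yon S).map tW') ≫ (yon S).map (residueHom U (sR.left r₀)) ≫ φ := by
    rw [Category.assoc]; exact bigT.w.symm
  obtain ⟨ℓ, hℓ⟩ := (yon S).map_surjective (sqW.lift _ _ hcomm)
  have hℓ1 : (yon S).map ℓ ≫ (yon S).map sW = (yon S).map pT1 ≫ (yon S).map (residueMap sR r₀) := by
    rw [hℓ, sqW.lift_fst]
  have hℓ2 : (yon S).map ℓ ≫ (yon S).map tW = (yon S).map pT2 ≫ (yon S).map tW' := by
    rw [hℓ, sqW.lift_snd]
  have sqℓ : IsPullback ((yon S).map ℓ) ((yon S).map pT1) ((yon S).map sW)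
      ((yon S).map (residueMap sR r₀)) := by
    refine IsPullback.of_right ?_ hℓ1 sqW.flip
    rw [hℓ2]; exact bigT
  -- `T` has finitely many points
  have sqTsch : IsPullback pT1.left pT2.left (residueMap tR r₀).left sW'.left := sqT₀.map (Over.forget S)
  have hpT1fin : IsFinite pT1.left := MorphismProperty.of_isPullback (P := @IsFinite) sqTsch.flip hsW'fin
  have hTfin : Finite ↥T.left := finite_of_isFinite_field (L := R.left.residueField r₀) pT1.left
  -- hence so does `W`
  have hsurj : Function.Surjective ℓ.left := by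
    intro w
    have := subsingleton_points_residuePt U (sR.left r₀)
    obtain ⟨τ', hτ'1, -⟩ := exists_point_of_isPullback sqℓ (Points.ofScheme W w)
      (Points.ofScheme (residuePt R r₀) (Classical.arbitrary _)) (Subsingleton.elim _ _)
    obtain ⟨τ, rfl⟩ := exists_ofScheme_eq T τ'
    refine ⟨τ, ?_⟩
    apply (Points.schemeEquiv W).injective
    change Points.ofScheme W _ = Points.ofScheme W w
    rw [← Groth.Agent.H52.points_map_ofScheme]; exact hτ'1
  have hWfin : Finite ↥W.left := Finite.of_surjective _ hsurj
  have hWcpt : CompactSpace ↥W.left := Finite.compactSpace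
  have hsWfin : IsFinite sW.left :=
    Groth.Agent.H53.FieldQuot.isFinite_of_etale_of_compact (k := U.left.residueField (sR.left r₀)) sW.left
  obtain ⟨k', fk', str', c, m, -, hmono, hm⟩ :=
    Groth.Agent.H53.FieldQuot.exists_mono_of_kernelPair (FieldPt.ofPt φ (sR.left r₀)).str sW tW
      ((yon S).map (residueHom U (sR.left r₀)) ≫ φ) sqW
  refine ⟨Groth.Agent.H53.FieldQuot.fieldPtOfHom str' m, ?_, ?_⟩
  · refine Groth.Agent.H53.FieldQuot.points_mk_eq_of_factor _ (FieldPt.ofPt φ (sR.left r₀)) c ?_
    rw [Groth.Agent.H53.FieldQuot.fieldPtOfHom_toHom, toHom_ofPt']; exact hm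
  · rw [Groth.Agent.H53.FieldQuot.fieldPtOfHom_toHom]; exact hmono

end Groth.Agent.Lib.Helper54
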