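import Groth.Agent.Lib.Helper54.EtaleField
import Groth.Agent.Lib.Helper54.MonoOfFinRel
import Mathlib.AlgebraicGeometry.Morphisms.ClosedImmersion
import Mathlib.AlgebraicGeometry.Morphisms.Preimmersion

/-!
# Monomorphisms from finite étale schemes over a field with closed image points are closed immersions
-/

set_option autoImplicit false
set_option backward.isDefEq.respectTransparency false
universe u
open AlgebraicGeometry CategoryTheory CategoryTheory.Limits Topology

namespace Groth.Agent.Lib.Helper54

/-- A monomorphism from a scheme étale over a field is surjective on stalks. -/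
theorem surjectiveOnStalks_of_mono_of_etale_field {K : Type u} [Field K] {T V : Scheme.{u}}
    (c : T ⟶ Spec (CommRingCat.of K)) [Etale c] (d : T ⟶ V) [Mono d] : SurjectiveOnStalks d := by
  rw [IsZariskiLocalAtSource.iff_of_openCover (P := @SurjectiveOnStalks) (residueCoverOfEtale c)]
  intro t
  change SurjectiveOnStalks (T.fromSpecResidueField t ≫ d)
  have hoi : IsOpenImmersion (T.fromSpecResidueField t) :=
    isOpenImmersion_fromSpecResidueField_of_etale c t
  have hfac : Spec.map (d.residueFieldMap t) ≫ V.fromSpecResidueField (d t) =
      T.fromSpecResidueField t ≫ d := Scheme.Hom.SpecMap_residueFieldMap_fromSpecResidueField d t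
  have hm : Mono (T.fromSpecResidueField t ≫ d) := mono_comp _ _
  have hm2 : Mono (Spec.map (d.residueFieldMap t)) := by
    rw [← hfac] at hm
    exact mono_of_mono _ (V.fromSpecResidueField (d t))
  have hne : Nonempty ↥(Spec (T.residueField t)) := by
    change Nonempty (PrimeSpectrum (T.residueField t)); infer_instance
  have hiso : IsIso (Spec.map (d.residueFieldMap t)) :=
    isIso_of_mono_of_nonempty_of_field (L := V.residueField (d t)) _
  rw [← hfac]
  infer_instance

/-- Lemma S: a monomorphism from a finite étale scheme over a field all of whose image points are closed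
is a closed immersion. -/
theorem isClosedImmersion_of_mono_of_finite_etale_field {K : Type u} [Field K] {T V : Scheme.{u}}
    (c : T ⟶ Spec (CommRingCat.of K)) [Etale c] [Finite ↥T] (d : T ⟶ V) [Mono d]
    (hcl : ∀ t : ↥T, IsClosed ({d t} : Set ↥V)) : IsClosedImmersion d := by
  have hs : SurjectiveOnStalks d := surjectiveOnStalks_of_mono_of_etale_field c d
  have hcm : IsClosedMap d := by
    intro C _
    have : d '' C = ⋃ t ∈ C, {d t} := by
      ext v; simp [eq_comm]
    rw [this]
    exact (Set.toFinite C).isClosed_biUnion fun t _ => hcl t
  have hce : IsClosedEmbedding d :=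
    IsClosedEmbedding.of_continuous_injective_isClosedMap d.continuous d.injective hcm
  exact { toSurjectiveOnStalks := hs, isClosedEmbedding := hce }

end Groth.Agent.Lib.Helper54
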