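import Groth.Agent.Lib.Helper54.ClosedPt
import Groth.Agent.H53.FibrePts5
import Groth.Agent.H53.ZarGlueAff
import Groth.Agent.H53.Decent2
import Groth.Agent.H52.Descent
import Groth.Agent.Lib.Helper1.AffineAndDescent

/-!
# Closed points of decent spaces and closed immersions from spectra of fields
-/

set_option autoImplicit false
set_option backward.isDefEq.respectTransparency false
universe u
open AlgebraicGeometry CategoryTheory CategoryTheory.Limits Topology
open AlgSp

namespace Groth.Agent.Lib.Helper54

variable {S : Scheme.{u}}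

/-- Lemma C0: on an affine étale chart, the base change of a quasi-compact monomorphism `Spec k ⟶ X` all of whose
fibre points are closed is a closed immersion. -/
theorem isClosedImmersion_of_closed_fibre_points {X : Sp S} (p : FieldPt X) (hm : Mono p.toHom)
    (hq : RepWith @QuasiCompact p.toHom) {V T : Over S} (hV : IsAffine V.left) (b : (yon S).obj V ⟶ X)
    (hb : RepWith @Etale b) (c : T ⟶ p.pt) (d : T ⟶ V)
    (sq : IsPullback ((yon S).map c) ((yon S).map d) p.toHom b)
    (hcl : ∀ v : ↥V.left, Points.ofPt b v = Points.mk p → IsClosed ({v} : Set ↥V.left)) :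
    IsClosedImmersion d.left := by
  have he : Etale c.left := Groth.Agent.H53.FibrePts.etale_fst p b hb c d sq
  have hfin : IsFinite c.left :=
    Groth.Agent.H53.FibrePts.finFib_of_repWith_quasiCompact p hq V b hV hb T c d sq
  have hTfin : Finite ↥T.left := finite_of_isFinite_field (L := p.K) c.left
  have h1 : Mono ((yon S).map d) :=
    MorphismProperty.of_isPullback (P := MorphismProperty.monomorphisms (Sp S)) sq
      (MorphismProperty.monomorphisms.infer_property p.toHom)
  have h2 : Mono d := (yon S).mono_of_mono_map h1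
  have h3 : Mono d.left := inferInstance
  have hr := Groth.Agent.H53.FibrePts.range_eq_fibre p b c d sq
  refine isClosedImmersion_of_mono_of_finite_etale_field (K := p.K) c.left d.left (fun t => hcl _ ?_)
  have : d.left t ∈ Points.ofPt b ⁻¹' {Points.mk p} := by rw [← hr]; exact ⟨t, rfl⟩
  exact this

/-- Lemma C: a quasi-compact monomorphism `Spec k ⟶ X` into an algebraic space such that on every affine étale chart
the points of the fibre are closed is (representable by) a closed immersion. -/
theorem repWith_isClosedImmersion_of_closed_fibre_points {X : Sp S} (hX : IsAlgSpace X) (p : FieldPt X)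
    (hm : Mono p.toHom) (hq : RepWith @QuasiCompact p.toHom)
    (hcl : ∀ (V : Over S) (b : (yon S).obj V ⟶ X), IsAffine V.left → RepWith @Etale b →
      ∀ v : ↥V.left, Points.ofPt b v = Points.mk p → IsClosed ({v} : Set ↥V.left)) :
    RepWith @IsClosedImmersion p.toHom := by
  have hrep : Representable p.toHom := hX.representable_from_yon p.toHom
  obtain ⟨U₀, a, hae, has⟩ := hX.atlas
  have sq0 : IsPullback ((yon S).map (hrep.fst' a)) ((yon S).map (hrep.snd a)) p.toHom a :=
    hrep.isPullback' a
  obtain ⟨T, c, d, sq0⟩ : ∃ (T : Over S) (c : T ⟶ p.pt) (d : T ⟶ U₀),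
      IsPullback ((yon S).map c) ((yon S).map d) p.toHom a := ⟨_, _, _, sq0⟩
  have key : IsClosedImmersion d.left := by
    rw [IsZariskiLocalAtTarget.iff_of_iSup_eq_top (P := @IsClosedImmersion)
      (fun W : U₀.left.affineOpens => W.1) (iSup_affineOpens_eq_top _)]
    intro W
    have sqW := Groth.Agent.H53.ZarGlue.isPullback_restrict sq0 W.1
    rw [← Functor.map_comp] at sqW
    have hE : (RepWith (S := S) @Etale).IsMultiplicative := repWith_isMultiplicative _
    have hι : RepWith @Etale ((yon S).map (Groth.Agent.H53.ZarGlue.ovι U₀ W.1)) :=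
      (repWith_yon_map_iff _ _).2 (by change Etale W.1.ι; infer_instance)
    have hb : RepWith @Etale ((yon S).map (Groth.Agent.H53.ZarGlue.ovι U₀ W.1) ≫ a) :=
      MorphismProperty.comp_mem _ _ _ hι hae
    have hWaff : IsAffine (Groth.Agent.H53.ZarGlue.ov U₀ W.1).left := W.2
    exact isClosedImmersion_of_closed_fibre_points p hm hq hWaff _ hb _
      (Groth.Agent.H53.ZarGlue.ovRestrict d W.1) sqW (hcl _ _ hWaff hb)
  have hdesc : MorphismProperty.DescendsAlong @IsClosedImmersion
      (@Surjective ⊓ @Flat ⊓ @QuasiCompact : MorphismProperty Scheme.{u}) :=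
    Groth.Agent.Lib.Helper1.descendsAlong_isClosedImmersion_fpqc
  exact Groth.Agent.H52.repWith_of_etale_surjective_base_change @IsClosedImmersion sq0 hrep hae has
    ((repWith_yon_map_iff _ _).2 key)

/-- Lemma A': the point of a closed immersion `Spec k ⟶ X` is closed. -/
theorem isClosed_singleton_of_repWith_isClosedImmersion {X : Sp S} (hX : IsAlgSpace X) (p : FieldPt X)
    (h : RepWith @IsClosedImmersion p.toHom) : IsClosed ({Points.mk p} : Set (Points X)) := by
  obtain ⟨U₀, a, hae, has⟩ := hX.atlas
  have hquot := Groth.Agent.H53.isQuotientMap_ofPt_of_etale_surjective a hae has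
  rw [← hquot.isClosed_preimage]
  have sq0 : IsPullback ((yon S).map (h.rep.fst' a)) ((yon S).map (h.rep.snd a)) p.toHom a :=
    h.rep.isPullback' a
  rw [← Groth.Agent.H53.FibrePts.range_eq_fibre p a _ _ sq0]
  have : IsClosedImmersion (h.rep.snd a).left := h.property_snd a
  exact (h.rep.snd a).left.isClosedEmbedding.isClosed_range

/-- On a decent space, the points of an étale chart lying over a closed point are closed. -/
theorem isClosed_fibre_point_of_isDecent {X : Sp S} (hdec : IsDecent X) {x : Points X}
    (hx : IsClosed ({x} : Set (Points X))) {V : Over S} (b : (yon S).obj V ⟶ X) (hb : RepWith @Etale b)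
    (v : ↥V.left) (hv : Points.ofPt b v = x) : IsClosed ({v} : Set ↥V.left) := by
  have hΦ : IsClosed (Points.ofPt b ⁻¹' {x}) := hx.preimage (Points.continuous_ofPt b)
  refine isClosed_of_closure_subset fun v' hv' => ?_
  have hs : v ⤳ v' := specializes_iff_mem_closure.2 hv'
  have hv'Φ : v' ∈ Points.ofPt b ⁻¹' {x} := hs.mem_closed hΦ hv
  have : v' = v := Groth.Agent.H53.eq_of_specializes_of_isDecent hdec b hb v' v (hv'Φ.trans hv.symm) hs
  exact this

/-- S10359: closed points of decent spaces are closed immersions. -/
theorem exists_closedImmersion_of_isClosed_of_isDecent {X : Sp S} (hX : IsAlgSpace X) (hdec : IsDecent X)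
    (x : Points X) (hx : IsClosed ({x} : Set (Points X))) :
    ∃ p : FieldPt X, Points.mk p = x ∧ Mono p.toHom ∧ RepWith @QuasiCompact p.toHom ∧
      RepWith @IsClosedImmersion p.toHom := by
  obtain ⟨p, hp, hm, hq⟩ := hdec x
  refine ⟨p, hp, hm, hq, repWith_isClosedImmersion_of_closed_fibre_points hX p hm hq ?_⟩
  intro V b _ hb v hv
  exact isClosed_fibre_point_of_isDecent hdec hx b hb v (hv.trans hp)

end Groth.Agent.Lib.Helper54
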