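import Groth.Agent.Lib.Helper54.KPGroupoid
import Groth.Agent.S1881
import Groth.Agent.Lib.Helper37.GrpdGlue
import Groth.Agent.Lib.Helper37.PrimeAvoidOpen
import Groth.Agent.H52.Epi
import Groth.Prelude.Def_AlgSpMor5
import Mathlib.CategoryTheory.Sites.RegularEpi

/-!
# Quotients by finite locally free equivalence relations: sheaf-level consequences (helper54)

* `exists_affine_of_finite_of_openImmersion`: in an open subscheme of an affine scheme, every finite set
  of points lies in an affine open.
* `exists_quotient_of_finite_subset_affine`: a groupoid scheme with `s, t` finite locally free, `j` an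
  equivalence relation and such that every finite subset of `U` lies in an affine open, has a quotient.
* `representable_of_finLocFree_chart`: if `p : h_U ⟶ X` is representable, finite locally free and
  surjective and every finite subset of `U` lies in an affine open, then `X` is representable.
-/

set_option autoImplicit false
set_option linter.style.haveILetI false
universe u
open CategoryTheory CategoryTheory.Limits AlgebraicGeometry

namespace Groth.Agent.Lib.Helper54
open AlgSp

variable {S : Scheme.{u}}

/-- In a scheme admitting an open immersion into an affine scheme, every finite set of points lies in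
an affine open. -/
theorem exists_affine_of_finite_of_openImmersion {V A : Scheme.{u}} (ι : V ⟶ A) [IsOpenImmersion ι]
    [IsAffine A] (E : Set V) (hE : E.Finite) : ∃ W : V.Opens, IsAffineOpen W ∧ E ⊆ W := by
  obtain ⟨f, hf1, hf2⟩ := Groth.Agent.Lib.Helper37.exists_basicOpen_le_of_finite_of_isAffineOpen
    (isAffineOpen_top A) ι.opensRange (ι '' E) (hE.image _) (fun _ _ => trivial)
    (by rintro _ ⟨x, _, rfl⟩; exact ⟨x, rfl⟩)
  refine ⟨ι ⁻¹ᵁ A.basicOpen f,
    ((isAffineOpen_top A).basicOpen f).preimage_of_isOpenImmersion ι hf2, fun x hx => ?_⟩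
  exact hf1 ⟨x, hx, rfl⟩

/-- Quotient of a scheme by a finite locally free equivalence relation, when finite sets of points lie in
affine opens. -/
theorem exists_quotient_of_finite_subset_affine (G : Grpd.GroupoidScheme S)
    (hs : Mor2.IsFinLocFree G.s) (ht : Mor2.IsFinLocFree G.t)
    (heq : AlgSp.IsEqvRel (Over.homMk G.s G.s_over : Over.mk G.pR ⟶ Over.mk G.pU)
      (Over.homMk G.t G.t_over : Over.mk G.pR ⟶ Over.mk G.pU))
    (hfa : ∀ E : Set ↥G.U, E.Finite → ∃ W : G.U.Opens, IsAffineOpen W ∧ E ⊆ W) :
    ∃ (Y : Scheme.{u}) (q : G.U ⟶ Y) (pY : Y ⟶ S), q ≫ pY = G.pU ∧ IsFinite q ∧ Flat q ∧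
      LocallyOfFinitePresentation q ∧ Surjective q ∧ IsPullback G.t G.s q q := by
  open Groth.Agent.Lib.Helper37 in
  obtain ⟨hsfin, hsflat, hslfp⟩ := hs
  obtain ⟨htfin, htflat, htlfp⟩ := ht
  haveI := hsfin
  haveI := hsflat
  haveI := hslfp
  haveI := htfin
  haveI := htflat
  haveI := htlfp
  haveI : Mono G.j := by
    refine ⟨fun {T} a b hab => ?_⟩
    have h1 : a ≫ G.t = b ≫ G.t := by
      have := congrArg (· ≫ pullback.fst _ _) hab
      simpa only [Category.assoc, Grpd.GroupoidScheme.j, pullback.lift_fst] using this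
    have h2 : a ≫ G.s = b ≫ G.s := by
      have := congrArg (· ≫ pullback.snd _ _) hab
      simpa only [Category.assoc, Grpd.GroupoidScheme.j, pullback.lift_snd] using this
    have hb : b ≫ G.pR = a ≫ G.pR := by
      rw [← G.s_over, ← Category.assoc, ← h2, Category.assoc]
    let a' : Over.mk (a ≫ G.pR) ⟶ Over.mk G.pR := Over.homMk a rfl
    let b' : Over.mk (a ≫ G.pR) ⟶ Over.mk G.pR := Over.homMk b hb
    have := heq.injective (Over.mk (a ≫ G.pR)) a' b' (by ext; exact h1) (by ext; exact h2)
    exact congrArg (fun f => f.left) this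
  have hcov : ∀ u : G.U, ∃ W : G.U.Opens, IsAffineOpen W ∧ u ∈ W ∧ G.s ⁻¹ᵁ W = G.t ⁻¹ᵁ W := by
    intro u
    have hfin : (G.t '' (G.s ⁻¹' {u})).Finite :=
      (Scheme.Hom.finite_preimage_singleton G.s u).image _
    obtain ⟨V, hV, hEV⟩ := hfa _ hfin
    exact Groth.Agent.S1881.result S G u V hV (fun r hr => hEV ⟨r, hr, rfl⟩)
  obtain ⟨Y, q, hqfin, hqflat, hqlfp, hqsurj, hpb⟩ := exists_global_quotient G hcov
  have hpU : G.t ≫ G.pU = G.s ≫ G.pU := by rw [G.t_over, G.s_over]
  exact ⟨Y, q, fppfDesc q hpb G.pU hpU, fppfDesc_fac q hpb G.pU hpU, hqfin, hqflat, hqlfp, hqsurj,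
    hpb⟩

/-- A pullback square of schemes over `S` gives a pullback square of representable sheaves (copy of
`isPullback_yon_of_isPullback_left`, to keep the imports of this file light). -/
theorem isPullback_yon_of_isPullback_left' {A B C D : Over S} {f' : A ⟶ B} {g' : A ⟶ C} {h : B ⟶ D}
    {i : C ⟶ D} (e : f' ≫ h = g' ≫ i) (sq : IsPullback f'.left g'.left h.left i.left) :
    IsPullback ((yon S).map f') ((yon S).map g') ((yon S).map h) ((yon S).map i) := by
  have sq' : IsPullback f' g' h i := IsPullback.of_map (Over.forget S) e sq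
  exact sq'.map (yon S)

/-- Two regular epimorphisms with the same kernel pair have isomorphic targets. -/
theorem nonempty_iso_of_isKernelPair {C : Type*} [Category C] {K A B B' : C} {a b : K ⟶ A}
    {p : A ⟶ B} {q : A ⟶ B'} [IsRegularEpi p] [IsRegularEpi q] (hp : IsKernelPair p a b)
    (hq : IsKernelPair q a b) : ∃ e : B ≅ B', p ≫ e.hom = q := by
  refine ⟨hp.toCoequalizer'.coconePointUniqueUpToIso hq.toCoequalizer', ?_⟩
  exact hp.toCoequalizer'.comp_coconePointUniqueUpToIso_hom hq.toCoequalizer'
    WalkingParallelPair.one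

/-- **Representability of a finite locally free quotient**: if `p : h_U ⟶ X` is representable, finite
locally free and surjective, and every finite set of points of `U` lies in an affine open, then `X` is
representable by a scheme `M`, and `p` corresponds to a finite locally free surjection `U ⟶ M`. -/
theorem representable_of_finLocFree_chart {X : Sp S} {U : Over S} (p : (yon S).obj U ⟶ X)
    (hp : RepWith finLocFree p) (hsurj : RepWith @Surjective p)
    (hfa : ∀ E : Set ↥U.left, E.Finite → ∃ W : U.left.Opens, IsAffineOpen W ∧ E ⊆ W) :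
    ∃ (M : Over S) (m : U ⟶ M) (e : X ≅ (yon S).obj M), p ≫ e.hom = (yon S).map m ∧
      Mor2.IsFinLocFree m.left ∧ Surjective m.left := by
  have hr := hp.rep
  obtain ⟨t, ht⟩ := (yon S).map_surjective (hr.fst p)
  have sq : IsPullback ((yon S).map t) ((yon S).map (hr.snd p)) p p := by
    rw [ht]
    exact hr.isPullback p
  set s := hr.snd p with hs_def
  have hs : Mor2.IsFinLocFree s.left := hp.property p _ _ sq
  have ht' : Mor2.IsFinLocFree t.left := hp.property p _ _ sq.flip
  obtain ⟨Y, q, pY, hqp, hqfin, hqflat, hqlfp, hqsurj, hpb⟩ :=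
    exists_quotient_of_finite_subset_affine (kpGroupoid sq) hs ht' (isEqvRel_of_isPullback sq) hfa
  haveI := hqfin
  haveI := hqflat
  haveI := hqlfp
  haveI := hqsurj
  let M : Over S := Over.mk pY
  let m : U ⟶ M := Over.homMk q hqp
  have hcomm : t ≫ m = s ≫ m := by
    ext
    exact hpb.w
  have sqM : IsPullback ((yon S).map t) ((yon S).map s) ((yon S).map m) ((yon S).map m) :=
    isPullback_yon_of_isPullback_left' hcomm hpb
  haveI : Flat m.left := hqflat
  haveI : Surjective m.left := hqsurj
  haveI : LocallyOfFinitePresentation m.left := hqlfp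
  haveI : Epi ((yon S).map m) := Groth.Agent.H52.epi_yon_map_of_fppf m
  haveI : Epi p := by
    refine Groth.Agent.H52.epi_of_repWith_fppf p hr (fun V g => ?_)
    obtain ⟨h1, h2, h3⟩ := hp.property_snd g
    exact ⟨h2, hsurj.property g _ _ (hr.isPullback g), h3⟩
  haveI : IsRegularEpi p := IsRegularEpiCategory.regularEpiOfEpi p
  haveI : IsRegularEpi ((yon S).map m) := IsRegularEpiCategory.regularEpiOfEpi _
  obtain ⟨e, he⟩ := nonempty_iso_of_isKernelPair (p := p) (q := (yon S).map m) sq sqM
  exact ⟨M, m, e, he, ⟨hqfin, hqflat, hqlfp⟩, hqsurj⟩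

end Groth.Agent.Lib.Helper54
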