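import Groth.Agent.Lib.Helper54.ConfSp
import Groth.Agent.Lib.Helper54.FinQuot
import Groth.Agent.Lib.Helper54.MonoDescentRep
import Groth.Agent.Lib.Helper51.FiniteCofan
import Groth.Agent.Lib.Helper54.FlatPoint
import Groth.Agent.S9889
import Groth.Agent.H52.LocPInst
import Groth.Agent.S9868
import Groth.Agent.S9869

/-!
# The symmetric group action on a configuration space and its quotient (helper54)
-/

set_option autoImplicit false
set_option backward.isDefEq.respectTransparency false
set_option linter.style.haveILetI false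
universe u
open CategoryTheory CategoryTheory.Limits AlgebraicGeometry Topology
open AlgSp

namespace Groth.Agent.Lib.Helper54

variable {S : Scheme.{u}} {X : Sp S} {U : Over S} {a : (yon S).obj U ⟶ X} {I : Type u} (C : Conf a I)

theorem Conf.exists_act (σ : Equiv.Perm I) :
    ∃ l : C.W ⟶ C.W, (∀ i, l ≫ C.c i = C.c (σ.symm i)) ∧ (yon S).map l ≫ C.b = C.b :=
  C.exists_lift (fun i => C.c (σ.symm i)) C.b (fun _ => C.hc _)
    (fun _ _ hij => C.disj _ _ (fun h => hij (σ.symm.injective h)))

/-- The action of a permutation on the configuration space. -/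
noncomputable def Conf.act (σ : Equiv.Perm I) : C.W ⟶ C.W := (C.exists_act σ).choose

theorem Conf.act_c (σ : Equiv.Perm I) (i : I) : C.act σ ≫ C.c i = C.c (σ.symm i) :=
  (C.exists_act σ).choose_spec.1 i

theorem Conf.act_b (σ : Equiv.Perm I) : (yon S).map (C.act σ) ≫ C.b = C.b :=
  (C.exists_act σ).choose_spec.2

theorem Conf.act_mul (σ τ : Equiv.Perm I) : C.act (σ * τ) = C.act τ ≫ C.act σ := by
  apply C.hom_ext
  · intro i
    rw [Category.assoc, C.act_c, C.act_c, C.act_c]
    rfl
  · rw [Functor.map_comp, Category.assoc, C.act_b, C.act_b, C.act_b]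

theorem Conf.act_one : C.act 1 = 𝟙 C.W := by
  apply C.hom_ext
  · intro i
    rw [C.act_c, Category.id_comp]
    rfl
  · rw [C.act_b, CategoryTheory.Functor.map_id, Category.id_comp]

/-- The action as a group homomorphism. -/
noncomputable def Conf.ρ : Equiv.Perm I →* Aut C.W where
  toFun σ :=
    { hom := C.act σ
      inv := C.act σ⁻¹
      hom_inv_id := by rw [← C.act_mul, inv_mul_cancel, C.act_one]
      inv_hom_id := by rw [← C.act_mul, mul_inv_cancel, C.act_one] }
  map_one' := by
    apply Iso.ext
    exact C.act_one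
  map_mul' σ τ := by
    apply Iso.ext
    exact C.act_mul σ τ

theorem Conf.ρ_hom (σ : Equiv.Perm I) : (C.ρ σ).hom = C.act σ := rfl

theorem Conf.act_free (σ : Equiv.Perm I) (hσ : σ ≠ 1) (x : C.W.left) :
    C.W.left.fromSpecResidueField x ≫ (C.act σ).left ≠ C.W.left.fromSpecResidueField x := by
  intro h
  obtain ⟨i, hi⟩ : ∃ i, σ.symm i ≠ i := by
    by_contra hne
    push Not at hne
    apply hσ
    ext i
    have := hne (σ i)
    simpa using this.symm
  refine C.disj i (σ.symm i) (Ne.symm hi) x ?_
  rw [← C.act_c, Over.comp_left, ← Category.assoc, h]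

open Groth.Agent.Lib.Helper51 in
/-- A morphism out of a finite coproduct in `Over S` is finite if it is so on each summand. -/
theorem isFinite_left_of_forall_inj {ι : Type u} [Finite ι] {Y : ι → Over S} (c : Cofan Y)
    (hc : IsColimit c) {Z : Over S} (m : c.pt ⟶ Z) (h : ∀ i, IsFinite (c.inj i ≫ m).left) :
    IsFinite m.left := by
  let e := hc.coconePointUniqueUpToIso
    (isColimitSigmaOver (fun i ↦ (Y i).left) (fun i ↦ (Y i).hom))
  have he : ∀ i, c.inj i ≫ e.hom = sigmaOverι (fun i ↦ (Y i).left) (fun i ↦ (Y i).hom) i :=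
    fun i ↦ IsColimit.comp_coconePointUniqueUpToIso_hom hc _ ⟨i⟩
  have h1 : (e.inv ≫ m).left = Sigma.desc (fun i ↦ (c.inj i ≫ m).left) := by
    apply Sigma.hom_ext
    intro i
    rw [Sigma.ι_desc]
    have : Sigma.ι (fun i ↦ (Y i).left) i =
        (sigmaOverι (fun i ↦ (Y i).left) (fun i ↦ (Y i).hom) i).left := rfl
    rw [this, ← Over.comp_left, ← he, Category.assoc, Iso.hom_inv_id_assoc]
  have h2 : m.left = e.hom.left ≫ (e.inv ≫ m).left := by
    rw [← Over.comp_left, Iso.hom_inv_id_assoc]
  rw [h2, MorphismProperty.cancel_left_of_respectsIso @IsFinite, h1]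
  infer_instance

/-- A morphism out of a finite coproduct in `Over S` is finite locally free if it is an isomorphism on each
summand. -/
theorem isFinLocFree_left_of_forall_inj_isIso {ι : Type u} [Finite ι] {Y : ι → Over S} (c : Cofan Y)
    (hc : IsColimit c) {Z : Over S} (m : c.pt ⟶ Z) (h : ∀ i, IsIso (c.inj i ≫ m)) :
    Mor2.IsFinLocFree m.left := by
  have hi : ∀ i, IsIso (c.inj i ≫ m).left := fun i => by
    have := h i
    exact inferInstanceAs (IsIso ((Over.forget S).map (c.inj i ≫ m)))
  refine ⟨isFinite_left_of_forall_inj c hc m (fun i => ?_),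
    Groth.Agent.Lib.Helper51.left_mem_of_forall_inj (P := @Flat) c hc m (fun i => ?_),
    Groth.Agent.Lib.Helper51.left_mem_of_forall_inj (P := @LocallyOfFinitePresentation) c hc m
      (fun i => ?_)⟩
  all_goals
    have := hi i
    infer_instance

/-- **Representability of a finite locally free quotient**, kernel pair form: if `p : h_U ⟶ X` is an epimorphism with
kernel pair `h_t, h_s : h_R ⇉ h_U` where `s, t` are finite locally free, and every finite set of points of `U` lies
in an affine open, then `X` is representable by a scheme `M`, and `p` corresponds to a finite locally free surjection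
`U ⟶ M` with `R = U ×_M U`. -/
theorem representable_of_kernelPair_finLocFree {X : Sp S} {U R : Over S} (p : (yon S).obj U ⟶ X) [Epi p]
    (s t : R ⟶ U) (sq : IsPullback ((yon S).map t) ((yon S).map s) p p)
    (hs : Mor2.IsFinLocFree s.left) (ht : Mor2.IsFinLocFree t.left)
    (hfa : ∀ E : Set ↥U.left, E.Finite → ∃ W : U.left.Opens, IsAffineOpen W ∧ E ⊆ W) :
    ∃ (M : Over S) (m : U ⟶ M) (e : X ≅ (yon S).obj M), p ≫ e.hom = (yon S).map m ∧
      Mor2.IsFinLocFree m.left ∧ Surjective m.left ∧ IsPullback t.left s.left m.left m.left := by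
  obtain ⟨Y, q, pY, hqp, hqfin, hqflat, hqlfp, hqsurj, hpb⟩ :=
    exists_quotient_of_finite_subset_affine (kpGroupoid sq) hs ht (isEqvRel_of_isPullback sq) hfa
  haveI := hqfin
  haveI := hqflat
  haveI := hqlfp
  haveI := hqsurj
  let M : Over S := Over.mk pY
  let m : U ⟶ M := Over.homMk q hqp
  have hcomm : t ≫ m = s ≫ m := by
    ext
    exact hpb.w
  have sqM : IsPullback ((yon S).map t) ((yon S).map s) ((yon S).map m) ((yon S).map m) :=
    isPullback_yon_of_isPullback_left' hcomm hpb
  haveI : Flat m.left := hqflat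
  haveI : Surjective m.left := hqsurj
  haveI : LocallyOfFinitePresentation m.left := hqlfp
  haveI : Epi ((yon S).map m) := Groth.Agent.H52.epi_yon_map_of_fppf m
  haveI : IsRegularEpi p := IsRegularEpiCategory.regularEpiOfEpi p
  haveI : IsRegularEpi ((yon S).map m) := IsRegularEpiCategory.regularEpiOfEpi _
  obtain ⟨e, he⟩ := nonempty_iso_of_isKernelPair (p := p) (q := (yon S).map m) sq sqM
  exact ⟨M, m, e, he, ⟨hqfin, hqflat, hqlfp⟩, hqsurj, hpb⟩

/-- In a separated scheme étale over an affine scheme, every finite set of points lies in an affine open. -/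
theorem exists_affine_of_finite_of_etale_affine {W A : Scheme.{u}} [W.IsSeparated] [IsAffine A] (c : W ⟶ A)
    [Etale c] (E : Set W) (hE : E.Finite) : ∃ V : W.Opens, IsAffineOpen V ∧ E ⊆ V := by
  have hex : ∀ x : W, ∃ V : W.Opens, IsAffineOpen V ∧ x ∈ V := fun x => by
    obtain ⟨V, hV, hxV, -⟩ := exists_isAffineOpen_mem_and_subset (x := x) (U := ⊤) trivial
    exact ⟨V, hV, hxV⟩
  choose V hV hxV using hex
  let W' : W.Opens := ⨆ x ∈ E, V x
  have hcoe : (W' : Set W) = ⋃ x ∈ E, (V x : Set W) := by
    simp only [W', TopologicalSpace.Opens.coe_iSup]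
  have hEW' : E ⊆ W' := fun x hx => by
    rw [hcoe]
    exact Set.mem_biUnion hx (hxV x)
  have hc : IsCompact (W' : Set W) := by
    rw [hcoe]
    exact hE.isCompact_biUnion fun x _ => (hV x).isCompact
  have hcs : CompactSpace ↥(W' : Scheme.{u}) := isCompact_iff_compactSpace.mp hc
  have hsep : (W' : Scheme.{u}).IsSeparated := by
    have e : terminal.from (W' : Scheme.{u}) = W'.ι ≫ terminal.from W := terminal.hom_ext _ _
    constructor
    rw [e]
    infer_instance
  have h1 : LocallyQuasiFinite (W'.ι ≫ c) := locallyQuasiFinite_of_etale _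
  have h2 : QuasiCompact (W'.ι ≫ c) :=
    (@HasAffineProperty.iff_of_isAffine @QuasiCompact _
      instHasAffinePropertyQuasiCompactCompactSpaceCarrierCarrierCommRingCat _ _ (W'.ι ≫ c) _).mpr hcs
  have hqa : (W' : Scheme.{u}).IsQuasiAffine := isQuasiAffine_of_lqf (W'.ι ≫ c)
  obtain ⟨V₀, hV₀, hEV₀⟩ := exists_affine_of_finite_of_openImmersion (W' : Scheme.{u}).toSpecΓ
    (W'.ι ⁻¹' E) (hE.preimage W'.ι.isOpenEmbedding.injective.injOn)
  refine ⟨W'.ι ''ᵁ V₀, hV₀.image_of_isOpenImmersion W'.ι, fun x hx => ?_⟩
  have hx' : x ∈ Set.range W'.ι := by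
    rw [Scheme.Opens.range_ι]
    exact hEW' hx
  obtain ⟨y, rfl⟩ := hx'
  exact ⟨y, hEV₀ hx, rfl⟩

/-- The target of a surjective universally closed morphism from a separated scheme is separated. -/
theorem isSeparated_of_surjective_universallyClosed {W V : Scheme.{u}} (q : W ⟶ V) [Surjective q]
    [UniversallyClosed q] [W.IsSeparated] : V.IsSeparated := by
  constructor
  rw [AlgebraicGeometry.isSeparated_iff]
  apply IsClosedImmersion.of_isPreimmersion
  have e₁ : terminal.from W = q ≫ terminal.from V := (terminal.comp_from q).symm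
  let qq : pullback (terminal.from W) (terminal.from W) ⟶ pullback (terminal.from V) (terminal.from V) :=
    pullback.map (terminal.from W) (terminal.from W) (terminal.from V) (terminal.from V) q q (𝟙 _)
      ((Category.comp_id _).trans e₁) ((Category.comp_id _).trans e₁)
  have hqq : UniversallyClosed qq :=
    MorphismProperty.pullbackMap (P := @UniversallyClosed) ‹_› ‹_› e₁ e₁
  have hΔ : pullback.diagonal (terminal.from W) ≫ qq = q ≫ pullback.diagonal (terminal.from V) := by
    apply pullback.hom_ext <;> simp [qq]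
  have hr : Set.range (pullback.diagonal (terminal.from V)) =
      qq '' Set.range (pullback.diagonal (terminal.from W)) := by
    ext z
    constructor
    · rintro ⟨v, rfl⟩
      obtain ⟨w, rfl⟩ := q.surjective v
      refine ⟨_, ⟨w, rfl⟩, ?_⟩
      rw [← Scheme.Hom.comp_apply, hΔ, Scheme.Hom.comp_apply]
    · rintro ⟨_, ⟨w, rfl⟩, rfl⟩
      exact ⟨q w, by rw [← Scheme.Hom.comp_apply, ← hΔ, Scheme.Hom.comp_apply]⟩
  rw [hr]
  exact qq.isClosedMap _ (pullback.diagonal (terminal.from W)).isClosedEmbedding.isClosed_range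

open Groth.Agent.Lib.Helper51 in
/-- Morphisms out of the sheaf of a coproduct in `Over S` are determined by their restrictions to the summands. -/
theorem yon_cofan_hom_ext {ι : Type u} {Y : ι → Over S} (c : Cofan Y) (hc : IsColimit c) {F : Sp S}
    (f g : (yon S).obj c.pt ⟶ F)
    (h : ∀ i, (yon S).map (c.inj i) ≫ f = (yon S).map (c.inj i) ≫ g) : f = g := by
  let e := hc.coconePointUniqueUpToIso
    (isColimitSigmaOver (fun i ↦ (Y i).left) (fun i ↦ (Y i).hom))
  have he : ∀ i, c.inj i ≫ e.hom = sigmaOverι (fun i ↦ (Y i).left) (fun i ↦ (Y i).hom) i :=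
    fun i ↦ IsColimit.comp_coconePointUniqueUpToIso_hom hc _ ⟨i⟩
  rw [← cancel_epi ((yon S).map e.inv)]
  apply Cofan.IsColimit.hom_ext (isColimitYonSigmaOver (fun i ↦ (Y i).left) (fun i ↦ (Y i).hom))
  intro i
  change (yon S).map (sigmaOverι (fun i ↦ (Y i).left) (fun i ↦ (Y i).hom) i) ≫ _ =
    (yon S).map (sigmaOverι (fun i ↦ (Y i).left) (fun i ↦ (Y i).hom) i) ≫ _
  rw [← he, ← Category.assoc, ← Category.assoc, ← Functor.map_comp,
    Category.assoc, Iso.hom_inv_id, Category.comp_id]
  exact h i

/-- Étaleness of a morphism from a scheme to an algebraic space can be checked after an étale surjective base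
change of the source. -/
theorem repWith_etale_of_comp_etale_surjective {X : Sp S} (hX : IsAlgSpace X) {W V : Over S} (m : W ⟶ V)
    (hme : Etale m.left) (hms : Surjective m.left) (f : (yon S).obj V ⟶ X)
    (h : RepWith @Etale ((yon S).map m ≫ f)) : RepWith @Etale f := by
  refine (repWith_iff _ f).2 ⟨hX.representable_from_yon f, fun T P g fst snd sq => ?_⟩
  obtain ⟨φ, rfl⟩ := (yon S).map_surjective fst
  have sqA := ((IsPullback.of_hasPullback φ m).map (yon S)).flip
  have big := sqA.paste_vert sq
  rw [← Functor.map_comp] at big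
  have h1 : Etale (pullback.fst φ m ≫ snd).left := h.property g _ _ big
  rw [Over.comp_left] at h1
  have sqL : IsPullback (pullback.fst φ m).left (pullback.snd φ m).left φ.left m.left :=
    (IsPullback.of_hasPullback φ m).map (Over.forget S)
  have h2 : Etale (pullback.fst φ m).left := MorphismProperty.of_isPullback sqL.flip hme
  have h3 : Surjective (pullback.fst φ m).left := MorphismProperty.of_isPullback sqL.flip hms
  exact Groth.Agent.H52.isEtLocal_etale.source _ _ h2 h3 h1

/-- The quotient of a configuration space by the symmetric group is a separated scheme `V`, finite étale under `W`,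
with an induced map to `X`. -/
theorem Conf.exists_quotient [Finite I] [Nonempty I] (hUaff : IsAffine U.left) :
    ∃ (V : Over S) (m : C.W ⟶ V) (f : (yon S).obj V ⟶ X),
      (yon S).map m ≫ f = C.b ∧ IsFinite m.left ∧ Etale m.left ∧ Surjective m.left ∧
      (∀ σ, C.act σ ≫ m = m) ∧ V.left.IsSeparated := by
  let c : Cofan (fun _ : Equiv.Perm I => C.W) := Cofan.mk (∐ fun _ : Equiv.Perm I => C.W) (Sigma.ι _)
  have hc : IsColimit c := coproductIsCoproduct _
  let s : c.pt ⟶ C.W := Sigma.desc (fun _ => 𝟙 C.W)
  let t : c.pt ⟶ C.W := Sigma.desc (fun σ => C.act σ)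
  have hs : ∀ g, c.inj g ≫ s = 𝟙 C.W := fun g => Sigma.ι_desc _ _
  have ht : ∀ g, c.inj g ≫ t = (C.ρ g).hom := fun g => Sigma.ι_desc _ _
  have hEq : IsEtaleEqvRel s t :=
    Groth.Agent.S9889.result S C.W (Equiv.Perm I) C.ρ (fun g x hg => C.act_free g hg x) c hc s t hs ht
  have hQ := Groth.Agent.S9868.result S s t hEq
  have hpres := Groth.Agent.S9869.result S s t hEq hQ
  obtain ⟨π, hπ⟩ : ∃ π : (yon S).obj C.W ⟶ QuotSh.quot Scheme.fppfPrecoverage s t,
      π = (QuotSh.repIsoUliftYoneda Scheme.fppfPrecoverage C.W).inv ≫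
        QuotSh.quotπ Scheme.fppfPrecoverage s t := ⟨_, rfl⟩
  rw [← hπ] at hpres
  have hepi : Epi π := by
    rw [hπ]
    exact epi_comp _ _
  have hs' : Mor2.IsFinLocFree s.left :=
    isFinLocFree_left_of_forall_inj_isIso c hc s (fun g => by rw [hs]; infer_instance)
  have ht' : Mor2.IsFinLocFree t.left :=
    isFinLocFree_left_of_forall_inj_isIso c hc t (fun g => by rw [ht]; infer_instance)
  obtain ⟨i₀⟩ := ‹Nonempty I›
  have hfa : ∀ E : Set ↥C.W.left, E.Finite → ∃ W : C.W.left.Opens, IsAffineOpen W ∧ E ⊆ W := by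
    intro E hE
    have := C.sep
    have := C.etale_c i₀
    exact exists_affine_of_finite_of_etale_affine (C.c i₀).left E hE
  obtain ⟨M, m, e, he, hm, hsurj, hpb⟩ :=
    representable_of_kernelPair_finLocFree π s t hpres.isPullback hs' ht' hfa
  have hmfin : IsFinite m.left := hm.1
  have hmet : Etale m.left := by
    rw [← repWith_yon_map_iff @Etale m, ← he]
    exact MorphismProperty.RespectsIso.postcomp _ _ _ hpres.etale
  have hcomm : t ≫ m = s ≫ m := by
    ext
    exact hpb.w
  have hinv : ∀ σ, C.act σ ≫ m = m := by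
    intro σ
    have := congrArg (fun k => c.inj σ ≫ k) hcomm
    simp only [← Category.assoc] at this
    rw [hs, ht, Category.id_comp] at this
    exact this
  have hcoeq : (yon S).map t ≫ C.b = (yon S).map s ≫ C.b := by
    apply yon_cofan_hom_ext c hc
    intro σ
    rw [← Category.assoc, ← Category.assoc, ← Functor.map_comp, ← Functor.map_comp, hs, ht,
      C.ρ_hom, C.act_b, CategoryTheory.Functor.map_id, Category.id_comp]
  have sqM : IsPullback ((yon S).map t) ((yon S).map s) ((yon S).map m) ((yon S).map m) :=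
    isPullback_yon_of_isPullback_left' hcomm hpb
  haveI : Flat m.left := hm.2.1
  haveI : Surjective m.left := hsurj
  haveI : LocallyOfFinitePresentation m.left := hm.2.2
  haveI : Epi ((yon S).map m) := Groth.Agent.H52.epi_yon_map_of_fppf m
  haveI : IsRegularEpi ((yon S).map m) := IsRegularEpiCategory.regularEpiOfEpi _
  have hkp : IsKernelPair ((yon S).map m) ((yon S).map t) ((yon S).map s) := sqM
  obtain ⟨f, hf⟩ := Cofork.IsColimit.desc' hkp.toCoequalizer' C.b hcoeq
  refine ⟨M, m, f, hf, hmfin, hmet, hsurj, hinv, ?_⟩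
  have := C.sep
  exact isSeparated_of_surjective_universallyClosed m.left

end Groth.Agent.Lib.Helper54
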