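import Groth.Agent.Lib.Helper54.ConfKey
import Groth.Agent.H53.SpTop

/-!
# The strata attached to an affine étale chart of an algebraic space (helper54)

For an affine étale surjective chart `a : h_U ⟶ X`, `O n` is the open set of points of `X` over which the chart
has at least `n + 1` geometric points.  Over `O n` there is a separated scheme `V`, étale over `X` with image `O n`,
whose field-valued fibres over points outside `O (n + 1)` have exactly one element.
-/

set_option autoImplicit false
set_option backward.isDefEq.respectTransparency false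
set_option linter.style.haveILetI false
universe u
open CategoryTheory CategoryTheory.Limits AlgebraicGeometry Topology
open AlgSp

namespace Groth.Agent.Lib.Helper54

variable {S : Scheme.{u}}

/-- A field-valued point of `F` in the class of the point defined by `t` and `g` lifts, after a field extension, to
a field-valued point of `T`. -/
theorem exists_fieldPt_lift_of_ofPt_eq_mk {F : Sp S} {T : Over S} (g : (yon S).obj T ⟶ F) (t : ↥T.left)
    (q : FieldPt F) (h : Points.ofPt g t = Points.mk q) :
    ∃ (Ω : Type u) (_ : Field Ω) (strΩ : Spec (CommRingCat.of Ω) ⟶ S) (w : Over.mk strΩ ⟶ T)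
      (β : Over.mk strΩ ⟶ q.pt), (yon S).map w ≫ g = (yon S).map β ≫ q.toHom := by
  change Points.mk (FieldPt.ofPt g t) = Points.mk q at h
  rw [Points.mk_eq_mk_iff, rel_iff_toHom] at h
  obtain ⟨Ω, _, strΩ, α, β, hαβ⟩ := h
  rw [toHom_ofPt'] at hαβ
  refine ⟨Ω, inferInstance, strΩ, α ≫ residueHom T t, β, ?_⟩
  rw [Functor.map_comp, Category.assoc]
  exact hαβ

variable {X : Sp S} {U : Over S} {a : (yon S).obj U ⟶ X}

/-- The strata: points of `X` over which the chart has at least `n + 1` geometric points. -/
def strat (ha : RepWith @Etale a) (hU : U.left.IsSeparated) (n : ℕ) : Set (Points X) :=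
  Set.range (Points.ofPt (conf ha hU n).b)

theorem isOpen_strat (ha : RepWith @Etale a) (hU : U.left.IsSeparated) (n : ℕ) : IsOpen (strat ha hU n) :=
  (Groth.Agent.H53.isOpenMap_ofPt_of_etale _ (conf ha hU n).etale_b).isOpen_range

theorem strat_succ_subset (ha : RepWith @Etale a) (hU : U.left.IsSeparated) (n : ℕ) :
    strat ha hU (n + 1) ⊆ strat ha hU n := by
  rintro _ ⟨w, rfl⟩
  obtain ⟨l, -, hl⟩ := Conf.exists_forget (conf ha hU n) (conf ha hU (n + 1) : Conf a (Option (Idx.{u} n)))
  refine ⟨l.left w, ?_⟩
  rw [← ofPt_yon_map_comp, hl]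

theorem strat_zero (ha : RepWith @Etale a) (hU : U.left.IsSeparated) (has : RepWith @Surjective a) :
    strat ha hU 0 = Set.univ :=
  Set.range_eq_univ.2 (Groth.Agent.H53.surjective_ofPt_of_surjective a has)

/-- Points with a quasi-compact representative lie outside some stratum. -/
theorem exists_notMem_strat (ha : RepWith @Etale a) (hUa : IsAffine U.left) (x : Points X)
    (hx : ∃ q : FieldPt X, Points.mk q = x ∧ RepWith @QuasiCompact q.toHom) :
    ∃ N, x ∉ strat ha inferInstance N := by
  obtain ⟨q, rfl, hq⟩ := hx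
  have hqc : QuasiCompact (ha.rep.fst' q.toHom).left :=
    hq.property a _ _ (ha.rep.isPullback' q.toHom).flip
  haveI : CompactSpace ↥(ha.rep.pullback q.toHom).left :=
    QuasiCompact.compactSpace_of_compactSpace (ha.rep.fst' q.toHom).left
  haveI : Etale (ha.rep.snd q.toHom).left := ha.property_snd q.toHom
  haveI : LocallyQuasiFinite (ha.rep.snd q.toHom).left := locallyQuasiFinite_of_etale _
  haveI : IsAffine q.pt.left := inferInstanceAs (IsAffine (Spec (CommRingCat.of q.K)))
  obtain ⟨N, hN⟩ := exists_fibBound_of_compactSpace (ha.rep.snd q.toHom).left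
  refine ⟨N, ?_⟩
  rintro ⟨w, hw⟩
  obtain ⟨Ω, _, strΩ, w', β, hwβ⟩ := exists_fieldPt_lift_of_ofPt_eq_mk _ w q hw
  have := (conf ha inferInstance N).card_le_of_fibBound ha q.toHom hN strΩ w' β hwβ
  rw [nat_card_idx] at this
  omega

/-- Over a quasi-separated base, for a quasi-separated `X`, the strata are eventually empty. -/
theorem exists_strat_eq_empty (ha : RepWith @Etale a) (hUa : IsAffine U.left) [QuasiSeparatedSpace ↥S]
    (hX : IsQuasiSeparatedSp X) : ∃ N, strat ha inferInstance N = ∅ := by
  haveI : CompactSpace ↥(ha.rep.pullback a).left :=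
    Groth.Agent.H52.compactSpace_pullback_of_isQuasiSeparatedSp hX a a (ha.rep.fst' a) (ha.rep.snd a)
      (ha.rep.isPullback' a)
  haveI : Etale (ha.rep.snd a).left := ha.property_snd a
  haveI : LocallyQuasiFinite (ha.rep.snd a).left := locallyQuasiFinite_of_etale _
  obtain ⟨N, hN⟩ := exists_fibBound_of_compactSpace (ha.rep.snd a).left
  refine ⟨N, Set.eq_empty_iff_forall_notMem.2 ?_⟩
  rintro _ ⟨w, rfl⟩
  obtain ⟨i₀⟩ := idx_nonempty.{u} N
  have := (conf ha inferInstance N).card_le_of_fibBound ha a hN
    ((conf ha inferInstance N).W.left.fromSpecResidueField w ≫ (conf ha inferInstance N).W.hom)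
    (residueHom _ w) (residueHom _ w ≫ (conf ha inferInstance N).c i₀)
    (by rw [Functor.map_comp, Category.assoc, (conf ha inferInstance N).hc])
  rw [nat_card_idx] at this
  omega

/-- The quotient scheme over a stratum. -/
theorem exists_quot_strat (hX : IsAlgSpace X) (ha : RepWith @Etale a) (hUa : IsAffine U.left) (n : ℕ) :
    ∃ (V : Over S) (f : (yon S).obj V ⟶ X), V.left.IsSeparated ∧ RepWith @Etale f ∧
      Set.range (Points.ofPt f) = strat ha inferInstance n ∧
      (QuasiSeparatedSpace ↥S → IsQuasiSeparatedSp X → CompactSpace ↥V.left) ∧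
      ∀ (K : Type u) [Field K] (str : Spec (CommRingCat.of K) ⟶ S) (v₁ v₂ : Over.mk str ⟶ V),
        (yon S).map v₁ ≫ f = (yon S).map v₂ ≫ f →
        (∀ s, Points.ofPt ((yon S).map v₁ ≫ f) s ∉ strat ha inferInstance (n + 1)) → v₁ = v₂ := by
  obtain ⟨V, m, f, hf, hmfin, hmet, hmsurj, hinv, hsep⟩ :=
    (conf ha inferInstance n).exists_quotient hUa
  have hfe : RepWith @Etale f :=
    repWith_etale_of_comp_etale_surjective hX m hmet hmsurj f (by
      rw [hf]
      exact (conf ha inferInstance n).etale_b)
  refine ⟨V, f, hsep, hfe, ?_, ?_, ?_⟩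
  · ext x
    constructor
    · rintro ⟨v, rfl⟩
      obtain ⟨w, rfl⟩ := hmsurj.surj v
      exact ⟨w, by rw [← hf, ofPt_yon_map_comp]⟩
    · rintro ⟨w, rfl⟩
      exact ⟨m.left w, by rw [← hf, ofPt_yon_map_comp]⟩
  · intro hS hXq
    haveI := (conf ha inferInstance n).compact hS hXq inferInstance
    exact hmsurj.surj.compactSpace m.left.continuous
  · intro K _ str v₁ v₂ h hno
    exact Conf.eq_of_comp_eq (conf ha inferInstance n)
      (conf ha inferInstance (n + 1) : Conf a (Option (Idx.{u} n))) m hmsurj hinv f hf str v₁ v₂ h hno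

end Groth.Agent.Lib.Helper54
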