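import Groth.Agent.Lib.Helper54.FibBound
import Groth.Agent.Lib.Helper1.AffineAndDescent
import Mathlib.AlgebraicGeometry.Morphisms.FlatDescent
import Mathlib.AlgebraicGeometry.Morphisms.UniversallyOpen
import Mathlib.AlgebraicGeometry.Morphisms.Finite

/-!
# Degree strata of a separated étale morphism (helper54)

For `s : R ⟶ U`, `degGE s d` is the set of points of `U` over which some field-valued fibre of `s` has at least `d`
points.  For `s` étale and separated these sets are open, and if every field-valued fibre has at most `n` points,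
then `s` is finite over `degGE s n`.
-/

set_option autoImplicit false
universe u
open CategoryTheory CategoryTheory.Limits AlgebraicGeometry

namespace Groth.Agent.Lib.Helper54

/-- The point of the spectrum of a field. -/
noncomputable def fieldPt (K : Type u) [Field K] : ↥(Spec (CommRingCat.of K)) := IsLocalRing.closedPoint K

theorem fieldPt_eq (K : Type u) [Field K] (p : ↥(Spec (CommRingCat.of K))) : p = fieldPt K := by
  have : Subsingleton ↥(Spec (CommRingCat.of K)) := inferInstanceAs (Subsingleton (PrimeSpectrum K))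
  exact Subsingleton.elim _ _

/-- The points of `U` over which some field-valued fibre of `s` has at least `d` points. -/
def degGE {R U : Scheme.{u}} (s : R ⟶ U) (d : ℕ) : Set ↥U :=
  {u | ∃ (K : Type u) (_ : Field K) (x : Spec (.of K) ⟶ U), x (fieldPt K) = u ∧
    ∃ F : Finset ↥(pullback s x), d ≤ F.card}

theorem degGE_zero {R U : Scheme.{u}} (s : R ⟶ U) : degGE s 0 = Set.univ := by
  ext u
  simp only [Set.mem_univ, iff_true]
  exact ⟨U.residueField u, inferInstance, U.fromSpecResidueField u,
    Scheme.fromSpecResidueField_apply _ _, ∅, Nat.zero_le _⟩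

theorem degGE_anti {R U : Scheme.{u}} (s : R ⟶ U) {d d' : ℕ} (h : d ≤ d') : degGE s d' ⊆ degGE s d := by
  rintro u ⟨K, _, x, hx, F, hF⟩
  exact ⟨K, _, x, hx, F, h.trans hF⟩

/-- Points of a field-valued fibre lift along field extensions. -/
theorem exists_finset_card_eq_of_comp {R U : Scheme.{u}} (s : R ⟶ U) {K K' : Type u} [Field K] [Field K']
    (e : Spec (.of K') ⟶ Spec (.of K)) (x : Spec (.of K) ⟶ U) (x'' : Spec (.of K') ⟶ U) (hx : x'' = e ≫ x)
    (F : Finset ↥(pullback s x)) : ∃ F' : Finset ↥(pullback s x''), F'.card = F.card := by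
  subst hx
  have he : Surjective e := by
    exact ⟨fun p => ⟨fieldPt K', (fieldPt_eq K _).trans (fieldPt_eq K p).symm⟩⟩
  let m : pullback s (e ≫ x) ⟶ pullback s x :=
    pullback.lift (pullback.fst s (e ≫ x)) (pullback.snd s (e ≫ x) ≫ e)
      (by rw [Category.assoc, pullback.condition])
  have hm1 : m ≫ pullback.fst s x = pullback.fst s (e ≫ x) := pullback.lift_fst _ _ _
  have hm2 : m ≫ pullback.snd s x = pullback.snd s (e ≫ x) ≫ e := pullback.lift_snd _ _ _
  have sq : IsPullback m (pullback.snd s (e ≫ x)) (pullback.snd s x) e := by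
    refine IsPullback.of_right ?_ hm2 (IsPullback.of_hasPullback s x)
    rw [hm1]
    exact IsPullback.of_hasPullback s (e ≫ x)
  have hms : Surjective m := MorphismProperty.of_isPullback (P := @Surjective) sq.flip he
  have hsurj : Function.Surjective (fun z => m z) := hms.surj
  refine ⟨F.map ⟨Function.surjInv hsurj, Function.injective_surjInv hsurj⟩, ?_⟩
  rw [Finset.card_map]

/-- The fibre of the off-diagonal part of `T' ×_T T' ⟶ T'` over a field-valued point `x'` of `T'` is the fibre of
`g` over `x' ≫ g` with one point removed. -/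
theorem offDiag_fibre {T' T : Scheme.{u}} (g : T' ⟶ T) (C : (pullback g g).Opens)
    (hC : (C : Set ↥(pullback g g)) = (Set.range (pullback.diagonal g))ᶜ) {K : Type u} [Field K]
    (x' : Spec (.of K) ⟶ T') :
    ∃ (φ : pullback (C.ι ≫ pullback.snd g g) x' ⟶ pullback g (x' ≫ g)) (w₀ : ↥(pullback g (x' ≫ g))),
      Function.Injective φ ∧ w₀ ∉ Set.range φ ∧ ∀ w, w ≠ w₀ → w ∈ Set.range φ := by
  let θ : pullback g (x' ≫ g) ⟶ pullback g g :=
    pullback.lift (pullback.fst g (x' ≫ g)) (pullback.snd g (x' ≫ g) ≫ x')
      (by rw [Category.assoc, pullback.condition])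
  have hθ1 : θ ≫ pullback.fst g g = pullback.fst g (x' ≫ g) := pullback.lift_fst _ _ _
  have hθ2 : θ ≫ pullback.snd g g = pullback.snd g (x' ≫ g) ≫ x' := pullback.lift_snd _ _ _
  have sqA : IsPullback θ (pullback.snd g (x' ≫ g)) (pullback.snd g g) x' := by
    refine IsPullback.of_right ?_ hθ2 (IsPullback.of_hasPullback g g)
    rw [hθ1]
    exact IsPullback.of_hasPullback g (x' ≫ g)
  let φ : pullback (C.ι ≫ pullback.snd g g) x' ⟶ pullback g (x' ≫ g) :=
    sqA.lift (pullback.fst _ _ ≫ C.ι) (pullback.snd _ _)
      (by rw [Category.assoc]; exact pullback.condition)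
  have hφ1 : φ ≫ θ = pullback.fst _ _ ≫ C.ι := sqA.lift_fst _ _ _
  have hφ2 : φ ≫ pullback.snd g (x' ≫ g) = pullback.snd _ _ := sqA.lift_snd _ _ _
  have sqB : IsPullback φ (pullback.fst (C.ι ≫ pullback.snd g g) x') θ C.ι := by
    refine IsPullback.of_right ?_ hφ1 sqA.flip
    rw [hφ2]
    exact (IsPullback.of_hasPullback (C.ι ≫ pullback.snd g g) x').flip
  have hoi : IsOpenImmersion φ :=
    MorphismProperty.of_isPullback (P := @IsOpenImmersion) sqB.flip inferInstance
  let σ : Spec (.of K) ⟶ pullback g (x' ≫ g) :=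
    pullback.lift x' (𝟙 _) (by rw [Category.id_comp])
  have hσ2 : σ ≫ pullback.snd g (x' ≫ g) = 𝟙 _ := pullback.lift_snd _ _ _
  have hσθ : σ ≫ θ = x' ≫ pullback.diagonal g := by
    apply pullback.hom_ext
    · rw [Category.assoc, hθ1, pullback.lift_fst, Category.assoc, pullback.diagonal_fst,
        Category.comp_id]
    · rw [Category.assoc, hθ2, ← Category.assoc, pullback.lift_snd, Category.id_comp,
        Category.assoc, pullback.diagonal_snd, Category.comp_id]
  have sqσ : IsPullback σ x' θ (pullback.diagonal g) := by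
    refine IsPullback.of_right (h₁₂ := pullback.snd g (x' ≫ g)) (h₂₂ := pullback.snd g g) ?_ hσθ sqA.flip
    rw [hσ2, pullback.diagonal_snd]
    exact IsPullback.of_horiz_isIso ⟨by rw [Category.id_comp, Category.comp_id]⟩
  let pt : ↥(Spec (.of K)) := fieldPt K
  refine ⟨φ, σ pt, φ.isOpenEmbedding.injective, ?_, ?_⟩
  · rintro ⟨z, hz⟩
    have h1 : θ (φ z) ∈ (C : Set ↥(pullback g g)) := by
      rw [← Scheme.Hom.comp_apply, hφ1, Scheme.Hom.comp_apply]
      exact (pullback.fst (C.ι ≫ pullback.snd g g) x' z).2
    have h2 : θ (φ z) ∈ Set.range (pullback.diagonal g) := by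
      rw [hz, ← Scheme.Hom.comp_apply, hσθ, Scheme.Hom.comp_apply]
      exact ⟨_, rfl⟩
    rw [hC] at h1
    exact h1 h2
  · intro w hw
    by_cases hθw : θ w ∈ Set.range (pullback.diagonal g)
    · exfalso
      obtain ⟨r, hr⟩ := hθw
      obtain ⟨p, hp1, -⟩ := exists_preimage_of_isPullback sqσ w r hr.symm
      have hpt : p = pt := fieldPt_eq K p
      exact hw (by rw [← hp1, hpt])
    · have hθC : θ w ∈ (C : Set ↥(pullback g g)) := by rw [hC]; exact hθw
      obtain ⟨c, hc⟩ : ∃ c : ↥(C : Scheme.{u}), C.ι c = θ w := ⟨⟨θ w, hθC⟩, rfl⟩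
      obtain ⟨p, hp1, -⟩ := exists_preimage_of_isPullback sqB w c hc.symm
      exact ⟨p, hp1⟩

/-- The degree strata of the off-diagonal part of `T' ×_T T' ⟶ T'` are the preimages of the degree strata of `g`,
shifted by one. -/
theorem preimage_degGE_succ {T' T : Scheme.{u}} (g : T' ⟶ T) (C : (pullback g g).Opens)
    (hC : (C : Set ↥(pullback g g)) = (Set.range (pullback.diagonal g))ᶜ) (d : ℕ) :
    g ⁻¹' degGE g (d + 1) = degGE (C.ι ≫ pullback.snd g g) d := by
  classical
  ext r
  constructor
  · rintro ⟨K, _, x, hx, F, hF⟩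
    obtain ⟨z, hz1, -⟩ := Scheme.Pullback.exists_preimage_pullback (f := g) (g := x) r
      (fieldPt K) hx.symm
    let K' := (pullback g x).residueField z
    let y : Spec (.of K') ⟶ T' := (pullback g x).fromSpecResidueField z ≫ pullback.fst g x
    let e : Spec (.of K') ⟶ Spec (.of K) := (pullback g x).fromSpecResidueField z ≫ pullback.snd g x
    have hye : y ≫ g = e ≫ x := by
      change ((pullback g x).fromSpecResidueField z ≫ pullback.fst g x) ≫ g =
        ((pullback g x).fromSpecResidueField z ≫ pullback.snd g x) ≫ x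
      rw [Category.assoc, Category.assoc, pullback.condition]
    have hy : y (fieldPt K') = r := by
      change pullback.fst g x ((pullback g x).fromSpecResidueField z (fieldPt K')) = r
      rw [Scheme.fromSpecResidueField_apply, hz1]
    obtain ⟨F', hF'⟩ := exists_finset_card_eq_of_comp g e x (y ≫ g) hye F
    obtain ⟨φ, w₀, hφinj, hw₀, hφ⟩ := offDiag_fibre g C hC y
    have hsub : (↑(F'.erase w₀) : Set ↥(pullback g (y ≫ g))) ⊆ (fun z' => φ z') '' Set.univ := by
      intro w hw
      rw [Finset.coe_erase] at hw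
      obtain ⟨p, hp⟩ := hφ w hw.2
      exact ⟨p, trivial, hp⟩
    obtain ⟨s', -, hs'⟩ := Finset.subset_set_image_iff.1 hsub
    refine ⟨K', inferInstance, y, hy, s', ?_⟩
    have h1 : (F'.erase w₀).card ≤ s'.card := by
      rw [← hs']
      exact Finset.card_image_le
    have h2 : F'.card - 1 ≤ (F'.erase w₀).card := Finset.pred_card_le_card_erase
    omega
  · rintro ⟨K, _, y, hy, F, hF⟩
    obtain ⟨φ, w₀, hφinj, hw₀, -⟩ := offDiag_fibre g C hC y
    refine ⟨K, inferInstance, y ≫ g, ?_, insert w₀ (F.image fun z => φ z), ?_⟩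
    · change g (y (fieldPt K)) = g r
      rw [hy]
    · have hnot : w₀ ∉ F.image fun z => φ z := by
        intro hmem
        obtain ⟨z, -, hz⟩ := Finset.mem_image.1 hmem
        exact hw₀ ⟨z, hz⟩
      rw [Finset.card_insert_of_notMem hnot, Finset.card_image_of_injective F hφinj]
      omega

/-- Positive degree strata lie in the image. -/
theorem degGE_succ_subset_range {R U : Scheme.{u}} (s : R ⟶ U) (d : ℕ) :
    degGE s (d + 1) ⊆ Set.range s := by
  rintro u ⟨K, _, x, hx, F, hF⟩
  have hne : F.Nonempty := by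
    rw [← Finset.card_pos]
    omega
  obtain ⟨z, -⟩ := hne
  refine ⟨pullback.fst s x z, ?_⟩
  rw [← Scheme.Hom.comp_apply, pullback.condition, Scheme.Hom.comp_apply, ← hx,
    fieldPt_eq K (pullback.snd s x z)]

/-- The complement of the diagonal in `T' ×_T T'`, for `g` separated. -/
noncomputable def offDiag {T' T : Scheme.{u}} (g : T' ⟶ T) [IsSeparated g] : (pullback g g).Opens :=
  ⟨(Set.range (pullback.diagonal g))ᶜ,
    (pullback.diagonal g).isClosedEmbedding.isClosed_range.isOpen_compl⟩

/-- The second projection from the complement of the diagonal. -/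
noncomputable def offDiagMap {T' T : Scheme.{u}} (g : T' ⟶ T) [IsSeparated g] :
    (offDiag g : Scheme.{u}) ⟶ T' :=
  (offDiag g).ι ≫ pullback.snd g g

instance {T' T : Scheme.{u}} (g : T' ⟶ T) [IsSeparated g] [Etale g] : Etale (offDiagMap g) := by
  unfold offDiagMap
  infer_instance

instance {T' T : Scheme.{u}} (g : T' ⟶ T) [IsSeparated g] : IsSeparated (offDiagMap g) := by
  unfold offDiagMap
  infer_instance

theorem FibBound.offDiagMap {T' T : Scheme.{u}} (g : T' ⟶ T) [IsSeparated g] {n : ℕ}
    (hg : FibBound g (n + 1)) : FibBound (offDiagMap g) n :=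
  hg.offDiagonal g (offDiag g) disjoint_compl_left

theorem preimage_degGE_succ' {T' T : Scheme.{u}} (g : T' ⟶ T) [IsSeparated g] (d : ℕ) :
    g ⁻¹' degGE g (d + 1) = degGE (offDiagMap g) d :=
  preimage_degGE_succ g (offDiag g) rfl d

/-- The degree strata of a separated étale morphism are open. -/
theorem isOpen_degGE (d : ℕ) : ∀ {T' T : Scheme.{u}} (g : T' ⟶ T) [Etale g] [IsSeparated g],
    IsOpen (degGE g d) := by
  induction d with
  | zero =>
    intro T' T g _ _
    rw [degGE_zero]
    exact isOpen_univ
  | succ d ih =>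
    intro T' T g _ _
    have h2 : degGE g (d + 1) = g '' (degGE (offDiagMap g) d) := by
      rw [← preimage_degGE_succ' g d, Set.image_preimage_eq_inter_range,
        Set.inter_eq_left.2 (degGE_succ_subset_range g d)]
    rw [h2]
    exact g.isOpenMap _ (ih (offDiagMap g))

/-- If the off-diagonal part of `T' ×_T T'` is finite over `T'`, so is `T' ×_T T'`. -/
theorem isFinite_snd_of_isFinite_offDiagMap {T' T : Scheme.{u}} (g : T' ⟶ T) [Etale g] [IsSeparated g]
    [IsFinite (offDiagMap g)] : IsFinite (pullback.snd g g) := by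
  have hΔ : IsOpenImmersion (pullback.diagonal g) := inferInstance
  have hcompl : IsCompl (pullback.diagonal g).opensRange (offDiag g).ι.opensRange := by
    rw [Scheme.Opens.opensRange_ι]
    constructor
    · rw [disjoint_iff]
      ext w
      simp only [TopologicalSpace.Opens.coe_inf, Scheme.Hom.coe_opensRange, Set.mem_inter_iff,
        TopologicalSpace.Opens.coe_bot, Set.mem_empty_iff_false, iff_false, not_and]
      intro h1 h2
      exact h2 h1
    · rw [codisjoint_iff]
      ext w
      simp only [TopologicalSpace.Opens.coe_sup, Scheme.Hom.coe_opensRange, Set.mem_union,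
        TopologicalSpace.Opens.coe_top, Set.mem_univ, iff_true]
      by_cases h : w ∈ Set.range (pullback.diagonal g)
      · exact Or.inl h
      · exact Or.inr h
  obtain ⟨H⟩ := nonempty_isColimit_binaryCofanMk_of_isCompl (pullback.diagonal g) (offDiag g).ι hcompl
  let e : T' ⨿ (offDiag g : Scheme.{u}) ≅ pullback g g :=
    (colimit.isColimit (pair T' (offDiag g : Scheme.{u}))).coconePointUniqueUpToIso H
  have he1 : coprod.inl ≫ e.hom = pullback.diagonal g :=
    (colimit.isColimit (pair T' (offDiag g : Scheme.{u}))).comp_coconePointUniqueUpToIso_hom H ⟨.left⟩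
  have he2 : coprod.inr ≫ e.hom = (offDiag g).ι :=
    (colimit.isColimit (pair T' (offDiag g : Scheme.{u}))).comp_coconePointUniqueUpToIso_hom H ⟨.right⟩
  have hcomp : e.hom ≫ pullback.snd g g = coprod.desc (𝟙 T') (offDiagMap g) := by
    apply coprod.hom_ext
    · rw [← Category.assoc, he1, pullback.diagonal_snd, coprod.inl_desc]
    · rw [← Category.assoc, he2, coprod.inr_desc]
      rfl
  have hfin : IsFinite (e.hom ≫ pullback.snd g g) := by
    rw [hcomp]
    infer_instance
  have heq : pullback.snd g g = e.inv ≫ (e.hom ≫ pullback.snd g g) := by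
    rw [Iso.inv_hom_id_assoc]
  rw [heq]
  infer_instance

set_option backward.isDefEq.respectTransparency false in
/-- A separated étale morphism all of whose field-valued fibres have at most `n` points, and which has a fibre with `n`
points over every point, is finite. -/
theorem isFinite_of_fibBound_of_degGE_eq_univ (n : ℕ) : ∀ {R U : Scheme.{u}} (s : R ⟶ U) [Etale s]
    [IsSeparated s], FibBound s n → degGE s n = Set.univ → IsFinite s := by
  induction n with
  | zero =>
    intro R U s _ _ hb _
    have := hb.isEmpty_of_zero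
    infer_instance
  | succ n ih =>
    intro R U s _ _ hb htop
    have hq : IsFinite (offDiagMap s) := ih (offDiagMap s) hb.offDiagMap (by
      rw [← preimage_degGE_succ' s n, htop, Set.preimage_univ])
    have hsnd : IsFinite (pullback.snd s s) := isFinite_snd_of_isFinite_offDiagMap s
    have hsurj : Surjective s :=
      ⟨fun u => degGE_succ_subset_range s n (htop ▸ Set.mem_univ u)⟩
    have := Groth.Agent.Lib.Helper1.descendsAlong_isFinite_fpqc.{u}
    exact MorphismProperty.of_pullback_snd_of_descendsAlong (P := @IsFinite)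
      (Q := @Surjective ⊓ @Flat ⊓ @LocallyOfFinitePresentation) (f := s) (g := s)
      ⟨⟨hsurj, inferInstance⟩, inferInstance⟩ hsnd

/-- A field-valued point of the target through the image of `z` lifts, after a field extension, to a field-valued point
through `z`. -/
theorem exists_field_point_over {Z U : Scheme.{u}} (h : Z ⟶ U) (z : ↥Z) {K : Type u} [Field K]
    (x : Spec (.of K) ⟶ U) (hx : x (fieldPt K) = h z) :
    ∃ (K' : Type u) (_ : Field K') (y : Spec (.of K') ⟶ Z) (e : Spec (.of K') ⟶ Spec (.of K)),
      y (fieldPt K') = z ∧ y ≫ h = e ≫ x := by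
  obtain ⟨w, hw1, -⟩ := Scheme.Pullback.exists_preimage_pullback (f := h) (g := x) z (fieldPt K) hx.symm
  refine ⟨(pullback h x).residueField w, inferInstance,
    (pullback h x).fromSpecResidueField w ≫ pullback.fst h x,
    (pullback h x).fromSpecResidueField w ≫ pullback.snd h x, ?_, ?_⟩
  · exact (congrArg (pullback.fst h x) (Scheme.fromSpecResidueField_apply w _)).trans hw1
  · rw [Category.assoc, Category.assoc, pullback.condition]

/-- Degree strata are compatible with base change. -/
theorem degGE_of_isPullback {P R Z U : Scheme.{u}} {fst : P ⟶ R} {snd : P ⟶ Z} {s : R ⟶ U} {h : Z ⟶ U}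
    (sq : IsPullback fst snd s h) (d : ℕ) : degGE snd d = h ⁻¹' degGE s d := by
  have key : ∀ {K : Type u} [Field K] (y : Spec (.of K) ⟶ Z),
      Nonempty (↥(pullback snd y) ≃ ↥(pullback s (y ≫ h))) := by
    intro K _ y
    have big : IsPullback (pullback.fst snd y ≫ fst) (pullback.snd snd y) s (y ≫ h) :=
      (IsPullback.of_hasPullback snd y).paste_horiz sq
    exact ⟨big.isoPullback.hom.homeomorph.toEquiv⟩
  ext z
  constructor
  · rintro ⟨K, _, y, hy, F, hF⟩
    obtain ⟨ε⟩ := key y
    refine ⟨K, inferInstance, y ≫ h, ?_, F.map ε.toEmbedding, ?_⟩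
    · change h (y (fieldPt K)) = h z
      rw [hy]
    · rw [Finset.card_map]
      exact hF
  · rintro ⟨K, _, x, hx, F, hF⟩
    obtain ⟨K', _, y, e, hy, hye⟩ := exists_field_point_over h z x hx
    obtain ⟨F', hF'⟩ := exists_finset_card_eq_of_comp s e x (y ≫ h) hye F
    obtain ⟨ε⟩ := key y
    refine ⟨K', inferInstance, y, hy, F'.map ε.symm.toEmbedding, ?_⟩
    rw [Finset.card_map, hF']
    exact hF

/-- Precomposing with an open immersion shrinks the degree strata. -/
theorem degGE_comp_openImmersion_subset {O R U : Scheme.{u}} (j : O ⟶ R) [IsOpenImmersion j] (s : R ⟶ U)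
    (d : ℕ) : degGE (j ≫ s) d ⊆ degGE s d := by
  rintro u ⟨K, _, x, hx, F, hF⟩
  have hoi : IsOpenImmersion (fibMap j s x) :=
    MorphismProperty.of_isPullback (P := @IsOpenImmersion) (isPullback_fibMap j s x).flip
      inferInstance
  refine ⟨K, inferInstance, x, hx, F.map ⟨fun z => fibMap j s x z, (fibMap j s x).isOpenEmbedding.injective⟩, ?_⟩
  rw [Finset.card_map]
  exact hF

/-- A bound on the fibres away from a degree stratum. -/
theorem FibBound.of_degGE_eq_empty {R U : Scheme.{u}} {s : R ⟶ U} {n : ℕ} (h : degGE s (n + 1) = ∅) :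
    FibBound s n := by
  intro K _ x F
  by_contra hcon
  have : x (fieldPt K) ∈ degGE s (n + 1) := ⟨K, inferInstance, x, rfl, F, by omega⟩
  rw [h] at this
  exact this

theorem degGE_eq_empty_of_fibBound {R U : Scheme.{u}} {s : R ⟶ U} {n : ℕ} (h : FibBound s n) :
    degGE s (n + 1) = ∅ := by
  ext u
  simp only [Set.mem_empty_iff_false, iff_false]
  rintro ⟨K, _, x, -, F, hF⟩
  have := h K x F
  omega

/-- A separated étale morphism all of whose field-valued fibres have at most `n` points is finite over the open set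
of points over which some fibre has `n` points. -/
theorem isFinite_morphismRestrict_degGE (n : ℕ) {R U : Scheme.{u}} (s : R ⟶ U) [Etale s] [IsSeparated s]
    (hb : FibBound s n) (V : U.Opens) (hV : (V : Set ↥U) = degGE s n) : IsFinite (s ∣_ V) := by
  have sq : IsPullback (s ⁻¹ᵁ V).ι (s ∣_ V) s V.ι := (isPullback_morphismRestrict s V).flip
  refine isFinite_of_fibBound_of_degGE_eq_univ n (s ∣_ V) (hb.of_isPullback sq) ?_
  rw [degGE_of_isPullback sq n, ← hV]
  ext v
  simp only [Set.mem_preimage, SetLike.mem_coe, Set.mem_univ, iff_true]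
  exact v.2

end Groth.Agent.Lib.Helper54
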