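import Groth.Agent.Lib.Helper54.ConfAct
import Groth.Agent.Lib.Helper54.DegStrata
import Groth.Agent.Lib.Helper54.FpqcTop
import Groth.Agent.Lib.Helper54.MonoPoint
import Groth.Agent.Lib.Helper54.DecentSchematic

/-!
# Fibres of the quotients of configuration spaces (helper54)

Key lemma: over a point of `X` which does not lift to the next configuration space, two field-valued points of the
quotient `V = W/Σ` with the same image in `X` are equal.
-/

set_option autoImplicit false
set_option backward.isDefEq.respectTransparency false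
set_option linter.style.haveILetI false
universe u
open CategoryTheory CategoryTheory.Limits AlgebraicGeometry Topology
open AlgSp

namespace Groth.Agent.Lib.Helper54

variable {S : Scheme.{u}} {X : Sp S} {U : Over S} {a : (yon S).obj U ⟶ X} {I : Type u}

/-- Lifting a field-valued point along a surjective morphism, after a field extension. -/
theorem exists_lift_fieldPt {W V : Over S} (m : W ⟶ V) (hms : Surjective m.left) {K : Type u} [Field K]
    (str : Spec (CommRingCat.of K) ⟶ S) (v : Over.mk str ⟶ V) :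
    ∃ (L : Type u) (_ : Field L) (strL : Spec (CommRingCat.of L) ⟶ S) (e : Over.mk strL ⟶ Over.mk str)
      (w : Over.mk strL ⟶ W), w ≫ m = e ≫ v := by
  obtain ⟨z, hz⟩ := hms.surj (v.left (fieldPt K))
  obtain ⟨L, _, y, e, -, hye⟩ := exists_field_point_over m.left z v.left hz.symm
  have hw : y ≫ W.hom = e ≫ str := by
    rw [← Over.w m, ← Category.assoc, hye, Category.assoc, Over.w v]
    rfl
  refine ⟨L, inferInstance, e ≫ str, Over.homMk e rfl, Over.homMk y hw, ?_⟩
  ext
  exact hye

/-- Two configurations over the same field-valued point of `X` which does not lift to the next configuration space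
differ by a permutation. -/
theorem Conf.exists_act_eq [Finite I] (C : Conf a I) (C' : Conf a (Option I)) {L : Type u} [Field L]
    (strL : Spec (CommRingCat.of L) ⟶ S) (w₁ w₂ : Over.mk strL ⟶ C.W)
    (hb : (yon S).map w₂ ≫ C.b = (yon S).map w₁ ≫ C.b)
    (hno : ∀ s, Points.ofPt ((yon S).map w₁ ≫ C.b) s ∉ Set.range (Points.ofPt C'.b)) :
    ∃ σ : Equiv.Perm I, w₂ = w₁ ≫ C.act σ := by
  classical
  have hpt : Nonempty ↥(Over.mk strL).left := ⟨fieldPt L⟩
  -- every coordinate of `w₂` is a coordinate of `w₁`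
  have hex : ∀ j, ∃ i, w₂ ≫ C.c j = w₁ ≫ C.c i := by
    intro j
    by_contra hne
    push Not at hne
    let t : Option I → (Over.mk strL ⟶ U) := fun o => o.elim (w₂ ≫ C.c j) (fun i => w₁ ≫ C.c i)
    obtain ⟨l, -, hl⟩ := C'.exists_lift t ((yon S).map w₁ ≫ C.b)
      (by
        rintro (_ | i)
        · change (yon S).map (w₂ ≫ C.c j) ≫ a = _
          rw [Functor.map_comp, Category.assoc, C.hc, hb]
        · change (yon S).map (w₁ ≫ C.c i) ≫ a = _
          rw [Functor.map_comp, Category.assoc, C.hc])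
      (by
        rintro (_ | i) (_ | i') hii'
        · exact absurd rfl hii'
        · exact disj_of_ne_field (hne i')
        · exact (disj_of_ne_field (hne i)).symm
        · exact (C.disj i i' (fun h => hii' (congrArg some h))).precomp w₁)
    obtain ⟨s₀⟩ := hpt
    apply hno s₀
    refine ⟨l.left s₀, ?_⟩
    rw [← ofPt_yon_map_comp, hl]
  choose φ hφ using hex
  have hφinj : Function.Injective φ := by
    intro j j' hjj'
    by_contra hne
    obtain ⟨s₀⟩ := hpt
    have hd := (C.disj j j' hne).precomp w₂ s₀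
    apply hd
    rw [hφ j, hφ j', hjj']
  have hφbij : Function.Bijective φ := Finite.injective_iff_bijective.mp hφinj
  refine ⟨(Equiv.ofBijective φ hφbij).symm, ?_⟩
  apply C.hom_ext
  · intro j
    rw [Category.assoc, C.act_c, hφ j]
    rfl
  · rw [Functor.map_comp, Category.assoc, C.act_b, hb]

/-- **Key lemma**: two field-valued points of the quotient `V` of the configuration space `C.W` with the same image
`ξ` in `X` are equal, when the point of `ξ` does not lift to the next configuration space. -/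
theorem Conf.eq_of_comp_eq [Finite I] (C : Conf a I) (C' : Conf a (Option I)) {V : Over S} (m : C.W ⟶ V)
    (hms : Surjective m.left) (hinv : ∀ σ, C.act σ ≫ m = m) (f : (yon S).obj V ⟶ X)
    (hf : (yon S).map m ≫ f = C.b) {K : Type u} [Field K] (str : Spec (CommRingCat.of K) ⟶ S)
    (v₁ v₂ : Over.mk str ⟶ V) (h : (yon S).map v₁ ≫ f = (yon S).map v₂ ≫ f)
    (hno : ∀ s, Points.ofPt ((yon S).map v₁ ≫ f) s ∉ Set.range (Points.ofPt C'.b)) : v₁ = v₂ := by
  obtain ⟨L₁, _, str₁, ε₁, w₁, hw₁⟩ := exists_lift_fieldPt m hms str v₁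
  obtain ⟨L, _, strL, ε₂, w₂, hw₂⟩ := exists_lift_fieldPt m hms str₁ (ε₁ ≫ v₂)
  have hw₁' : (ε₂ ≫ w₁) ≫ m = (ε₂ ≫ ε₁) ≫ v₁ := by rw [Category.assoc, hw₁, Category.assoc]
  have hw₂' : w₂ ≫ m = (ε₂ ≫ ε₁) ≫ v₂ := by rw [hw₂, Category.assoc]
  have hb₁ : (yon S).map (ε₂ ≫ w₁) ≫ C.b = (yon S).map (ε₂ ≫ ε₁) ≫ (yon S).map v₁ ≫ f := by
    rw [← hf, ← Category.assoc, ← Functor.map_comp, hw₁', Functor.map_comp, Category.assoc]
  have hb₂ : (yon S).map w₂ ≫ C.b = (yon S).map (ε₂ ≫ ε₁) ≫ (yon S).map v₁ ≫ f := by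
    rw [← hf, ← Category.assoc, ← Functor.map_comp, hw₂', Functor.map_comp, Category.assoc, h]
  obtain ⟨σ, hσ⟩ := C.exists_act_eq C' strL (ε₂ ≫ w₁) w₂ (by rw [hb₁, hb₂]) (by
    intro s
    rw [hb₁, ofPt_yon_map_comp]
    exact hno _)
  have hεv : (ε₂ ≫ ε₁) ≫ v₂ = (ε₂ ≫ ε₁) ≫ v₁ := by
    rw [← hw₂', hσ, Category.assoc, hinv, hw₁']
  have hepi : Epi (ε₂ ≫ ε₁).left := epi_of_spec_field (Field.toIsField K) (Field.toIsField L) _
  ext
  have := congrArg (fun k => k.left) hεv
  simp only [Over.comp_left] at this ⊢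
  rw [← Over.comp_left] at this
  exact ((cancel_epi (ε₂ ≫ ε₁).left).1 this).symm

/-- An étale surjective morphism which is injective on field-valued points is an isomorphism. -/
theorem isIso_of_etale_surjective_of_injective_fieldPts {A B : Scheme.{u}} (q : A ⟶ B) [Etale q] [Surjective q]
    (h : ∀ (K : Type u) [Field K] (g₁ g₂ : Spec (CommRingCat.of K) ⟶ A), g₁ ≫ q = g₂ ≫ q → g₁ = g₂) :
    IsIso q := by
  have h1 : UniversallyInjective q :=
    ((tfae_universallyInjective q).out 0 1).2 (by
      intro K _ g₁ g₂ hg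
      exact h K g₁ g₂ hg)
  have h2 : Surjective (pullback.diagonal q) := (UniversallyInjective.iff_diagonal q).1 h1
  have h3 : IsIso (pullback.diagonal q) :=
    (isIso_iff_isOpenImmersion_and_surjective _).mpr ⟨inferInstance, h2⟩
  have h4 : Mono q := (pullback.isIso_diagonal_iff q).mp h3
  have h5 : IsOpenImmersion q := IsOpenImmersion.of_flat_of_mono q
  exact (isIso_iff_isOpenImmersion_and_surjective q).mpr ⟨h5, inferInstance⟩

/-- Two sections of a morphism to the spectrum of a field through the same point are equal. -/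
theorem section_ext_of_apply_eq {Y : Scheme.{u}} {Ω : Type u} [Field Ω] (π : Y ⟶ Spec (CommRingCat.of Ω))
    (σ τ : Spec (CommRingCat.of Ω) ⟶ Y) (hσ : σ ≫ π = 𝟙 _) (hτ : τ ≫ π = 𝟙 _)
    (h : σ (fieldPt Ω) = τ (fieldPt Ω)) : σ = τ := by
  have : Mono τ := mono_of_mono_fac hτ
  obtain ⟨e, -, -⟩ := Scheme.Pullback.exists_preimage_pullback (f := σ) (g := τ) (fieldPt Ω) (fieldPt Ω) h
  have : Nonempty ↥(pullback σ τ) := ⟨e⟩
  have : IsIso (pullback.fst σ τ) := isIso_of_mono_of_nonempty_of_field _
  have h1 : pullback.fst σ τ = pullback.snd σ τ := by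
    have := congrArg (· ≫ π) (pullback.condition (f := σ) (g := τ))
    simpa only [Category.assoc, hσ, hτ, Category.comp_id] using this
  have h2 : pullback.fst σ τ ≫ σ = pullback.fst σ τ ≫ τ := by
    rw [pullback.condition, ← h1]
  exact (cancel_epi (pullback.fst σ τ)).1 h2

/-- Distinct sections over a field-valued point are bounded by a fibre bound. -/
theorem card_le_of_fibBound_of_sections {F B : Scheme.{u}} (g : F ⟶ B) {N : ℕ} (hN : FibBound g N)
    {Ω : Type u} [Field Ω] (x : Spec (CommRingCat.of Ω) ⟶ B) {ι : Type*} [Finite ι]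
    (φ : ι → (Spec (CommRingCat.of Ω) ⟶ F)) (hφ : ∀ i, φ i ≫ g = x) (hinj : Function.Injective φ) :
    Nat.card ι ≤ N := by
  classical
  let _ := Fintype.ofFinite ι
  let σ : ι → (Spec (CommRingCat.of Ω) ⟶ pullback g x) := fun i =>
    pullback.lift (φ i) (𝟙 _) (by rw [hφ i, Category.id_comp])
  have hσ1 : ∀ i, σ i ≫ pullback.fst g x = φ i := fun i => pullback.lift_fst _ _ _
  have hσ2 : ∀ i, σ i ≫ pullback.snd g x = 𝟙 _ := fun i => pullback.lift_snd _ _ _
  have hz : Function.Injective (fun i => σ i (fieldPt Ω)) := by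
    intro i j hij
    have := section_ext_of_apply_eq (pullback.snd g x) (σ i) (σ j) (hσ2 i) (hσ2 j) hij
    apply hinj
    rw [← hσ1 i, ← hσ1 j, this]
  have := hN Ω x (Finset.univ.image fun i => σ i (fieldPt Ω))
  rw [Finset.card_image_of_injective _ hz, Finset.card_univ] at this
  rw [Nat.card_eq_fintype_card]
  exact this

/-- The number of points of a configuration is bounded by any fibre bound of a base change of the chart through
which the configuration lies. -/
theorem Conf.card_le_of_fibBound [Finite I] (C : Conf a I) (ha : RepWith @Etale a) {Z : Over S}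
    (g : (yon S).obj Z ⟶ X) {N : ℕ} (hN : FibBound (ha.rep.snd g).left N) {Ω : Type u} [Field Ω]
    (strΩ : Spec (CommRingCat.of Ω) ⟶ S) (w : Over.mk strΩ ⟶ C.W) (β : Over.mk strΩ ⟶ Z)
    (h : (yon S).map w ≫ C.b = (yon S).map β ≫ g) : Nat.card I ≤ N := by
  have hu : ∀ i, (yon S).map (w ≫ C.c i) ≫ a = (yon S).map β ≫ g := fun i => by
    rw [Functor.map_comp, Category.assoc, C.hc, h]
  let φ : I → (Over.mk strΩ ⟶ ha.rep.pullback g) := fun i => ha.rep.lift' (w ≫ C.c i) β (hu i)
  have hφ1 : ∀ i, φ i ≫ ha.rep.fst' g = w ≫ C.c i := fun i => ha.rep.lift'_fst _ _ _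
  have hφ2 : ∀ i, φ i ≫ ha.rep.snd g = β := fun i => ha.rep.lift'_snd _ _ _
  refine card_le_of_fibBound_of_sections (ha.rep.snd g).left hN β.left (fun i => (φ i).left)
    (fun i => by rw [← Over.comp_left, hφ2]) ?_
  intro i j hij
  by_contra hne
  have hφij : φ i = φ j := by
    ext
    exact hij
  have hwc : w ≫ C.c i = w ≫ C.c j := by rw [← hφ1 i, ← hφ1 j, hφij]
  have hd := (C.disj i j hne).precomp w (fieldPt Ω)
  exact hd (by rw [hwc])

theorem nat_card_idx (n : ℕ) : Nat.card (Idx.{u} n) = n + 1 := by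
  induction n with
  | zero =>
    change Nat.card PUnit.{u + 1} = 1
    exact Nat.card_unique
  | succ n ih =>
    change Nat.card (Option (Idx.{u} n)) = n + 1 + 1
    rw [Finite.card_option, ih]

end Groth.Agent.Lib.Helper54
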