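import Groth.Agent.Lib.Helper51.OverCoprod
import Groth.Agent.Lib.Helper54.MonoField
import Groth.Agent.H52.QSChart2
import Mathlib.AlgebraicGeometry.Morphisms.FlatMono

/-!
# Configuration spaces of an étale chart of an algebraic space (helper54)

For `a : h_U ⟶ X` representable étale with `U` a separated scheme, `Conf a I` is the structure of a scheme `W`
representing `I`-tuples of pairwise (field-pointwise) distinct sections of `a` over a common point of `X`.
`Conf.base` is the case of one point, `Conf.step` adds a point.
-/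

set_option autoImplicit false
set_option backward.isDefEq.respectTransparency false
set_option linter.style.haveILetI false
universe u
open CategoryTheory CategoryTheory.Limits AlgebraicGeometry Topology
open AlgSp

namespace Groth.Agent.Lib.Helper54

variable {S : Scheme.{u}}

/-- Comparing two morphisms at the residue field of a point, before and after a morphism. -/
theorem fromSpecResidueField_comp_eq_iff {A B Y : Scheme.{u}} (j : A ⟶ B) (α β : B ⟶ Y) (x : A) :
    A.fromSpecResidueField x ≫ j ≫ α = A.fromSpecResidueField x ≫ j ≫ β ↔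
      B.fromSpecResidueField (j x) ≫ α = B.fromSpecResidueField (j x) ≫ β := by
  rw [← Category.assoc, ← Category.assoc,
    ← Scheme.Hom.SpecMap_residueFieldMap_fromSpecResidueField, Category.assoc, Category.assoc,
    cancel_epi]

/-- The locus where two morphisms to a separated scheme agree (on residue fields) is closed. -/
theorem isClosed_eqLocus {P Y : Scheme.{u}} [Y.IsSeparated] (f g : P ⟶ Y) :
    IsClosed {x : P | P.fromSpecResidueField x ≫ f = P.fromSpecResidueField x ≫ g} := by
  have h : {x : P | P.fromSpecResidueField x ≫ f = P.fromSpecResidueField x ≫ g} =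
      Set.range (equalizer.ι f g) := by
    ext x
    constructor
    · intro hx
      refine ⟨equalizer.lift (P.fromSpecResidueField x) hx (IsLocalRing.closedPoint _), ?_⟩
      rw [← Scheme.Hom.comp_apply, equalizer.lift_ι, Scheme.fromSpecResidueField_apply]
    · rintro ⟨e, rfl⟩
      change P.fromSpecResidueField (equalizer.ι f g e) ≫ f =
        P.fromSpecResidueField (equalizer.ι f g e) ≫ g
      rw [← fromSpecResidueField_comp_eq_iff, equalizer.condition]
  rw [h]
  exact (equalizer.ι f g).isClosedEmbedding.isClosed_range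

/-- Two morphisms over `S` are disjoint: at no point do they agree on the residue field. -/
def Disj {T U : Over S} (t t' : T ⟶ U) : Prop :=
  ∀ x : T.left, T.left.fromSpecResidueField x ≫ t.left ≠ T.left.fromSpecResidueField x ≫ t'.left

theorem Disj.symm {T U : Over S} {t t' : T ⟶ U} (h : Disj t t') : Disj t' t :=
  fun x hx => h x hx.symm

theorem Disj.precomp {T' T U : Over S} {t t' : T ⟶ U} (h : Disj t t') (f : T' ⟶ T) :
    Disj (f ≫ t) (f ≫ t') := by
  intro y hy
  apply h (f.left y)
  rw [← fromSpecResidueField_comp_eq_iff]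
  simpa only [Over.comp_left] using hy

/-- A morphism between spectra of fields is an epimorphism. -/
theorem epi_of_spec_field {K L : CommRingCat.{u}} (hK : IsField K) (hL : IsField L) (g : Spec L ⟶ Spec K) :
    Epi g := by
  rw [← Spec.map_preimage g]
  exact Groth.Agent.Lib.Helper51.epi_specMap_of_isField hK hL _

/-- Disjointness of two points with values in a field is inequality. -/
theorem disj_of_ne_field {K : Type u} [Field K] {str : Spec (CommRingCat.of K) ⟶ S} {U : Over S}
    {t t' : Over.mk str ⟶ U} (h : t ≠ t') : Disj t t' := by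
  intro x hx
  have : Epi ((Over.mk str).left.fromSpecResidueField x) :=
    epi_of_spec_field (Field.toIsField K) (Field.toIsField _) _
  apply h
  ext
  exact (cancel_epi _).1 hx

/-- A configuration space: a scheme `W` over `S` with `I` pairwise disjoint morphisms to `U` over a common morphism to
`X`, universal with this property. -/
structure Conf {X : Sp S} {U : Over S} (a : (yon S).obj U ⟶ X) (I : Type u) where
  /-- the configuration scheme -/
  W : Over S
  /-- the coordinates -/
  c : I → (W ⟶ U)
  /-- the map to `X` -/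
  b : (yon S).obj W ⟶ X
  hc : ∀ i, (yon S).map (c i) ≫ a = b
  disj : ∀ i j, i ≠ j → Disj (c i) (c j)
  exists_lift : ∀ {T : Over S} (t : I → (T ⟶ U)) (bT : (yon S).obj T ⟶ X),
    (∀ i, (yon S).map (t i) ≫ a = bT) → (∀ i j, i ≠ j → Disj (t i) (t j)) →
    ∃ l : T ⟶ W, (∀ i, l ≫ c i = t i) ∧ (yon S).map l ≫ b = bT
  hom_ext : ∀ {T : Over S} (f g : T ⟶ W), (∀ i, f ≫ c i = g ≫ c i) →
    (yon S).map f ≫ b = (yon S).map g ≫ b → f = g
  sep : W.left.IsSeparated
  etale_b : RepWith @Etale b
  etale_c : ∀ i, Etale (c i).left
  compact : QuasiSeparatedSpace ↥S → IsQuasiSeparatedSp X → CompactSpace ↥U.left → CompactSpace ↥W.left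

variable {X : Sp S} {U : Over S} {a : (yon S).obj U ⟶ X}

/-- The configuration space of one point. -/
noncomputable def Conf.base (ha : RepWith @Etale a) (hU : U.left.IsSeparated) : Conf a PUnit.{u + 1} where
  W := U
  c _ := 𝟙 U
  b := a
  hc _ := by rw [CategoryTheory.Functor.map_id, Category.id_comp]
  disj i j hij := absurd (Subsingleton.elim i j) hij
  exists_lift t bT h1 _ := ⟨t PUnit.unit, fun _ => Category.comp_id _, h1 _⟩
  hom_ext f g h _ := by simpa only [Category.comp_id] using h PUnit.unit
  sep := hU
  etale_b := ha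
  etale_c _ := by rw [Over.id_left]; infer_instance
  compact _ _ h := h

/-- The two projections of a representable fibre product are jointly monic on underlying schemes. -/
theorem left_hom_ext_of_representable (hrep : Representable a) {W : Over S} (b : (yon S).obj W ⟶ X)
    {Z : Scheme.{u}} (α β : Z ⟶ (hrep.pullback b).left)
    (h1 : α ≫ (hrep.fst' b).left = β ≫ (hrep.fst' b).left)
    (h2 : α ≫ (hrep.snd b).left = β ≫ (hrep.snd b).left) : α = β := by
  have hβ : β ≫ (hrep.pullback b).hom = α ≫ (hrep.pullback b).hom := by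
    rw [← Over.w (hrep.snd b), ← Category.assoc, ← h2, Category.assoc]
  let α' : Over.mk (α ≫ (hrep.pullback b).hom) ⟶ hrep.pullback b := Over.homMk α rfl
  let β' : Over.mk (α ≫ (hrep.pullback b).hom) ⟶ hrep.pullback b := Over.homMk β hβ
  have : α' = β' := hrep.hom_ext' (by ext; exact h1) (by ext; exact h2)
  exact congrArg (fun f => f.left) this

/-- The locus where two morphisms to `U` with the same composite to `X` agree is open when `a` is étale. -/
theorem isOpen_eqLocus_of_etale (ha : RepWith @Etale a) {P : Over S} (f g : P ⟶ U)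
    (h : (yon S).map f ≫ a = (yon S).map g ≫ a) :
    IsOpen {x : P.left | P.left.fromSpecResidueField x ≫ f.left =
      P.left.fromSpecResidueField x ≫ g.left} := by
  have hrep := ha.rep
  let p1 : hrep.pullback a ⟶ U := hrep.fst' a
  let p2 : hrep.pullback a ⟶ U := hrep.snd a
  let Δ : U ⟶ hrep.pullback a := hrep.lift' (𝟙 U) (𝟙 U) (by simp)
  have hΔ1 : Δ ≫ p1 = 𝟙 U := hrep.lift'_fst _ _ _
  have hΔ2 : Δ ≫ p2 = 𝟙 U := hrep.lift'_snd _ _ _
  let φ : P ⟶ hrep.pullback a := hrep.lift' f g h
  have hφ1 : φ ≫ p1 = f := hrep.lift'_fst _ _ _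
  have hφ2 : φ ≫ p2 = g := hrep.lift'_snd _ _ _
  have hΔ1' : Δ.left ≫ p1.left = 𝟙 _ := by rw [← Over.comp_left, hΔ1, Over.id_left]
  have hΔ2' : Δ.left ≫ p2.left = 𝟙 _ := by rw [← Over.comp_left, hΔ2, Over.id_left]
  have hφ1' : φ.left ≫ p1.left = f.left := by rw [← Over.comp_left, hφ1]
  have hφ2' : φ.left ≫ p2.left = g.left := by rw [← Over.comp_left, hφ2]
  have he2 : Etale p2.left := ha.property_snd a
  have : Etale (Δ.left ≫ p2.left) := by rw [hΔ2']; infer_instance
  have : Etale Δ.left := Etale.of_comp Δ.left p2.left
  have : Mono Δ.left := mono_of_mono_fac hΔ2'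
  have : IsOpenImmersion Δ.left := IsOpenImmersion.of_flat_of_mono _
  have key : {x : P.left | P.left.fromSpecResidueField x ≫ f.left =
      P.left.fromSpecResidueField x ≫ g.left} = φ.left ⁻¹' Set.range Δ.left := by
    ext x
    simp only [Set.mem_ofPred_eq, Set.mem_preimage]
    constructor
    · intro hx
      have e : P.left.fromSpecResidueField x ≫ φ.left =
          (P.left.fromSpecResidueField x ≫ f.left) ≫ Δ.left := by
        apply left_hom_ext_of_representable hrep a
        · rw [Category.assoc, Category.assoc]
          change _ ≫ φ.left ≫ p1.left = _ ≫ Δ.left ≫ p1.left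
          rw [hφ1', hΔ1', Category.comp_id]
        · rw [Category.assoc, Category.assoc]
          change _ ≫ φ.left ≫ p2.left = _ ≫ Δ.left ≫ p2.left
          rw [hφ2', hΔ2', Category.comp_id, hx]
      refine ⟨(P.left.fromSpecResidueField x ≫ f.left) (IsLocalRing.closedPoint _), ?_⟩
      rw [← Scheme.Hom.comp_apply, ← e, Scheme.Hom.comp_apply, Scheme.fromSpecResidueField_apply]
    · intro hx
      have hr : Set.range (P.left.fromSpecResidueField x ≫ φ.left) ⊆ Set.range Δ.left := by
        rintro _ ⟨s, rfl⟩
        rw [Scheme.Hom.comp_apply, Scheme.fromSpecResidueField_apply]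
        exact hx
      have e := IsOpenImmersion.lift_fac Δ.left (P.left.fromSpecResidueField x ≫ φ.left) hr
      rw [← hφ1', ← hφ2', ← Category.assoc, ← Category.assoc, ← e, Category.assoc, Category.assoc,
        hΔ1', hΔ2']
  rw [key]
  exact Δ.left.isOpenEmbedding.isOpen_range.preimage φ.left.continuous

section Step

variable {I : Type u} (C : Conf a I) (hrep : Representable a)

/-- `W ×_X U`. -/
noncomputable def Conf.stepP : Over S := hrep.pullback C.b

/-- The projection `W ×_X U ⟶ U`. -/
noncomputable def Conf.stepPU : C.stepP hrep ⟶ U := hrep.fst' C.b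

/-- The projection `W ×_X U ⟶ W`. -/
noncomputable def Conf.stepPW : C.stepP hrep ⟶ C.W := hrep.snd C.b

theorem Conf.isPullback_stepP :
    IsPullback ((yon S).map (C.stepPU hrep)) ((yon S).map (C.stepPW hrep)) a C.b :=
  hrep.isPullback' C.b

/-- The locus of `W ×_X U` where the new point differs from the old ones. -/
def Conf.stepSet : Set ↥(C.stepP hrep).left :=
  {x | ∀ i, (C.stepP hrep).left.fromSpecResidueField x ≫ (C.stepPW hrep ≫ C.c i).left ≠
    (C.stepP hrep).left.fromSpecResidueField x ≫ (C.stepPU hrep).left}

theorem Conf.isOpen_stepSet [Finite I] (hU : U.left.IsSeparated) : IsOpen (C.stepSet hrep) := by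
  have h : C.stepSet hrep = ⋂ i, {x | (C.stepP hrep).left.fromSpecResidueField x ≫
      (C.stepPW hrep ≫ C.c i).left = (C.stepP hrep).left.fromSpecResidueField x ≫
        (C.stepPU hrep).left}ᶜ := by
    ext x
    simp only [Conf.stepSet, Set.mem_iInter, Set.mem_compl_iff]
    rfl
  rw [h]
  exact isOpen_iInter_of_finite fun i => (isClosed_eqLocus _ _).isOpen_compl

/-- The open subscheme of `W ×_X U` where the new point differs from the old ones. -/
def Conf.stepO [Finite I] (hU : U.left.IsSeparated) : (C.stepP hrep).left.Opens :=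
  ⟨C.stepSet hrep, C.isOpen_stepSet hrep hU⟩

/-- The next configuration scheme. -/
noncomputable def Conf.stepW [Finite I] (hU : U.left.IsSeparated) : Over S :=
  Over.mk ((C.stepO hrep hU).ι ≫ (C.stepP hrep).hom)

/-- The inclusion of the next configuration scheme in `W ×_X U`. -/
noncomputable def Conf.stepι [Finite I] (hU : U.left.IsSeparated) : C.stepW hrep hU ⟶ C.stepP hrep :=
  Over.homMk (C.stepO hrep hU).ι rfl

/-- The coordinates of the next configuration scheme. -/
noncomputable def Conf.stepc [Finite I] (hU : U.left.IsSeparated) : Option I → (C.stepW hrep hU ⟶ U)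
  | none => C.stepι hrep hU ≫ C.stepPU hrep
  | some i => (C.stepι hrep hU ≫ C.stepPW hrep) ≫ C.c i

theorem Conf.stepP_isSeparated (hU : U.left.IsSeparated) : (C.stepP hrep).left.IsSeparated := by
  have := C.sep
  let m : (C.stepP hrep).left ⟶ pullback (terminal.from C.W.left) (terminal.from U.left) :=
    pullback.lift (C.stepPW hrep).left (C.stepPU hrep).left (terminal.hom_ext _ _)
  have hm1 : m ≫ pullback.fst _ _ = (C.stepPW hrep).left := pullback.lift_fst _ _ _
  have hm2 : m ≫ pullback.snd _ _ = (C.stepPU hrep).left := pullback.lift_snd _ _ _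
  have hm : Mono m := by
    refine ⟨fun α β hαβ => left_hom_ext_of_representable hrep C.b α β ?_ ?_⟩
    · have := congrArg (· ≫ pullback.snd _ _) hαβ
      simp only [Category.assoc, hm2] at this
      exact this
    · have := congrArg (· ≫ pullback.fst _ _) hαβ
      simp only [Category.assoc, hm1] at this
      exact this
  have e : terminal.from (C.stepP hrep).left =
      m ≫ pullback.fst (terminal.from C.W.left) (terminal.from U.left) ≫ terminal.from C.W.left :=
    terminal.hom_ext _ _
  constructor
  rw [e]
  infer_instance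

theorem Conf.stepι_left [Finite I] (hU : U.left.IsSeparated) :
    (C.stepι hrep hU).left = (C.stepO hrep hU).ι := rfl

theorem Conf.stepι_mem [Finite I] (hU : U.left.IsSeparated) (x : ↥(C.stepW hrep hU).left) :
    (C.stepι hrep hU).left x ∈ C.stepSet hrep := by
  have : (C.stepO hrep hU).ι x ∈ Set.range (C.stepO hrep hU).ι := ⟨x, rfl⟩
  rw [Scheme.Opens.range_ι] at this
  exact this

/-- Lifting to the open subscheme. -/
theorem Conf.exists_lift_stepι [Finite I] (hU : U.left.IsSeparated) {T : Over S} (l : T ⟶ C.stepP hrep)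
    (hl : ∀ y : T.left, l.left y ∈ C.stepSet hrep) :
    ∃ l' : T ⟶ C.stepW hrep hU, l' ≫ C.stepι hrep hU = l := by
  have hr : Set.range l.left ⊆ Set.range (C.stepO hrep hU).ι := by
    rw [Scheme.Opens.range_ι]
    rintro _ ⟨y, rfl⟩
    exact hl y
  have e := IsOpenImmersion.lift_fac (C.stepO hrep hU).ι l.left hr
  refine ⟨Over.homMk (IsOpenImmersion.lift (C.stepO hrep hU).ι l.left hr) ?_, ?_⟩
  · change _ ≫ (C.stepO hrep hU).ι ≫ (C.stepP hrep).hom = _
    rw [← Category.assoc, e, Over.w]
  · ext
    exact e

theorem Conf.stepι_cancel [Finite I] (hU : U.left.IsSeparated) {T : Over S} (f g : T ⟶ C.stepW hrep hU)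
    (h : f ≫ C.stepι hrep hU = g ≫ C.stepι hrep hU) : f = g := by
  ext
  have := congrArg (fun k => k.left) h
  simp only [Over.comp_left] at this
  have hm : Mono (C.stepι hrep hU).left := by
    rw [Conf.stepι_left]
    infer_instance
  exact (cancel_mono (C.stepι hrep hU).left).1 this

theorem Conf.stepP_hom_ext {T : Over S} (f g : T ⟶ C.stepP hrep)
    (h1 : f ≫ C.stepPU hrep = g ≫ C.stepPU hrep) (h2 : f ≫ C.stepPW hrep = g ≫ C.stepPW hrep) : f = g :=
  hrep.hom_ext' h1 h2

theorem Conf.stepc_none [Finite I] (hU : U.left.IsSeparated) :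
    C.stepc hrep hU none = C.stepι hrep hU ≫ C.stepPU hrep := rfl

theorem Conf.stepc_some [Finite I] (hU : U.left.IsSeparated) (i : I) :
    C.stepc hrep hU (some i) = (C.stepι hrep hU ≫ C.stepPW hrep) ≫ C.c i := rfl

theorem Conf.disj_stepc_some_none [Finite I] (hU : U.left.IsSeparated) (i : I) :
    Disj (C.stepc hrep hU (some i)) (C.stepc hrep hU none) := by
  intro x hx
  have hmem := C.stepι_mem hrep hU x i
  apply hmem
  rw [← fromSpecResidueField_comp_eq_iff]
  simpa only [Conf.stepc_none, Conf.stepc_some, Over.comp_left, Category.assoc] using hx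

end Step

/-- Adding a point to a configuration space. -/
noncomputable def Conf.step {I : Type u} [Finite I] (C : Conf a I) (ha : RepWith @Etale a)
    (hU : U.left.IsSeparated) : Conf a (Option I) where
  W := C.stepW ha.rep hU
  c := C.stepc ha.rep hU
  b := (yon S).map (C.stepι ha.rep hU ≫ C.stepPW ha.rep) ≫ C.b
  hc := by
    rintro (_ | i)
    · rw [Conf.stepc_none, Functor.map_comp, Functor.map_comp, Category.assoc, Category.assoc,
        (C.isPullback_stepP ha.rep).w]
    · rw [Conf.stepc_some, Functor.map_comp, Category.assoc, C.hc]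
  disj := by
    rintro (_ | i) (_ | j) hij
    · exact absurd rfl hij
    · exact (C.disj_stepc_some_none ha.rep hU j).symm
    · exact C.disj_stepc_some_none ha.rep hU i
    · exact (C.disj i j (fun h => hij (congrArg some h))).precomp _
  exists_lift := by
    intro T t bT h1 h2
    obtain ⟨l₀, hl₀c, hl₀b⟩ := C.exists_lift (fun i => t (some i)) bT (fun i => h1 _)
      (fun i j hij => h2 _ _ (fun h => hij (Option.some.inj h)))
    have hw : (yon S).map (t none) ≫ a = (yon S).map l₀ ≫ C.b := by rw [h1, hl₀b]
    let l₁ : T ⟶ C.stepP ha.rep := ha.rep.lift' (t none) l₀ hw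
    have hl₁U : l₁ ≫ C.stepPU ha.rep = t none := ha.rep.lift'_fst _ _ _
    have hl₁W : l₁ ≫ C.stepPW ha.rep = l₀ := ha.rep.lift'_snd _ _ _
    have hmem : ∀ y : T.left, l₁.left y ∈ C.stepSet ha.rep := by
      intro y i hy
      rw [← fromSpecResidueField_comp_eq_iff] at hy
      refine h2 (some i) none (by simp) y ?_
      rw [← hl₁U, ← hl₀c i, ← hl₁W]
      simpa only [Over.comp_left, Category.assoc] using hy
    obtain ⟨l, hl⟩ := C.exists_lift_stepι ha.rep hU l₁ hmem
    refine ⟨l, ?_, ?_⟩
    · rintro (_ | i)
      · rw [Conf.stepc_none, ← Category.assoc, hl, hl₁U]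
      · rw [Conf.stepc_some, ← Category.assoc, ← Category.assoc, hl, hl₁W, hl₀c]
    · rw [← Category.assoc, ← Functor.map_comp, ← Category.assoc, hl, hl₁W, hl₀b]
  hom_ext := by
    intro T f g h1 h2
    apply C.stepι_cancel ha.rep hU
    apply C.stepP_hom_ext ha.rep
    · have := h1 none
      simpa only [Conf.stepc_none, Category.assoc] using this
    · rw [Category.assoc, Category.assoc]
      apply C.hom_ext
      · intro i
        have := h1 (some i)
        simpa only [Conf.stepc_some, Category.assoc] using this
      · simpa only [Functor.map_comp, Category.assoc] using h2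
  sep := by
    have := C.stepP_isSeparated ha.rep hU
    have e : terminal.from (C.stepW ha.rep hU).left =
        (C.stepO ha.rep hU).ι ≫ terminal.from (C.stepP ha.rep).left := terminal.hom_ext _ _
    constructor
    rw [e]
    infer_instance
  etale_b := by
    have h1 : Etale (C.stepPW ha.rep).left := ha.property_snd C.b
    have h2 : Etale (C.stepι ha.rep hU ≫ C.stepPW ha.rep).left := by
      rw [Over.comp_left, Conf.stepι_left]
      infer_instance
    exact (RepWith (S := S) @Etale).comp_mem _ _ ((repWith_yon_map_iff _ _).2 h2) C.etale_b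
  etale_c := by
    have h1 : Etale (C.stepPW ha.rep).left := ha.property_snd C.b
    have h1' : Etale (C.stepPU ha.rep).left :=
      C.etale_b.property a _ _ (C.isPullback_stepP ha.rep).flip
    rintro (_ | i)
    · rw [Conf.stepc_none, Over.comp_left, Conf.stepι_left]
      infer_instance
    · have := C.etale_c i
      rw [Conf.stepc_some, Over.comp_left, Over.comp_left, Conf.stepι_left]
      infer_instance
  compact := by
    intro hS hX hUc
    have hWc := C.compact hS hX hUc
    have hPc : CompactSpace ↥(C.stepP ha.rep).left :=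
      Groth.Agent.H52.compactSpace_pullback_of_isQuasiSeparatedSp hX a C.b (C.stepPU ha.rep)
        (C.stepPW ha.rep) (C.isPullback_stepP ha.rep)
    have hcl : IsClosed (C.stepSet ha.rep) := by
      have h : C.stepSet ha.rep = (⋃ i, {x | (C.stepP ha.rep).left.fromSpecResidueField x ≫
          (C.stepPW ha.rep ≫ C.c i).left = (C.stepP ha.rep).left.fromSpecResidueField x ≫
            (C.stepPU ha.rep).left})ᶜ := by
        ext x
        simp only [Conf.stepSet, Set.mem_compl_iff, Set.mem_iUnion, not_exists]
        rfl
      rw [h]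
      refine (isOpen_iUnion fun i => ?_).isClosed_compl
      refine isOpen_eqLocus_of_etale ha _ _ ?_
      rw [Functor.map_comp, Category.assoc, C.hc, (C.isPullback_stepP ha.rep).w]
    exact isCompact_iff_compactSpace.mp hcl.isCompact

/-- Forgetting the new point. -/
theorem Conf.exists_forget {I : Type u} (C : Conf a I) (C' : Conf a (Option I)) :
    ∃ l : C'.W ⟶ C.W, (∀ i, l ≫ C.c i = C'.c (some i)) ∧ (yon S).map l ≫ C.b = C'.b :=
  C.exists_lift (fun i => C'.c (some i)) C'.b (fun _ => C'.hc _)
    (fun _ _ hij => C'.disj _ _ (fun h => hij (Option.some.inj h)))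

/-- The index types: `Idx n` has `n + 1` elements. -/
def Idx : ℕ → Type u
  | 0 => PUnit.{u + 1}
  | n + 1 => Option (Idx n)

instance idx_finite : ∀ n, Finite (Idx.{u} n)
  | 0 => inferInstanceAs (Finite PUnit.{u + 1})
  | n + 1 => by
    have := idx_finite n
    exact inferInstanceAs (Finite (Option (Idx.{u} n)))

instance idx_nonempty : ∀ n, Nonempty (Idx.{u} n)
  | 0 => inferInstanceAs (Nonempty PUnit.{u + 1})
  | n + 1 => inferInstanceAs (Nonempty (Option (Idx.{u} n)))

/-- The configuration space of `n + 1` points. -/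
noncomputable def conf (ha : RepWith @Etale a) (hU : U.left.IsSeparated) : ∀ n, Conf a (Idx.{u} n)
  | 0 => Conf.base ha hU
  | n + 1 => (conf ha hU n).step ha hU

end Groth.Agent.Lib.Helper54
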