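import Groth.Agent.Lib.Helper54.DecentSober
import Groth.Agent.Lib.Helper54.DecentTop
import Groth.Agent.Lib.Helper38.DimFun
import Groth.Agent.Lib.Helper55.UnivCatenaryChart
import Groth.Agent.Lib.Helper55.FiberTrdeg
import Groth.Agent.Lib.Helper13.EquidimAffSpace
import Groth.Agent.S12459
import Groth.Agent.S12447
import Groth.Agent.S12444
import Groth.Agent.S9684
import Groth.Prelude.Def_W4stk3decentspacesp2Birat

/-!
# The space of points of a decent space locally of finite type over a universally catenary base is catenary (helper54)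
-/

set_option autoImplicit false
set_option linter.style.haveILetI false
universe u v
open CategoryTheory CategoryTheory.Limits AlgebraicGeometry Topology TopologicalSpace
open AlgSp

namespace Groth.Agent.Lib.Helper54

/-- The two forms of catenarity of a topological space. -/
theorem isCatenarySpace_of_ptTop {T : Type v} [TopologicalSpace T] (h : PtTop.IsCatenarySpace T) :
    W4stk3decentspacesp2.IsCatenarySpace T := by
  intro Z Z' hZ
  obtain ⟨h1, h2⟩ := h Z Z' hZ
  obtain ⟨n, hn⟩ := ENat.ne_top_iff_exists.1 h1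
  have hle : ∀ p : LTSeries (IrreducibleCloseds T), p.head = Z → p.last = Z' →
      (p.length : ℕ∞) ≤ PtTop.codim Z (Z' : Set T) := by
    intro p hp1 hp2
    unfold PtTop.codim
    exact le_iSup₂ (f := fun (s : LTSeries (IrreducibleCloseds T))
      (_ : s.head = Z ∧ (s.last : Set T) ⊆ (Z' : Set T)) => (s.length : ℕ∞)) p
      ⟨hp1, by rw [hp2]⟩
  refine ⟨⟨n, fun p hp1 hp2 => ?_⟩, fun p q hp1 hp2 hq1 hq2 hp hq => ?_⟩
  · have := hle p hp1 hp2
    rw [← hn] at this
    exact_mod_cast this
  · have e1 := h2 p hp1 hp2 hp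
    have e2 := h2 q hq1 hq2 hq
    have : (p.length : ℕ∞) = (q.length : ℕ∞) := e1.trans e2.symm
    exact_mod_cast this

/-- Transcendence degrees of residue field extensions do not change under composition with a locally quasi-finite
morphism. -/
theorem trdeg_comp_of_locallyQuasiFinite {R U T : Scheme.{u}} (s : R ⟶ U) (g : U ⟶ T) [LocallyQuasiFinite s]
    [LocallyOfFiniteType s] (r : ↥R) :
    @Algebra.trdeg (T.residueField ((s ≫ g) r)) (R.residueField r) _ _
      ((s ≫ g).residueFieldMap r).hom.toAlgebra =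
    @Algebra.trdeg (T.residueField (g (s r))) (U.residueField (s r)) _ _
      (g.residueFieldMap (s r)).hom.toAlgebra := by
  letI a1 : Algebra (T.residueField (g (s r))) (U.residueField (s r)) :=
    (g.residueFieldMap (s r)).hom.toAlgebra
  letI a2 : Algebra (U.residueField (s r)) (R.residueField r) := (s.residueFieldMap r).hom.toAlgebra
  letI a3 : Algebra (T.residueField (g (s r))) (R.residueField r) :=
    ((s ≫ g).residueFieldMap r).hom.toAlgebra
  haveI : IsScalarTower (T.residueField (g (s r))) (U.residueField (s r)) (R.residueField r) :=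
    IsScalarTower.of_algebraMap_eq (fun x => by
      change ((s ≫ g).residueFieldMap r).hom x =
        (s.residueFieldMap r).hom ((g.residueFieldMap (s r)).hom x)
      rw [Scheme.residueFieldMap_comp]
      rfl)
  have h0 : Algebra.trdeg (U.residueField (s r)) (R.residueField r) = 0 :=
    Groth.Agent.Lib.Helper13.EquidimAffSpace.trdeg_eq_zero_of_locallyQuasiFinite s r
  have h1 := trdeg_add_eq (T.residueField (g (s r))) (U.residueField (s r))
    (A := R.residueField r)
  rw [h0, add_zero] at h1
  exact h1.symm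

theorem trdeg_residueFieldMap_congr {R T : Scheme.{u}} (h h' : R ⟶ T) (e : h = h') (r : ↥R) :
    @Algebra.trdeg (T.residueField (h r)) (R.residueField r) _ _ (h.residueFieldMap r).hom.toAlgebra =
    @Algebra.trdeg (T.residueField (h' r)) (R.residueField r) _ _ (h'.residueFieldMap r).hom.toAlgebra := by
  subst e
  rfl

variable {S : Scheme.{u}}

/-- The dimension function induced on a chart mapping into an open of the base carrying a dimension function is constant on
the fibres of the chart. -/
theorem exists_chart_dimFun [IsLocallyNoetherian S]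
    (hS : ∀ s : ↥S, CAlg.IsUniversallyCatenary ↥(S.presheaf.stalk s)) {X : Sp S} {U R : Over S}
    (a : (yon S).obj U ⟶ X) (ha : RepWith @Etale a) (s t : R ⟶ U)
    (sq : IsPullback ((yon S).map t) ((yon S).map s) a a) [LocallyOfFiniteType U.hom]
    (S₀ : S.Opens) (hU : Set.range U.hom ⊆ (S₀ : Set ↥S)) (δ₀ : S₀ → ℤ)
    (hδ₀ : PtTop.IsDimensionFunction δ₀) :
    ∃ δU : ↥U.left → ℤ, Cyc.IsDimFun U.left δU ∧
      ∀ u u' : ↥U.left, Points.ofPt a u = Points.ofPt a u' → δU u = δU u' := by
  classical
  have hr : Set.range U.hom ⊆ Set.range S₀.ι := by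
    rw [Scheme.Opens.range_ι]; exact hU
  obtain ⟨g, hg⟩ : ∃ g : U.left ⟶ (S₀ : Scheme.{u}), g ≫ S₀.ι = U.hom :=
    ⟨IsOpenImmersion.lift S₀.ι U.hom hr, IsOpenImmersion.lift_fac _ _ _⟩
  haveI hglft : LocallyOfFiniteType g := by
    haveI : LocallyOfFiniteType (g ≫ S₀.ι) := by rw [hg]; infer_instance
    exact locallyOfFiniteType_of_comp g S₀.ι
  have hsetup : Cyc.IsSetup (S₀ : Scheme.{u}) δ₀ := by
    refine ⟨inferInstance, fun x => ?_, ?_⟩
    · exact Groth.Agent.Lib.Helper55.isUniversallyCatenary_of_ringEquiv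
        (Scheme.Opens.stalkIso S₀ x).commRingCatIsoToRingEquiv.symm (hS x.1)
    · intro x y hxy hne
      exact ⟨hδ₀.1 x y hxy hne, fun h => hδ₀.2 x y ⟨hxy, hne, h⟩⟩
  have hn : ∀ u : ↥U.left, ∃ n : ℕ,
      @Algebra.trdeg ((S₀ : Scheme.{u}).residueField (g u)) (U.left.residueField u) _ _
        (g.residueFieldMap u).hom.toAlgebra = n := by
    intro u
    obtain ⟨n, -, hn⟩ := Groth.Agent.Lib.Helper55.exists_dim_closure_asFiber_eq_trdeg g u
    exact ⟨n, hn⟩
  choose n hn using hn
  let δU : ↥U.left → ℤ := fun u => δ₀ (g u) + n u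
  have hcompat : Cyc.DeltaCompat g δU δ₀ := fun u => ⟨n u, hn u, rfl⟩
  have hdim : Cyc.IsDimFun U.left δU := Groth.Agent.S9684.result g δ₀ hsetup δU hcompat
  refine ⟨δU, hdim, ?_⟩
  intro u u' huu'
  haveI : Etale s.left := ha.property a _ _ sq
  haveI : Etale t.left := ha.property a _ _ sq.flip
  haveI : LocallyQuasiFinite s.left := locallyQuasiFinite_of_etale _
  haveI : LocallyQuasiFinite t.left := locallyQuasiFinite_of_etale _
  have hst : s.left ≫ g = t.left ≫ g := by
    rw [← cancel_mono S₀.ι, Category.assoc, Category.assoc, hg, Over.w, Over.w]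
  have hu' : Points.map a (Points.ofScheme U u') = Points.ofPt a u := by
    rw [← Points.ofPt_eq_map_ofScheme]; exact huu'.symm
  obtain ⟨r, hr1, hr2⟩ := exists_pt_of_isPullback_yon sq (Points.ofScheme U u') u hu'
  have hr1' : t.left r = u' := by
    have := congrArg (Points.toScheme U) hr1
    rw [Points.toScheme_ofPt, Points.toScheme_ofScheme] at this
    exact this
  subst hr1' hr2
  have hgeq : g (s.left r) = g (t.left r) := by
    change (s.left ≫ g) r = (t.left ≫ g) r
    rw [hst]
  have hneq : (n (s.left r) : Cardinal) = (n (t.left r) : Cardinal) := by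
    rw [← hn, ← hn, ← trdeg_comp_of_locallyQuasiFinite s.left g r,
      ← trdeg_comp_of_locallyQuasiFinite t.left g r]
    exact trdeg_residueFieldMap_congr _ _ hst r
  have hneq' : n (s.left r) = n (t.left r) := by exact_mod_cast hneq
  change δ₀ (g (s.left r)) + n (s.left r) = δ₀ (g (t.left r)) + n (t.left r)
  rw [hgeq, hneq']

/-- A dimension function on a chart of a decent space which is constant on the fibres of the chart descends to a dimension
function on the image of the chart. -/
theorem exists_dimFun_range_of_chart {X : Sp S} (hX : IsAlgSpace X) (hXd : IsDecent X) {U : Over S}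
    (a : (yon S).obj U ⟶ X) (ha : RepWith @Etale a) (δU : ↥U.left → ℤ) (hdim : Cyc.IsDimFun U.left δU)
    (hconst : ∀ u u' : ↥U.left, Points.ofPt a u = Points.ofPt a u' → δU u = δU u')
    (W : Opens (Points X)) (hW : (W : Set (Points X)) = Set.range (Points.ofPt a)) :
    ∃ δ : W → ℤ, PtTop.IsDimensionFunction δ := by
  classical
  have hex : ∀ w : W, ∃ u : ↥U.left, Points.ofPt a u = w.1 := by
    intro w
    have : w.1 ∈ (W : Set (Points X)) := w.2
    rw [hW] at this
    exact this
  choose c hc using hex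
  have hspec : ∀ (w : W) (u : ↥U.left), Points.ofPt a u = w.1 → δU (c w) = δU u := by
    intro w u hu
    exact hconst _ _ ((hc w).trans hu.symm)
  have hmem : ∀ u : ↥U.left, Points.ofPt a u ∈ W := by
    intro u
    change Points.ofPt a u ∈ (W : Set (Points X))
    rw [hW]
    exact ⟨u, rfl⟩
  have key : ∀ x y : W, x ⤳ y → x ≠ y → ∃ u v : ↥U.left, Points.ofPt a u = x.1 ∧ Points.ofPt a v = y.1 ∧
      u ⤳ v ∧ u ≠ v := by
    intro x y hxy hne
    have hxy' : x.1 ⤳ y.1 := (subtype_specializes_iff x y).1 hxy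
    obtain ⟨u, huv, hu⟩ := exists_generization_of_isDecent hX hXd a ha (c y) x.1 (by rw [hc y]; exact hxy')
    refine ⟨u, c y, hu, hc y, huv, ?_⟩
    rintro rfl
    exact hne (Subtype.ext (hu.symm.trans (hc y)))
  refine ⟨fun w => δU (c w), ?_, ?_⟩
  · intro x y hxy hne
    obtain ⟨u, v, hu, hv, huv, hne'⟩ := key x y hxy hne
    change δU (c y) < δU (c x)
    rw [hspec x u hu, hspec y v hv]
    exact (hdim u v huv hne').1
  · rintro x y ⟨hxy, hne, himm⟩
    obtain ⟨u, v, hu, hv, huv, hne'⟩ := key x y hxy hne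
    change δU (c x) = δU (c y) + 1
    rw [hspec x u hu, hspec y v hv]
    refine (hdim u v huv hne').2 fun w huw hwv => ?_
    have h1 : x ⤳ (⟨Points.ofPt a w, hmem w⟩ : W) := by
      rw [subtype_specializes_iff]
      change x.1 ⤳ Points.ofPt a w
      rw [← hu]
      exact huw.map (Points.continuous_ofPt a)
    have h2 : (⟨Points.ofPt a w, hmem w⟩ : W) ⤳ y := by
      rw [subtype_specializes_iff]
      change Points.ofPt a w ⤳ y.1
      rw [← hv]
      exact hwv.map (Points.continuous_ofPt a)
    rcases himm ⟨Points.ofPt a w, hmem w⟩ h1 h2 with h | h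
    · have h' : Points.ofPt a w = Points.ofPt a u := (congrArg Subtype.val h).trans hu.symm
      exact Or.inl (eq_of_specializes_of_ofPt_eq hX hXd a ha w u h' huw)
    · have h' : Points.ofPt a w = Points.ofPt a v := (congrArg Subtype.val h).trans hv.symm
      exact Or.inr (eq_of_specializes_of_ofPt_eq hX hXd a ha v w h'.symm hwv).symm

open Groth.Agent.H52 (overOpen overOpenι) in
/-- The space of points of a decent algebraic space locally of finite type over a locally Noetherian base with universally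
catenary local rings is catenary. -/
theorem isCatenarySpace_points_of_isDecent_lft [IsLocallyNoetherian S]
    (hS : ∀ s : ↥S, CAlg.IsUniversallyCatenary ↥(S.presheaf.stalk s)) {X : Sp S} (hX : IsAlgSpace X)
    (hXd : IsDecent X) (p : X ⟶ (yon S).obj (Over.mk (𝟙 S))) (hp : LocP @LocallyOfFiniteType p) :
    W4stk3decentspacesp2.IsCatenarySpace (Points X) := by
  apply isCatenarySpace_of_ptTop
  have hE : (RepWith (S := S) @Etale).IsMultiplicative := repWith_isMultiplicative _
  haveI : QuasiSober (Points X) := quasiSober_points_of_isDecent hX hXd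
  haveI : T0Space (Points X) := t0Space_points_of_isDecent hX hXd
  have hcatS : PtTop.IsCatenarySpace S := (Groth.Agent.S12459.result S).2 hS S (𝟙 S) inferInstance
  have hlocS := (Groth.Agent.S12447.result S).1 hcatS
  refine (Groth.Agent.S12444.result (Points X)).1.2 (fun y => ?_)
  obtain ⟨U₁, a₁, v₁, hU₁, ha₁, hv₁⟩ := exists_affine_chart_through hX y
  obtain ⟨S₀, hs₀, δ₀, hδ₀⟩ := hlocS (U₁.hom v₁)
  let O : U₁.left.Opens := U₁.hom ⁻¹ᵁ S₀
  have hv₁O : v₁ ∈ O := hs₀
  obtain ⟨A, hA, hv₁A, hAO⟩ := exists_isAffineOpen_mem_and_subset (x := v₁) (U := O) hv₁O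
  obtain ⟨a, hadef⟩ : ∃ a : (yon S).obj (overOpen U₁ A) ⟶ X,
    a = (yon S).map (overOpenι U₁ A) ≫ a₁ := ⟨_, rfl⟩
  have ha : RepWith @Etale a := by
    rw [hadef]
    exact (RepWith (S := S) @Etale).comp_mem _ _ (Groth.Agent.H52.repWith_etale_overOpenι U₁ A) ha₁
  obtain ⟨v, hvdef⟩ : ∃ v : ↥(overOpen U₁ A).left, (overOpenι U₁ A).left v = v₁ :=
    ⟨(show ↥(overOpen U₁ A).left from ⟨v₁, hv₁A⟩), rfl⟩
  have hav : Points.ofPt a v = y := by
    rw [hadef]
    refine (Groth.Agent.H52.ofPt_yon_map_comp (overOpenι U₁ A) a₁ v).trans ?_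
    rw [hvdef]
    exact hv₁
  -- the chart is locally of finite type over the base
  obtain ⟨h, hh⟩ := (yon S).map_surjective (a ≫ p)
  have hlft : LocallyOfFiniteType h.left :=
    hp a (𝟙 _) h ha (Groth.Agent.H52.repWith_of_isIso _ _) (by rw [hh, Category.comp_id])
  have hhom : h.left = (overOpen U₁ A).hom := by
    have := Over.w h
    simpa using this
  haveI : LocallyOfFiniteType (overOpen U₁ A).hom := hhom ▸ hlft
  have hrange : Set.range (overOpen U₁ A).hom ⊆ (S₀ : Set ↥S) := by
    rintro _ ⟨z, rfl⟩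
    change U₁.hom (A.ι z) ∈ S₀
    exact hAO z.2
  -- kernel pair
  obtain ⟨R, t, s, sq⟩ : ∃ (R : Over S) (t s : R ⟶ overOpen U₁ A),
      IsPullback ((yon S).map t) ((yon S).map s) a a := by
    have hr := ha.rep
    obtain ⟨t, ht⟩ := (yon S).map_surjective (hr.fst a)
    exact ⟨_, t, hr.snd a, ht ▸ hr.isPullback a⟩
  obtain ⟨δU, hdim, hconst⟩ := exists_chart_dimFun hS a ha s t sq S₀ hrange δ₀ hδ₀
  have hWo : IsOpen (Set.range (Points.ofPt a)) := by
    rw [← Set.image_univ]
    exact Groth.Agent.H53.isOpenMap_ofPt_of_etale _ ha _ isOpen_univ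
  obtain ⟨δ, hδ⟩ := exists_dimFun_range_of_chart hX hXd a ha δU hdim hconst ⟨_, hWo⟩ rfl
  refine ⟨⟨_, hWo⟩, ⟨v, hav⟩, ?_⟩
  haveI : QuasiSober ↥(⟨_, hWo⟩ : Opens (Points X)) :=
    (⟨_, hWo⟩ : Opens (Points X)).isOpenEmbedding'.quasiSober
  exact Groth.Agent.Lib.Helper38.isCatenary_of_dimFun hδ

end Groth.Agent.Lib.Helper54
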