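import Groth.Agent.Lib.Helper54.GenericFiniteSp2
import Groth.Agent.Lib.Helper54.DecentGeneric
import Groth.Agent.Lib.Helper54.DecentSchematic
import Groth.Agent.Lib.Helper54.DecentTop
import Groth.Agent.Lib.Helper54.LargestOpen
import Groth.Agent.H53.ProperSep
import Groth.Agent.H53.OpenSub
import Groth.Agent.H52.DimLocal2
import Groth.Agent.H53.AffineChart

/-!
# Generic finiteness for morphisms of algebraic spaces, III (helper54)
-/

set_option autoImplicit false
set_option linter.style.haveILetI false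
universe u
open CategoryTheory CategoryTheory.Limits AlgebraicGeometry Topology
open AlgSp

namespace Groth.Agent.Lib.Helper54

open Groth.Agent.H52 (overOpen overOpenι)
open Groth.Agent.H53.ZarGlue (schematicLocus)

variable {S : Scheme.{u}}

/-- Codimension 0 of a point, as a predicate. -/
abbrev Codim0 (F : Sp S) (x : Points F) : Prop :=
  HasAt (fun U u => ringKrullDim ↥(U.presheaf.stalk u) = 0) F x

/-- An étale morphism maps codimension 0 points to codimension 0 points. -/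
theorem codim0_map_of_isEtaleMor {Z X : Sp S} (e : Z ⟶ X) (he : IsEtaleMor e) (p : Points Z)
    (hp : Codim0 Z p) : Codim0 X (Points.map e p) := by
  obtain ⟨U, a, u, ha, rfl, hdim⟩ := hp
  exact ⟨U, a ≫ e, u, he a ha, rfl, hdim⟩

/-- A point of an étale chart over a codimension 0 point has a zero-dimensional local ring; conversely. -/
theorem codim0_ofPt_iff {X : Sp S} {U : Over S} (a : (yon S).obj U ⟶ X) (ha : RepWith @Etale a) (u : ↥U.left) :
    Codim0 X (Points.ofPt a u) ↔ ringKrullDim ↥(U.left.presheaf.stalk u) = 0 :=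
  ⟨fun h => Groth.Agent.H53.CodimQF.stalk_dim_zero_of_hasAt a ha u h, fun h => ⟨U, a, u, ha, rfl, h⟩⟩

/-- Every point of a scheme has a generization with zero-dimensional local ring. -/
theorem exists_specializes_dim_zero (U : Scheme.{u}) (u : ↥U) :
    ∃ η : ↥U, η ⤳ u ∧ ringKrullDim ↥(U.presheaf.stalk η) = 0 := by
  obtain ⟨T, hT, huT⟩ := exists_mem_irreducibleComponents_subset_of_isIrreducible ({u} : Set ↥U)
    isIrreducible_singleton
  have hTirr : IsIrreducible T := hT.1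
  have hTcl : IsClosed T := isClosed_of_mem_irreducibleComponents T hT
  have hgen := hTirr.isGenericPoint_genericPoint_closure
  rw [hTcl.closure_eq] at hgen
  refine ⟨hTirr.genericPoint, hgen.specializes (huT rfl), ?_⟩
  rw [Groth.Agent.H53.stalk_dim_zero_iff]
  intro y hy
  have h1 : T ⊆ closure {y} := by
    rw [← hgen.def]
    exact specializes_iff_closure_subset.1 hy
  have h2 : closure ({y} : Set ↥U) ⊆ T := hT.2 isIrreducible_singleton.closure h1
  have h3 : closure ({y} : Set ↥U) = T := le_antisymm h2 h1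
  have h4 : IsGenericPoint y T := h3
  exact h4.eq hgen

/-- A nonempty open set of points of an algebraic space contains a point of codimension 0. -/
theorem exists_codim0_mem_of_isOpen {Z : Sp S} (hZ : IsAlgSpace Z) (O : Set (Points Z)) (hO : IsOpen O)
    (hne : O.Nonempty) : ∃ p ∈ O, Codim0 Z p := by
  obtain ⟨z, hz⟩ := hne
  obtain ⟨U, a, u, ha, rfl⟩ := Groth.Agent.H52.exists_chart_through_point hZ z
  obtain ⟨η, hη, hdim⟩ := exists_specializes_dim_zero U.left u
  have hs : Points.ofPt a η ⤳ Points.ofPt a u := hη.map (Points.continuous_ofPt a)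
  exact ⟨Points.ofPt a η, hs.mem_open hO hz, U, a, η, ha, rfl, hdim⟩

/-- An open immersion of algebraic spaces which is surjective on points is an isomorphism. -/
theorem isIso_of_isOpenImmersion_of_surjective {A B : Sp S} (k : A ⟶ B) (hk : RepWith @IsOpenImmersion k)
    (hs : Function.Surjective (Points.map k)) : IsIso k := by
  have hS : RepWith @Surjective k := Groth.Agent.H52.repWith_surjective_of_surjective_points k hk.rep hs
  refine Groth.Agent.H53.isIso_of_repWith_isomorphisms k ⟨hk.rep, fun U V g fst snd sq => ?_⟩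
  have h1 : IsOpenImmersion snd.left := hk.property g fst snd sq
  have h2 : Surjective snd.left := hS.property g fst snd sq
  exact (isIso_iff_isOpenImmersion_and_surjective snd.left).mpr ⟨h1, h2⟩

/-- A codimension 0 point of a decent space has no other generization. -/
theorem eq_of_specializes_codim0 {Y : Sp S} (hY : IsAlgSpace Y) (hYd : IsDecent Y) {y y' : Points Y}
    (hy : Codim0 Y y) (h : y' ⤳ y) : y' = y := by
  haveI := t0Space_points_of_isDecent hY hYd
  obtain ⟨T, hT, hgen⟩ := (isGenericPoint_component_iff_hasAt hY hYd y).2 hy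
  have h1 : T ⊆ closure {y'} := by
    rw [← hgen.def]
    exact specializes_iff_closure_subset.1 h
  have h2 : closure ({y'} : Set (Points Y)) ⊆ T := hT.2 isIrreducible_singleton.closure h1
  have h3 : closure ({y'} : Set (Points Y)) = T := le_antisymm h2 h1
  have h4 : IsGenericPoint y' T := h3
  exact h4.eq hgen

/-- In a finite set `F` of points none of which specializes to another, removing the closures of the other points gives
an open neighbourhood of a given point of `F`. -/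
theorem isOpen_compl_biUnion_closure {X : Type*} [TopologicalSpace X] {F : Set X} (hF : F.Finite) (x : X) :
    IsOpen (⋃ x' ∈ F \ {x}, closure ({x'} : Set X))ᶜ :=
  ((hF.subset Set.sdiff_subset).isClosed_biUnion fun _ _ => isClosed_closure).isOpen_compl

/-- A codimension 0 point of a decent space with finitely many codimension 0 points has an affine open neighbourhood
which is a scheme and contains no other codimension 0 point. -/
theorem exists_isolating_chart {Y : Sp S} (hY : IsAlgSpace Y) (hYd : IsDecent Y)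
    (hY0 : {y : Points Y | Codim0 Y y}.Finite) (y : Points Y) (hy : Codim0 Y y) :
    ∃ (V₀ : Over S) (b₀ : (yon S).obj V₀ ⟶ Y) (v₀ : ↥V₀.left), IsAffine V₀.left ∧
      RepWith @IsOpenImmersion b₀ ∧ Points.ofPt b₀ v₀ = y ∧
      ∀ v : ↥V₀.left, Codim0 Y (Points.ofPt b₀ v) → v = v₀ := by
  have hM : (RepWith (S := S) @IsOpenImmersion).IsMultiplicative := repWith_isMultiplicative _
  -- the point lies in the schematic locus
  have hys : y ∈ schematicLocus Y := by
    have hO := isOpen_compl_biUnion_closure hY0 y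
    have hyO : y ∈ (⋃ y' ∈ {y : Points Y | Codim0 Y y} \ {y}, closure ({y'} : Set (Points Y)))ᶜ := by
      intro hmem
      simp only [Set.mem_iUnion] at hmem
      obtain ⟨y', ⟨-, hne⟩, hcl⟩ := hmem
      exact hne (eq_of_specializes_codim0 hY hYd hy (specializes_iff_mem_closure.2 hcl))
    obtain ⟨z, hzO, hzs⟩ := (dense_schematicLocus_of_isDecent hY hYd).inter_open_nonempty _ hO ⟨y, hyO⟩
    obtain ⟨U, a, u, ha, rfl⟩ := Groth.Agent.H52.exists_chart_through_point hY z
    obtain ⟨η, hη, hdim⟩ := exists_specializes_dim_zero U.left u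
    have hs : Points.ofPt a η ⤳ Points.ofPt a u := hη.map (Points.continuous_ofPt a)
    have hc : Codim0 Y (Points.ofPt a η) := ⟨U, a, η, ha, rfl, hdim⟩
    have heq : Points.ofPt a η = y := by
      by_contra hne
      apply hzO
      simp only [Set.mem_iUnion]
      exact ⟨_, ⟨hc, hne⟩, specializes_iff_mem_closure.1 hs⟩
    rw [heq] at hs
    exact hs.mem_open (Groth.Agent.H53.ZarGlue.isOpen_schematicLocus Y) hzs
  obtain ⟨Ys, j, hj, hrange, hemb⟩ := exists_schematic_open hY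
  have hje : RepWith @Etale j := Groth.Agent.H53.repWith_of_le (fun _ _ φ hφ => by have := hφ; infer_instance) hj
  obtain ⟨ys, rfl⟩ : y ∈ Set.range (Points.ofPt j) := hrange ▸ hys
  have hfin : {v : ↥Ys.left | Codim0 Y (Points.ofPt j v)}.Finite :=
    show (Points.ofPt j ⁻¹' {y | Codim0 Y y}).Finite from hY0.preimage hemb.injective.injOn
  have hO := isOpen_compl_biUnion_closure hfin ys
  have hysO : ys ∈ (⋃ v ∈ {v : ↥Ys.left | Codim0 Y (Points.ofPt j v)} \ {ys}, closure ({v} : Set ↥Ys.left))ᶜ := by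
    intro hmem
    simp only [Set.mem_iUnion] at hmem
    obtain ⟨v, ⟨-, hne⟩, hcl⟩ := hmem
    have h1 : Points.ofPt j v ⤳ Points.ofPt j ys :=
      (specializes_iff_mem_closure.2 hcl).map (Points.continuous_ofPt j)
    exact hne (hemb.injective (eq_of_specializes_codim0 hY hYd hy h1))
  obtain ⟨_, ⟨A, hA : IsAffineOpen A, rfl⟩, hysA, hAO⟩ :=
    Ys.left.isBasis_affineOpens.exists_subset_of_mem_open hysO hO
  refine ⟨overOpen Ys A, (yon S).map (overOpenι Ys A) ≫ j, (show ↥(overOpen Ys A).left from ⟨ys, hysA⟩), hA,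
    (RepWith @IsOpenImmersion).comp_mem _ _
      ((repWith_yon_map_iff _ _).2 (show IsOpenImmersion (overOpenι Ys A).left from
        (inferInstance : IsOpenImmersion (Scheme.Opens.ι (X := Ys.left) A)))) hj,
    Groth.Agent.H52.ofPt_yon_map_comp (overOpenι Ys A) j _, ?_⟩
  intro v hv
  rw [Groth.Agent.H52.ofPt_yon_map_comp] at hv
  have hvA : (overOpenι Ys A).left v ∈ (A : Set ↥Ys.left) := v.2
  have : (overOpenι Ys A).left v = ys := by
    by_contra hne
    apply hAO hvA
    simp only [Set.mem_iUnion]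
    exact ⟨_, ⟨hv, hne⟩, subset_closure rfl⟩
  exact Subtype.ext this

/-- The kernel pair of a chart `c : h_W ⟶ P` of a sheaf over `h_V` maps by a monomorphism to `W ×_V W`. -/
theorem exists_mono_kernelPair_to_pullback {P : Sp S} {W V R : Over S} (c : (yon S).obj W ⟶ P)
    (g : P ⟶ (yon S).obj V) (h : W ⟶ V) (hh : (yon S).map h = c ≫ g) (s t : R ⟶ W)
    (sqR : IsPullback ((yon S).map s) ((yon S).map t) c c) :
    ∃ r : R ⟶ pullback h h, Mono r.left ∧ r ≫ pullback.fst h h = s ∧ r ≫ pullback.snd h h = t := by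
  have hst : s ≫ h = t ≫ h := by
    apply (yon S).map_injective
    rw [Functor.map_comp, Functor.map_comp, hh, ← Category.assoc, ← Category.assoc, sqR.w]
  have sqP := IsPullback.of_hasPullback h h
  have sqPy : IsPullback ((yon S).map (pullback.fst h h)) ((yon S).map (pullback.snd h h))
      (c ≫ g) (c ≫ g) := by
    have := sqP.map (yon S)
    rwa [hh] at this
  let r : R ⟶ pullback h h := pullback.lift s t hst
  have hr1 : (yon S).map r ≫ (yon S).map (pullback.fst h h) = (yon S).map s := by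
    rw [← Functor.map_comp, pullback.lift_fst]
  have hr2 : (yon S).map r ≫ (yon S).map (pullback.snd h h) = (yon S).map t := by
    rw [← Functor.map_comp, pullback.lift_snd]
  have sqΔ := isPullback_diagonal_of_kernelPair c g sqR sqPy ((yon S).map r) hr1 hr2
  have hmono : Mono ((yon S).map r) := sqΔ.mono_snd_of_mono
  have hmono' : Mono r := (yon S).mono_of_mono_map hmono
  exact ⟨r, inferInstance, pullback.lift_fst _ _ _, pullback.lift_snd _ _ _⟩

/-- Generic finiteness, chart form, for a chart finite over the base: if `W₀` is finite over `V₀` and all maximal points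
of the kernel pair of the chart lie over the maximal point `v₀`, then `P` is finite over an affine neighbourhood of `v₀`. -/
theorem exists_isFiniteMor_of_chart_finite_generic {P : Sp S} (hP : IsAlgSpace P) {W₀ V₀ R₀ : Over S}
    [QuasiSeparatedSpace ↥V₀.left]
    (g : P ⟶ (yon S).obj V₀) (c₀ : (yon S).obj W₀ ⟶ P) (hc₀e : RepWith @Etale c₀)
    (hc₀s : RepWith @Surjective c₀) (h₀ : W₀ ⟶ V₀) (hh₀ : (yon S).map h₀ = c₀ ≫ g)
    (hfin : IsFinite h₀.left)
    (s t : R₀ ⟶ W₀) (sqR : IsPullback ((yon S).map s) ((yon S).map t) c₀ c₀) (v₀ : ↥V₀.left)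
    (hη : closure ({v₀} : Set ↥V₀.left) ∈ irreducibleComponents (V₀.left : Type u))
    (hdense : ∀ z : ↥R₀.left, ringKrullDim ↥(R₀.left.presheaf.stalk z) = 0 → (s ≫ h₀).left z = v₀) :
    ∃ V : V₀.left.Opens, IsAffineOpen V ∧ v₀ ∈ V ∧
      ∀ (Q : Sp S) (π : Q ⟶ P) (sndQ : Q ⟶ (yon S).obj (overOpen V₀ V)),
        IsPullback π sndQ g ((yon S).map (overOpenι V₀ V)) → IsFiniteMor sndQ := by
  obtain ⟨r, hrmono, hr1, hr2⟩ := exists_mono_kernelPair_to_pullback c₀ g h₀ hh₀ s t sqR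
  have hset : Etale s.left := hc₀e.property c₀ _ _ sqR.flip
  have sqP := isPullback_left (IsPullback.of_hasPullback h₀ h₀)
  have hfst : IsFinite (pullback.fst h₀ h₀).left := MorphismProperty.of_isPullback sqP.flip hfin
  have hπfin : IsFinite ((pullback.fst h₀ h₀).left ≫ h₀.left) := inferInstance
  have heq : (s ≫ h₀).left = r.left ≫ (pullback.fst h₀ h₀).left ≫ h₀.left := by
    rw [← hr1]; rfl
  haveI : LocallyOfFiniteType (s ≫ h₀).left := by
    change LocallyOfFiniteType (s.left ≫ h₀.left)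
    infer_instance
  haveI : IsSeparated (s ≫ h₀).left := by
    rw [heq]; infer_instance
  have hfib : ((s ≫ h₀).left ⁻¹' {v₀}).Finite := by
    have : (s ≫ h₀).left ⁻¹' {v₀} = r.left ⁻¹' (((pullback.fst h₀ h₀).left ≫ h₀.left) ⁻¹' {v₀}) := by
      rw [heq]; ext z; simp
    rw [this]
    exact (Scheme.Hom.finite_preimage_singleton _ v₀).preimage r.left.injective.injOn
  have hd : ∀ O : R₀.left.Opens, (O : Set ↥R₀.left).Nonempty → ∃ z ∈ O, (s ≫ h₀).left z = v₀ := by
    rintro O ⟨z, hz⟩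
    obtain ⟨ζ, hζ, hdim⟩ := exists_specializes_dim_zero R₀.left z
    exact ⟨ζ, hζ.mem_open O.2 hz, hdense ζ hdim⟩
  obtain ⟨V₂, -, hv₂, hfin₂⟩ :=
    exists_isFinite_morphismRestrict_of_isSeparated (s ≫ h₀).left v₀ hη hfib hd
  have hfin₁ : IsFinite (h₀.left ∣_ (⊤ : V₀.left.Opens)) := inferInstance
  exact exists_isFiniteMor_of_chart_generic hP g c₀ hc₀e hc₀s h₀ hh₀ s t sqR v₀ ⊤ V₂ trivial hv₂ hfin₁ hfin₂

/-- The restriction of a chart over an open subscheme of the base. -/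
theorem exists_restrict_chart {P Q : Sp S} {W₀ V₀ : Over S} (g : P ⟶ (yon S).obj V₀)
    (c₀ : (yon S).obj W₀ ⟶ P) (h₀ : W₀ ⟶ V₀) (hh₀ : (yon S).map h₀ = c₀ ≫ g) (V : V₀.left.Opens)
    (π : Q ⟶ P) (sndQ : Q ⟶ (yon S).obj (overOpen V₀ V))
    (sqπ : IsPullback π sndQ g ((yon S).map (overOpenι V₀ V))) :
    ∃ cV : (yon S).obj (overOpen W₀ (h₀.left ⁻¹ᵁ V)) ⟶ Q, cV ≫ sndQ = (yon S).map (overRestr h₀ V) ∧
      IsPullback ((yon S).map (overOpenι W₀ (h₀.left ⁻¹ᵁ V))) cV c₀ π := by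
  have sqW := isPullback_overRestr h₀ V
  have hwc : ((yon S).map (overOpenι W₀ (h₀.left ⁻¹ᵁ V)) ≫ c₀) ≫ g =
      (yon S).map (overRestr h₀ V) ≫ (yon S).map (overOpenι V₀ V) := by
    rw [Category.assoc, ← hh₀]; exact sqW.w
  have hc1 : sqπ.lift _ _ hwc ≫ π = (yon S).map (overOpenι W₀ (h₀.left ⁻¹ᵁ V)) ≫ c₀ :=
    sqπ.lift_fst _ _ _
  have hc2 : sqπ.lift _ _ hwc ≫ sndQ = (yon S).map (overRestr h₀ V) := sqπ.lift_snd _ _ _
  generalize sqπ.lift _ _ hwc = cV at hc1 hc2
  refine ⟨cV, hc2, IsPullback.of_bot ?_ hc1.symm sqπ⟩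
  rw [hc2, ← hh₀]
  exact sqW

open Groth.Agent.H53.CodimQF in
/-- Generic finiteness for a quasi-compact morphism locally of finite type, over an isolating chart of the target. -/
theorem exists_chart_isFiniteMor_of_quasiCompact {X Y : Sp S} (hX : IsAlgSpace X) (hY : IsAlgSpace Y)
    (f : X ⟶ Y) (hf : LocP @LocallyOfFiniteType f) (hqc : IsQuasiCompactMor f)
    (hpre : ∀ x : Points X, Codim0 X x ↔ Codim0 Y (Points.map f x))
    {V₀ : Over S} (b₀ : (yon S).obj V₀ ⟶ Y) (v₀ : ↥V₀.left) (hV₀aff : IsAffine V₀.left)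
    (hb₀e : RepWith @Etale b₀) (hv₀ : Codim0 Y (Points.ofPt b₀ v₀))
    (hiso : ∀ v : ↥V₀.left, Codim0 Y (Points.ofPt b₀ v) → v = v₀) :
    ∃ (V : Over S) (b : (yon S).obj V ⟶ Y), RepWith @Etale b ∧
      Points.ofPt b₀ v₀ ∈ Set.range (Points.ofPt b) ∧
      ∀ (Q : Sp S) (fstQ : Q ⟶ X) (sndQ : Q ⟶ (yon S).obj V), IsPullback fstQ sndQ f b →
        IsFiniteMor sndQ := by
  have hE : (RepWith (S := S) @Etale).IsMultiplicative := repWith_isMultiplicative _
  haveI : (RepWith (S := S) @Etale).IsStableUnderBaseChange := repWith_isStableUnderBaseChange _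
  haveI : (RepWith (S := S) @Surjective).IsStableUnderBaseChange := repWith_isStableUnderBaseChange _
  have hdim : ringKrullDim ↥(V₀.left.presheaf.stalk v₀) = 0 := (codim0_ofPt_iff b₀ hb₀e v₀).1 hv₀
  have hη : closure ({v₀} : Set ↥V₀.left) ∈ irreducibleComponents (V₀.left : Type u) :=
    closure_singleton_mem_irreducibleComponents_of_dim_zero v₀ hdim
  have hqf : ∀ x : Points X, Points.map f x = Points.ofPt b₀ v₀ → HasAtMor QF f x :=
    (codim_zero_fibre hX f hf _ hv₀).1.1 (fun x hx => (hpre x).2 (hx ▸ hv₀))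
  -- the base change to the chart
  have sqP := IsPullback.of_hasPullback f b₀
  have hP₀ : IsAlgSpace (pullback f b₀) :=
    Groth.Agent.H52.isAlgSpace_of_isPullback sqP hX hY (IsAlgSpace.yon_obj V₀)
  have hP₀qc : IsQuasiCompactSp (pullback f b₀) :=
    hqc (IsAlgSpace.yon_obj V₀) (Groth.Agent.H52.isQuasiCompactSp_yon V₀) b₀ _ _ sqP
  obtain ⟨W₀, c₀, hW₀aff, hc₀e, hc₀s⟩ := exists_affine_etale_chart hP₀qc
  obtain ⟨h₀, hh₀⟩ := (yon S).map_surjective (c₀ ≫ pullback.snd f b₀)
  have hfste : RepWith @Etale (pullback.fst f b₀) := MorphismProperty.of_isPullback sqP.flip hb₀e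
  have ha₀e : RepWith @Etale (c₀ ≫ pullback.fst f b₀) := (RepWith @Etale).comp_mem _ _ hc₀e hfste
  have comm₀ : (c₀ ≫ pullback.fst f b₀) ≫ f = (yon S).map h₀ ≫ b₀ := by
    rw [Category.assoc, sqP.w, ← Category.assoc, hh₀]
  have hlft₀ : LocallyOfFiniteType h₀.left := hf _ b₀ h₀ ha₀e hb₀e comm₀
  have H₀ : ∀ w : ↥W₀.left, h₀.left w = v₀ → h₀.left.QuasiFiniteAt w := by
    intro w hw
    refine quasiFiniteAt_of_hasAtMor f hf _ b₀ h₀ ha₀e hb₀e comm₀ w (hqf _ ?_)
    rw [Points.map_ofPt, comm₀, Groth.Agent.H52.ofPt_yon_map_comp, hw]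
  obtain ⟨V₁, hV₁aff, hv₀V₁, hfin₁⟩ :=
    (Groth.Agent.S2080.result h₀.left v₀ hη).1 (finite_fibre_of_quasiFiniteAt h₀.left v₀ H₀)
  -- restriction over `V₁`
  have hι₁e : RepWith @Etale ((yon S).map (overOpenι V₀ V₁)) := Groth.Agent.H52.repWith_etale_overOpenι V₀ V₁
  have hb₁e : RepWith @Etale ((yon S).map (overOpenι V₀ V₁) ≫ b₀) := (RepWith @Etale).comp_mem _ _ hι₁e hb₀e
  have sqπ₁ := IsPullback.of_hasPullback (pullback.snd f b₀) ((yon S).map (overOpenι V₀ V₁))
  have hQ₁ : IsAlgSpace (pullback (pullback.snd f b₀) ((yon S).map (overOpenι V₀ V₁))) :=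
    Groth.Agent.H52.isAlgSpace_of_isPullback sqπ₁ hP₀ (IsAlgSpace.yon_obj _) (IsAlgSpace.yon_obj _)
  have hπ₁e : RepWith @Etale (pullback.fst (pullback.snd f b₀) ((yon S).map (overOpenι V₀ V₁))) :=
    MorphismProperty.of_isPullback sqπ₁.flip hι₁e
  obtain ⟨c₁, hc₁, sqc₁⟩ := exists_restrict_chart (pullback.snd f b₀) c₀ h₀ hh₀ V₁ _ _ sqπ₁
  have hc₁e : RepWith @Etale c₁ := MorphismProperty.of_isPullback sqc₁ hc₀e
  have hc₁s : RepWith @Surjective c₁ := MorphismProperty.of_isPullback sqc₁ hc₀s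
  obtain ⟨R₁, s₁, t₁, sqR₁⟩ := exists_kernelPair_of_rep c₁ hc₁e.rep
  have hs₁e : Etale s₁.left := hc₁e.property c₁ _ _ sqR₁.flip
  obtain ⟨v₁, hv₁⟩ : ∃ v₁ : ↥(overOpen V₀ V₁).left, (overOpenι V₀ V₁).left v₁ = v₀ := ⟨⟨v₀, hv₀V₁⟩, rfl⟩
  have hv₁c : Codim0 Y (Points.ofPt ((yon S).map (overOpenι V₀ V₁) ≫ b₀) v₁) := by
    rw [Groth.Agent.H52.ofPt_yon_map_comp, hv₁]; exact hv₀
  have hη₁ : closure ({v₁} : Set ↥(overOpen V₀ V₁).left) ∈ irreducibleComponents ((overOpen V₀ V₁).left : Type u) :=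
    closure_singleton_mem_irreducibleComponents_of_dim_zero v₁ ((codim0_ofPt_iff _ hb₁e v₁).1 hv₁c)
  haveI : IsAffine (overOpen V₀ V₁).left := hV₁aff
  have hdense : ∀ z : ↥R₁.left, ringKrullDim ↥(R₁.left.presheaf.stalk z) = 0 →
      (s₁ ≫ overRestr h₀ V₁).left z = v₁ := by
    intro z hz
    have ha₁e : RepWith @Etale ((yon S).map s₁ ≫ c₁ ≫
        pullback.fst (pullback.snd f b₀) ((yon S).map (overOpenι V₀ V₁)) ≫ pullback.fst f b₀) :=
      (RepWith @Etale).comp_mem _ _ ((repWith_yon_map_iff _ _).2 hs₁e)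
        ((RepWith @Etale).comp_mem _ _ hc₁e ((RepWith @Etale).comp_mem _ _ hπ₁e hfste))
    have hcx : Codim0 X (Points.ofPt ((yon S).map s₁ ≫ c₁ ≫
        pullback.fst (pullback.snd f b₀) ((yon S).map (overOpenι V₀ V₁)) ≫ pullback.fst f b₀) z) :=
      ⟨R₁, _, z, ha₁e, rfl, hz⟩
    have hcy := (hpre _).1 hcx
    have hcomm : ((yon S).map s₁ ≫ c₁ ≫
        pullback.fst (pullback.snd f b₀) ((yon S).map (overOpenι V₀ V₁)) ≫ pullback.fst f b₀) ≫ f =
        (yon S).map (s₁ ≫ overRestr h₀ V₁ ≫ overOpenι V₀ V₁) ≫ b₀ := by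
      simp only [Category.assoc, Functor.map_comp]
      rw [sqP.w, ← Category.assoc (pullback.fst (pullback.snd f b₀) _), sqπ₁.w, Category.assoc,
        ← Category.assoc c₁, hc₁]
    rw [Points.map_ofPt, hcomm, Groth.Agent.H52.ofPt_yon_map_comp] at hcy
    have := hiso _ hcy
    have hoi : IsOpenImmersion (overOpenι V₀ V₁).left :=
      (inferInstance : IsOpenImmersion (Scheme.Opens.ι V₁))
    apply (overOpenι V₀ V₁).left.isOpenEmbedding.injective
    rw [hv₁]
    exact this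
  obtain ⟨V, hVaff, hv₁V, HV⟩ := exists_isFiniteMor_of_chart_finite_generic hQ₁ _ c₁ hc₁e hc₁s
    (overRestr h₀ V₁) hc₁.symm hfin₁ s₁ t₁ sqR₁ v₁ hη₁ hdense
  -- the final chart
  refine ⟨overOpen (overOpen V₀ V₁) V,
    (yon S).map (overOpenι (overOpen V₀ V₁) V) ≫ (yon S).map (overOpenι V₀ V₁) ≫ b₀,
    (RepWith @Etale).comp_mem _ _ (Groth.Agent.H52.repWith_etale_overOpenι _ V) hb₁e,
    ⟨(show ↥(overOpen (overOpen V₀ V₁) V).left from ⟨v₁, hv₁V⟩), ?_⟩, ?_⟩
  · rw [Groth.Agent.H52.ofPt_yon_map_comp, Groth.Agent.H52.ofPt_yon_map_comp]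
    exact congrArg (Points.ofPt b₀) hv₁
  intro Q fstQ sndQ sqQ
  have hwπ : fstQ ≫ f = (sndQ ≫ (yon S).map (overOpenι (overOpen V₀ V₁) V) ≫
      (yon S).map (overOpenι V₀ V₁)) ≫ b₀ := by
    simp only [Category.assoc]; exact sqQ.w
  have hπ1 : sqP.lift fstQ _ hwπ ≫ pullback.fst f b₀ = fstQ := sqP.lift_fst _ _ _
  have hπ2 : sqP.lift fstQ _ hwπ ≫ pullback.snd f b₀ = sndQ ≫
      (yon S).map (overOpenι (overOpen V₀ V₁) V) ≫ (yon S).map (overOpenι V₀ V₁) := sqP.lift_snd _ _ _
  generalize sqP.lift fstQ _ hwπ = πP at hπ1 hπ2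
  have sqπP : IsPullback πP sndQ (pullback.snd f b₀)
      ((yon S).map (overOpenι (overOpen V₀ V₁) V) ≫ (yon S).map (overOpenι V₀ V₁)) := by
    refine IsPullback.of_right ?_ hπ2 sqP
    rw [hπ1]
    exact sqQ
  have hwq : πP ≫ pullback.snd f b₀ = (sndQ ≫ (yon S).map (overOpenι (overOpen V₀ V₁) V)) ≫
      (yon S).map (overOpenι V₀ V₁) := by
    rw [Category.assoc]; exact hπ2
  have hq1 : sqπ₁.lift πP _ hwq ≫ pullback.fst _ _ = πP := sqπ₁.lift_fst _ _ _
  have hq2 : sqπ₁.lift πP _ hwq ≫ pullback.snd _ _ = sndQ ≫ (yon S).map (overOpenι (overOpen V₀ V₁) V) :=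
    sqπ₁.lift_snd _ _ _
  generalize sqπ₁.lift πP _ hwq = πQ at hq1 hq2
  refine HV Q πQ sndQ (IsPullback.of_right ?_ hq2 sqπ₁)
  rw [hq1]
  exact sqπP

/-- Étale morphisms reflect codimension 0 points. -/
theorem codim0_of_map_isEtaleMor {Z X : Sp S} (hZ : IsAlgSpace Z) (e : Z ⟶ X) (he : IsEtaleMor e)
    (p : Points Z) (hp : Codim0 X (Points.map e p)) : Codim0 Z p := by
  obtain ⟨U, a, u, ha, rfl⟩ := Groth.Agent.H52.exists_chart_through_point hZ p
  exact ⟨U, a, u, ha, rfl, (codim0_ofPt_iff (a ≫ e) (he a ha) u).1 hp⟩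

/-- A finite set of points of an algebraic space lies in the image of an étale chart from a quasi-compact scheme. -/
theorem exists_compact_chart_of_finite {X : Sp S} (hX : IsAlgSpace X) (F : Set (Points X)) (hF : F.Finite) :
    ∃ (U : Over S) (a : (yon S).obj U ⟶ X), RepWith @Etale a ∧ CompactSpace ↥U.left ∧
      F ⊆ Set.range (Points.ofPt a) := by
  classical
  have hE : (RepWith (S := S) @Etale).IsMultiplicative := repWith_isMultiplicative _
  obtain ⟨U₀, p, hpe, hps⟩ := hX.atlas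
  have hsurj := Groth.Agent.H53.surjective_ofPt_of_surjective p hps
  choose lift hlift using hsurj
  have hA : ∀ z : ↥U₀.left, ∃ A : U₀.left.Opens, IsAffineOpen A ∧ z ∈ A := fun z => by
    obtain ⟨_, ⟨A, hA, rfl⟩, hzA, -⟩ :=
      U₀.left.isBasis_affineOpens.exists_subset_of_mem_open (Set.mem_univ z) isOpen_univ
    exact ⟨A, hA, hzA⟩
  choose A hAaff hzA using hA
  let R' : U₀.left.Opens := ⨆ x : hF.toFinset, A (lift x.1)
  have hR'c : IsCompact (R' : Set ↥U₀.left) := by
    have : (R' : Set ↥U₀.left) = ⋃ x : hF.toFinset, (A (lift x.1) : Set ↥U₀.left) := by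
      simp [R']
    rw [this]
    exact isCompact_iUnion fun x => (hAaff _).isCompact
  refine ⟨overOpen U₀ R', (yon S).map (overOpenι U₀ R') ≫ p,
    (RepWith @Etale).comp_mem _ _ (Groth.Agent.H52.repWith_etale_overOpenι U₀ R') hpe,
    isCompact_iff_compactSpace.1 hR'c, ?_⟩
  intro x hx
  have hx' : x ∈ hF.toFinset := hF.mem_toFinset.2 hx
  have hmem : lift x ∈ R' := TopologicalSpace.Opens.mem_iSup.2 ⟨⟨x, hx'⟩, hzA _⟩
  refine ⟨(show ↥(overOpen U₀ R').left from ⟨lift x, hmem⟩), ?_⟩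
  rw [Groth.Agent.H52.ofPt_yon_map_comp]
  exact hlift x

/-- The diagonal of `j ≫ g` is quasi-compact if `j` is a monomorphism and `g` is separated. -/
theorem isQuasiSeparatedMor_mono_comp_of_isSeparatedMor {A B C : Sp S} (j : A ⟶ B) [Mono j] (g : B ⟶ C)
    (hg : IsSeparatedMor g) : IsQuasiSeparatedMor (j ≫ g) :=
  Groth.Agent.H52.repWith_diagonal_comp @QuasiCompact j g (Groth.Agent.H52.isQuasiSeparatedMor_of_mono j)
    (Groth.Agent.H53.repWith_of_le (fun _ _ φ hφ => by have := hφ; infer_instance) hg)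

open Groth.Agent.H53.CodimQF in
/-- Generic finiteness for a separated morphism locally of finite type, over an isolating open chart of the target. -/
theorem exists_chart_isFiniteMor_of_separated {X Y : Sp S} (hX : IsAlgSpace X) (hY : IsAlgSpace Y)
    (f : X ⟶ Y) (hf : LocP @LocallyOfFiniteType f) (hsep : IsSeparatedMor f)
    (hX0 : {x : Points X | Codim0 X x}.Finite)
    (hpre : ∀ x : Points X, Codim0 X x ↔ Codim0 Y (Points.map f x))
    {V₀ : Over S} (b₀ : (yon S).obj V₀ ⟶ Y) (v₀ : ↥V₀.left) (hV₀aff : IsAffine V₀.left)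
    (hb₀ : RepWith @IsOpenImmersion b₀) (hv₀ : Codim0 Y (Points.ofPt b₀ v₀))
    (hiso : ∀ v : ↥V₀.left, Codim0 Y (Points.ofPt b₀ v) → v = v₀) :
    ∃ (V : Over S) (b : (yon S).obj V ⟶ Y), RepWith @Etale b ∧
      Points.ofPt b₀ v₀ ∈ Set.range (Points.ofPt b) ∧
      ∀ (Q : Sp S) (fstQ : Q ⟶ X) (sndQ : Q ⟶ (yon S).obj V), IsPullback fstQ sndQ f b →
        IsFiniteMor sndQ := by
  have hE : (RepWith (S := S) @Etale).IsMultiplicative := repWith_isMultiplicative _
  haveI : (RepWith (S := S) @Etale).IsStableUnderBaseChange := repWith_isStableUnderBaseChange _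
  haveI : (RepWith (S := S) @IsOpenImmersion).IsStableUnderBaseChange := repWith_isStableUnderBaseChange _
  haveI : (RepWith (S := S) @IsFinite).IsStableUnderBaseChange := repWith_isStableUnderBaseChange _
  have hb₀e : RepWith @Etale b₀ :=
    Groth.Agent.H53.repWith_of_le (fun _ _ φ hφ => by have := hφ; infer_instance) hb₀
  have hdim : ringKrullDim ↥(V₀.left.presheaf.stalk v₀) = 0 := (codim0_ofPt_iff b₀ hb₀e v₀).1 hv₀
  -- the base change to the chart
  have sqP := IsPullback.of_hasPullback f b₀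
  have hP₀ : IsAlgSpace (pullback f b₀) :=
    Groth.Agent.H52.isAlgSpace_of_isPullback sqP hX hY (IsAlgSpace.yon_obj V₀)
  have hg₀sep : IsSeparatedMor (pullback.snd f b₀) :=
    Groth.Agent.H52.repWith_diagonal_of_isPullback @IsClosedImmersion sqP hsep
  have hfst₀ : RepWith @IsOpenImmersion (pullback.fst f b₀) := MorphismProperty.of_isPullback sqP.flip hb₀
  have hfst₀e : IsEtaleMor (pullback.fst f b₀) := isEtaleMor_of_repWith_isOpenImmersion hfst₀
  have hg₀lft : LocP @LocallyOfFiniteType (pullback.snd f b₀) :=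
    Groth.Agent.H53.locP_of_isPullback Groth.Agent.H53.locPCalc_locallyOfFiniteType hX hY
      (IsAlgSpace.yon_obj V₀) sqP hf
  -- the point of `h_{V₀}` and the fibre over it
  have hid : RepWith @Etale (𝟙 ((yon S).obj V₀)) := Groth.Agent.H52.repWith_of_isIso _ _
  have hy₀ : Codim0 ((yon S).obj V₀) (Points.ofPt (𝟙 ((yon S).obj V₀)) v₀) := ⟨V₀, 𝟙 _, v₀, hid, rfl, hdim⟩
  have hby₀ : Points.map b₀ (Points.ofPt (𝟙 ((yon S).obj V₀)) v₀) = Points.ofPt b₀ v₀ := by
    rw [Points.map_ofPt, Category.id_comp]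
  have hfibX : ∀ p : Points (pullback f b₀),
      Points.map (pullback.snd f b₀) p = Points.ofPt (𝟙 ((yon S).obj V₀)) v₀ →
      Codim0 X (Points.map (pullback.fst f b₀) p) := by
    intro p hp
    refine (hpre _).2 ?_
    rw [← Points.map_comp, sqP.w, Points.map_comp, hp, hby₀]
    exact hv₀
  have hΦ : {p : Points (pullback f b₀) |
      Points.map (pullback.snd f b₀) p = Points.ofPt (𝟙 ((yon S).obj V₀)) v₀}.Finite := by
    refine (hX0.preimage (injective_points_of_isOpenImmersion _ hfst₀).injOn).subset ?_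
    intro p hp
    exact hfibX p hp
  -- a quasi-compact open subspace containing the fibre
  obtain ⟨U₁, a₁, ha₁e, hU₁c, hΦU₁⟩ := exists_compact_chart_of_finite hP₀ _ hΦ
  have hP₁ : IsAlgSpace (Sheaf.image a₁) := Groth.Agent.H52.isAlgSpace_image hP₀ a₁ ha₁e
  have hj₁ : RepWith @IsOpenImmersion (Sheaf.imageι a₁) := Groth.Agent.H52.repWith_isOpenImmersion_imageι a₁ ha₁e
  have hj₁e : IsEtaleMor (Sheaf.imageι a₁) := isEtaleMor_of_repWith_isOpenImmersion hj₁
  haveI hj₁m : Mono (Sheaf.imageι a₁) := mono_of_isOpenImmersion _ hj₁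
  have hP₁qc : IsQuasiCompactSp (Sheaf.image a₁) :=
    ⟨U₁, Sheaf.toImage a₁, Groth.Agent.H52.repWith_etale_toImage a₁ ha₁e,
      Groth.Agent.H52.repWith_surjective_toImage a₁ ha₁e, hU₁c⟩
  have hrange₁ : Set.range (Points.map (Sheaf.imageι a₁)) = Set.range (Points.ofPt a₁) :=
    Groth.Agent.H52.range_points_map_imageι a₁ ha₁e
  -- the restriction of the morphism
  have hqs₁ : IsQuasiSeparatedMor (Sheaf.imageι a₁ ≫ pullback.snd f b₀) :=
    isQuasiSeparatedMor_mono_comp_of_isSeparatedMor _ _ hg₀sep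
  have hlft₁ : LocP @LocallyOfFiniteType (Sheaf.imageι a₁ ≫ pullback.snd f b₀) :=
    Groth.Agent.H53.locP_comp Groth.Agent.H53.locPCalc_locallyOfFiniteType hP₁ hP₀ (IsAlgSpace.yon_obj V₀) _ _
      (Groth.Agent.H52.locP_of_repWith _ @LocallyOfFiniteType
        (fun _ _ φ hφ => by have : Etale φ := hφ; infer_instance)
        (Groth.Agent.H53.repWith_of_le (fun _ _ φ hφ => by
          have : IsOpenImmersion φ := hφ
          change LocallyOfFiniteType φ
          infer_instance) hj₁)) hg₀lft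
  have hqc₁ : IsQuasiCompactMor (Sheaf.imageι a₁ ≫ pullback.snd f b₀) :=
    Groth.Agent.H52.isQuasiCompactMor_to_yon hP₁qc V₀ _
  have hqf₁ : ∀ x : Points (Sheaf.image a₁),
      Points.map (Sheaf.imageι a₁ ≫ pullback.snd f b₀) x = Points.ofPt (𝟙 ((yon S).obj V₀)) v₀ →
      HasAtMor QF (Sheaf.imageι a₁ ≫ pullback.snd f b₀) x := by
    refine (codim_zero_fibre hP₁ _ hlft₁ _ hy₀).1.1 (fun x hx => ?_)
    rw [Points.map_comp] at hx
    have h1 := hfibX _ hx
    exact codim0_of_map_isEtaleMor hP₁ _ hj₁e x (codim0_of_map_isEtaleMor hP₀ _ hfst₀e _ h1)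
  obtain ⟨V, b, hVaff, hbe, ⟨v, hv⟩, H₁⟩ := exists_chart_isFiniteMor_of_quasiFiniteAt hP₁
    (IsAlgSpace.yon_obj V₀) _ hqs₁ ⟨hlft₁, hqc₁⟩ _ hy₀ hqf₁
  -- the final chart
  refine ⟨V, b ≫ b₀, (RepWith @Etale).comp_mem _ _ hbe hb₀e, ⟨v, ?_⟩, ?_⟩
  · rw [← Points.map_ofPt, hv, hby₀]
  intro Q fstQ sndQ sqQ
  have hQ : IsAlgSpace Q := Groth.Agent.H52.isAlgSpace_of_isPullback sqQ hX hY (IsAlgSpace.yon_obj V)
  have hwπ : fstQ ≫ f = (sndQ ≫ b) ≫ b₀ := by rw [Category.assoc]; exact sqQ.w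
  have hπ1 : sqP.lift fstQ _ hwπ ≫ pullback.fst f b₀ = fstQ := sqP.lift_fst _ _ _
  have hπ2 : sqP.lift fstQ _ hwπ ≫ pullback.snd f b₀ = sndQ ≫ b := sqP.lift_snd _ _ _
  generalize sqP.lift fstQ _ hwπ = πP at hπ1 hπ2
  have sqV : IsPullback πP sndQ (pullback.snd f b₀) b := by
    refine IsPullback.of_right ?_ hπ2 sqP
    rw [hπ1]
    exact sqQ
  have hsndsep : IsSeparatedMor sndQ :=
    Groth.Agent.H52.repWith_diagonal_of_isPullback @IsClosedImmersion sqV hg₀sep
  have hπPe : IsEtaleMor πP :=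
    Groth.Agent.H52.isEtaleMor_of_repWith_etale _ (MorphismProperty.of_isPullback sqV.flip hbe)
  -- the base change of the quasi-compact open
  have sq₁ := IsPullback.of_hasPullback (Sheaf.imageι a₁ ≫ pullback.snd f b₀) b
  have hP₁V : IsAlgSpace (pullback (Sheaf.imageι a₁ ≫ pullback.snd f b₀) b) :=
    Groth.Agent.H52.isAlgSpace_of_isPullback sq₁ hP₁ (IsAlgSpace.yon_obj V₀) (IsAlgSpace.yon_obj V)
  have hfin₁ : IsFiniteMor (pullback.snd (Sheaf.imageι a₁ ≫ pullback.snd f b₀) b) := H₁ _ _ _ sq₁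
  have hwk : (pullback.fst (Sheaf.imageι a₁ ≫ pullback.snd f b₀) b ≫ Sheaf.imageι a₁) ≫ pullback.snd f b₀ =
      pullback.snd (Sheaf.imageι a₁ ≫ pullback.snd f b₀) b ≫ b := by
    rw [Category.assoc]; exact sq₁.w
  have hk1 : sqV.lift _ _ hwk ≫ πP = pullback.fst (Sheaf.imageι a₁ ≫ pullback.snd f b₀) b ≫ Sheaf.imageι a₁ :=
    sqV.lift_fst _ _ _
  have hk2 : sqV.lift _ _ hwk ≫ sndQ = pullback.snd (Sheaf.imageι a₁ ≫ pullback.snd f b₀) b :=
    sqV.lift_snd _ _ _
  generalize sqV.lift _ _ hwk = k at hk1 hk2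
  have sqk : IsPullback (pullback.fst (Sheaf.imageι a₁ ≫ pullback.snd f b₀) b) k (Sheaf.imageι a₁) πP := by
    refine IsPullback.of_bot ?_ hk1.symm sqV
    rw [hk2]
    exact sq₁
  have hkoi : RepWith @IsOpenImmersion k := MorphismProperty.of_isPullback sqk hj₁
  have hkuc : IsUnivClosedMor k := by
    refine Groth.Agent.H53.isUnivClosedMor_of_comp_separated hP₁V hQ (IsAlgSpace.yon_obj V) k sndQ hsndsep ?_
    rw [hk2]
    exact Groth.Agent.H53.isUnivClosedMor_of_repWith_universallyClosed _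
      (Groth.Agent.H53.repWith_of_le (fun _ _ φ hφ => by have := hφ; infer_instance)
        ((Groth.Agent.H53.ZarGlue.isFiniteMor_iff_repWith _).1 hfin₁))
  have hkcl : IsClosedMap (Points.map k) :=
    hkuc hQ (𝟙 Q) (𝟙 _) k (IsPullback.of_horiz_isIso ⟨by rw [Category.id_comp, Category.comp_id]⟩)
  have hksurj : Function.Surjective (Points.map k) := by
    by_contra hns
    have hne : ((Set.range (Points.map k))ᶜ).Nonempty := by
      rw [Set.nonempty_compl]
      intro h
      exact hns (Set.range_eq_univ.1 h)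
    obtain ⟨p, hpO, hpc⟩ := exists_codim0_mem_of_isOpen hQ _ hkcl.isClosed_range.isOpen_compl hne
    apply hpO
    -- the image of `p` in `P₀` lies in the fibre
    have hp₀c : Codim0 X (Points.map (pullback.fst f b₀) (Points.map πP p)) :=
      codim0_map_of_isEtaleMor _ hfst₀e _ (codim0_map_of_isEtaleMor _ hπPe _ hpc)
    have hyc := (hpre _).1 hp₀c
    rw [← Points.map_comp, sqP.w, Points.map_comp] at hyc
    obtain ⟨v', hv'⟩ := Groth.Agent.H53.surjective_ofPt_of_surjective (𝟙 ((yon S).obj V₀))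
      (Groth.Agent.H52.repWith_of_isIso _ _) (Points.map (pullback.snd f b₀) (Points.map πP p))
    rw [← hv', Points.map_ofPt, Category.id_comp] at hyc
    have hv'eq := hiso v' hyc
    rw [hv'eq] at hv'
    have hmem : Points.map πP p ∈ Set.range (Points.map (Sheaf.imageι a₁)) := by
      rw [hrange₁]
      exact hΦU₁ hv'.symm
    obtain ⟨x₁, hx₁⟩ := hmem
    obtain ⟨q, -, hq⟩ := Groth.Agent.H52.exists_point_of_isPullback sqk x₁ p hx₁
    exact ⟨q, hq⟩
  haveI : IsIso k := isIso_of_isOpenImmersion_of_surjective k hkoi hksurj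
  rw [Groth.Agent.H53.ZarGlue.isFiniteMor_iff_repWith] at hfin₁ ⊢
  have sqi : IsPullback (inv k) sndQ (pullback.snd (Sheaf.imageι a₁ ≫ pullback.snd f b₀) b) (𝟙 _) :=
    IsPullback.of_horiz_isIso ⟨by rw [← hk2, IsIso.inv_hom_id_assoc, Category.comp_id]⟩
  exact MorphismProperty.of_isPullback sqi hfin₁

/-- Generic finiteness: a morphism locally of finite type to a decent space, quasi-compact or separated, such that source
and target have finitely many codimension 0 points and these correspond, is finite over a dense open of the target. -/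
theorem exists_dense_open_hasOver_isFiniteMor {X Y : Sp S} (hX : IsAlgSpace X) (hY : IsAlgSpace Y)
    (f : X ⟶ Y) (hf : LocP @LocallyOfFiniteType f) (hYd : IsDecent Y)
    (hX0 : {x : Points X | Codim0 X x}.Finite) (hY0 : {y : Points Y | Codim0 Y y}.Finite)
    (hpre : ∀ x : Points X, Codim0 X x ↔ Codim0 Y (Points.map f x))
    (hqs : IsQuasiCompactMor f ∨ IsSeparatedMor f) :
    ∃ W : TopologicalSpace.Opens (Points Y), Dense (W : Set (Points Y)) ∧
      HasOver IsFiniteMor f (W : Set (Points Y)) := by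
  have hP : IsLocalOnBase (fun _ _ Y g =>
      IsCover (fun _ _ g => LocP @Flat g ∧ LocP @LocallyOfFinitePresentation g) Y g) (IsFiniteMor (S := S)) :=
    Groth.Agent.H53.ChartDescent.isLocalOnBase_fppf_of_fpqc (Groth.Agent.S10540.result S)
  obtain ⟨W, hW, -, hWmax, -⟩ := exists_largest_open covClass_fppf hP hX hY f
  refine ⟨W, ?_, hW⟩
  rw [dense_iff_inter_open]
  intro O hO hOne
  obtain ⟨y, hyO, hyc⟩ := exists_codim0_mem_of_isOpen hY O hO hOne
  refine ⟨y, hyO, ?_⟩
  obtain ⟨V₀, b₀, v₀, hV₀aff, hb₀, rfl, hiso⟩ := exists_isolating_chart hY hYd hY0 y hyc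
  have hb₀e : RepWith @Etale b₀ :=
    Groth.Agent.H53.repWith_of_le (fun _ _ φ hφ => by have := hφ; infer_instance) hb₀
  obtain ⟨V, b, hbe, ⟨v, hv⟩, H⟩ : ∃ (V : Over S) (b : (yon S).obj V ⟶ Y), RepWith @Etale b ∧
      Points.ofPt b₀ v₀ ∈ Set.range (Points.ofPt b) ∧
      ∀ (Q : Sp S) (fstQ : Q ⟶ X) (sndQ : Q ⟶ (yon S).obj V), IsPullback fstQ sndQ f b →
        IsFiniteMor sndQ := by
    rcases hqs with hqc | hsep
    · exact exists_chart_isFiniteMor_of_quasiCompact hX hY f hf hqc hpre b₀ v₀ hV₀aff hb₀e hyc hiso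
    · exact exists_chart_isFiniteMor_of_separated hX hY f hf hsep hX0 hpre b₀ v₀ hV₀aff hb₀ hyc hiso
  have sq := IsPullback.of_hasPullback f b
  have hsub := hWmax _ _ b (pullback.fst f b) (pullback.snd f b) (IsAlgSpace.yon_obj V)
    (Groth.Agent.H52.isAlgSpace_of_isPullback sq hX hY (IsAlgSpace.yon_obj V))
    (Groth.Agent.H53.AffineChart.locP_flat_lfp_of_etale b hbe) sq (H _ _ _ sq)
  apply hsub
  rw [← hv, Points.ofPt_eq_map_ofScheme]
  exact ⟨_, rfl⟩

end Groth.Agent.Lib.Helper54
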