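import Groth.Agent.Lib.Helper54.ConfFiltr
import Groth.Agent.Lib.Helper54.MonoDiscrete
import Groth.Agent.Lib.Helper54.GenericFiniteSp3
import Groth.Agent.Lib.Helper54.OpenSubspace
import Groth.Agent.H53.OpenSub
import Groth.Agent.S10192

/-!
# Assembling the filtration of an algebraic space by schemes (helper54)
-/

set_option autoImplicit false
set_option backward.isDefEq.respectTransparency false
set_option linter.style.haveILetI false
universe u
open CategoryTheory CategoryTheory.Limits AlgebraicGeometry Topology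
open AlgSp

namespace Groth.Agent.Lib.Helper54

variable {S : Scheme.{u}}

/-- The base change of an étale surjective `f : h_V ⟶ Uo` to a closed subspace `T` of `Uo` is an isomorphism, when
field-valued points of `V` over points of `T` are determined by their images. -/
theorem isIso_fst_of_unique_fieldPts {X Uo Uo' T : Sp S} (j : Uo ⟶ X) (k : Uo' ⟶ Uo) (i : T ⟶ Uo)
    (hj : Function.Injective (Points.map j))
    (hi : Set.range (Points.map i) = (Set.range (Points.map k))ᶜ)
    {V : Over S} (f : (yon S).obj V ⟶ Uo) (hfe : RepWith @Etale f) (hfs : RepWith @Surjective f)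
    (huniq : ∀ (K : Type u) [Field K] (str : Spec (CommRingCat.of K) ⟶ S) (v₁ v₂ : Over.mk str ⟶ V),
      (yon S).map v₁ ≫ f ≫ j = (yon S).map v₂ ≫ f ≫ j →
      (∀ s, Points.ofPt ((yon S).map v₁ ≫ f ≫ j) s ∉ Set.range (Points.map (k ≫ j))) → v₁ = v₂)
    {P : Sp S} (fst : P ⟶ T) (snd : P ⟶ (yon S).obj V) (sq : IsPullback fst snd i f) : IsIso fst := by
  have hfste : RepWith @Etale fst := MorphismProperty.of_isPullback sq.flip hfe
  have hfsts : RepWith @Surjective fst := MorphismProperty.of_isPullback sq.flip hfs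
  refine Groth.Agent.H53.isIso_of_repWith_isomorphisms fst ⟨hfste.rep, fun Z Z' g fst' snd' sq' => ?_⟩
  have h1 : Etale snd'.left := hfste.property g fst' snd' sq'
  have h2 : Surjective snd'.left := hfsts.property g fst' snd' sq'
  obtain ⟨ψ, hψ⟩ := (yon S).map_surjective (fst' ≫ snd)
  refine isIso_of_etale_surjective_of_injective_fieldPts snd'.left (fun K _ g₁ g₂ hg => ?_)
  have hw2 : g₂ ≫ Z'.hom = g₁ ≫ Z'.hom := by
    rw [← Over.w snd', ← Category.assoc, ← Category.assoc, hg]
  let γ₁ : Over.mk (g₁ ≫ Z'.hom) ⟶ Z' := Over.homMk g₁ rfl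
  let γ₂ : Over.mk (g₁ ≫ Z'.hom) ⟶ Z' := Over.homMk g₂ hw2
  have hγ : γ₁ ≫ snd' = γ₂ ≫ snd' := by
    ext
    exact hg
  have hcomp : ∀ γ : Over.mk (g₁ ≫ Z'.hom) ⟶ Z',
      (yon S).map (γ ≫ ψ) ≫ f ≫ j = ((yon S).map (γ ≫ snd') ≫ g) ≫ i ≫ j := by
    intro γ
    rw [Functor.map_comp, hψ, Functor.map_comp]
    simp only [Category.assoc]
    rw [← sq.w_assoc, ← sq'.w_assoc]
  have hv : γ₁ ≫ ψ = γ₂ ≫ ψ := by
    apply huniq K (g₁ ≫ Z'.hom)
    · rw [hcomp, hcomp, hγ]
    · intro s hs
      have e : Points.ofPt (((yon S).map (γ₁ ≫ snd') ≫ g) ≫ i ≫ j) s =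
          Points.map j (Points.map i (Points.ofPt ((yon S).map (γ₁ ≫ snd') ≫ g) s)) := by
        rw [Points.map_ofPt, Points.map_ofPt]
        simp only [Category.assoc]
      rw [hcomp, e] at hs
      obtain ⟨y', hy'⟩ := hs
      rw [Points.map_comp] at hy'
      have h3 := hj hy'
      have h4 : Points.map i (Points.ofPt ((yon S).map (γ₁ ≫ snd') ≫ g) s) ∈
          Set.range (Points.map i) := ⟨_, rfl⟩
      rw [hi] at h4
      exact h4 ⟨y', h3⟩
  have hfst' : (yon S).map γ₁ ≫ fst' = (yon S).map γ₂ ≫ fst' := by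
    apply sq.hom_ext
    · rw [Category.assoc, Category.assoc, sq'.w, ← Category.assoc, ← Category.assoc,
        ← Functor.map_comp, ← Functor.map_comp, hγ]
    · rw [Category.assoc, Category.assoc, ← hψ, ← Functor.map_comp, ← Functor.map_comp, hv]
  have hγeq : (yon S).map γ₁ = (yon S).map γ₂ := by
    apply sq'.hom_ext hfst'
    rw [← Functor.map_comp, ← Functor.map_comp, hγ]
  have := (yon S).map_injective hγeq
  exact congrArg (fun k => k.left) this

/-- Assembling a filtration by open subspaces with strata dominated by schemes from a decreasing sequence of open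
sets `O n` and schemes `V n` étale over `X` with image `O n` and one-point fibres outside `O (n + 1)`. -/
theorem exists_filtration (X : Space S) (O : ℕ → Set (Points X.obj)) (hO : ∀ n, IsOpen (O n))
    (hanti : ∀ n, O (n + 1) ⊆ O n) (h0 : O 0 = Set.univ) (Q : Over S → Prop)
    (hV : ∀ n, ∃ (V : Over S) (f : (yon S).obj V ⟶ X.obj), V.left.IsSeparated ∧ Q V ∧ RepWith @Etale f ∧
      Set.range (Points.ofPt f) = O n ∧
      ∀ (K : Type u) [Field K] (str : Spec (CommRingCat.of K) ⟶ S) (v₁ v₂ : Over.mk str ⟶ V),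
        (yon S).map v₁ ≫ f = (yon S).map v₂ ≫ f →
        (∀ s, Points.ofPt ((yon S).map v₁ ≫ f) s ∉ O (n + 1)) → v₁ = v₂) :
    ∃ (Uo : ℕ → Space S) (j : ∀ p, Uo p ⟶ X) (k : ∀ p, Uo (p + 1) ⟶ Uo p)
      (T : ℕ → Space S) (i : ∀ p, T p ⟶ Uo p),
      (∀ p, RepWith @IsOpenImmersion (j p).hom) ∧ (∀ p, k p ≫ j p = j (p + 1)) ∧ IsIso (j 1) ∧
      (∀ p, IsRedInduced (Set.range (Points.map (k p).hom))ᶜ (i p).hom) ∧
      (∀ p, 1 ≤ p → ∃ (V : Over S) (f : (yon S).obj V ⟶ (Uo p).obj), V.left.IsSeparated ∧ Q V ∧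
        RepWith @Etale f ∧ RepWith @Surjective f ∧
        ∀ (P : Sp S) (fst : P ⟶ (T p).obj) (snd : P ⟶ (yon S).obj V),
          IsPullback fst snd (i p).hom f → IsIso fst) ∧
      (∀ p, Set.range (Points.map (j p).hom) = O (p - 1)) ∧
      (∀ p, Set.range (Points.map ((i p) ≫ (j p)).hom) = O (p - 1) \ O p) := by
  have hO'anti : ∀ p, O (p + 1 - 1) ⊆ O (p - 1) := by
    intro p
    cases p with
    | zero => exact subset_rfl
    | succ p => exact hanti p
  let Uo : ℕ → Space S := fun p =>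
    ⟨openSub X.obj (O (p - 1)), isAlgSpace_openSub X.property _ (hO _)⟩
  let j : ∀ p, Uo p ⟶ X := fun p => ⟨openSubι X.obj (O (p - 1))⟩
  have hj : ∀ p, RepWith @IsOpenImmersion (j p).hom := fun p =>
    repWith_isOpenImmersion_openSubι _ _ (hO _)
  have hjr : ∀ p, Set.range (Points.map (j p).hom) = O (p - 1) := fun p =>
    range_points_map_openSubι _ _
  have hjm : ∀ p, Mono (j p).hom := fun p => mono_openSubι _ _
  have hjinj : ∀ p, Function.Injective (Points.map (j p).hom) := fun p =>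
    @injective_points_of_mono _ _ _ _ (hjm p)
  have hk : ∀ p, ∃ k : (Uo (p + 1)).obj ⟶ (Uo p).obj, k ≫ (j p).hom = (j (p + 1)).hom := fun p =>
    Groth.Agent.H53.exists_factor_of_range_subset (j p).hom (hj p) (j (p + 1)).hom (by
      rw [hjr, hjr]
      exact hO'anti p)
  choose k₀ hk₀ using hk
  let k : ∀ p, Uo (p + 1) ⟶ Uo p := fun p => ⟨k₀ p⟩
  have hkj : ∀ p, k p ≫ j p = j (p + 1) := fun p => by
    apply ObjectProperty.hom_ext
    exact hk₀ p
  have hkoi : ∀ p, RepWith @IsOpenImmersion (k p).hom := fun p => by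
    haveI := hjm p
    exact Groth.Agent.H53.repWith_of_comp_mono _ (k₀ p) (j p).hom (by rw [hk₀ p]; exact hj _)
  have hkopen : ∀ p, IsOpen (Set.range (Points.map (k p).hom)) := fun p =>
    (Groth.Agent.H52.isOpenMap_points_of_repWith (k p).hom @IsOpenImmersion
      (fun _ _ φ hφ => by have := hφ; exact φ.isOpenEmbedding.isOpenMap) (hkoi p)).isOpen_range
  have hkr : ∀ p (y : Points (Uo p).obj),
      y ∈ Set.range (Points.map (k p).hom) ↔ Points.map (j p).hom y ∈ O (p + 1 - 1) := by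
    intro p y
    constructor
    · rintro ⟨y', rfl⟩
      rw [← hjr (p + 1), ← hk₀ p]
      exact ⟨y', by rw [Points.map_comp]⟩
    · intro hy
      rw [← hjr (p + 1)] at hy
      obtain ⟨y', hy'⟩ := hy
      refine ⟨y', hjinj p ?_⟩
      rw [← hy', ← hk₀ p, Points.map_comp]
  have hT : ∀ p, ∃ (Z : Space S) (i : Z ⟶ Uo p),
      IsRedInduced (Set.range (Points.map (k p).hom))ᶜ i.hom := fun p =>
    Groth.Agent.S10192.result (Uo p) _ (hkopen p).isClosed_compl
  choose T i hi using hT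
  have hir : ∀ p, Set.range (Points.map ((i p) ≫ (j p)).hom) = O (p - 1) \ O (p + 1 - 1) := by
    intro p
    ext x
    constructor
    · rintro ⟨τ, rfl⟩
      have h1 : Points.map (i p).hom τ ∈ Set.range (Points.map (i p).hom) := ⟨τ, rfl⟩
      rw [(hi p).2.1] at h1
      change Points.map ((i p).hom ≫ (j p).hom) τ ∈ _
      rw [Points.map_comp]
      refine ⟨?_, fun h2 => h1 ((hkr p _).2 h2)⟩
      rw [← hjr p]
      exact ⟨_, rfl⟩
    · rintro ⟨h1, h2⟩
      rw [← hjr p] at h1
      obtain ⟨y, rfl⟩ := h1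
      have h3 : y ∈ (Set.range (Points.map (k p).hom))ᶜ := fun h => h2 ((hkr p y).1 h)
      rw [← (hi p).2.1] at h3
      obtain ⟨τ, rfl⟩ := h3
      refine ⟨τ, ?_⟩
      change Points.map ((i p).hom ≫ (j p).hom) τ = _
      rw [Points.map_comp]
  refine ⟨Uo, j, k, T, i, hj, hkj, ?_, hi, ?_, hjr, fun p => by rw [hir p]; rfl⟩
  · -- `j 1` is an isomorphism
    have h1 : IsIso (j 1).hom :=
      isIso_of_isOpenImmersion_of_surjective (j 1).hom (hj 1) (by
        rw [← Set.range_eq_univ, hjr 1]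
        exact h0)
    have : IsIso ((ObjectProperty.ι _).map (j 1)) := h1
    exact isIso_of_reflects_iso (j 1) (ObjectProperty.ι _)
  · intro p hp
    obtain ⟨V, f₀, hsep, hQ, hf₀e, hf₀r, huniq⟩ := hV (p - 1)
    obtain ⟨f, hf⟩ := (exists_factor_openSubι_iff (W := O (p - 1)) f₀).2 (fun t => by
      rw [← hf₀r]
      exact ⟨t, rfl⟩)
    change f ≫ (j p).hom = f₀ at hf
    haveI := hjm p
    have hfe : RepWith @Etale f := Groth.Agent.H53.repWith_of_comp_mono _ f (j p).hom (by rw [hf]; exact hf₀e)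
    have hfs : RepWith @Surjective f := by
      refine Groth.Agent.H52.repWith_surjective_of_surjective_points f hfe.rep (fun y => ?_)
      have h1 : Points.map (j p).hom y ∈ Set.range (Points.ofPt f₀) := by
        rw [hf₀r, ← hjr p]
        exact ⟨y, rfl⟩
      obtain ⟨v, hv⟩ := h1
      refine ⟨Points.ofScheme V v, hjinj p ?_⟩
      rw [← hv, ← hf, ← Points.ofPt_eq_map_ofScheme, Points.map_ofPt]
    refine ⟨V, f, hsep, hQ, hfe, hfs, fun P fst snd sq => ?_⟩
    refine isIso_fst_of_unique_fieldPts (j p).hom (k p).hom (i p).hom (hjinj p) (hi p).2.1 f hfe hfs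
      ?_ fst snd sq
    intro K _ str v₁ v₂ h hno
    rw [hf] at h hno
    refine huniq K str v₁ v₂ h (fun s hs => hno s ?_)
    have h2 : p - 1 + 1 = p + 1 - 1 := by omega
    rw [h2, ← hjr (p + 1)] at hs
    rw [hk₀ p]
    exact hs

end Groth.Agent.Lib.Helper54
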