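import Groth.Agent.S10418
import Groth.Agent.Lib.Helper54.FiltrAssembly
import Groth.Agent.H52.DimLocal2

/-!
# Elementary étale neighbourhoods on decent spaces (helper54)

Every point of a decent algebraic space has an affine elementary étale neighbourhood with exactly one point over it
(from the filtration by schemes of a quasi-compact open subspace, S10418).
-/

set_option autoImplicit false
set_option backward.isDefEq.respectTransparency false
set_option linter.style.haveILetI false
universe u
open CategoryTheory CategoryTheory.Limits AlgebraicGeometry Topology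
open AlgSp

namespace Groth.Agent.Lib.Helper54

variable {S : Scheme.{u}}

/-- A field-valued point defines the same point as the field-valued point of its morphism. -/
theorem mk_fieldPtOfHom_toHom {F : Sp S} (q : FieldPt F) :
    Points.mk (fieldPtOfHom q.K q.str q.toHom) = Points.mk q := by
  have := mk_fieldPtOfHom_comp q q.str (𝟙 _)
  rwa [CategoryTheory.Functor.map_id, Category.id_comp] at this

/-- An isomorphism of sheaves induces an injection on points. -/
theorem injective_points_map_of_isIso {F G : Sp S} (f : F ⟶ G) [IsIso f] :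
    Function.Injective (Points.map f) := by
  intro w w' h
  have := congrArg (Points.map (inv f)) h
  rwa [← Points.map_comp, ← Points.map_comp, IsIso.hom_inv_id, Points.map_id, Points.map_id] at this

/-- Local form: if `f : h_V ⟶ Uo` is étale and its base change to a closed subspace `i : T ⟶ Uo` is an isomorphism,
then a point `v` of `V` over a point `τ` of `T` is the only point of `V` over it and its residue field point is a
monomorphism to `Uo`. -/
theorem unique_and_mono_of_isIso_fst {Uo T : Sp S} (i : T ⟶ Uo) (hi : RepWith @IsClosedImmersion i)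
    {V : Over S} (f : (yon S).obj V ⟶ Uo)
    (hiso : ∀ (P : Sp S) (fst : P ⟶ T) (snd : P ⟶ (yon S).obj V), IsPullback fst snd i f → IsIso fst)
    (τ : Points T) (v : ↥V.left) (hv : Points.ofPt f v = Points.map i τ) :
    (∀ v' : ↥V.left, Points.ofPt f v' = Points.map i τ → v' = v) ∧
      ∀ {L : Type u} [Field L] (strL : Spec (CommRingCat.of L) ⟶ S) (r : Over.mk strL ⟶ V) [Mono r],
        (∀ s, r.left s = v) → Mono ((yon S).map r ≫ f) := by
  have sq := IsPullback.of_hasPullback i f
  haveI := hiso _ _ _ sq
  have hinj := injective_points_map_of_isIso (pullback.fst i f)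
  have himono : Mono i := Groth.Agent.H52.mono_of_repWith i _ (fun _ _ g hg => by
    have : IsClosedImmersion g := hg
    infer_instance) hi
  constructor
  · intro v' hv'
    obtain ⟨w, hw1, hw2⟩ := exists_point_of_isPullback sq τ (Points.ofScheme V v) (by
      rw [← Points.ofPt_eq_map_ofScheme, hv])
    obtain ⟨w', hw'1, hw'2⟩ := exists_point_of_isPullback sq τ (Points.ofScheme V v') (by
      rw [← Points.ofPt_eq_map_ofScheme, hv'])
    have hww' : w = w' := hinj (hw1.trans hw'1.symm)
    have h1 : Points.ofScheme V v = Points.ofScheme V v' := by rw [← hw2, ← hw'2, hww']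
    have h2 := congrArg (Points.toScheme V) h1
    rw [Points.toScheme_ofScheme, Points.toScheme_ofScheme] at h2
    exact h2.symm
  · intro L _ strL r _ hr
    -- the pullback of `i` along `ρ = h_r ≫ f` is all of `Spec L`
    have hrep := hi.rep
    have sqZ := hrep.isPullback ((yon S).map r ≫ f)
    have hci : IsClosedImmersion (hrep.snd ((yon S).map r ≫ f)).left := hi.property_snd _
    obtain ⟨z, -, -⟩ := exists_pt_of_isPullback_yon sqZ τ (fieldPt L) (by
      rw [ofPt_yon_map_comp, hr, hv])
    haveI : Nonempty ↥(hrep.pullback ((yon S).map r ≫ f)).left := ⟨z⟩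
    have hisoL : IsIso (hrep.snd ((yon S).map r ≫ f)).left :=
      isIso_of_mono_of_nonempty_of_field (L := L) (hrep.snd ((yon S).map r ≫ f)).left
    have hisoO : IsIso (hrep.snd ((yon S).map r ≫ f)) := by
      have : IsIso ((Over.forget S).map (hrep.snd ((yon S).map r ≫ f))) := hisoL
      exact isIso_of_reflects_iso _ (Over.forget S)
    let t : (yon S).obj (Over.mk strL) ⟶ T :=
      (yon S).map (inv (hrep.snd ((yon S).map r ≫ f))) ≫ hrep.fst ((yon S).map r ≫ f)
    have ht : t ≫ i = (yon S).map r ≫ f := by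
      rw [Category.assoc, sqZ.w, ← Category.assoc, ← Functor.map_comp, IsIso.inv_hom_id,
        CategoryTheory.Functor.map_id, Category.id_comp]
    let ℓ := sq.lift t ((yon S).map r) ht
    have hℓ1 : ℓ ≫ pullback.fst i f = t := sq.lift_fst _ _ _
    have hℓ2 : ℓ ≫ pullback.snd i f = (yon S).map r := sq.lift_snd _ _ _
    haveI : Mono ((yon S).map r) := inferInstance
    haveI : Mono ℓ := mono_of_mono_fac hℓ2
    haveI : Mono t := by rw [← hℓ1]; infer_instance
    rw [← ht]
    infer_instance

/-- Every point of a decent algebraic space has an affine elementary étale neighbourhood with exactly one point over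
it. -/
theorem exists_affine_elemEtaleNbhd (X : Space S) (hX : IsDecent X.obj) (x : Points X.obj) :
    ∃ (U : Over S) (a : (yon S).obj U ⟶ X.obj) (u : ↥U.left), IsAffine U.left ∧
      IsElemEtaleNbhd a u x ∧ Points.ofPt a ⁻¹' {x} = {u} := by
  have hEt : (RepWith (S := S) @Etale).IsMultiplicative := repWith_isMultiplicative _
  -- an affine chart through `x`
  obtain ⟨U₁, a₁, u₁, ha₁, rfl⟩ := Groth.Agent.H52.exists_chart_through_point X.property x
  obtain ⟨A₁, hA₁, hu₁A, -⟩ := exists_isAffineOpen_mem_and_subset (x := u₁) (U := ⊤) trivial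
  obtain ⟨a₀, ha₀def⟩ : ∃ a₀ : (yon S).obj (Groth.Agent.H52.overOpen U₁ A₁) ⟶ X.obj,
      a₀ = (yon S).map (Groth.Agent.H52.overOpenι U₁ A₁) ≫ a₁ := ⟨_, rfl⟩
  have ha₀ : RepWith @Etale a₀ := by
    rw [ha₀def]
    exact (RepWith @Etale).comp_mem _ _ (Groth.Agent.H52.repWith_etale_overOpenι U₁ A₁) ha₁
  have hU₀ : IsAffine (Groth.Agent.H52.overOpen U₁ A₁).left := hA₁
  have hu₀ : Points.ofPt a₀ ⟨u₁, hu₁A⟩ = Points.ofPt a₁ u₁ := by
    rw [ha₀def, ofPt_yon_map_comp]
    rfl
  -- the quasi-compact open subspace `X'`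
  obtain ⟨O, hOmem, hOex, hO⟩ : ∃ O : Set (Points X.obj), (∀ t, Points.ofPt a₀ t ∈ O) ∧
      (∀ y ∈ O, ∃ t, Points.ofPt a₀ t = y) ∧ IsOpen O :=
    ⟨Set.range (Points.ofPt a₀), fun t => ⟨t, rfl⟩, fun y hy => hy,
      (Groth.Agent.H53.isOpenMap_ofPt_of_etale a₀ ha₀).isOpen_range⟩
  obtain ⟨a', ha'⟩ := (exists_factor_openSubι_iff (W := O) a₀).2 hOmem
  have hιinj : Function.Injective (Points.map (openSubι X.obj O)) := injective_points_of_mono _
  have ha'e : RepWith @Etale a' :=
    Groth.Agent.H53.repWith_of_comp_mono _ a' (openSubι X.obj O) (by rw [ha']; exact ha₀)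
  have ha's : RepWith @Surjective a' := by
    refine Groth.Agent.H52.repWith_surjective_of_surjective_points a' ha'e.rep (fun y => ?_)
    have h1 : Points.map (openSubι X.obj O) y ∈ O := by
      have : Points.map (openSubι X.obj O) y ∈ Set.range (Points.map (openSubι X.obj O)) := ⟨y, rfl⟩
      rwa [range_points_map_openSubι X.obj O] at this
    obtain ⟨t, ht⟩ := hOex _ h1
    refine ⟨Points.ofScheme _ t, hιinj ?_⟩
    rw [← ht, ← ha', ← Points.ofPt_eq_map_ofScheme, Points.map_ofPt]
  let X' : Space S := ⟨openSub X.obj O, isAlgSpace_openSub X.property _ hO⟩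
  have hX'qc : IsQuasiCompactSp X'.obj := ⟨_, a', ha'e, ha's, inferInstance⟩
  -- the point `x'` of `X'` over `x` and its quasi-compact representative
  obtain ⟨q, hq, -, hqc⟩ := hX (Points.ofPt a₁ u₁)
  obtain ⟨q', hq'⟩ := (exists_factor_openSubι_iff (W := O) q.toHom).2
    (fun t => by
      rw [Points.ofPt_toHom, hq, ← hu₀]
      exact hOmem _)
  have hq'qc : RepWith @QuasiCompact q' :=
    Groth.Agent.H53.repWith_of_comp_mono _ q' (openSubι X.obj O) (by rw [hq']; exact hqc)
  have hx' : Points.map (openSubι X.obj O)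
      (Points.mk (fieldPtOfHom q.K q.str q')) = Points.ofPt a₁ u₁ := by
    rw [Points.map_mk, map_fieldPtOfHom, hq', mk_fieldPtOfHom_toHom, hq]
  -- the filtration of `X'`
  obtain ⟨Uo, j, k, T, i, hj, -, -, hi, hV, hdec⟩ := Groth.Agent.S10418.result X' hX'qc
  obtain ⟨p, hp, τ, hτ⟩ := hdec (Points.mk (fieldPtOfHom q.K q.str q'))
    ⟨fieldPtOfHom q.K q.str q', rfl, by rw [fieldPtOfHom_toHom]; exact hq'qc⟩
  obtain ⟨V, f, -, hfe, hfs, hiso⟩ := hV p hp
  change Points.map ((i p).hom ≫ (j p).hom) τ = _ at hτ
  rw [Points.map_comp] at hτ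
  have hjmono : Mono (j p).hom := Groth.Agent.H52.mono_of_repWith _ _ (fun _ _ g hg => by
    have : IsOpenImmersion g := hg
    infer_instance) (hj p)
  have hjinj : Function.Injective (Points.map (j p).hom) := injective_points_of_mono _
  have hmonoOE : ∀ {F G : Sp S} (h : F ⟶ G), RepWith IsOpenImmersion h → RepWith @Etale h := by
    intro F G h hh
    refine (repWith_iff _ h).2 ⟨hh.rep, fun U V g fst snd sq => ?_⟩
    have : IsOpenImmersion snd.left := hh.property g fst snd sq
    exact inferInstanceAs (Etale snd.left)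
  have hje : RepWith @Etale (j p).hom := hmonoOE _ (hj p)
  have hιe : RepWith @Etale (openSubι X.obj O) :=
    hmonoOE _ (repWith_isOpenImmersion_openSubι _ _ hO)
  -- the point `v` of `V`
  obtain ⟨v, hv⟩ := Groth.Agent.H53.surjective_ofPt_of_surjective f hfs (Points.map (i p).hom τ)
  obtain ⟨huniq, hmono⟩ := unique_and_mono_of_isIso_fst (i p).hom (hi p).1 f hiso τ v hv
  obtain ⟨A, hA, hvA, -⟩ := exists_isAffineOpen_mem_and_subset (x := v) (U := ⊤) trivial
  obtain ⟨g, hgdef⟩ : ∃ g : (yon S).obj V ⟶ X.obj,
      g = f ≫ (j p).hom ≫ openSubι X.obj O := ⟨_, rfl⟩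
  have hge : RepWith @Etale g := by
    rw [hgdef]
    exact (RepWith @Etale).comp_mem _ _ hfe ((RepWith @Etale).comp_mem _ _ hje hιe)
  have hgpt : ∀ v' : ↥V.left, Points.ofPt g v' = Points.ofPt a₁ u₁ ↔ v' = v := by
    intro v'
    have e : Points.ofPt g v' = Points.map (openSubι X.obj O)
        (Points.map (j p).hom (Points.ofPt f v')) := by
      rw [hgdef, Points.map_ofPt, Points.map_ofPt, Category.assoc]
    rw [e, ← hx', ← hτ]
    constructor
    · intro h
      exact huniq v' (hjinj (hιinj h))
    · rintro rfl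
      rw [hv]
  refine ⟨Groth.Agent.H52.overOpen V A, (yon S).map (Groth.Agent.H52.overOpenι V A) ≫ g, ⟨v, hvA⟩, hA,
    ⟨(RepWith @Etale).comp_mem _ _ (Groth.Agent.H52.repWith_etale_overOpenι V A) hge, ?_, ?_⟩, ?_⟩
  · rw [ofPt_yon_map_comp]
    exact (hgpt _).2 rfl
  · rw [toHom_ofPt', ← Category.assoc, ← Functor.map_comp, hgdef, ← Category.assoc]
    haveI : Mono (residueHom (Groth.Agent.H52.overOpen V A) ⟨v, hvA⟩ ≫ Groth.Agent.H52.overOpenι V A) := by
      haveI : Mono (Groth.Agent.H52.overOpenι V A) := by
        have : Mono ((Over.forget S).map (Groth.Agent.H52.overOpenι V A)) := by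
          change Mono A.ι
          infer_instance
        exact (Over.forget S).mono_of_mono_map this
      infer_instance
    haveI := hmono _ (residueHom (Groth.Agent.H52.overOpen V A) ⟨v, hvA⟩ ≫ Groth.Agent.H52.overOpenι V A)
      (fun s => by
        rw [Over.comp_left, Scheme.Hom.comp_apply]
        change A.ι ((Groth.Agent.H52.overOpen V A).left.fromSpecResidueField ⟨v, hvA⟩ s) = v
        rw [Scheme.fromSpecResidueField_apply]
        rfl)
    haveI : Mono (openSubι X.obj O) := inferInstance
    haveI : Mono ((j p).hom ≫ openSubι X.obj O) := mono_comp _ _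
    have key : Mono (((yon S).map (residueHom (Groth.Agent.H52.overOpen V A) ⟨v, hvA⟩ ≫
        Groth.Agent.H52.overOpenι V A) ≫ f) ≫ ((j p).hom ≫ openSubι X.obj O)) := mono_comp _ _
    simpa only [Category.assoc] using key
  · ext u'
    simp only [Set.mem_preimage, Set.mem_singleton_iff]
    rw [ofPt_yon_map_comp, hgpt]
    constructor
    · intro h
      exact A.ι.isOpenEmbedding.injective h
    · rintro rfl
      rfl

end Groth.Agent.Lib.Helper54
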