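import Groth.Agent.Lib.Helper54.DecentPts2

/-!
# A decent algebraic space is Jacobson if and only if its space of points is Jacobson
-/

set_option autoImplicit false
universe u
open CategoryTheory CategoryTheory.Limits AlgebraicGeometry TopologicalSpace
open AlgSp

namespace Groth.Agent.Lib.Helper54

/-- A finite set in a T0 space, in which every point with a proper specialization in the set has a proper generization
in the set, has no proper specializations. -/
theorem eq_of_specializes_of_finite {X : Type*} [TopologicalSpace X] [T0Space X] (G : Set X) (hG : G.Finite)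
    (step : ∀ v ∈ G, ∀ v' ∈ G, v ⤳ v' → v ≠ v' → ∃ u₀ ∈ G, u₀ ⤳ v ∧ u₀ ≠ v)
    {v v' : X} (hv : v ∈ G) (hv' : v' ∈ G) (h : v ⤳ v') : v = v' := by
  by_contra hne
  letI := specializationPreorder X
  obtain ⟨b, hvb, hb⟩ := hG.exists_le_maximal hv
  have hbv : b ⤳ v := hvb
  have hbv' : b ⤳ v' := hbv.trans h
  have hbne : b ≠ v' := by
    rintro rfl
    exact hne ((h.antisymm hbv).eq)
  obtain ⟨u₀, hu₀G, hu₀b, hu₀ne⟩ := step b hb.1 v' hv' hbv' hbne
  have h1 : b ≤ u₀ := hu₀b
  have h2 : b ⤳ u₀ := hb.2 hu₀G h1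
  exact hu₀ne ((hu₀b.antisymm h2).eq)

variable {S : Scheme.{u}}

/-- The step: a proper specialization inside a fibre of an étale chart produces a proper generization inside the
fibre. -/
theorem exists_generization_in_fibre {X : Sp S} {U : Over S} (a : (yon S).obj U ⟶ X) (ha : RepWith @Etale a)
    (v v' : ↥U.left) (hvv' : v ⤳ v') (hne : v ≠ v') (hx : Points.ofPt a v = Points.ofPt a v') :
    ∃ u₀ : ↥U.left, u₀ ⤳ v ∧ u₀ ≠ v ∧ Points.ofPt a u₀ = Points.ofPt a v := by
  have hrep := ha.rep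
  have sq := hrep.isPullback a
  obtain ⟨ρ, hρ⟩ := (yon S).map_surjective (hrep.fst a)
  rw [← hρ] at sq
  have hσe : Etale (hrep.snd a).left := ha.property a _ _ sq
  have hρe : Etale ρ.left := ha.property a _ _ sq.flip
  obtain ⟨r, hr1, hr2⟩ := exists_pt_of_isPullback_yon sq (Points.ofScheme U v') v
    (by rw [← Points.ofPt_eq_map_ofScheme]; exact hx.symm)
  have hr1' : ρ.left r = v' := by
    have : Points.ofScheme U (ρ.left r) = Points.ofScheme U v' := by
      rw [← hr1, ← Category.comp_id ((yon S).map ρ), ofPt_yon_map_comp]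
    exact (Points.schemeEquiv U).injective this
  obtain ⟨r', hr'r, hr'⟩ := (Flat.generalizingMap ρ.left) (show v ⤳ ρ.left r by rw [hr1']; exact hvv')
  refine ⟨(hrep.snd a).left r', ?_, ?_, ?_⟩
  · rw [← hr2]
    exact hr'r.map (hrep.snd a).left.continuous
  · intro heq
    have : LocallyQuasiFinite (hrep.snd a).left := locallyQuasiFinite_of_etale _
    have hd := (hrep.snd a).left.isDiscrete_preimage_singleton v
    have : r' = r := hd.eq_of_specializes hr'r heq (by rw [Set.mem_preimage, hr2]; rfl)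
    rw [this, hr1'] at hr'
    exact hne hr'.symm
  · rw [← ofPt_yon_map_comp, ← sq.w, ofPt_yon_map_comp, hr']

/-- There are no proper specializations inside the fibre of an étale chart over a point represented by a quasi-compact
field-valued point. -/
theorem eq_of_specializes_in_fibre {X : Sp S} (p : FieldPt X) (hq : RepWith @QuasiCompact p.toHom)
    {U : Over S} (a : (yon S).obj U ⟶ X) (ha : RepWith @Etale a) (v v' : ↥U.left) (hvv' : v ⤳ v')
    (hv : Points.ofPt a v = Points.mk p) (hv' : Points.ofPt a v' = Points.mk p) : v = v' := by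
  obtain ⟨_, ⟨A, hA : IsAffineOpen A, rfl⟩, hv'A, -⟩ :=
    U.left.isBasis_affineOpens.exists_subset_of_mem_open (Set.mem_univ v') isOpen_univ
  have : IsAffine (Groth.Agent.H52.overOpen U A).left := hA
  have : (RepWith (S := S) @Etale).IsMultiplicative := repWith_isMultiplicative _
  have hfin := finite_fibre_of_quasiCompact_point p hq
    ((yon S).map (Groth.Agent.H52.overOpenι U A) ≫ a)
    ((RepWith @Etale).comp_mem _ _ (Groth.Agent.H52.repWith_etale_overOpenι U A) ha)
  have hG : {w : ↥U.left | Points.ofPt a w = Points.mk p ∧ w ⤳ v'}.Finite := by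
    refine (hfin.image (Groth.Agent.H52.overOpenι U A).left).subset ?_
    rintro w ⟨hw1, hw2⟩
    have hwA : w ∈ A := hw2.mem_open A.2 hv'A
    refine ⟨(show ↥(Groth.Agent.H52.overOpen U A).left from ⟨w, hwA⟩), ?_, rfl⟩
    change Points.ofPt _ _ = _
    rw [ofPt_yon_map_comp]
    exact hw1
  refine eq_of_specializes_of_finite _ hG ?_ (v := v) (v' := v') ⟨hv, hvv'⟩ ⟨hv', specializes_rfl⟩ hvv'
  rintro w ⟨hw1, hw2⟩ w' ⟨hw'1, hw'2⟩ hww' hne
  obtain ⟨u₀, h1, h2, h3⟩ := exists_generization_in_fibre a ha w w' hww' hne (hw1.trans hw'1.symm)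
  exact ⟨u₀, ⟨h3.trans hw1, h1.trans hw2⟩, h1, h2⟩

/-- On a decent algebraic space, every point of an étale chart over a closed point is closed. -/
theorem isClosed_singleton_chart_of_isClosed {X : Sp S} (p : FieldPt X) (hq : RepWith @QuasiCompact p.toHom)
    (hcl : IsClosed ({Points.mk p} : Set (Points X))) {U : Over S} (a : (yon S).obj U ⟶ X)
    (ha : RepWith @Etale a) (u : ↥U.left) (hu : Points.ofPt a u = Points.mk p) :
    IsClosed ({u} : Set ↥U.left) := by
  rw [← closure_eq_iff_isClosed]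
  refine subset_antisymm (fun u' hu' => ?_) subset_closure
  have hspec : u ⤳ u' := specializes_iff_mem_closure.mpr hu'
  have hcl' : IsClosed (Points.ofPt a ⁻¹' {Points.mk p}) := hcl.preimage (Points.continuous_ofPt a)
  have hu'' : Points.ofPt a u' = Points.mk p := hcl'.closure_subset_iff.mpr (by simpa using hu) hu'
  exact (eq_of_specializes_in_fibre p hq a ha u u' hspec hu hu'').symm

/-- The space of points of a decent Jacobson algebraic space is Jacobson. -/
theorem jacobsonSpace_points_of_isDecent {X : Sp S} (hd : IsDecent X)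
    (hX : EtaleLocally (fun U => JacobsonSpace ↥U) X) : JacobsonSpace (Points X) := by
  rw [jacobsonSpace_iff_locallyClosed]
  intro Z hne hlc
  obtain ⟨U₀, a₀, ha₀e, ha₀s, hJ⟩ := id hX
  have : JacobsonSpace ↥U₀.left := hJ
  obtain ⟨z, hz⟩ := hne
  obtain ⟨u', rfl⟩ := Groth.Agent.H52.surjective_points_of_repWith_surjective a₀ ha₀s z
  obtain ⟨u, rfl⟩ := exists_ofScheme_eq U₀ u'
  rw [← Points.ofPt_eq_map_ofScheme] at hz
  obtain ⟨c, hc1, hc2⟩ := nonempty_inter_closedPoints (Z := Points.ofPt a₀ ⁻¹' Z) ⟨u, hz⟩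
    (hlc.preimage (Points.continuous_ofPt a₀))
  refine ⟨Points.ofPt a₀ c, hc1, ?_⟩
  obtain ⟨p, hp, -, hq⟩ := hd (Points.ofPt a₀ c)
  exact isClosed_singleton_of_hasAt_isClosed hX _ p hp hq ⟨U₀, a₀, c, ha₀e, rfl, hc2⟩

/-- Every étale chart of a decent algebraic space with Jacobson space of points is a Jacobson scheme. -/
theorem jacobsonSpace_chart_of_isDecent {X : Sp S} (hd : IsDecent X) [JacobsonSpace (Points X)]
    {U : Over S} (a : (yon S).obj U ⟶ X) (ha : RepWith @Etale a) : JacobsonSpace ↥U.left := by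
  rw [jacobsonSpace_iff_locallyClosed]
  rintro Z ⟨u, hu⟩ ⟨O, C, hO, hC, rfl⟩
  obtain ⟨_, ⟨A, hA : IsAffineOpen A, rfl⟩, huA, hAO⟩ :=
    U.left.isBasis_affineOpens.exists_subset_of_mem_open hu.1 hO
  obtain ⟨p, hp, -, hq⟩ := hd (Points.ofPt a u)
  have : IsAffine (Groth.Agent.H52.overOpen U A).left := hA
  have : (RepWith (S := S) @Etale).IsMultiplicative := repWith_isMultiplicative _
  have haA : RepWith @Etale ((yon S).map (Groth.Agent.H52.overOpenι U A) ≫ a) :=
    (RepWith @Etale).comp_mem _ _ (Groth.Agent.H52.repWith_etale_overOpenι U A) ha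
  have hfin := finite_fibre_of_quasiCompact_point p hq _ haA
  -- the finite set of points of `A` over `x`
  have hG : {w : ↥U.left | w ∈ A ∧ Points.ofPt a w = Points.mk p}.Finite := by
    refine (hfin.image (Groth.Agent.H52.overOpenι U A).left).subset ?_
    rintro w ⟨hwA, hw⟩
    refine ⟨(show ↥(Groth.Agent.H52.overOpen U A).left from ⟨w, hwA⟩), ?_, rfl⟩
    change Points.ofPt _ _ = _
    rw [ofPt_yon_map_comp]
    exact hw
  -- the open set `O'`
  obtain ⟨O', hO', huO', hO'A, hO'prop⟩ : ∃ O' : Set ↥U.left, IsOpen O' ∧ u ∈ O' ∧ O' ⊆ (A : Set ↥U.left) ∧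
      ∀ c ∈ O', ∀ w : ↥U.left, w ∈ A → Points.ofPt a w = Points.mk p → w ⤳ c → w = u := by
    have hclosed : IsClosed (⋃ w ∈ {w : ↥U.left | (w ∈ A ∧ Points.ofPt a w = Points.mk p) ∧ w ≠ u},
        closure ({w} : Set ↥U.left)) :=
      (hG.subset fun w hw => hw.1).isClosed_biUnion fun w _ => isClosed_closure
    refine ⟨(A : Set ↥U.left) \ ⋃ w ∈ {w : ↥U.left | (w ∈ A ∧ Points.ofPt a w = Points.mk p) ∧ w ≠ u},
      closure ({w} : Set ↥U.left), A.2.sdiff hclosed, ⟨huA, ?_⟩, Set.diff_subset, ?_⟩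
    · simp only [Set.mem_iUnion, not_exists]
      rintro w ⟨⟨-, hw⟩, hne⟩ hmem
      exact hne (eq_of_specializes_in_fibre p hq a ha w u (specializes_iff_mem_closure.mpr hmem) hw hp.symm)
    · rintro c ⟨-, hc⟩ w hwA hw hwc
      by_contra hne
      exact hc (Set.mem_iUnion₂.mpr ⟨w, ⟨⟨hwA, hw⟩, hne⟩, specializes_iff_mem_closure.mp hwc⟩)
  -- a closed point of `|X|` in the locally closed set `closure {x} ∩ a(O')`
  have hW : IsLocallyClosed (closure ({Points.mk p} : Set (Points X)) ∩ Points.ofPt a '' O') :=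
    isClosed_closure.isLocallyClosed.inter
      (Groth.Agent.H53.isOpenMap_ofPt_of_etale a ha _ hO').isLocallyClosed
  have hWne : (closure ({Points.mk p} : Set (Points X)) ∩ Points.ofPt a '' O').Nonempty :=
    ⟨Points.mk p, subset_closure rfl, u, huO', hp.symm⟩
  obtain ⟨x₁, ⟨hx₁cl, c, hcO', rfl⟩, hx₁⟩ := nonempty_inter_closedPoints hWne hW
  refine ⟨c, ⟨hAO (hO'A hcO'), ?_⟩, ?_⟩
  · -- `c` lies in the closure of `u`
    have hspec : Points.mk p ⤳ Points.ofPt a c := specializes_iff_mem_closure.mpr hx₁cl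
    obtain ⟨w', hw'c, hw'⟩ := exists_generization_chart p hq _ haA
      (show ↥(Groth.Agent.H52.overOpen U A).left from ⟨c, hO'A hcO'⟩)
      (by rw [ofPt_yon_map_comp]; exact hspec)
    rw [ofPt_yon_map_comp] at hw'
    have hw'c' : (Groth.Agent.H52.overOpenι U A).left w' ⤳ c :=
      hw'c.map (Groth.Agent.H52.overOpenι U A).left.continuous
    have hwu : (Groth.Agent.H52.overOpenι U A).left w' = u := hO'prop c hcO' _ w'.2 hw' hw'c'
    rw [hwu] at hw'c'
    exact hC.closure_subset_iff.mpr (by simpa using hu.2) (specializes_iff_mem_closure.mp hw'c')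
  · obtain ⟨p₁, hp₁, -, hq₁⟩ := hd (Points.ofPt a c)
    refine isClosed_singleton_chart_of_isClosed p₁ hq₁ (by rw [hp₁]; exact hx₁) a ha c hp₁.symm

end Groth.Agent.Lib.Helper54
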