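import Groth.Agent.Lib.Helper54.DecentPts

/-!
# Finite type points and closed points of decent Jacobson algebraic spaces
-/

set_option autoImplicit false
universe u
open CategoryTheory CategoryTheory.Limits AlgebraicGeometry TopologicalSpace
open AlgSp

namespace Groth.Agent.Lib.Helper54

variable {S : Scheme.{u}}

/-- In a Jacobson étale chart, every point over a finite type point is closed. -/
theorem isClosed_singleton_of_jacobson_chart {X : Sp S} (x : Points X)
    (hx : HasAt (fun U u => IsClosed ({u} : Set ↥U)) X x) {U₀ : Over S} [JacobsonSpace ↥U₀.left]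
    (a₀ : (yon S).obj U₀ ⟶ X) (ha₀e : RepWith @Etale a₀) (u₀ : ↥U₀.left) (hu₀ : Points.ofPt a₀ u₀ = x) :
    IsClosed ({u₀} : Set ↥U₀.left) := by
  obtain ⟨U₁, a₁, u₁, ha₁, hu₁, hcl₁⟩ := hx
  obtain ⟨W', α, β, w', hα, hβ, hw1, hw2, -⟩ :=
    exists_common_chart a₁ ha₁ a₀ ha₀e u₁ u₀ (hu₁.trans hu₀.symm)
  have : LocallyQuasiFinite β.left := locallyQuasiFinite_of_etale _
  have hw' : IsClosed ({w'} : Set ↥W'.left) :=
    isClosed_singleton_of_locallyQuasiFinite β.left w' (by rw [hw2]; exact hcl₁)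
  have := α.left.closePoints_subset_preimage_closedPoints (show w' ∈ closedPoints _ from hw')
  rw [Set.mem_preimage, hw1] at this
  exact this

/-- A subset of a scheme consisting of closed points and meeting every affine open in a finite set is closed. -/
theorem isClosed_of_finite_inter_affineOpens {U : Scheme.{u}} (Z : Set ↥U) (hZ : ∀ z ∈ Z, IsClosed ({z} : Set ↥U))
    (hfin : ∀ A : U.affineOpens, (Z ∩ (A.1 : Set ↥U)).Finite) : IsClosed Z := by
  have hcov : IsOpenCover (fun A : U.affineOpens => (A : U.Opens)) := iSup_affineOpens_eq_top U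
  rw [hcov.isClosed_iff_coe_preimage]
  intro A
  have : ((↑) ⁻¹' Z : Set ↥(A : U.Opens)) = ⋃ z ∈ Z ∩ (A.1 : Set ↥U), ((↑) ⁻¹' {z} : Set ↥(A : U.Opens)) := by
    ext w
    simp only [Set.mem_preimage, Set.mem_iUnion, Set.mem_singleton_iff, exists_prop]
    constructor
    · intro hw
      exact ⟨w.1, ⟨hw, w.2⟩, rfl⟩
    · rintro ⟨z, ⟨hz, -⟩, rfl⟩
      exact hz
  rw [this]
  exact (hfin A).isClosed_biUnion fun z hz => (hZ z hz.1).preimage continuous_subtype_val

/-- On a decent Jacobson algebraic space, a finite type point is closed. -/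
theorem isClosed_singleton_of_hasAt_isClosed {X : Sp S}
    (hX : EtaleLocally (fun U => JacobsonSpace ↥U) X) (x : Points X) (p : FieldPt X)
    (hp : Points.mk p = x) (hq : RepWith @QuasiCompact p.toHom)
    (hx : HasAt (fun U u => IsClosed ({u} : Set ↥U)) X x) : IsClosed ({x} : Set (Points X)) := by
  obtain ⟨U₀, a₀, ha₀e, ha₀s, hJ⟩ := hX
  have : JacobsonSpace ↥U₀.left := hJ
  have hquot : Topology.IsQuotientMap (Points.ofPt a₀) := by
    refine IsOpenMap.isQuotientMap (Groth.Agent.H53.isOpenMap_ofPt_of_etale a₀ ha₀e)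
      (Points.continuous_ofPt a₀) ?_
    intro y
    obtain ⟨u', rfl⟩ := Groth.Agent.H52.surjective_points_of_repWith_surjective a₀ ha₀s y
    obtain ⟨u, rfl⟩ := exists_ofScheme_eq U₀ u'
    exact ⟨u, Points.ofPt_eq_map_ofScheme a₀ u⟩
  rw [← hquot.isClosed_preimage]
  refine isClosed_of_finite_inter_affineOpens _
    (fun z hz => isClosed_singleton_of_jacobson_chart x hx a₀ ha₀e z hz) (fun A => ?_)
  have : IsAffine (Groth.Agent.H52.overOpen U₀ A.1).left := A.2
  have : (RepWith (S := S) @Etale).IsMultiplicative := repWith_isMultiplicative _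
  have hfin := finite_fibre_of_quasiCompact_point p hq
    ((yon S).map (Groth.Agent.H52.overOpenι U₀ A.1) ≫ a₀)
    ((RepWith @Etale).comp_mem _ _ (Groth.Agent.H52.repWith_etale_overOpenι U₀ A.1) ha₀e)
  refine (hfin.image (Groth.Agent.H52.overOpenι U₀ A.1).left).subset ?_
  rintro z ⟨hz, hzA⟩
  refine ⟨(show ↥(Groth.Agent.H52.overOpen U₀ A.1).left from ⟨z, hzA⟩), ?_, rfl⟩
  change Points.ofPt _ _ = _
  rw [ofPt_yon_map_comp, hp]
  exact hz

/-- On a Jacobson algebraic space, a closed point is a finite type point. -/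
theorem hasAt_isClosed_of_isClosed_singleton {X : Sp S}
    (hX : EtaleLocally (fun U => JacobsonSpace ↥U) X) (x : Points X)
    (hx : IsClosed ({x} : Set (Points X))) : HasAt (fun U u => IsClosed ({u} : Set ↥U)) X x := by
  obtain ⟨U₀, a₀, ha₀e, ha₀s, hJ⟩ := hX
  have : JacobsonSpace ↥U₀.left := hJ
  obtain ⟨u', hu'⟩ := Groth.Agent.H52.surjective_points_of_repWith_surjective a₀ ha₀s x
  obtain ⟨u, rfl⟩ := exists_ofScheme_eq U₀ u'
  rw [← Points.ofPt_eq_map_ofScheme] at hu'
  obtain ⟨z, hz1, hz2⟩ := nonempty_inter_closedPoints (Z := Points.ofPt a₀ ⁻¹' {x}) ⟨u, hu'⟩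
    (hx.preimage (Points.continuous_ofPt a₀)).isLocallyClosed
  exact ⟨U₀, a₀, z, ha₀e, hz1, hz2⟩

end Groth.Agent.Lib.Helper54
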