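import Groth.Agent.S9867
import Groth.Agent.S10192
import Groth.Agent.Lib.Helper70.FibRkL
import Groth.Agent.H53.ZarGlueCover
import Groth.Agent.Lib.Helper54.DecentPts2
import Groth.Agent.Lib.Helper54.MonoField
import Groth.Agent.Lib.Helper54.UnivBddCompSp

/-!
# The stratification by fibre degree over an algebraic space (helper54)

For `w : h_W ⟶ X` flat, separated, locally of finite presentation, locally quasi-finite with universally bounded
fibres, the degree of the fibres defines a function on `|X|` with closed sublevel sets; base changes of `w` are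
finite locally free of degree `r` exactly over the stratum `{deg = r}`.  The scheme case is helper70's `FibRkL.main`.
-/

set_option autoImplicit false
set_option backward.isDefEq.respectTransparency false
set_option linter.style.haveILetI false
universe u
open CategoryTheory CategoryTheory.Limits AlgebraicGeometry Topology
open AlgSp

namespace Groth.Agent.Lib.Helper54

variable {S : Scheme.{u}}

/-- Finite locally free of degree `d` descends along fppf base change. -/
theorem finLocFreeOfDeg_of_isPullback_of_fppf {A X Y Z : Scheme.{u}} {fst : A ⟶ X} {snd : A ⟶ Y}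
    {f : X ⟶ Z} {g : Y ⟶ Z} (sq : IsPullback fst snd f g) [Surjective f] [Flat f]
    [LocallyOfFinitePresentation f] (d : ℕ) (h : finLocFreeOfDeg d fst) : finLocFreeOfDeg d g := by
  have h0 : MorphismProperty.DescendsAlong (finLocFree.{u})
      (@Surjective ⊓ @Flat ⊓ @QuasiCompact : MorphismProperty Scheme.{u}) := Groth.Agent.S9867.result.1
  have h1 : MorphismProperty.DescendsAlong (finLocFree.{u})
      (@Surjective ⊓ @Flat ⊓ @LocallyOfFinitePresentation : MorphismProperty Scheme.{u}) := inferInstance
  have hg : finLocFree g :=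
    h1.of_isPullback sq ⟨⟨inferInstance, inferInstance⟩, inferInstance⟩ h.1
  refine ⟨hg, fun z => ?_⟩
  obtain ⟨x, rfl⟩ := f.surjective z
  have := hg.1
  have := hg.2.1
  rw [← h.2 x]
  exact (Scheme.Hom.finrank_of_isPullback snd fst g f sq.flip x).symm

/-- A pullback of `w` along `h_τ ≫ p` is a pullback of the base change of `w` along `p`. -/
theorem exists_isPullback_left_of_comp {X : Sp S} {W U WU : Over S} {w : (yon S).obj W ⟶ X}
    {p : (yon S).obj U ⟶ X} {fstU : (yon S).obj WU ⟶ (yon S).obj W} {sndU : WU ⟶ U}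
    (sq : IsPullback fstU ((yon S).map sndU) w p) {T P : Over S} (τ : T ⟶ U)
    {fstτ : (yon S).obj P ⟶ (yon S).obj W} {sndτ : P ⟶ T}
    (sqτ : IsPullback fstτ ((yon S).map sndτ) w ((yon S).map τ ≫ p)) :
    ∃ l : P ⟶ WU, IsPullback l.left sndτ.left sndU.left τ.left := by
  have hw : fstτ ≫ w = ((yon S).map sndτ ≫ (yon S).map τ) ≫ p := by
    rw [Category.assoc]; exact sqτ.w
  obtain ⟨l, hl⟩ := (yon S).map_surjective (sq.lift fstτ ((yon S).map sndτ ≫ (yon S).map τ) hw)
  have h1 : (yon S).map l ≫ fstU = fstτ := by rw [hl]; exact sq.lift_fst _ _ _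
  have h2 : (yon S).map l ≫ (yon S).map sndU = (yon S).map sndτ ≫ (yon S).map τ := by
    rw [hl]; exact sq.lift_snd _ _ _
  refine ⟨l, isPullback_left_of_isPullback_yon ?_⟩
  refine IsPullback.of_right ?_ h2 sq
  rw [h1]
  exact sqτ

/-- The degree function on the points of an algebraic space attached to a flat, separated, locally finitely
presented, locally quasi-finite `w : h_W ⟶ X` with universally bounded fibres. -/
theorem exists_deg_of_hasUnivBddFibres {X : Sp S} (hX : IsAlgSpace X) {W : Over S}
    (w : (yon S).obj W ⟶ X) (hfl : RepWith @Flat w) (hfp : RepWith @LocallyOfFinitePresentation w)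
    (hsep : RepWith @IsSeparated w) (hqf : RepWith @LocallyQuasiFinite w) (n : ℕ)
    (hn : W4dec.DegFibresLE n w) :
    ∃ deg : Points X → ℕ, (∀ x, deg x ≤ n) ∧ (∀ r : ℕ, IsClosed {x | deg x < r}) ∧
      ∀ (r : ℕ) (T : Sp S) (_ : IsAlgSpace T) (g : T ⟶ X) (P : Sp S) (fst : P ⟶ (yon S).obj W)
        (snd : P ⟶ T), IsPullback fst snd w g →
          (IsFinLocFreeOfDegMor r snd ↔ ∀ y : Points T, deg (Points.map g y) = r) := by
  obtain ⟨U, p, hpe, hps⟩ := hX.atlas
  have hrep := hfl.rep
  have sq := hrep.isPullback p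
  obtain ⟨fstU, hfstU⟩ := (yon S).map_surjective (hrep.fst p)
  rw [← hfstU] at sq
  let f : (hrep.pullback p).left ⟶ U.left := (hrep.snd p).left
  haveI : Flat f := hfl.property_snd p
  haveI : LocallyOfFinitePresentation f := hfp.property_snd p
  haveI : IsSeparated f := hsep.property_snd p
  haveI : LocallyQuasiFinite f := hqf.property_snd p
  -- the bound on the fibres of `f`
  have hn' : ∀ (K : Type u) [Field K] (g : Spec (CommRingCat.of K) ⟶ U.left),
      Groth.Agent.Lib.Helper70.FibRkC.rkΓ (pullback.snd f g) ≤ (n : Cardinal.{u}) := by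
    intro K _ g
    let str : Spec (CommRingCat.of K) ⟶ S := g ≫ U.hom
    let gO : Over.mk str ⟶ U := Over.homMk g rfl
    let q : FieldPt X := fieldPtOfHom K str ((yon S).map gO ≫ p)
    have hq : q.toHom = (yon S).map gO ≫ p := fieldPtOfHom_toHom K str _
    let T : Over S := Over.mk (pullback.snd f g ≫ str)
    let c : T ⟶ q.pt := Over.homMk (pullback.snd f g) rfl
    have hWU : (hrep.pullback p).hom = f ≫ U.hom := (Over.w (hrep.snd p)).symm
    let sndT : T ⟶ hrep.pullback p := Over.homMk (pullback.fst f g) (by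
      rw [hWU, ← Category.assoc, pullback.condition, Category.assoc]; rfl)
    have e : sndT ≫ hrep.snd p = c ≫ gO := Over.OverMorphism.ext pullback.condition
    have sq1 : IsPullback ((yon S).map sndT) ((yon S).map c) ((yon S).map (hrep.snd p))
        ((yon S).map gO) :=
      isPullback_yon_of_isPullback_left e (IsPullback.of_hasPullback f g)
    have sq2 := sq1.paste_horiz sq
    obtain ⟨hfin, hrk⟩ := hn q T c ((yon S).map sndT ≫ (yon S).map fstU)
      (by rw [hq]; exact sq2.flip)
    haveI : IsFinite (pullback.snd f g) := hfin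
    rw [Groth.Agent.Lib.Helper70.FibRkD.rkΓ_eq_finrank _ (IsLocalRing.closedPoint K)]
    exact_mod_cast hrk _
  obtain ⟨degU, hdegU_le, hdegU_cl, hdegU⟩ := Groth.Agent.Lib.Helper70.FibRkL.main f n hn'
  -- characterisation for arbitrary pullbacks of `w` along maps factoring through the chart
  have key : ∀ (r : ℕ) (T P : Over S) (τ : T ⟶ U) (fstτ : (yon S).obj P ⟶ (yon S).obj W)
      (sndτ : P ⟶ T), IsPullback fstτ ((yon S).map sndτ) w ((yon S).map τ ≫ p) →
      (finLocFreeOfDeg r sndτ.left ↔ ∀ t : T.left, degU (τ.left t) = r) := by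
    intro r T P τ fstτ sndτ sqτ
    obtain ⟨l, hl⟩ := exists_isPullback_left_of_comp sq τ sqτ
    rw [← hdegU T.left τ.left r]
    have hs : sndτ.left = hl.isoPullback.hom ≫ pullback.snd f τ.left := (hl.isoPullback_hom_snd).symm
    rw [hs]
    haveI : (finLocFreeOfDeg.{u} r).RespectsIso := MorphismProperty.IsStableUnderBaseChange.respectsIso
    exact MorphismProperty.cancel_left_of_respectsIso (finLocFreeOfDeg r) _ _
  -- invariance of the degree
  have hinv : ∀ u u' : U.left, Points.ofPt p u = Points.ofPt p u' → degU u = degU u' := by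
    intro u u' h
    obtain ⟨Ω, _, w', a, b, hab⟩ := (rel_iff_toHom _ _).1 (Points.mk_eq_mk_iff.1 h)
    rw [toHom_ofPt', toHom_ofPt', ← Category.assoc, ← Category.assoc, ← Functor.map_comp,
      ← Functor.map_comp] at hab
    have hrepα := hrep.isPullback ((yon S).map (a ≫ residueHom U u) ≫ p)
    obtain ⟨fα, hfα⟩ := (yon S).map_surjective (hrep.fst ((yon S).map (a ≫ residueHom U u) ≫ p))
    rw [← hfα] at hrepα
    have hrepβ : IsPullback ((yon S).map fα)
        ((yon S).map (hrep.snd ((yon S).map (a ≫ residueHom U u) ≫ p))) w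
        ((yon S).map (b ≫ residueHom U u') ≫ p) := by
      rw [← hab]; exact hrepα
    have h1 := key (degU u) _ _ _ _ _ hrepα
    have h2 := key (degU u) _ _ _ _ _ hrepβ
    have hα : ∀ t : ↥(Over.mk w').left, (a ≫ residueHom U u).left t = u := fun t => by
      rw [Over.comp_left, Scheme.Hom.comp_apply]
      exact Scheme.fromSpecResidueField_apply _ _
    have hβ : ∀ t : ↥(Over.mk w').left, (b ≫ residueHom U u').left t = u' := fun t => by
      rw [Over.comp_left, Scheme.Hom.comp_apply]
      exact Scheme.fromSpecResidueField_apply _ _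
    have h3 := h2.1 (h1.2 fun t => by rw [hα])
    have h4 := h3 (IsLocalRing.closedPoint Ω)
    rw [hβ] at h4
    exact h4.symm
  have hsurj : ∀ x : Points X, ∃ u : U.left, Points.ofPt p u = x := by
    intro x
    obtain ⟨u', rfl⟩ := Groth.Agent.H52.surjective_points_of_repWith_surjective p hps x
    obtain ⟨u, rfl⟩ := exists_ofScheme_eq U u'
    exact ⟨u, Points.ofPt_eq_map_ofScheme p u⟩
  have hquot : Topology.IsQuotientMap (Points.ofPt p) :=
    IsOpenMap.isQuotientMap (Groth.Agent.H53.isOpenMap_ofPt_of_etale p hpe)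
      (Points.continuous_ofPt p) hsurj
  choose σ hσ using hsurj
  let deg : Points X → ℕ := fun x => degU (σ x)
  have hdeg : ∀ u, deg (Points.ofPt p u) = degU u := fun u => hinv _ _ (hσ _)
  refine ⟨deg, fun x => hdegU_le _, fun r => ?_, ?_⟩
  · rw [← hquot.isClosed_preimage]
    have hpre : Points.ofPt p ⁻¹' {x | deg x < r} = {u | degU u < r} := by
      ext u
      simp only [Set.mem_preimage, Set.mem_ofPred_eq, hdeg]
    rw [hpre]
    cases r with
    | zero => simp
    | succ k => simpa [Nat.lt_succ_iff] using hdegU_cl k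
  · intro r T hT g P fst snd sqT
    constructor
    · intro h y
      obtain ⟨qy, rfl⟩ := Points.mk_surjective y
      have hx := hσ (Points.map g (Points.mk qy))
      rw [Points.map_mk] at hx
      obtain ⟨Ω, _, w', a, b, hab⟩ := (rel_iff_toHom _ _).1 (Points.mk_eq_mk_iff.1 hx)
      rw [toHom_ofPt', FieldPt.toHom_map, ← Category.assoc, ← Category.assoc, ← Functor.map_comp] at hab
      have hγ := h.rep.isPullback ((yon S).map b ≫ qy.toHom)
      have hγP : finLocFreeOfDeg r (h.rep.snd ((yon S).map b ≫ qy.toHom)).left := h.property_snd _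
      have big := hγ.paste_horiz sqT
      rw [← hab] at big
      have h5 := (key r _ _ _ _ _ big).1 hγP (IsLocalRing.closedPoint Ω)
      rw [Over.comp_left, Scheme.Hom.comp_apply] at h5
      rw [← h5]
      change degU _ = degU _
      congr 1
      exact (Scheme.fromSpecResidueField_apply _ _).symm
    · intro hall
      have hrepT : Representable snd :=
        (MorphismProperty.of_isPullback (P := RepWith (S := S) @Flat) sqT hfl).rep
      refine (repWith_iff _ _).2 ⟨hrepT, ?_⟩
      intro V V' γ fst' snd' sq'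
      have big := sq'.paste_horiz sqT
      have hV := hpe.rep.isPullback (γ ≫ g)
      obtain ⟨τ, hτ⟩ := (yon S).map_surjective (hpe.rep.fst (γ ≫ g))
      rw [← hτ] at hV
      haveI : Etale (hpe.rep.snd (γ ≫ g)).left := hpe.property _ _ _ hV
      haveI : Surjective (hpe.rep.snd (γ ≫ g)).left := hps.property _ _ _ hV
      let e := hpe.rep.snd (γ ≫ g)
      have hV'hom : V'.hom = snd'.left ≫ V.hom := (Over.w snd').symm
      have hV₁hom : (hpe.rep.pullback (γ ≫ g)).hom = e.left ≫ V.hom := (Over.w e).symm
      let P₁ : Over S := Over.mk (pullback.snd snd'.left e.left ≫ (hpe.rep.pullback (γ ≫ g)).hom)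
      let snd₁ : P₁ ⟶ hpe.rep.pullback (γ ≫ g) := Over.homMk (pullback.snd snd'.left e.left) rfl
      let l₁ : P₁ ⟶ V' := Over.homMk (pullback.fst snd'.left e.left) (by
        change _ = pullback.snd snd'.left e.left ≫ (hpe.rep.pullback (γ ≫ g)).hom
        rw [hV'hom, hV₁hom, ← Category.assoc, pullback.condition, Category.assoc])
      have e₁ : l₁ ≫ snd' = snd₁ ≫ e := Over.OverMorphism.ext pullback.condition
      have sqP₁ : IsPullback ((yon S).map l₁) ((yon S).map snd₁) ((yon S).map snd') ((yon S).map e) :=
        isPullback_yon_of_isPullback_left e₁ (IsPullback.of_hasPullback _ _)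
      have big₁ := sqP₁.paste_horiz big
      have hcomm : (yon S).map e ≫ γ ≫ g = (yon S).map τ ≫ p := hV.w.symm
      rw [hcomm] at big₁
      have h₁ : finLocFreeOfDeg r snd₁.left := (key r _ _ τ _ _ big₁).2 (fun t => by
        rw [← hdeg, ← ofPt_yon_map_comp, ← hcomm, ← Category.assoc, ← Points.map_ofPt]
        exact hall _)
      exact finLocFreeOfDeg_of_isPullback_of_fppf
        (IsPullback.of_hasPullback snd'.left e.left).flip r h₁

end Groth.Agent.Lib.Helper54
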