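import Groth.Agent.Lib.Helper54.FinQuotLocus
import Mathlib.AlgebraicGeometry.Limits
import Mathlib.Order.Zorn

/-!
# A dense open subscheme in which finite sets of points lie in affine opens (helper54)

Every scheme has a dense open subscheme which is a disjoint union of affine opens (Zorn); in such an open
subscheme every finite set of points of an open lies in an affine open contained in it.
-/

set_option autoImplicit false
set_option linter.style.haveILetI false
universe u
open CategoryTheory CategoryTheory.Limits AlgebraicGeometry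

namespace Groth.Agent.Lib.Helper54

/-- A maximal family of pairwise disjoint affine opens has dense union. -/
theorem exists_disjoint_affine_dense (U : Scheme.{u}) :
    ∃ F : Set U.Opens, (∀ A ∈ F, IsAffineOpen A) ∧ F.PairwiseDisjoint id ∧
      Dense ((sSup F : U.Opens) : Set U) := by
  obtain ⟨F, hF⟩ := zorn_subset
    {F : Set U.Opens | (∀ A ∈ F, IsAffineOpen A) ∧ F.PairwiseDisjoint id} (by
      intro c hc hchain
      refine ⟨⋃₀ c, ⟨?_, ?_⟩, fun s hs => Set.subset_sUnion_of_mem hs⟩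
      · rintro A ⟨s, hs, hA⟩
        exact (hc hs).1 A hA
      · rw [hchain.pairwiseDisjoint_sUnion]
        intro s hs
        exact (hc hs).2)
  refine ⟨F, hF.prop.1, hF.prop.2, ?_⟩
  rw [dense_iff_inter_open]
  intro O hO hOne
  by_contra hdis
  rw [Set.not_nonempty_iff_eq_empty] at hdis
  obtain ⟨x, hx⟩ := hOne
  obtain ⟨A, hA, hxA, hAO⟩ := exists_isAffineOpen_mem_and_subset (x := x) (U := ⟨O, hO⟩) hx
  have hAF : ∀ B ∈ F, Disjoint A B := by
    intro B hB
    rw [← TopologicalSpace.Opens.coe_disjoint, Set.disjoint_left]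
    intro y hyA hyB
    have : y ∈ O ∩ ((sSup F : U.Opens) : Set U) :=
      ⟨hAO hyA, TopologicalSpace.Opens.mem_sSup.2 ⟨B, hB, hyB⟩⟩
    rw [hdis] at this
    exact this
  have hins : insert A F ∈ {F : Set U.Opens | (∀ A ∈ F, IsAffineOpen A) ∧ F.PairwiseDisjoint id} := by
    refine ⟨?_, ?_⟩
    · rintro B (rfl | hB)
      · exact hA
      · exact hF.prop.1 B hB
    · rw [Set.pairwiseDisjoint_insert]
      exact ⟨hF.prop.2, fun B hB _ => hAF B hB⟩
  have hAmem : A ∈ F := hF.2 hins (Set.subset_insert A F) (Set.mem_insert A F)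
  exact (Set.disjoint_left.1 (TopologicalSpace.Opens.coe_disjoint.2 (hAF A hAmem))) hxA hxA

/-- In a disjoint union of affine opens, finite sets of points of an open lie in affine opens inside it. -/
theorem finAff_of_pairwiseDisjoint {U : Scheme.{u}} (F : Set U.Opens)
    (hFa : ∀ A ∈ F, IsAffineOpen A) (hFd : F.PairwiseDisjoint id) (W : U.Opens)
    (hW : ∀ x ∈ W, ∃ A ∈ F, x ∈ A) : FinAff (W : Scheme.{u}) := by
  classical
  intro O' E' hE' hEO'
  have hE : (W.ι '' E').Finite := hE'.image _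
  have hmem : ∀ e ∈ W.ι '' E', ∃ A ∈ F, e ∈ A := by
    rintro _ ⟨e', -, rfl⟩
    exact hW _ e'.2
  choose! c hcF hc using hmem
  have hF₀ : (c '' (W.ι '' E')).Finite := hE.image c
  have hA₀ : IsAffineOpen (⨆ B ∈ c '' (W.ι '' E'), (id B : U.Opens)) := by
    refine IsAffineOpen.biSup_of_disjoint hF₀ ?_ ?_
    · rintro _ ⟨e, he, rfl⟩
      exact hFa _ (hcF e he)
    · rintro _ ⟨e, he, rfl⟩ _ ⟨e₂, he₂, rfl⟩ hne
      exact hFd (hcF e he) (hcF e₂ he₂) hne
  have hEA₀ : W.ι '' E' ⊆ (⨆ B ∈ c '' (W.ι '' E'), (id B : U.Opens) : U.Opens) := by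
    intro e he
    simp only [TopologicalSpace.Opens.coe_iSup, Set.mem_iUnion, SetLike.mem_coe]
    exact ⟨c e, ⟨e, he, rfl⟩, hc e he⟩
  obtain ⟨f, hf1, hf2⟩ := Groth.Agent.Lib.Helper37.exists_basicOpen_le_of_finite_of_isAffineOpen
    hA₀ (W.ι ''ᵁ O') (W.ι '' E') hE hEA₀
    (by rintro _ ⟨x, hx, rfl⟩; exact ⟨x, hEO' hx, rfl⟩)
  have hAr : U.basicOpen f ≤ W.ι.opensRange := by
    intro y hy
    obtain ⟨x, -, rfl⟩ := hf2 hy
    exact ⟨x, rfl⟩
  refine ⟨W.ι ⁻¹ᵁ U.basicOpen f, (hA₀.basicOpen f).preimage_of_isOpenImmersion W.ι hAr,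
    fun x hx => hf1 ⟨x, hx, rfl⟩, ?_⟩
  intro x hx
  obtain ⟨x', hx', hxx'⟩ := hf2 hx
  have : x' = x := W.ι.isOpenEmbedding.injective hxx'
  exact this ▸ hx'

/-- Every scheme has a dense open subscheme in which finite sets of points of opens lie in affine opens. -/
theorem exists_dense_open_finAff (U : Scheme.{u}) :
    ∃ W : U.Opens, Dense (W : Set U) ∧ FinAff (W : Scheme.{u}) := by
  obtain ⟨F, hFa, hFd, hdense⟩ := exists_disjoint_affine_dense U
  exact ⟨sSup F, hdense, finAff_of_pairwiseDisjoint F hFa hFd _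
    (fun x hx => TopologicalSpace.Opens.mem_sSup.1 hx)⟩

end Groth.Agent.Lib.Helper54
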