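import Groth.Agent.Lib.Helper54.FiltrAssembly
import Groth.Agent.H52.QC2

/-!
# Elementary distinguished squares from field-point data (helper54)
-/

set_option autoImplicit false
set_option backward.isDefEq.respectTransparency false
set_option linter.style.haveILetI false
universe u
open CategoryTheory CategoryTheory.Limits AlgebraicGeometry Topology
open AlgSp

namespace Groth.Agent.Lib.Helper54

variable {S : Scheme.{u}}

/-- The empty scheme over `S`. -/
noncomputable def emptyOver (S : Scheme.{u}) : Over S := Over.mk (Scheme.emptyTo S)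

instance isEmpty_emptyOver : IsEmpty ↥(emptyOver S).left :=
  inferInstanceAs (IsEmpty ↥(∅ : Scheme.{u}))

instance isAffine_emptyOver : IsAffine (emptyOver S).left := isAffine_of_isEmpty

/-- A scheme mapping to a sheaf without points is empty. -/
theorem isEmpty_of_isEmpty_points {G : Sp S} (h : IsEmpty (Points G)) {Z : Over S}
    (g : (yon S).obj Z ⟶ G) : IsEmpty ↥Z.left :=
  ⟨fun z => h.false (Points.ofPt g z)⟩

/-- A representable morphism to a sheaf without points is an isomorphism. -/
theorem isIso_of_isEmpty_points {F G : Sp S} (f : F ⟶ G) (hf : Representable f)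
    (h : IsEmpty (Points G)) : IsIso f := by
  refine Groth.Agent.H53.isIso_of_repWith_isomorphisms f ⟨hf, fun Z Z' g fst' snd' sq' => ?_⟩
  haveI : IsEmpty ↥Z.left := isEmpty_of_isEmpty_points h g
  exact (isIso_of_isEmpty snd'.left : IsIso snd'.left)

/-- There is a morphism from the empty scheme to any scheme over `S`. -/
noncomputable def emptyOverTo (U : Over S) : emptyOver S ⟶ U :=
  Over.homMk (Scheme.emptyTo U.left) (Scheme.empty_ext _ _)

/-- An algebraic space without points is (represented by) the empty scheme. -/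
theorem nonempty_iso_yon_emptyOver {F : Sp S} (hF : IsAlgSpace F) (h : IsEmpty (Points F)) :
    Nonempty ((yon S).obj (emptyOver S) ≅ F) := by
  obtain ⟨U, a, -, -⟩ := hF.atlas
  let m : (yon S).obj (emptyOver S) ⟶ F := (yon S).map (emptyOverTo U) ≫ a
  haveI : IsIso m := isIso_of_isEmpty_points m (hF.representable_from_yon m) h
  exact ⟨asIso m⟩

/-- A morphism from the empty scheme to an algebraic space is an open immersion. -/
theorem repWith_isOpenImmersion_of_isEmpty {F : Sp S} (hF : IsAlgSpace F) {Z : Over S} [IsEmpty ↥Z.left]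
    (m : (yon S).obj Z ⟶ F) : RepWith @IsOpenImmersion m := by
  refine ⟨hF.representable_from_yon m, fun T T' g fst snd sq => ?_⟩
  obtain ⟨φ, hφ⟩ := (yon S).map_surjective fst
  haveI : IsEmpty ↥T'.left := ⟨fun t => IsEmpty.false (φ.left t)⟩
  exact (inferInstance : IsOpenImmersion snd.left)

/-- The base change of an étale `f : h_V ⟶ Uo` to a closed subspace `T` of `Uo` (complementary to the open `k`) is an
isomorphism, when `f` covers the points of `T` and field-valued points of `V` over points of `T` are determined by their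
images. -/
theorem isIso_fst_of_unique_fieldPts' {Uo Uo' T : Sp S} (k : Uo' ⟶ Uo) (i : T ⟶ Uo)
    (hi : Set.range (Points.map i) = (Set.range (Points.map k))ᶜ)
    {V : Over S} (f : (yon S).obj V ⟶ Uo) (hfe : RepWith @Etale f)
    (hcov : ∀ y : Points Uo, y ∈ Set.range (Points.map k) ∨ y ∈ Set.range (Points.ofPt f))
    (huniq : ∀ (K : Type u) [Field K] (str : Spec (CommRingCat.of K) ⟶ S) (v₁ v₂ : Over.mk str ⟶ V),
      (yon S).map v₁ ≫ f = (yon S).map v₂ ≫ f →
      (∀ s, Points.ofPt ((yon S).map v₁ ≫ f) s ∉ Set.range (Points.map k)) → v₁ = v₂)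
    {P : Sp S} (fst : P ⟶ T) (snd : P ⟶ (yon S).obj V) (sq : IsPullback fst snd i f) : IsIso fst := by
  have hfste : RepWith @Etale fst := MorphismProperty.of_isPullback sq.flip hfe
  have hfsts : RepWith @Surjective fst := by
    refine Groth.Agent.H52.repWith_surjective_of_surjective_points fst hfste.rep (fun τ => ?_)
    have h1 : Points.map i τ ∈ Set.range (Points.map i) := ⟨τ, rfl⟩
    rw [hi] at h1
    rcases hcov (Points.map i τ) with h2 | ⟨v, hv⟩
    · exact absurd h2 h1
    · rw [Points.ofPt_eq_map_ofScheme] at hv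
      obtain ⟨w, hw, -⟩ := Groth.Agent.H52.exists_point_of_isPullback sq τ (Points.ofScheme V v) hv.symm
      exact ⟨w, hw⟩
  refine Groth.Agent.H53.isIso_of_repWith_isomorphisms fst ⟨hfste.rep, fun Z Z' g fst' snd' sq' => ?_⟩
  have h1 : Etale snd'.left := hfste.property g fst' snd' sq'
  have h2 : Surjective snd'.left := hfsts.property g fst' snd' sq'
  obtain ⟨ψ, hψ⟩ := (yon S).map_surjective (fst' ≫ snd)
  refine isIso_of_etale_surjective_of_injective_fieldPts snd'.left (fun K _ g₁ g₂ hg => ?_)
  have hw2 : g₂ ≫ Z'.hom = g₁ ≫ Z'.hom := by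
    rw [← Over.w snd', ← Category.assoc, ← Category.assoc, hg]
  let γ₁ : Over.mk (g₁ ≫ Z'.hom) ⟶ Z' := Over.homMk g₁ rfl
  let γ₂ : Over.mk (g₁ ≫ Z'.hom) ⟶ Z' := Over.homMk g₂ hw2
  have hγ : γ₁ ≫ snd' = γ₂ ≫ snd' := by
    ext
    exact hg
  have hcomp : ∀ γ : Over.mk (g₁ ≫ Z'.hom) ⟶ Z',
      (yon S).map (γ ≫ ψ) ≫ f = ((yon S).map (γ ≫ snd') ≫ g) ≫ i := by
    intro γ
    rw [Functor.map_comp, hψ, Functor.map_comp]
    simp only [Category.assoc]
    rw [← sq.w, ← sq'.w_assoc]
  have hv : γ₁ ≫ ψ = γ₂ ≫ ψ := by
    apply huniq K (g₁ ≫ Z'.hom)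
    · rw [hcomp, hcomp, hγ]
    · intro s hs
      have e : Points.ofPt (((yon S).map (γ₁ ≫ snd') ≫ g) ≫ i) s =
          Points.map i (Points.ofPt ((yon S).map (γ₁ ≫ snd') ≫ g) s) := by
        rw [Points.map_ofPt]
      rw [hcomp, e] at hs
      have h4 : Points.map i (Points.ofPt ((yon S).map (γ₁ ≫ snd') ≫ g) s) ∈
          Set.range (Points.map i) := ⟨_, rfl⟩
      rw [hi] at h4
      exact h4 hs
  have hfst' : (yon S).map γ₁ ≫ fst' = (yon S).map γ₂ ≫ fst' := by
    apply sq.hom_ext
    · rw [Category.assoc, Category.assoc, sq'.w, ← Category.assoc, ← Category.assoc,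
        ← Functor.map_comp, ← Functor.map_comp, hγ]
    · rw [Category.assoc, Category.assoc, ← hψ, ← Functor.map_comp, ← Functor.map_comp, hv]
  have hγeq : (yon S).map γ₁ = (yon S).map γ₂ := by
    apply sq'.hom_ext hfst'
    rw [← Functor.map_comp, ← Functor.map_comp, hγ]
  have := (yon S).map_injective hγeq
  exact congrArg (fun k => k.left) this

/-- Fibre products along open immersions, detected on points. -/
theorem exists_isPullback_of_isOpenImmersion {U V W UV : Sp S} (j : U ⟶ W) (hj : RepWith @IsOpenImmersion j)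
    (f : V ⟶ W) (q : UV ⟶ V) (hq : RepWith @IsOpenImmersion q)
    (hr : Set.range (Points.map q) = Points.map f ⁻¹' Set.range (Points.map j)) :
    ∃ p : UV ⟶ U, IsPullback p q j f := by
  have hsub : Set.range (Points.map (q ≫ f)) ⊆ Set.range (Points.map j) := by
    rintro _ ⟨u, rfl⟩
    rw [Points.map_comp]
    have : Points.map q u ∈ Set.range (Points.map q) := ⟨u, rfl⟩
    rw [hr] at this
    exact this
  obtain ⟨p, hp⟩ := Groth.Agent.H53.exists_factor_of_range_subset j hj (q ≫ f) hsub
  haveI := mono_of_isOpenImmersion j hj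
  haveI := mono_of_isOpenImmersion q hq
  refine ⟨p, isPullback_of_forall_yon p q j f hp ?_ ?_⟩
  · intro T a a' _ h2
    exact (cancel_mono q).mp h2
  · intro T b c hbc
    have hsub' : Set.range (Points.map c) ⊆ Set.range (Points.map q) := by
      rintro _ ⟨t, rfl⟩
      rw [hr]
      change Points.map f (Points.map c t) ∈ Set.range (Points.map j)
      rw [← Points.map_comp, ← hbc, Points.map_comp]
      exact ⟨_, rfl⟩
    obtain ⟨a, ha⟩ := Groth.Agent.H53.exists_factor_of_range_subset q hq c hsub'
    refine ⟨a, ?_, ha⟩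
    rw [← cancel_mono j, Category.assoc, hp, ← Category.assoc, ha, hbc]

/-- An elementary distinguished square from an open immersion `k` and an étale chart `f` which covers the complement of
`k` and is universally injective over it. -/
theorem isElemDistSq_of_unique_fieldPts {W₁ W₂ : Space S} (k : W₁ ⟶ W₂) (hk : RepWith @IsOpenImmersion k.hom)
    {A : Over S} (f : (yon S).obj A ⟶ W₂.obj) (hf : RepWith @Etale f)
    (hcov : ∀ y : Points W₂.obj, y ∈ Set.range (Points.map k.hom) ∨ y ∈ Set.range (Points.ofPt f))
    (huniq : ∀ (K : Type u) [Field K] (str : Spec (CommRingCat.of K) ⟶ S) (v₁ v₂ : Over.mk str ⟶ A),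
      (yon S).map v₁ ≫ f = (yon S).map v₂ ≫ f →
      (∀ s, Points.ofPt ((yon S).map v₁ ≫ f) s ∉ Set.range (Points.map k.hom)) → v₁ = v₂) :
    IsElemDistSq k.hom f := by
  have hkopen : IsOpen (Set.range (Points.map k.hom)) :=
    (Groth.Agent.H52.isOpenMap_points_of_repWith k.hom @IsOpenImmersion
      (fun _ _ φ hφ => by have := hφ; exact φ.isOpenEmbedding.isOpenMap) hk).isOpen_range
  obtain ⟨Z, i, hi⟩ := Groth.Agent.S10192.result W₂ _ hkopen.isClosed_compl
  refine ⟨hk, isEtaleMor_of_repWith f hf, Z.obj, pullback i.hom f, i.hom, pullback.fst i.hom f,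
    pullback.snd i.hom f, hi, IsPullback.of_hasPullback i.hom f, ?_⟩
  exact isIso_fst_of_unique_fieldPts' k.hom i.hom hi.2.1 f hf hcov huniq _ _
    (IsPullback.of_hasPullback i.hom f)

/-- Field-valued points of the chart `f` outside the set `O` are determined by their images. -/
def UniqOutside {X : Sp S} {A : Over S} (f : (yon S).obj A ⟶ X) (O : Set (Points X)) : Prop :=
  ∀ (K : Type u) [Field K] (str : Spec (CommRingCat.of K) ⟶ S) (v₁ v₂ : Over.mk str ⟶ A),
    (yon S).map v₁ ≫ f = (yon S).map v₂ ≫ f →
    (∀ s, Points.ofPt ((yon S).map v₁ ≫ f) s ∉ O) → v₁ = v₂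

/-- One step of a chain of elementary distinguished squares, in terms of open sets of points. -/
def EStep (X : Sp S) (O O' : Set (Points X)) : Prop :=
  ∃ (A : Over S) (f : (yon S).obj A ⟶ X), IsAffine A.left ∧ RepWith @Etale f ∧
    O' = O ∪ Set.range (Points.ofPt f) ∧ UniqOutside f O

/-- Chains of elementary distinguished squares with affine étale parts. -/
inductive EChain (X : Sp S) : Set (Points X) → Set (Points X) → Prop
  | refl (O : Set (Points X)) : EChain X O O
  | step {O O' O'' : Set (Points X)} : EChain X O O' → EStep X O' O'' → EChain X O O''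

theorem EChain.trans {X : Sp S} {O O' O'' : Set (Points X)} (h₁ : EChain X O O') (h₂ : EChain X O' O'') :
    EChain X O O'' := by
  induction h₂ with
  | refl => exact h₁
  | step _ hs ih => exact EChain.step ih hs

/-- Refining an elementary distinguished square with quasi-compact étale part into a chain of such squares with affine
étale parts. -/
theorem eChain_of_compact {X : Sp S} (O : Set (Points X)) {V : Over S} [CompactSpace ↥V.left]
    (f : (yon S).obj V ⟶ X) (hf : RepWith @Etale f) (huniq : UniqOutside f O) :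
    EChain X O (O ∪ Set.range (Points.ofPt f)) := by
  have hEt : (RepWith (S := S) @Etale).IsMultiplicative := repWith_isMultiplicative _
  have key : EChain X O (O ∪ Points.ofPt f '' ((⊤ : V.left.Opens) : Set ↥V.left)) := by
    refine compact_open_induction_on (P := fun M : V.left.Opens =>
      EChain X O (O ∪ Points.ofPt f '' (M : Set ↥V.left))) ⊤ isCompact_univ ?_ ?_
    · have : O ∪ Points.ofPt f '' ((⊥ : V.left.Opens) : Set ↥V.left) = O := by simp
      rw [this]
      exact EChain.refl O
    · intro M _ U ih
      refine EChain.step ih ⟨Groth.Agent.H52.overOpen V U.1,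
        (yon S).map (Groth.Agent.H52.overOpenι V U.1) ≫ f, U.2,
        (RepWith @Etale).comp_mem _ _ (Groth.Agent.H52.repWith_etale_overOpenι V U.1) hf, ?_, ?_⟩
      · have hr : Set.range (Points.ofPt ((yon S).map (Groth.Agent.H52.overOpenι V U.1) ≫ f)) =
            Points.ofPt f '' (U.1 : Set ↥V.left) := by
          ext y
          constructor
          · rintro ⟨t, rfl⟩
            exact ⟨_, t.2, (Groth.Agent.H52.ofPt_overOpenι_comp f U.1 t).symm⟩
          · rintro ⟨w, hw, rfl⟩
            exact ⟨⟨w, hw⟩, Groth.Agent.H52.ofPt_overOpenι_comp f U.1 ⟨w, hw⟩⟩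
        rw [hr, Set.union_assoc, ← Set.image_union]
        rfl
      · intro K _ str v₁ v₂ h hno
        have h' : (yon S).map (v₁ ≫ Groth.Agent.H52.overOpenι V U.1) ≫ f =
            (yon S).map (v₂ ≫ Groth.Agent.H52.overOpenι V U.1) ≫ f := by
          rw [Functor.map_comp, Functor.map_comp, Category.assoc, Category.assoc]
          exact h
        have := huniq K str _ _ h' (fun s hs => hno s (by
          rw [Functor.map_comp, Category.assoc] at hs
          exact Or.inl hs))
        exact (cancel_mono _).1 this
  have e : Points.ofPt f '' ((⊤ : V.left.Opens) : Set ↥V.left) = Set.range (Points.ofPt f) := by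
    rw [← Set.image_univ]
    rfl
  rwa [e] at key

/-- A quasi-compact and quasi-separated algebraic space has a finite chain of quasi-compact open subspaces from the
empty one to itself, each step of which is an elementary distinguished square with affine étale part. -/
theorem exists_eChain [QuasiSeparatedSpace ↥S] (X : Space S) (hqc : IsQuasiCompactSp X.obj)
    (hqs : IsQuasiSeparatedSp X.obj) : EChain X.obj ∅ Set.univ := by
  obtain ⟨U, a, hUa, hae, has⟩ := Groth.Agent.Lib.Helper54.exists_affine_etale_chart hqc
  have hUs : U.left.IsSeparated := inferInstance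
  obtain ⟨N, hN⟩ : ∃ N, strat hae hUs N = ∅ := exists_strat_eq_empty hae hUa hqs
  have key : ∀ n, n ≤ N → EChain X.obj ∅ (strat hae hUs (N - n)) := by
    intro n
    induction n with
    | zero =>
      intro _
      rw [Nat.sub_zero, hN]
      exact EChain.refl _
    | succ n ih =>
      intro hn
      have ih' := ih (by omega)
      obtain ⟨m, hm⟩ : ∃ m, N - (n + 1) = m := ⟨_, rfl⟩
      have hm' : N - n = m + 1 := by omega
      rw [hm]
      rw [hm'] at ih'
      obtain ⟨V, f, -, hfe, hr, hc, hu⟩ := exists_quot_strat X.property hae hUa m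
      haveI : CompactSpace ↥V.left := hc inferInstance hqs
      have h2 := eChain_of_compact (strat hae hUs (m + 1)) f hfe hu
      rw [hr, Set.union_eq_self_of_subset_left (strat_succ_subset hae hUs m)] at h2
      exact ih'.trans h2
  have := key N le_rfl
  rwa [Nat.sub_self, strat_zero hae hUs has] at this

end Groth.Agent.Lib.Helper54
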