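import Groth.Agent.Lib.Helper54.AffineDescentSch
import Mathlib.AlgebraicGeometry.Sites.Fpqc
import Mathlib.AlgebraicGeometry.QuasiAffine
import Mathlib.CategoryTheory.Limits.Shapes.Opposites.Equalizers

/-!
# fpqc descent for quasi-affine schemes: scheme-theoretic part (helper54)

* `isLimit_fork_appTop_of_fppf`: global sections satisfy the sheaf condition for a flat, locally
  finitely presented, surjective morphism of schemes (from effective descent of morphisms and the
  `Γ`-`Spec` adjunction).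
* `isIso_appTop_of_quotient_baseChange`: flat base change of an affine quotient, the base change
  being compared with an arbitrary scheme.
* `isOpenImmersion_of_isIso_appTop`: a morphism from a quasi-affine scheme to an affine scheme that
  is an isomorphism on global sections is an open immersion.
-/

set_option autoImplicit false
universe u
open CategoryTheory CategoryTheory.Limits AlgebraicGeometry Opposite

namespace Groth.Agent.Lib.Helper54

/-- The sheaf condition of global sections for an fppf covering by one morphism. -/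
theorem isLimit_fork_appTop_of_fppf {R U V : Scheme.{u}} {s t : R ⟶ U} (u : U ⟶ V) [Flat u]
    [Surjective u] [LocallyOfFinitePresentation u] (sq : IsPullback s t u u) :
    ∃ w : u.appTop ≫ s.appTop = u.appTop ≫ t.appTop, Nonempty (IsLimit (Fork.ofι u.appTop w)) := by
  have w : u.appTop ≫ s.appTop = u.appTop ≫ t.appTop := by
    rw [← Scheme.Hom.comp_appTop, ← Scheme.Hom.comp_appTop, sq.w]
  refine ⟨w, ⟨?_⟩⟩
  have hc : IsColimit (Cofork.ofπ u sq.w) := isColimitCoforkOfEffectiveEpi u sq.cone sq.isLimit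
  have : PreservesColimitsOfSize.{0, 0} Scheme.Γ.{u}.rightOp :=
    ΓSpec.adjunction.leftAdjoint_preservesColimits
  have hc' := isColimitCoforkMapOfIsColimit Scheme.Γ.{u}.rightOp sq.w hc
  exact (Cofork.isColimitOfπEquivIsLimitUnop _ (Scheme.Γ.rightOp.map u) _ w rfl) hc'

/-- Flat base change of an affine quotient, compared with an arbitrary scheme. -/
theorem isIso_appTop_of_quotient_baseChange
    {Z U R W V UW RW VW V' : Scheme.{u}} [IsAffine Z] [IsAffine U] [IsAffine R] [IsAffine W]
    [IsAffine V]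
    (h : U ⟶ Z) (s t : R ⟶ U) (hst : s ≫ h = t ≫ h) (c : W ⟶ Z) [Flat c]
    (k : U ⟶ V) (v : V ⟶ Z) (hkv : k ≫ v = h)
    (w : k.appTop ≫ s.appTop = k.appTop ≫ t.appTop) (hlim : IsLimit (Fork.ofι k.appTop w))
    {p1 : UW ⟶ U} {p2 : UW ⟶ W} (sqU : IsPullback p1 p2 h c)
    {q1 : RW ⟶ R} {q2 : RW ⟶ W} (sqR : IsPullback q1 q2 (s ≫ h) c)
    {r1 : VW ⟶ V} {r2 : VW ⟶ W} (sqV : IsPullback r1 r2 v c)
    (sW tW : RW ⟶ UW) (hs1 : sW ≫ p1 = q1 ≫ s) (hs2 : sW ≫ p2 = q2)
    (ht1 : tW ≫ p1 = q1 ≫ t) (ht2 : tW ≫ p2 = q2)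
    (u : UW ⟶ V') [Flat u] [Surjective u] [LocallyOfFinitePresentation u]
    (sqK : IsPullback sW tW u u)
    (ψ : V' ⟶ VW) (hψ1 : u ≫ ψ ≫ r1 = p1 ≫ k) (hψ2 : u ≫ ψ ≫ r2 = p2) : IsIso ψ.appTop := by
  have hUW : IsAffine UW := IsAffine.of_isPullback sqU
  have hRW : IsAffine RW := IsAffine.of_isPullback sqR
  have hVW : IsAffine VW := IsAffine.of_isPullback sqV
  -- (i) descent
  obtain ⟨w1, ⟨h1⟩⟩ := isLimit_fork_appTop_of_fppf u sqK
  -- (ii) flat base change
  let kW : UW ⟶ VW := sqV.lift (p1 ≫ k) p2 (by rw [Category.assoc, hkv, sqU.w])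
  have hkW1 : kW ≫ r1 = p1 ≫ k := sqV.lift_fst _ _ _
  have hkW2 : kW ≫ r2 = p2 := sqV.lift_snd _ _ _
  have hD' : IsPushout (h.appTop ≫ s.appTop) c.appTop q1.appTop q2.appTop := by
    have := isPushout_appTop_of_isPullback sqR
    rwa [Scheme.Hom.comp_appTop] at this
  obtain ⟨w2, ⟨h2⟩⟩ := isLimit_fork_pushout_of_flat h.appTop s.appTop t.appTop
    (by rw [← Scheme.Hom.comp_appTop, ← Scheme.Hom.comp_appTop, hst])
    k.appTop w hlim v.appTop (by rw [← Scheme.Hom.comp_appTop, hkv])
    c.appTop (Scheme.Hom.flat_appTop c)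
    (isPushout_appTop_of_isPullback sqU) hD'
    (isPushout_appTop_of_isPullback sqV)
    sW.appTop tW.appTop
    (by rw [← Scheme.Hom.comp_appTop, ← Scheme.Hom.comp_appTop, hs1])
    (by rw [← Scheme.Hom.comp_appTop, hs2])
    (by rw [← Scheme.Hom.comp_appTop, ← Scheme.Hom.comp_appTop, ht1])
    (by rw [← Scheme.Hom.comp_appTop, ht2])
    kW.appTop
    (by rw [← Scheme.Hom.comp_appTop, ← Scheme.Hom.comp_appTop, hkW1])
    (by rw [← Scheme.Hom.comp_appTop, hkW2])
  -- (iii) comparison
  have hψ : u ≫ ψ = kW := by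
    apply sqV.hom_ext
    · rw [Category.assoc, hψ1, hkW1]
    · rw [Category.assoc, hψ2, hkW2]
  have hψ' : ψ.appTop ≫ u.appTop = kW.appTop := by
    rw [← Scheme.Hom.comp_appTop, hψ]
  exact isIso_of_isLimit_fork h2 h1 ψ.appTop hψ'

/-- A morphism from a quasi-affine scheme to an affine scheme that is an isomorphism on global
sections is an open immersion. -/
theorem isOpenImmersion_of_isIso_appTop {X Y : Scheme.{u}} [X.IsQuasiAffine] [IsAffine Y]
    (f : X ⟶ Y) [IsIso f.appTop] : IsOpenImmersion f := by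
  have h := Scheme.toSpecΓ_naturality f
  have : f = X.toSpecΓ ≫ Spec.map f.appTop ≫ inv Y.toSpecΓ := by
    rw [← Category.assoc, ← h, Category.assoc, IsIso.hom_inv_id, Category.comp_id]
  rw [this]
  infer_instance

end Groth.Agent.Lib.Helper54
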