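import Groth.Agent.Lib.Helper54.AffineDescent
import Groth.Agent.Lib.Helper54.QuasiAffineDescentSch

/-!
# fpqc descent of quasi-affine morphisms over an affine base (helper54)

* `exists_affine_hull_of_family`: for a quasi-compact algebraic space `XZ` separated over an affine
  scheme `Z`, the spectrum `V` of the ring of global sections of `XZ` (computed on an affine étale
  chart), the canonical morphism `mm : XZ ⟶ V`, and the fact that its base change along a flat
  morphism `W_j ⟶ Z` of affine schemes induces an isomorphism on global sections whenever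
  `XZ ×_Z W_j` is a scheme.
* `exists_iso_yon_of_quasiAffine_family`: fpqc descent of quasi-affine schemes over an affine
  scheme, for algebraic spaces.
-/

set_option autoImplicit false
set_option backward.isDefEq.respectTransparency false
universe u
open CategoryTheory CategoryTheory.Limits AlgebraicGeometry

namespace Groth.Agent.Lib.Helper54

open AlgSp

variable {S : Scheme.{u}}

theorem exists_affine_hull_of_family
    {Z : Over S} (hZ : IsAffine Z.left) {XZ : Sp S}
    (fZ : XZ ⟶ (yon S).obj Z) (hqc : IsQuasiCompactSp XZ) (hsep : IsSeparatedMor fZ)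
    {m : ℕ} (W : Fin m → Over S) (c : ∀ j, W j ⟶ Z) (haff : ∀ j, IsAffine (W j).left)
    (hflat : ∀ j, Flat (c j).left)
    (Vj : Fin m → Over S) (aj : ∀ j, (yon S).obj (Vj j) ⟶ XZ) (vj : ∀ j, Vj j ⟶ W j)
    (sqVj : ∀ j, IsPullback (aj j) ((yon S).map (vj j)) fZ ((yon S).map (c j))) :
    ∃ (V : Over S) (v : V ⟶ Z) (mm : XZ ⟶ (yon S).obj V), IsAffine V.left ∧
      mm ≫ (yon S).map v = fZ ∧
      ∀ j, ∃ ψ : Vj j ⟶ pullback v (c j),
        IsPullback (aj j) ((yon S).map ψ) mm ((yon S).map (pullback.fst v (c j))) ∧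
        IsIso ψ.left.appTop := by
  -- an affine étale chart
  obtain ⟨U, a, hUaff', hae, has⟩ := exists_affine_etale_chart hqc
  have hepi : Epi a := Groth.Agent.H52.epi_of_repWith_etale_surjective a hae has
  obtain ⟨h, hh⟩ := (yon S).map_surjective (a ≫ fZ)
  have hUaff : IsAffine U.left := hUaff'
  have hZaff : IsAffine Z.left := hZ
  have hWaff : ∀ j, IsAffine (W j).left := haff
  -- the kernel pair of the chart
  obtain ⟨R, s, t, sqR⟩ := exists_kernelPair_of_rep a hae.rep
  have hst : s ≫ h = t ≫ h := by
    apply (yon S).map_injective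
    rw [Functor.map_comp, Functor.map_comp, hh, ← Category.assoc, ← Category.assoc, sqR.w]
  -- the kernel pair is affine, `fZ` being separated
  have hRaff : IsAffine R.left := by
    have sqP := IsPullback.of_hasPullback h h
    have sqPy : IsPullback ((yon S).map (pullback.fst h h)) ((yon S).map (pullback.snd h h))
        (a ≫ fZ) (a ≫ fZ) := by
      have := sqP.map (yon S)
      rwa [hh] at this
    let r : R ⟶ pullback h h := pullback.lift s t hst
    have hr1 : (yon S).map r ≫ (yon S).map (pullback.fst h h) = (yon S).map s := by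
      rw [← Functor.map_comp, pullback.lift_fst]
    have hr2 : (yon S).map r ≫ (yon S).map (pullback.snd h h) = (yon S).map t := by
      rw [← Functor.map_comp, pullback.lift_snd]
    have sqΔ := isPullback_diagonal_of_kernelPair a fZ sqR sqPy ((yon S).map r) hr1 hr2
    have hcl : IsClosedImmersion r.left := hsep.property _ _ r sqΔ
    have hPaff : IsAffine (pullback h h).left :=
      IsAffine.of_isPullback (isPullback_left sqP)
    exact isAffine_of_isAffineHom r.left
  -- the affine quotient
  have hst' : s.left ≫ h.left = t.left ≫ h.left := by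
    have := congrArg (fun φ => φ.left) hst
    exact this
  obtain ⟨V₀, hV₀, k₀, v₀, hkv, hsk, w, ⟨hlim⟩⟩ := exists_affine_quotient h.left s.left t.left hst'
  let V : Over S := Over.mk (v₀ ≫ Z.hom)
  let v : V ⟶ Z := Over.homMk v₀ rfl
  let k : U ⟶ V := Over.homMk k₀ (by
    change k₀ ≫ v₀ ≫ Z.hom = U.hom
    rw [reassoc_of% hkv, Over.w h])
  have hVaff : IsAffine V.left := hV₀
  have hkvO : k ≫ v = h := by
    apply Over.OverMorphism.ext
    exact hkv
  have hskO : s ≫ k = t ≫ k := by
    apply Over.OverMorphism.ext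
    exact hsk
  -- the induced morphism `XZ ⟶ h_V`
  have hg : (yon S).map s ≫ (yon S).map k = (yon S).map t ≫ (yon S).map k := by
    rw [← Functor.map_comp, ← Functor.map_comp, hskO]
  obtain ⟨mm, hmm⟩ := Groth.Agent.H53.HomAff.exists_desc_of_epi a ((yon S).map s) ((yon S).map t)
    sqR ((yon S).map k) hg
  have hmv : mm ≫ (yon S).map v = fZ := by
    rw [← cancel_epi a, ← Category.assoc, hmm, ← Functor.map_comp, hkvO, hh]
  refine ⟨V, v, mm, hVaff, hmv, ?_⟩
  -- the comparison maps
  have hψex : ∀ j, ∃ ψ : Vj j ⟶ pullback v (c j),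
      (yon S).map ψ ≫ (yon S).map (pullback.fst v (c j)) = aj j ≫ mm ∧
        ψ ≫ pullback.snd v (c j) = vj j := by
    intro j
    obtain ⟨ψ1, hψ1⟩ := (yon S).map_surjective (aj j ≫ mm)
    have hcond : ψ1 ≫ v = vj j ≫ c j := by
      apply (yon S).map_injective
      rw [Functor.map_comp, Functor.map_comp, hψ1, Category.assoc, hmv, (sqVj j).w]
    refine ⟨pullback.lift ψ1 (vj j) hcond, ?_, pullback.lift_snd _ _ _⟩
    rw [← Functor.map_comp, pullback.lift_fst, hψ1]
  choose ψ hψ1 hψ2 using hψex
  have sqψ : ∀ j, IsPullback (aj j) ((yon S).map (ψ j)) mm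
      ((yon S).map (pullback.fst v (c j))) := by
    intro j
    have right := ((IsPullback.of_hasPullback v (c j)).map (yon S)).flip
    refine (IsPullback.of_right ?_ (hψ1 j) right).flip
    rw [← Functor.map_comp, hψ2, hmv]
    exact (sqVj j).flip
  have hψtop : ∀ j, IsIso (ψ j).left.appTop := by
    intro j
    -- the base change of the chart
    have sqO := IsPullback.of_hasPullback h (c j)
    have sqOy := sqO.map (yon S)
    have hcomm : ((yon S).map (pullback.fst h (c j)) ≫ a) ≫ fZ =
        (yon S).map (pullback.snd h (c j)) ≫ (yon S).map (c j) := by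
      rw [Category.assoc, ← hh]
      exact sqOy.w
    obtain ⟨uj, huj⟩ := (yon S).map_surjective ((sqVj j).lift _ _ hcomm)
    have hu1 : (yon S).map uj ≫ aj j = (yon S).map (pullback.fst h (c j)) ≫ a := by
      rw [huj]
      exact (sqVj j).lift_fst _ _ _
    have hu2 : (yon S).map uj ≫ (yon S).map (vj j) = (yon S).map (pullback.snd h (c j)) := by
      rw [huj]
      exact (sqVj j).lift_snd _ _ _
    have hu2' : uj ≫ vj j = pullback.snd h (c j) :=
      (yon S).map_injective (by rw [Functor.map_comp, hu2])
    have sqL : IsPullback ((yon S).map (pullback.fst h (c j))) ((yon S).map uj) a (aj j) := by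
      refine IsPullback.of_bot ?_ hu1.symm (sqVj j)
      rw [hu2, ← hh]
      exact sqOy
    have huje : Etale uj.left := hae.property _ _ uj sqL
    have hujs : Surjective uj.left := has.property _ _ uj sqL
    -- the base change of the kernel pair
    have sqRO := IsPullback.of_hasPullback (s ≫ h) (c j)
    have hsWc : (pullback.fst (s ≫ h) (c j) ≫ s) ≫ h = pullback.snd (s ≫ h) (c j) ≫ c j := by
      rw [Category.assoc]
      exact pullback.condition
    have htWc : (pullback.fst (s ≫ h) (c j) ≫ t) ≫ h = pullback.snd (s ≫ h) (c j) ≫ c j := by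
      rw [Category.assoc, ← hst]
      exact pullback.condition
    let sW : pullback (s ≫ h) (c j) ⟶ pullback h (c j) := pullback.lift _ _ hsWc
    let tW : pullback (s ≫ h) (c j) ⟶ pullback h (c j) := pullback.lift _ _ htWc
    have hs1 : sW ≫ pullback.fst h (c j) = pullback.fst (s ≫ h) (c j) ≫ s := pullback.lift_fst _ _ _
    have hs2 : sW ≫ pullback.snd h (c j) = pullback.snd (s ≫ h) (c j) := pullback.lift_snd _ _ _
    have ht1 : tW ≫ pullback.fst h (c j) = pullback.fst (s ≫ h) (c j) ≫ t := pullback.lift_fst _ _ _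
    have ht2 : tW ≫ pullback.snd h (c j) = pullback.snd (s ≫ h) (c j) := pullback.lift_snd _ _ _
    -- `R_j = R ×_XZ V_j`
    have hsu : (yon S).map (sW ≫ uj) ≫ aj j =
        (yon S).map (pullback.fst (s ≫ h) (c j)) ≫ (yon S).map s ≫ a := by
      have e1 : (yon S).map (sW ≫ uj) ≫ aj j =
          (yon S).map sW ≫ (yon S).map (pullback.fst h (c j)) ≫ a := by
        rw [Functor.map_comp, Category.assoc, hu1]
      have e2 : (yon S).map sW ≫ (yon S).map (pullback.fst h (c j)) =
          (yon S).map (pullback.fst (s ≫ h) (c j)) ≫ (yon S).map s := by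
        rw [← Functor.map_comp, hs1, Functor.map_comp]
      rw [e1, ← Category.assoc, e2, Category.assoc]
    have htu : (yon S).map (tW ≫ uj) ≫ aj j =
        (yon S).map (pullback.fst (s ≫ h) (c j)) ≫ (yon S).map s ≫ a := by
      have e1 : (yon S).map (tW ≫ uj) ≫ aj j =
          (yon S).map tW ≫ (yon S).map (pullback.fst h (c j)) ≫ a := by
        rw [Functor.map_comp, Category.assoc, hu1]
      have e2 : (yon S).map tW ≫ (yon S).map (pullback.fst h (c j)) =
          (yon S).map (pullback.fst (s ≫ h) (c j)) ≫ (yon S).map t := by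
        rw [← Functor.map_comp, ht1, Functor.map_comp]
      rw [e1, ← Category.assoc, e2, Category.assoc, sqR.w]
    have hstu : tW ≫ uj = sW ≫ uj := by
      apply (yon S).map_injective
      apply (sqVj j).hom_ext
      · rw [htu, hsu]
      · rw [← Functor.map_comp, ← Functor.map_comp, Category.assoc, Category.assoc, hu2', hs2, ht2]
    have sqRV : IsPullback ((yon S).map (pullback.fst (s ≫ h) (c j))) ((yon S).map (sW ≫ uj))
        ((yon S).map s ≫ a) (aj j) := by
      refine IsPullback.of_bot ?_ hsu.symm (sqVj j)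
      have := sqRO.map (yon S)
      rw [Functor.map_comp, hh, ← Category.assoc] at this
      rw [← Functor.map_comp, Category.assoc, hu2', hs2]
      exact this
    have sqK : IsPullback ((yon S).map sW) ((yon S).map tW) ((yon S).map uj) ((yon S).map uj) :=
      isPullback_kernelPair_baseChange sqL sqR sqRV ((yon S).map sW) ((yon S).map tW)
        (by rw [← Functor.map_comp, hs1, Functor.map_comp])
        (by rw [← Functor.map_comp])
        (by rw [← Functor.map_comp, ht1, Functor.map_comp])
        (by rw [← Functor.map_comp, hstu])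
    have sqK' : IsPullback sW.left tW.left uj.left uj.left :=
      isPullback_left (IsPullback.of_map (yon S) (by rw [hstu]) sqK)
    have : Flat (c j).left := hflat j
    have : Etale uj.left := huje
    have : Flat uj.left := inferInstance
    have : LocallyOfFinitePresentation uj.left := inferInstance
    have : Surjective uj.left := hujs
    refine isIso_appTop_of_quotient_baseChange h.left s.left t.left hst' (c j).left k₀ v₀ hkv w
      hlim (isPullback_left sqO) (isPullback_left sqRO)
      (isPullback_left (IsPullback.of_hasPullback v (c j))) sW.left tW.left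
      (congrArg (fun φ => φ.left) hs1) (congrArg (fun φ => φ.left) hs2)
      (congrArg (fun φ => φ.left) ht1) (congrArg (fun φ => φ.left) ht2) uj.left sqK' (ψ j).left
      ?_ ?_
    · have e : uj ≫ ψ j ≫ pullback.fst v (c j) = pullback.fst h (c j) ≫ k := by
        apply (yon S).map_injective
        rw [Functor.map_comp, Functor.map_comp, hψ1, ← Category.assoc, hu1, Category.assoc, hmm,
          Functor.map_comp]
      exact congrArg (fun φ => φ.left) e
    · have e : uj ≫ ψ j ≫ pullback.snd v (c j) = pullback.snd h (c j) := by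
        rw [hψ2, hu2']
      exact congrArg (fun φ => φ.left) e
  exact fun j => ⟨ψ j, sqψ j, hψtop j⟩


theorem isQuasiCompactSp_of_iso {X X' : Sp S} (e : X ≅ X') (h : IsQuasiCompactSp X) :
    IsQuasiCompactSp X' := by
  obtain ⟨U, p, hpe, hps, hU⟩ := h
  exact ⟨U, p ≫ e.hom,
    (MorphismProperty.cancel_right_of_respectsIso (RepWith (S := S) @Etale) _ _).2 hpe,
    (MorphismProperty.cancel_right_of_respectsIso (RepWith (S := S) @Surjective) _ _).2 hps, hU⟩

/-- fpqc descent of quasi-affine schemes over an affine scheme, for algebraic spaces. -/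
theorem exists_iso_yon_of_quasiAffine_family
    (hS10531 : IsLocalOnBase (IsFpqcCover (S := S)) (RepWith @IsOpenImmersion))
    {Z : Over S} (hZ : IsAffine Z.left) {XZ : Sp S} (hXZ : IsAlgSpace XZ)
    (fZ : XZ ⟶ (yon S).obj Z) (hqc : IsQuasiCompactSp XZ) (hsep : IsSeparatedMor fZ)
    {m : ℕ} (W : Fin m → Over S) (c : ∀ j, W j ⟶ Z) (haff : ∀ j, IsAffine (W j).left)
    (hflat : ∀ j, Flat (c j).left) (hsurj : ∀ z : ↥Z.left, ∃ j, z ∈ Set.range (c j).left)
    (H : ∀ j, ∃ (Vj : Over S) (aj : (yon S).obj Vj ⟶ XZ) (vj : Vj ⟶ W j),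
      IsPullback aj ((yon S).map vj) fZ ((yon S).map (c j)) ∧ Vj.left.IsQuasiAffine) :
    ∃ (V : Over S) (v : V ⟶ Z) (e : (yon S).obj V ≅ XZ),
      V.left.IsQuasiAffine ∧ e.hom ≫ fZ = (yon S).map v := by
  choose Vj aj vj sqVj hVjqa using H
  obtain ⟨V₀, v₀, mm, hV₀, hmv, hψ⟩ :=
    exists_affine_hull_of_family hZ fZ hqc hsep W c haff hflat Vj aj vj sqVj
  choose ψ sqψ hψtop using hψ
  have hZaff : IsAffine Z.left := hZ
  have hV₀aff : IsAffine V₀.left := hV₀
  have hWaff : ∀ j, IsAffine (W j).left := haff
  have hPaff : ∀ j, IsAffine (pullback v₀ (c j)).left := fun j =>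
    IsAffine.of_isPullback (isPullback_left (IsPullback.of_hasPullback v₀ (c j)))
  have hcov := isFpqcCover_yon_of_finite_flat_family hV₀ (fun j => pullback v₀ (c j))
    (fun j => pullback.fst v₀ (c j)) hPaff
    (fun j => MorphismProperty.of_isPullback (P := @Flat)
        (isPullback_left (IsPullback.of_hasPullback v₀ (c j)).flip) (hflat j))
    (fun z => by
      obtain ⟨j, w', hw'⟩ := hsurj (v₀.left z)
      obtain ⟨z', hz1, -⟩ := Groth.Agent.H52.exists_preimage_of_isPullback_yon
        ((IsPullback.of_hasPullback v₀ (c j)).map (yon S)) z w' hw'.symm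
      exact ⟨j, z', hz1⟩)
  have hloc := hS10531 (ι := ULift.{u} (Fin m)) (fun j => (yon S).obj (pullback v₀ (c j.down)))
    (fun j => (yon S).map (pullback.fst v₀ (c j.down))) (IsAlgSpace.yon_obj V₀)
    (fun j => IsAlgSpace.yon_obj _) hcov mm hXZ (fun j => (yon S).obj (Vj j.down))
    (fun j => (yon S).map (ψ j.down)) (fun j => aj j.down) (fun j => IsAlgSpace.yon_obj _)
    (fun j => sqψ j.down)
  have hmmoi : RepWith @IsOpenImmersion mm := by
    refine hloc.2 (fun j => ?_)
    have : (Vj j.down).left.IsQuasiAffine := hVjqa j.down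
    have : IsAffine (pullback v₀ (c j.down)).left := hPaff j.down
    have : IsIso (ψ j.down).left.appTop := hψtop j.down
    exact (repWith_yon_map_iff _ _).2 (isOpenImmersion_of_isIso_appTop (ψ j.down).left)
  -- `XZ` is the open subscheme `V` of `V₀`
  have sqV := hmmoi.rep.isPullback (𝟙 ((yon S).obj V₀))
  have hoi : IsOpenImmersion (hmmoi.rep.snd (𝟙 ((yon S).obj V₀))).left := hmmoi.property_snd _
  have hiso : IsIso (hmmoi.rep.fst (𝟙 ((yon S).obj V₀))) := sqV.isIso_fst_of_isIso
  have hcomp : CompactSpace ↥(hmmoi.rep.pullback (𝟙 ((yon S).obj V₀))).left :=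
    Groth.Agent.H52.compactSpace_of_isQuasiCompactSp_yon _
      (isQuasiCompactSp_of_iso (asIso (hmmoi.rep.fst (𝟙 ((yon S).obj V₀)))).symm hqc)
  refine ⟨hmmoi.rep.pullback (𝟙 _), hmmoi.rep.snd (𝟙 _) ≫ v₀, asIso (hmmoi.rep.fst (𝟙 _)),
    Scheme.IsQuasiAffine.of_isImmersion (hmmoi.rep.snd (𝟙 ((yon S).obj V₀))).left, ?_⟩
  rw [asIso_hom, ← hmv, ← Category.assoc, sqV.w, Category.comp_id, Functor.map_comp]

end Groth.Agent.Lib.Helper54
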