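import Groth.Agent.Lib.Helper54.EDS
import Groth.Agent.Lib.Helper54.QuasiAffineDescent
import Groth.Agent.H52.QSChart3
import Groth.Agent.S10185

/-!
# Chains of elementary distinguished squares: quasi-compactness and the squares themselves (helper54)
-/

set_option autoImplicit false
set_option backward.isDefEq.respectTransparency false
set_option linter.style.haveILetI false
universe u
open CategoryTheory CategoryTheory.Limits AlgebraicGeometry Topology
open AlgSp

namespace Groth.Agent.Lib.Helper54

variable {S : Scheme.{u}}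

/-- An open subspace covered by the images of finitely many quasi-compact sheaves is quasi-compact. -/
theorem isQuasiCompactSp_openSub_of_cover {X : Sp S} (hX : IsAlgSpace X) (O : Set (Points X)) (hO : IsOpen O)
    {ι : Type*} [Finite ι] (F : ι → Sp S) (hF : ∀ i, IsQuasiCompactSp (F i)) (g : ∀ i, F i ⟶ X)
    (hcov : O = ⋃ i, Set.range (Points.map (g i))) : IsQuasiCompactSp (openSub X O) := by
  choose U p hpe hps hUc using hF
  haveI : ∀ i, CompactSpace ↥(U i).left := hUc
  have hιinj : Function.Injective (Points.map (openSubι X O)) := injective_points_of_mono _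
  have hfac : ∀ i, ∃ a : (yon S).obj (U i) ⟶ openSub X O, a ≫ openSubι X O = p i ≫ g i := fun i =>
    (exists_factor_openSubι_iff (W := O) (p i ≫ g i)).2 (fun t => by
      rw [hcov, ← Points.map_ofPt]
      exact Set.mem_iUnion.2 ⟨i, _, rfl⟩)
  choose a ha using hfac
  refine Groth.Agent.H52.isQuasiCompactSp_of_finite_family (isAlgSpace_openSub hX O hO) U a (fun y => ?_)
  have hy : Points.map (openSubι X O) y ∈ O := by
    have : Points.map (openSubι X O) y ∈ Set.range (Points.map (openSubι X O)) := ⟨y, rfl⟩
    rwa [range_points_map_openSubι] at this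
  have hy' : Points.map (openSubι X O) y ∈ ⋃ i, Set.range (Points.map (g i)) := hcov ▸ hy
  obtain ⟨i, x, hx⟩ := Set.mem_iUnion.1 hy'
  obtain ⟨u, rfl⟩ := Groth.Agent.H53.surjective_ofPt_of_surjective (p i) (hps i) x
  refine ⟨i, u, hιinj ?_⟩
  rw [Points.map_ofPt, ha i, ← hx, Points.map_ofPt]

theorem isEmpty_points_openSub_empty (X : Sp S) : IsEmpty (Points (openSub X ∅)) := by
  refine ⟨fun y => ?_⟩
  have : Points.map (openSubι X ∅) y ∈ Set.range (Points.map (openSubι X ∅)) := ⟨y, rfl⟩
  rw [range_points_map_openSubι] at this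
  exact this

theorem isQuasiCompactSp_openSub_empty {X : Sp S} (hX : IsAlgSpace X) : IsQuasiCompactSp (openSub X ∅) := by
  obtain ⟨e⟩ := nonempty_iso_yon_emptyOver (isAlgSpace_openSub hX ∅ isOpen_empty)
    (isEmpty_points_openSub_empty X)
  exact isQuasiCompactSp_of_iso e (Groth.Agent.H52.isQuasiCompactSp_yon _)

theorem EStep.isOpen {X : Sp S} {O O' : Set (Points X)} (h : EStep X O O') (hO : IsOpen O) : IsOpen O' := by
  obtain ⟨A, f, -, hf, rfl, -⟩ := h
  exact hO.union (Groth.Agent.H53.isOpenMap_ofPt_of_etale f hf).isOpen_range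

theorem EStep.subset {X : Sp S} {O O' : Set (Points X)} (h : EStep X O O') : O ⊆ O' := by
  obtain ⟨A, f, -, hf, rfl, -⟩ := h
  exact Set.subset_union_left

theorem EStep.qc {X : Sp S} (hX : IsAlgSpace X) {O O' : Set (Points X)} (h : EStep X O O') (hO : IsOpen O)
    (hqc : IsQuasiCompactSp (openSub X O)) : IsQuasiCompactSp (openSub X O') := by
  have hO' := h.isOpen hO
  obtain ⟨A, f, hA, hf, hOO', -⟩ := h
  refine isQuasiCompactSp_openSub_of_cover hX O' hO' (ι := Bool)
    (fun b => if b then openSub X O else (yon S).obj A)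
    (fun b => by
      cases b
      · exact Groth.Agent.H52.isQuasiCompactSp_yon _
      · exact hqc)
    (fun b => match b with
      | true => openSubι X O
      | false => f) ?_
  rw [hOO']
  ext y
  simp only [Set.mem_union, Set.mem_iUnion, Bool.exists_bool]
  constructor
  · rintro (hy | ⟨t, rfl⟩)
    · right
      rw [← range_points_map_openSubι X O] at hy
      exact hy
    · left
      exact ⟨Points.ofScheme A t, (Points.ofPt_eq_map_ofScheme f t).symm⟩
  · rintro (⟨x, rfl⟩ | hy)
    · right
      obtain ⟨t, rfl⟩ := exists_ofScheme_eq A x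
      exact ⟨t, Points.ofPt_eq_map_ofScheme f t⟩
    · left
      rw [← range_points_map_openSubι X O]
      exact hy

theorem EChain.isOpen {X : Sp S} {O O' : Set (Points X)} (h : EChain X O O') (hO : IsOpen O) : IsOpen O' := by
  induction h with
  | refl => exact hO
  | step _ hs ih => exact hs.isOpen ih

theorem EChain.qc {X : Sp S} (hX : IsAlgSpace X) {O O' : Set (Points X)} (h : EChain X O O') (hO : IsOpen O)
    (hqc : IsQuasiCompactSp (openSub X O)) : IsQuasiCompactSp (openSub X O') := by
  induction h with
  | refl => exact hqc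
  | step hc hs ih => exact hs.qc hX (hc.isOpen hO) ih

theorem EStep.union_left {X : Sp S} {O O' : Set (Points X)} (h : EStep X O O') (Ω : Set (Points X)) :
    EStep X (Ω ∪ O) (Ω ∪ O') := by
  obtain ⟨A, f, hA, hf, rfl, hu⟩ := h
  refine ⟨A, f, hA, hf, (Set.union_assoc _ _ _).symm, ?_⟩
  intro K _ str v₁ v₂ h hno
  exact hu K str v₁ v₂ h (fun s hs => hno s (Or.inr hs))

theorem EChain.union_left {X : Sp S} {O O' : Set (Points X)} (h : EChain X O O') (Ω : Set (Points X)) :
    EChain X (Ω ∪ O) (Ω ∪ O') := by
  induction h with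
  | refl => exact EChain.refl _
  | step _ hs ih => exact EChain.step ih (hs.union_left Ω)

/-- The open subspace on an open set of points, as an algebraic space. -/
noncomputable def openSp (X : Space S) (O : Set (Points X.obj)) (hO : IsOpen O) : Space S :=
  ⟨openSub X.obj O, isAlgSpace_openSub X.property O hO⟩

/-- The inclusion of the open subspace. -/
noncomputable def openSpι (X : Space S) (O : Set (Points X.obj)) (hO : IsOpen O) : openSp X O hO ⟶ X :=
  ⟨openSubι X.obj O⟩

theorem map_openSubι_mem (X : Sp S) (O : Set (Points X)) (y : Points (openSub X O)) :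
    Points.map (openSubι X O) y ∈ O := by
  have : Points.map (openSubι X O) y ∈ Set.range (Points.map (openSubι X O)) := ⟨y, rfl⟩
  rwa [range_points_map_openSubι] at this

/-- The points of `openSub X O'` in the open subspace `openSub X O`. -/
theorem mem_range_map_of_comp_eq {X : Sp S} {O O' : Set (Points X)} (k : openSub X O ⟶ openSub X O')
    (hk : k ≫ openSubι X O' = openSubι X O) (y : Points (openSub X O')) :
    y ∈ Set.range (Points.map k) ↔ Points.map (openSubι X O') y ∈ O := by
  have hιinj : Function.Injective (Points.map (openSubι X O')) := injective_points_of_mono _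
  constructor
  · rintro ⟨y₁, rfl⟩
    rw [← Points.map_comp, hk]
    exact map_openSubι_mem X O y₁
  · intro hy
    rw [← range_points_map_openSubι X O] at hy
    obtain ⟨y₁, hy₁⟩ := hy
    refine ⟨y₁, hιinj ?_⟩
    rw [← Points.map_comp, hk, hy₁]

/-- The elementary distinguished square of a step of a chain, with its fibre product. -/
theorem EStep.exists_square [QuasiSeparatedSpace ↥S] {X : Space S} (hqs : IsQuasiSeparatedSp X.obj)
    {O O' : Set (Points X.obj)} (hO : IsOpen O) (hO' : IsOpen O')
    (hqcO : IsQuasiCompactSp (openSub X.obj O)) (h : EStep X.obj O O') :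
    ∃ (A : Over S) (f : (yon S).obj A ⟶ openSub X.obj O') (k : openSub X.obj O ⟶ openSub X.obj O')
      (D : A.left.Opens) (p : (yon S).obj (Groth.Agent.H52.overOpen A D) ⟶ openSub X.obj O),
      IsAffine A.left ∧ k ≫ openSubι X.obj O' = openSubι X.obj O ∧ RepWith @IsOpenImmersion k ∧
      RepWith @Etale f ∧ IsElemDistSq k f ∧ IsCompact (D : Set ↥A.left) ∧
      IsPullback p ((yon S).map (Groth.Agent.H52.overOpenι A D)) k f := by
  have hsub := h.subset
  obtain ⟨A, f₀, hA, hf₀, hOO', hu⟩ := h
  have hι' := repWith_isOpenImmersion_openSubι X.obj O' hO'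
  have hι := repWith_isOpenImmersion_openSubι X.obj O hO
  have hιinj : Function.Injective (Points.map (openSubι X.obj O)) := injective_points_of_mono _
  have hι'inj : Function.Injective (Points.map (openSubι X.obj O')) := injective_points_of_mono _
  obtain ⟨k, hk⟩ := Groth.Agent.H53.exists_factor_of_range_subset (openSubι X.obj O') hι'
    (openSubι X.obj O) (by
      rw [range_points_map_openSubι, range_points_map_openSubι]
      exact hsub)
  have hkoi : RepWith @IsOpenImmersion k :=
    Groth.Agent.H53.repWith_of_comp_mono _ k (openSubι X.obj O') (by rw [hk]; exact hι)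
  obtain ⟨f, hf⟩ := (exists_factor_openSubι_iff (W := O') f₀).2 (fun t => by
    rw [hOO']
    exact Or.inr ⟨t, rfl⟩)
  have hfe : RepWith @Etale f :=
    Groth.Agent.H53.repWith_of_comp_mono _ f (openSubι X.obj O') (by rw [hf]; exact hf₀)
  have hkr := mem_range_map_of_comp_eq k hk
  -- the square is elementary distinguished
  have hEDS : IsElemDistSq k f := by
    refine isElemDistSq_of_unique_fieldPts (W₁ := openSp X O hO) (W₂ := openSp X O' hO') ⟨k⟩ hkoi f hfe ?_ ?_
    · intro y
      have hy : Points.map (openSubι X.obj O') y ∈ O' := by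
        have : Points.map (openSubι X.obj O') y ∈ Set.range (Points.map (openSubι X.obj O')) := ⟨y, rfl⟩
        rwa [range_points_map_openSubι] at this
      have hy' : Points.map (openSubι X.obj O') y ∈ O ∪ Set.range (Points.ofPt f₀) := hOO' ▸ hy
      rcases hy' with hy' | ⟨t, ht⟩
      · exact Or.inl ((hkr y).2 hy')
      · refine Or.inr ⟨t, hι'inj ?_⟩
        rw [Points.map_ofPt, hf, ht]
    · intro K _ str v₁ v₂ hv hno
      refine hu K str v₁ v₂ ?_ (fun s hs => hno s ?_)
      · rw [← hf, ← Category.assoc, ← Category.assoc, hv]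
      · change Points.ofPt ((yon S).map v₁ ≫ f) s ∈ Set.range (Points.map k)
        rw [hkr, Points.map_ofPt, Category.assoc, hf]
        exact hs
  -- the fibre product
  let D : A.left.Opens := ⟨Points.ofPt f₀ ⁻¹' O, hO.preimage (Points.continuous_ofPt f₀)⟩
  have hqoi : RepWith @IsOpenImmersion ((yon S).map (Groth.Agent.H52.overOpenι A D)) :=
    (repWith_yon_map_iff _ _).2 (inferInstanceAs (IsOpenImmersion D.ι))
  have hr : Set.range (Points.map ((yon S).map (Groth.Agent.H52.overOpenι A D))) =
      Points.map f ⁻¹' Set.range (Points.map k) := by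
    ext x
    obtain ⟨t, rfl⟩ := exists_ofScheme_eq A x
    rw [Set.mem_preimage, hkr, ← Points.ofPt_eq_map_ofScheme, Points.map_ofPt, hf]
    constructor
    · rintro ⟨w, hw⟩
      obtain ⟨d, rfl⟩ := exists_ofScheme_eq _ w
      rw [Groth.Agent.H52.points_map_ofScheme] at hw
      have := (Points.schemeEquiv A).injective hw
      rw [← this]
      exact d.2
    · intro ht
      refine ⟨Points.ofScheme _ (⟨t, ht⟩ : ↥D), ?_⟩
      rw [Groth.Agent.H52.points_map_ofScheme]
      rfl
  obtain ⟨p, hp⟩ := exists_isPullback_of_isOpenImmersion k hkoi f _ hqoi hr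
  -- compactness of `D`
  have hDc : IsCompact (D : Set ↥A.left) := by
    obtain ⟨U₀, p₀, hp₀e, hp₀s, hU₀⟩ := hqcO
    haveI : CompactSpace ↥U₀.left := hU₀
    haveI : CompactSpace ↥A.left := inferInstance
    have hEt : (RepWith (S := S) @Etale).IsMultiplicative := repWith_isMultiplicative _
    have hιe : RepWith @Etale (openSubι X.obj O) := by
      refine (repWith_iff _ _).2 ⟨hι.rep, fun U V g fst snd sq => ?_⟩
      have : IsOpenImmersion snd.left := hι.property g fst snd sq
      exact inferInstanceAs (Etale snd.left)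
    have hae : RepWith @Etale (p₀ ≫ openSubι X.obj O) := (RepWith @Etale).comp_mem _ _ hp₀e hιe
    have hrep := hae.rep
    have sq := hrep.isPullback' f₀
    haveI : CompactSpace ↥(hrep.pullback f₀).left :=
      Groth.Agent.S10185.result X hqs U₀ A (hrep.pullback f₀) (p₀ ≫ openSubι X.obj O) f₀
        (hrep.fst' f₀) (hrep.snd f₀) sq
    have hD : (D : Set ↥A.left) = Set.range (hrep.snd f₀).left := by
      ext t
      constructor
      · intro ht
        change Points.ofPt f₀ t ∈ O at ht
        rw [← range_points_map_openSubι X.obj O] at ht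
        obtain ⟨y, hy⟩ := ht
        obtain ⟨u, rfl⟩ := Groth.Agent.H53.surjective_ofPt_of_surjective p₀ hp₀s y
        rw [Points.map_ofPt] at hy
        obtain ⟨w, -, hw⟩ := exists_pt_of_isPullback_yon sq (Points.ofScheme U₀ u) t (by
          rw [← Points.ofPt_eq_map_ofScheme]
          exact hy)
        exact ⟨w, hw⟩
      · rintro ⟨w, rfl⟩
        change Points.ofPt f₀ ((hrep.snd f₀).left w) ∈ O
        rw [← Groth.Agent.H52.ofPt_yon_map_comp, ← sq.w, Groth.Agent.H52.ofPt_yon_map_comp,
          ← Points.map_ofPt]
        exact map_openSubι_mem X.obj O _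
    rw [hD]
    exact isCompact_range (hrep.snd f₀).left.continuous
  exact ⟨A, f, k, D, p, hA, hk, hkoi, hfe, hEDS, hDc, hp⟩

end Groth.Agent.Lib.Helper54
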