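import Groth.Agent.Lib.Helper54.EDS2
import Groth.Agent.Lib.Helper54.LocalST

/-!
# Induction along chains of elementary distinguished squares (helper54)
-/

set_option autoImplicit false
set_option backward.isDefEq.respectTransparency false
set_option linter.style.haveILetI false
universe u
open CategoryTheory CategoryTheory.Limits AlgebraicGeometry Topology
open AlgSp

namespace Groth.Agent.Lib.Helper54

variable {S : Scheme.{u}}

/-- A morphism from the empty scheme to an algebraic space. -/
noncomputable def emptyHom {F : Sp S} (hF : IsAlgSpace F) : (yon S).obj (emptyOver S) ⟶ F :=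
  (yon S).map (emptyOverTo hF.atlas.choose) ≫ hF.atlas.choose_spec.choose

theorem repWith_etale_of_isOpenImmersion {F G : Sp S} (h : F ⟶ G) (hh : RepWith @IsOpenImmersion h) :
    RepWith @Etale h := by
  refine (repWith_iff _ h).2 ⟨hh.rep, fun U V g fst snd sq => ?_⟩
  have : IsOpenImmersion snd.left := hh.property g fst snd sq
  exact inferInstanceAs (Etale snd.left)

/-- An open immersion which is surjective on points, together with the empty scheme, is an elementary distinguished
square. -/
theorem isElemDistSq_of_surjective {W₁ W₂ : Space S} (k : W₁ ⟶ W₂) (hk : RepWith @IsOpenImmersion k.hom)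
    (hs : Function.Surjective (Points.map k.hom)) :
    IsElemDistSq k.hom (emptyHom W₂.property) := by
  refine isElemDistSq_of_unique_fieldPts k hk _
    (repWith_etale_of_isOpenImmersion _ (repWith_isOpenImmersion_of_isEmpty W₂.property _))
    (fun y => Or.inl (hs y)) ?_
  intro K _ str v₁ v₂ _ _
  exact (IsEmpty.false (v₁.left (IsLocalRing.closedPoint K))).elim

theorem EChain.subset {X : Sp S} {O O' : Set (Points X)} (h : EChain X O O') : O ⊆ O' := by
  induction h with
  | refl => exact subset_rfl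
  | step _ hs ih => exact ih.trans hs.subset

/-- Factoring through the open subspace on an open set of points. -/
theorem exists_factor_openSpι {X W : Space S} (O : Set (Points X.obj)) (hO : IsOpen O) (g : W ⟶ X)
    (h : Set.range (Points.map g.hom) ⊆ O) : ∃ m : W ⟶ openSp X O hO, m ≫ openSpι X O hO = g := by
  obtain ⟨m, hm⟩ := Groth.Agent.H53.exists_factor_of_range_subset (openSubι X.obj O)
    (repWith_isOpenImmersion_openSubι X.obj O hO) g.hom (by
      rw [range_points_map_openSubι]
      exact h)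
  exact ⟨⟨m⟩, ObjectProperty.hom_ext _ hm⟩

/-- Enlarging a quasi-compact open subspace to the whole (quasi-compact and quasi-separated) space by elementary
distinguished squares with affine étale parts. -/
theorem induction_enlarge [QuasiSeparatedSpace ↥S] (X : Space S)
    (hXc : IsQuasiCompactSp X.obj) (hXs : IsQuasiSeparatedSp X.obj)
    (P : ∀ U : Space S, (U ⟶ X) → Prop)
    (W : Space S) (jW : W ⟶ X) (hjW : RepWith @IsOpenImmersion jW.hom)
    (hWc : IsQuasiCompactSp W.obj) (h1 : P W jW)
    (h2 : ∀ (W₁ W₂ V : Space S) (j₁ : W₁ ⟶ X) (j₂ : W₂ ⟶ X) (k : W₁ ⟶ W₂) (m : W ⟶ W₁) (f : V ⟶ W₂),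
      RepWith @IsOpenImmersion j₁.hom → RepWith @IsOpenImmersion j₂.hom →
      k ≫ j₂ = j₁ → m ≫ j₁ = jW →
      IsQuasiCompactSp W₁.obj → IsQuasiCompactSp W₂.obj →
      (∃ T : Over S, IsAffine T.left ∧ Nonempty ((yon S).obj T ≅ V.obj)) →
      IsElemDistSq k.hom f.hom → P W₁ j₁ → P W₂ j₂) :
    P X (𝟙 X) := by
  have hΩo : IsOpen (Set.range (Points.map jW.hom)) :=
    (Groth.Agent.H52.isOpenMap_points_of_repWith jW.hom @IsOpenImmersion
      (fun _ _ φ hφ => by have := hφ; exact φ.isOpenEmbedding.isOpenMap) hjW).isOpen_range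
  obtain ⟨Ω, hΩ, hΩo⟩ : ∃ Ω : Set (Points X.obj), Set.range (Points.map jW.hom) = Ω ∧ IsOpen Ω :=
    ⟨_, rfl, hΩo⟩
  have hchain := (exists_eChain X hXc hXs).union_left Ω
  have hempty : ∃ T : Over S, IsAffine T.left ∧ Nonempty ((yon S).obj T ≅ (yon S).obj (emptyOver S)) :=
    ⟨emptyOver S, inferInstance, ⟨Iso.refl _⟩⟩
  -- the start of the chain
  have hO₀ : IsOpen (Ω ∪ ∅) := hΩo.union isOpen_empty
  have hqc₀ : IsQuasiCompactSp (openSub X.obj (Ω ∪ ∅)) :=
    isQuasiCompactSp_openSub_of_cover X.property _ hO₀ (ι := Unit) (fun _ => W.obj) (fun _ => hWc)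
      (fun _ => jW.hom) (by rw [hΩ, Set.union_empty, Set.iUnion_const])
  have hP₀ : P (openSp X (Ω ∪ ∅) hO₀) (openSpι X (Ω ∪ ∅) hO₀) := by
    obtain ⟨k, hk⟩ := exists_factor_openSpι (Ω ∪ ∅) hO₀ jW (by rw [hΩ]; exact Set.subset_union_left)
    have hιinj : Function.Injective (Points.map (openSubι X.obj (Ω ∪ ∅))) := injective_points_of_mono _
    have hkoi : RepWith @IsOpenImmersion k.hom :=
      Groth.Agent.H53.repWith_of_comp_mono _ k.hom (openSubι X.obj (Ω ∪ ∅)) (by
        have : k.hom ≫ openSubι X.obj (Ω ∪ ∅) = jW.hom := congrArg (fun m => m.hom) hk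
        rw [this]
        exact hjW)
    have hks : Function.Surjective (Points.map k.hom) := by
      intro y
      have hy := map_openSubι_mem X.obj (Ω ∪ ∅) y
      have hy' : Points.map (openSubι X.obj (Ω ∪ ∅)) y ∈ Set.range (Points.map jW.hom) := by
        rw [hΩ]
        rcases hy with hy | hy
        · exact hy
        · exact hy.elim
      obtain ⟨w, hw⟩ := hy'
      refine ⟨w, hιinj ?_⟩
      rw [← hw, ← hk]
      exact (Points.map_comp _ _ _).symm
    exact h2 W (openSp X (Ω ∪ ∅) hO₀) ((ofScheme S).obj (emptyOver S)) jW (openSpι X (Ω ∪ ∅) hO₀) k (𝟙 W)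
      ⟨emptyHom (openSp X (Ω ∪ ∅) hO₀).property⟩ hjW (repWith_isOpenImmersion_openSubι _ _ hO₀) hk
      (Category.id_comp _) hWc hqc₀ hempty (isElemDistSq_of_surjective k hkoi hks) h1
  -- along the chain
  have key : ∀ O O' : Set (Points X.obj), EChain X.obj O O' → Ω ⊆ O → ∀ (hO : IsOpen O),
      IsQuasiCompactSp (openSub X.obj O) → P (openSp X O hO) (openSpι X O hO) →
      ∀ hO' : IsOpen O', P (openSp X O' hO') (openSpι X O' hO') := by
    intro O O' hc
    induction hc with
    | refl => exact fun _ _ _ h _ => h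
    | @step O' O'' hc hs ih =>
      intro hΩO hO hqc hP hO''
      have hO' := hc.isOpen hO
      have hqc' := hc.qc X.property hO hqc
      have hqc'' := hs.qc X.property hO' hqc'
      have hP' := ih hΩO hO hqc hP hO'
      obtain ⟨A, f, k, D, p, hA, hk, hkoi, hfe, hEDS, -, -⟩ := hs.exists_square hXs hO' hO'' hqc'
      obtain ⟨m, hm⟩ := exists_factor_openSpι O' hO' jW (by rw [hΩ]; exact hΩO.trans hc.subset)
      exact h2 (openSp X O' hO') (openSp X O'' hO'') ((ofScheme S).obj A) (openSpι X O' hO')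
        (openSpι X O'' hO'') ⟨k⟩ m ⟨f⟩ (repWith_isOpenImmersion_openSubι _ _ hO')
        (repWith_isOpenImmersion_openSubι _ _ hO'') (ObjectProperty.hom_ext _ hk) hm hqc' hqc''
        ⟨A, hA, ⟨Iso.refl _⟩⟩ hEDS hP'
  have hO₁ : IsOpen (Ω ∪ Set.univ) := hΩo.union isOpen_univ
  have hP₁ := key _ _ hchain Set.subset_union_left hO₀ hqc₀ hP₀ hO₁
  have hqc₁ := hchain.qc X.property hO₀ hqc₀
  -- the end of the chain
  obtain ⟨m, hm⟩ := exists_factor_openSpι (Ω ∪ Set.univ) hO₁ jW (by rw [hΩ]; exact Set.subset_union_left)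
  have hs : Function.Surjective (Points.map (openSpι X (Ω ∪ Set.univ) hO₁).hom) := by
    intro y
    have : y ∈ Set.range (Points.map (openSubι X.obj (Ω ∪ Set.univ))) := by
      rw [range_points_map_openSubι]
      exact Or.inr trivial
    exact this
  have hid : RepWith @IsOpenImmersion (𝟙 X : X ⟶ X).hom := by
    have hM : (RepWith (S := S) @IsOpenImmersion).IsMultiplicative := repWith_isMultiplicative _
    exact (RepWith @IsOpenImmersion).id_mem X.obj
  exact h2 (openSp X (Ω ∪ Set.univ) hO₁) X ((ofScheme S).obj (emptyOver S)) (openSpι X _ hO₁) (𝟙 X)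
    (openSpι X _ hO₁) m ⟨emptyHom X.property⟩ (repWith_isOpenImmersion_openSubι _ _ hO₁) hid
    (Category.comp_id _) hm hqc₁ hXc hempty
    (isElemDistSq_of_surjective _ (repWith_isOpenImmersion_openSubι _ _ hO₁) hs) hP₁

end Groth.Agent.Lib.Helper54
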