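import Groth.Agent.Lib.Helper54.EDS3
import Groth.Agent.H52.ThickLift
import Groth.Agent.H53.QSDecentMor

/-!
# The induction principle on the site of spaces étale over an algebraic space (helper54)
-/

set_option autoImplicit false
set_option backward.isDefEq.respectTransparency false
set_option linter.style.haveILetI false
universe u
open CategoryTheory CategoryTheory.Limits AlgebraicGeometry Topology
open AlgSp

namespace Groth.Agent.Lib.Helper54

variable {S : Scheme.{u}} {X : Space S}

/-- An object of the site of spaces étale over `X`. -/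
noncomputable def mkE (U : Space S) (g : U ⟶ X) (h : IsEtaleMor g.hom) : EtSpOver X := ⟨Over.mk g, h⟩

/-- A morphism of the site of spaces étale over `X`. -/
noncomputable def mkEHom {U U' : Space S} {g : U ⟶ X} {g' : U' ⟶ X} {h : IsEtaleMor g.hom}
    {h' : IsEtaleMor g'.hom} (l : U ⟶ U') (w : l ≫ g' = g) : mkE U g h ⟶ mkE U' g' h' :=
  ObjectProperty.homMk (Over.homMk l w)

/-- The object of a scheme étale over `X`. -/
noncomputable def schE (T : Over S) (g : (yon S).obj T ⟶ X.obj) (hg : IsEtaleMor g) : EtSpOver X :=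
  mkE ((ofScheme S).obj T) ⟨g⟩ hg

theorem isEtaleMor_overOpen_comp (T : Over S) (g : (yon S).obj T ⟶ X.obj) (hg : IsEtaleMor g)
    (D : T.left.Opens) : IsEtaleMor ((yon S).map (Groth.Agent.H52.overOpenι T D) ≫ g) :=
  isEtaleMor_comp (isEtaleMor_of_repWith_isOpenImmersion
    ((repWith_yon_map_iff _ _).2 (inferInstanceAs (IsOpenImmersion D.ι)))) hg

/-- The object of an open subscheme of a scheme étale over `X`. -/
noncomputable def qaE (T : Over S) (g : (yon S).obj T ⟶ X.obj) (hg : IsEtaleMor g) (D : T.left.Opens) :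
    EtSpOver X :=
  schE (Groth.Agent.H52.overOpen T D) ((yon S).map (Groth.Agent.H52.overOpenι T D) ≫ g)
    (isEtaleMor_overOpen_comp T g hg D)

/-- The inclusions among the objects of open subschemes. -/
noncomputable def qaEHom (T : Over S) (g : (yon S).obj T ⟶ X.obj) (hg : IsEtaleMor g) {D D' : T.left.Opens}
    (h : D ≤ D') : qaE T g hg D ⟶ qaE T g hg D' :=
  mkEHom ⟨(yon S).map (Groth.Agent.H52.overOpenHom T h)⟩ (by
    apply ObjectProperty.hom_ext
    change (yon S).map (Groth.Agent.H52.overOpenHom T h) ≫ (yon S).map (Groth.Agent.H52.overOpenι T D') ≫ g =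
      (yon S).map (Groth.Agent.H52.overOpenι T D) ≫ g
    rw [← Category.assoc, ← Functor.map_comp, Groth.Agent.H52.overOpenHom_ι])

theorem overOpenHom_left_apply (T : Over S) {D D' : T.left.Opens} (h : D ≤ D')
    (t : ↥(Groth.Agent.H52.overOpen T D).left) :
    D'.ι ((Groth.Agent.H52.overOpenHom T h).left t) = D.ι t := by
  have := congrArg (fun φ : (Groth.Agent.H52.overOpen T D) ⟶ T => φ.left t)
    (Groth.Agent.H52.overOpenHom_ι T h)
  exact this

theorem mem_range_map_yon_overOpenHom (T : Over S) {D D' : T.left.Opens} (h : D ≤ D')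
    (t : ↥(Groth.Agent.H52.overOpen T D').left) :
    Points.ofScheme (Groth.Agent.H52.overOpen T D') t ∈
      Set.range (Points.map ((yon S).map (Groth.Agent.H52.overOpenHom T h))) ↔ D'.ι t ∈ D := by
  constructor
  · rintro ⟨w, hw⟩
    obtain ⟨d, rfl⟩ := exists_ofScheme_eq _ w
    rw [Groth.Agent.H52.points_map_ofScheme] at hw
    have := (Points.schemeEquiv (Groth.Agent.H52.overOpen T D')).injective hw
    rw [← this, overOpenHom_left_apply]
    have hd : D.ι d ∈ Set.range D.ι := ⟨d, rfl⟩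
    rw [Scheme.Opens.range_ι] at hd
    exact hd
  · intro ht
    have ht' : D'.ι t ∈ Set.range D.ι := by
      rw [Scheme.Opens.range_ι]
      exact ht
    obtain ⟨d, hd⟩ := ht'
    refine ⟨Points.ofScheme (Groth.Agent.H52.overOpen T D) d, ?_⟩
    rw [Groth.Agent.H52.points_map_ofScheme]
    congr 1
    apply D'.ι.isOpenEmbedding.injective
    rw [overOpenHom_left_apply, hd]

/-- The elementary distinguished square of two open subschemes. -/
theorem isElemDistSq_overOpen (T : Over S) (M N : T.left.Opens) :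
    IsElemDistSq ((yon S).map (Groth.Agent.H52.overOpenHom T (le_sup_left : M ≤ M ⊔ N)))
      ((yon S).map (Groth.Agent.H52.overOpenHom T (le_sup_right : N ≤ M ⊔ N))) := by
  have hoi : ∀ {D D' : T.left.Opens} (h : D ≤ D'),
      RepWith @IsOpenImmersion ((yon S).map (Groth.Agent.H52.overOpenHom T h)) := fun h =>
    (repWith_yon_map_iff _ _).2 (inferInstanceAs (IsOpenImmersion (T.left.homOfLE h)))
  refine isElemDistSq_of_unique_fieldPts
    (W₁ := (ofScheme S).obj (Groth.Agent.H52.overOpen T M))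
    (W₂ := (ofScheme S).obj (Groth.Agent.H52.overOpen T (M ⊔ N)))
    ⟨(yon S).map (Groth.Agent.H52.overOpenHom T (le_sup_left : M ≤ M ⊔ N))⟩ (hoi _)
    ((yon S).map (Groth.Agent.H52.overOpenHom T (le_sup_right : N ≤ M ⊔ N)))
    (repWith_etale_of_isOpenImmersion _ (hoi _)) ?_ ?_
  · intro y
    obtain ⟨t, rfl⟩ := exists_ofScheme_eq _ y
    have ht0 : (M ⊔ N).ι t ∈ Set.range (M ⊔ N).ι := ⟨t, rfl⟩
    rw [Scheme.Opens.range_ι] at ht0
    rcases (ht0 : (M ⊔ N).ι t ∈ (M : Set ↥T.left) ∪ (N : Set ↥T.left)) with ht | ht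
    · exact Or.inl ((mem_range_map_yon_overOpenHom T _ t).2 ht)
    · right
      obtain ⟨w, hw⟩ := (mem_range_map_yon_overOpenHom T (le_sup_right : N ≤ M ⊔ N) t).2 ht
      obtain ⟨d, rfl⟩ := exists_ofScheme_eq _ w
      exact ⟨d, by rw [Points.ofPt_eq_map_ofScheme]; exact hw⟩
  · intro K _ str v₁ v₂ hv _
    haveI : Mono (Groth.Agent.H52.overOpenHom T (le_sup_right : N ≤ M ⊔ N)) := by
      have : Mono ((Over.forget S).map (Groth.Agent.H52.overOpenHom T (le_sup_right : N ≤ M ⊔ N))) := by
        change Mono (T.left.homOfLE (le_sup_right : N ≤ M ⊔ N))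
        infer_instance
      exact (Over.forget S).mono_of_mono_map this
    rw [← Functor.map_comp, ← Functor.map_comp] at hv
    exact (cancel_mono (Groth.Agent.H52.overOpenHom T (le_sup_right : N ≤ M ⊔ N))).1
      ((yon S).map_injective hv)

theorem overOpenHom_comp (T : Over S) {D D' D'' : T.left.Opens} (h : D ≤ D') (h' : D' ≤ D'') :
    Groth.Agent.H52.overOpenHom T h ≫ Groth.Agent.H52.overOpenHom T h' =
      Groth.Agent.H52.overOpenHom T (h.trans h') := by
  rw [← cancel_mono (Groth.Agent.H52.overOpenι T D''), Category.assoc, Groth.Agent.H52.overOpenHom_ι,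
    Groth.Agent.H52.overOpenHom_ι, Groth.Agent.H52.overOpenHom_ι]

/-- The fibre product of two open subschemes. -/
theorem isPullback_overOpen (T : Over S) (M N : T.left.Opens) :
    IsPullback ((yon S).map (Groth.Agent.H52.overOpenHom T (inf_le_left : M ⊓ N ≤ M)))
      ((yon S).map (Groth.Agent.H52.overOpenHom T (inf_le_right : M ⊓ N ≤ N)))
      ((yon S).map (Groth.Agent.H52.overOpenHom T (le_sup_left : M ≤ M ⊔ N)))
      ((yon S).map (Groth.Agent.H52.overOpenHom T (le_sup_right : N ≤ M ⊔ N))) := by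
  have hoi : ∀ {D D' : T.left.Opens} (h : D ≤ D'),
      RepWith @IsOpenImmersion ((yon S).map (Groth.Agent.H52.overOpenHom T h)) := fun h =>
    (repWith_yon_map_iff _ _).2 (inferInstanceAs (IsOpenImmersion (T.left.homOfLE h)))
  have hr : Set.range (Points.map ((yon S).map (Groth.Agent.H52.overOpenHom T (inf_le_right : M ⊓ N ≤ N)))) =
      Points.map ((yon S).map (Groth.Agent.H52.overOpenHom T (le_sup_right : N ≤ M ⊔ N))) ⁻¹'
        Set.range (Points.map ((yon S).map (Groth.Agent.H52.overOpenHom T (le_sup_left : M ≤ M ⊔ N)))) := by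
    ext x
    obtain ⟨t, rfl⟩ := exists_ofScheme_eq _ x
    rw [Set.mem_preimage, Groth.Agent.H52.points_map_ofScheme, mem_range_map_yon_overOpenHom,
      mem_range_map_yon_overOpenHom, overOpenHom_left_apply]
    have ht : N.ι t ∈ Set.range N.ι := ⟨t, rfl⟩
    rw [Scheme.Opens.range_ι] at ht
    exact ⟨fun h => h.1, fun h => ⟨h, ht⟩⟩
  obtain ⟨p₀, hp₀⟩ := exists_isPullback_of_isOpenImmersion _ (hoi (le_sup_left : M ≤ M ⊔ N))
    ((yon S).map (Groth.Agent.H52.overOpenHom T (le_sup_right : N ≤ M ⊔ N)))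
    ((yon S).map (Groth.Agent.H52.overOpenHom T (inf_le_right : M ⊓ N ≤ N))) (hoi _) hr
  haveI := mono_of_isOpenImmersion _ (hoi (le_sup_left : M ≤ M ⊔ N))
  have : p₀ = (yon S).map (Groth.Agent.H52.overOpenHom T (inf_le_left : M ⊓ N ≤ M)) := by
    rw [← cancel_mono ((yon S).map (Groth.Agent.H52.overOpenHom T (le_sup_left : M ≤ M ⊔ N))), hp₀.w,
      ← Functor.map_comp, ← Functor.map_comp, overOpenHom_comp, overOpenHom_comp]
  rw [← this]
  exact hp₀

section Family

variable (B P : EtSpOver X → Prop)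
  (h2 : ∀ (W U : EtSpOver X) (j : U ⟶ W), B W → RepWith @IsOpenImmersion j.hom.left.hom →
    IsQuasiCompactSp U.obj.left.obj → B U)
  (h3 : ∀ (V : EtSpOver X) (T : Over S), IsAffine T.left →
    Nonempty ((yon S).obj T ≅ V.obj.left.obj) → B V ∧ P V)
  (h4 : ∀ (W U V UV : EtSpOver X) (j : U ⟶ W) (f : V ⟶ W) (p : UV ⟶ U) (q : UV ⟶ V),
    B W → IsQuasiCompactSp U.obj.left.obj →
    (∃ T : Over S, IsAffine T.left ∧ Nonempty ((yon S).obj T ≅ V.obj.left.obj)) →
    IsElemDistSq j.hom.left.hom f.hom.left.hom →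
    IsPullback p.hom.left.hom q.hom.left.hom j.hom.left.hom f.hom.left.hom →
    P U → P V → P UV → P W)

include h2 h3 in
theorem qa_B (T : Over S) [IsAffine T.left] (g : (yon S).obj T ⟶ X.obj) (hg : IsEtaleMor g)
    (D : T.left.Opens) (hD : IsCompact (D : Set ↥T.left)) : B (qaE T g hg D) := by
  have hTop := (h3 (qaE T g hg ⊤) (Groth.Agent.H52.overOpen T ⊤) (isAffineOpen_top T.left) ⟨Iso.refl _⟩).1
  refine h2 _ _ (qaEHom T g hg (le_top : D ≤ ⊤)) hTop ?_ ?_
  · exact (repWith_yon_map_iff _ _).2 (inferInstanceAs (IsOpenImmersion (T.left.homOfLE le_top)))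
  · haveI : CompactSpace ↥(Groth.Agent.H52.overOpen T D).left := isCompact_iff_compactSpace.mp hD
    exact Groth.Agent.H52.isQuasiCompactSp_yon _

include h2 h3 h4 in
theorem qa_P_aux (T : Over S) [IsAffine T.left] (g : (yon S).obj T ⟶ X.obj) (hg : IsEtaleMor g) :
    ∀ (n : ℕ) (s : Finset Γ(T.left, ⊤)), s.card ≤ n → P (qaE T g hg (s.sup T.left.basicOpen)) := by
  classical
  have hempty : P (qaE T g hg ⊥) :=
    (h3 (qaE T g hg ⊥) (Groth.Agent.H52.overOpen T ⊥) (isAffineOpen_bot T.left) ⟨Iso.refl _⟩).2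
  have hcpt : ∀ s : Finset Γ(T.left, ⊤), IsCompact ((s.sup T.left.basicOpen : T.left.Opens) : Set ↥T.left) := by
    intro s
    rw [TopologicalSpace.Opens.coe_finset_sup, Finset.sup_set_eq_biUnion]
    exact s.finite_toSet.isCompact_biUnion fun i _ => ((isAffineOpen_top T.left).basicOpen i).isCompact
  intro n
  induction n with
  | zero =>
    intro s hs
    have : s = ∅ := Finset.card_eq_zero.1 (Nat.le_zero.1 hs)
    rw [this, Finset.sup_empty]
    exact hempty
  | succ n ih =>
    intro s hs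
    by_cases hs0 : s = ∅
    · rw [hs0, Finset.sup_empty]
      exact hempty
    obtain ⟨r, hr⟩ := Finset.nonempty_iff_ne_empty.2 hs0
    obtain ⟨M, hM⟩ : ∃ M : T.left.Opens, M = (s.erase r).sup T.left.basicOpen := ⟨_, rfl⟩
    obtain ⟨N, hN⟩ : ∃ N : T.left.Opens, N = T.left.basicOpen r := ⟨_, rfl⟩
    have hcard : (s.erase r).card ≤ n := by
      rw [Finset.card_erase_of_mem hr]
      omega
    have hsup : s.sup T.left.basicOpen = M ⊔ N := by
      rw [← Finset.insert_erase hr, Finset.sup_insert, hM, hN, sup_comm]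
    have hinf : M ⊓ N = ((s.erase r).image (fun i => i * r)).sup T.left.basicOpen := by
      rw [Finset.sup_image, hM, hN, Finset.sup_inf_distrib_right]
      congr 1
      ext i : 1
      exact (Scheme.basicOpen_mul _ _ _).symm
    have hMc : IsCompact (M : Set ↥T.left) := hM ▸ hcpt _
    have hPM : P (qaE T g hg M) := hM ▸ ih _ hcard
    have hPMN : P (qaE T g hg (M ⊓ N)) := hinf ▸ ih _ (Finset.card_image_le.trans hcard)
    have hNaff : IsAffine (Groth.Agent.H52.overOpen T N).left := hN ▸ (isAffineOpen_top T.left).basicOpen r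
    have hPN : P (qaE T g hg N) := (h3 (qaE T g hg N) (Groth.Agent.H52.overOpen T N) hNaff ⟨Iso.refl _⟩).2
    rw [hsup]
    refine h4 (qaE T g hg (M ⊔ N)) (qaE T g hg M) (qaE T g hg N) (qaE T g hg (M ⊓ N))
      (qaEHom T g hg le_sup_left) (qaEHom T g hg le_sup_right) (qaEHom T g hg inf_le_left)
      (qaEHom T g hg inf_le_right) ?_ ?_ ⟨_, hNaff, ⟨Iso.refl _⟩⟩ (isElemDistSq_overOpen T M N)
      (isPullback_overOpen T M N) hPM hPN hPMN
    · exact qa_B B P h2 h3 T g hg _ (hsup ▸ hcpt s)
    · haveI : CompactSpace ↥(Groth.Agent.H52.overOpen T M).left := isCompact_iff_compactSpace.mp hMc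
      exact Groth.Agent.H52.isQuasiCompactSp_yon _

include h2 h3 h4 in
/-- The family contains, and the property holds for, the quasi-compact open subschemes of affine schemes étale over
`X`. -/
theorem qa_BP (T : Over S) [IsAffine T.left] (g : (yon S).obj T ⟶ X.obj) (hg : IsEtaleMor g)
    (D : T.left.Opens) (hD : IsCompact (D : Set ↥T.left)) : B (qaE T g hg D) ∧ P (qaE T g hg D) := by
  refine ⟨qa_B B P h2 h3 T g hg D hD, ?_⟩
  obtain ⟨s, hs, hDs⟩ := (isCompact_and_isOpen_iff_finite_and_eq_biUnion_basicOpen (X := T.left)).1 ⟨hD, D.isOpen⟩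
  have : D = hs.toFinset.sup T.left.basicOpen := by
    apply TopologicalSpace.Opens.ext
    rw [TopologicalSpace.Opens.coe_finset_sup, Finset.sup_set_eq_biUnion, hDs]
    simp
  rw [this]
  exact qa_P_aux B P h2 h3 h4 T g hg _ _ le_rfl

/-- Monomorphisms into quasi-separated spaces have quasi-separated source. -/
theorem isQuasiSeparatedSp_of_mono [QuasiSeparatedSpace ↥S] {F G : Sp S} (hF : IsAlgSpace F) (hG : IsAlgSpace G)
    (j : F ⟶ G) [Mono j] (h : IsQuasiSeparatedSp G) : IsQuasiSeparatedSp F := by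
  refine Groth.Agent.H52.isQuasiSeparatedSp_of_affine_pullback_compact hF
    (fun U V P a b fst snd hU hV sq => ?_)
  haveI := hU
  haveI := hV
  exact Groth.Agent.S10185.result ⟨G, hG⟩ h U V P (a ≫ j) (b ≫ j) fst snd
    (Groth.Agent.H52.isPullback_comp_mono j sq)

include h2 h3 h4 in
/-- The induction principle for a family of quasi-compact and quasi-separated spaces étale over `X`. -/
theorem induction_family [QuasiSeparatedSpace ↥S]
    (h1 : ∀ W, B W → IsQuasiCompactSp W.obj.left.obj ∧ IsQuasiSeparatedSp W.obj.left.obj) :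
    ∀ W : EtSpOver X, B W → P W := by
  intro W hBW
  obtain ⟨hWc, hWs⟩ := h1 W hBW
  obtain ⟨Y, hY⟩ : ∃ Y : Space S, Y = W.obj.left := ⟨_, rfl⟩
  obtain ⟨gW, hgW⟩ : ∃ gW : W.obj.left ⟶ X, gW = W.obj.hom := ⟨_, rfl⟩
  have hWet : IsEtaleMor gW.hom := hgW ▸ W.property
  have hsubet : ∀ (O : Set (Points W.obj.left.obj)) (hO : IsOpen O),
      IsEtaleMor (openSpι W.obj.left O hO ≫ gW).hom := fun O hO =>
    isEtaleMor_comp (isEtaleMor_of_repWith_isOpenImmersion (repWith_isOpenImmersion_openSubι _ _ hO)) hWet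
  -- the objects of the open subspaces
  let subE : ∀ (O : Set (Points W.obj.left.obj)) (hO : IsOpen O), EtSpOver X := fun O hO =>
    mkE (openSp W.obj.left O hO) (openSpι W.obj.left O hO ≫ gW) (hsubet O hO)
  let subι : ∀ (O : Set (Points W.obj.left.obj)) (hO : IsOpen O), subE O hO ⟶ W := fun O hO =>
    ObjectProperty.homMk (Over.homMk (openSpι W.obj.left O hO) (by rw [← hgW]; rfl))
  have hsubB : ∀ (O : Set (Points W.obj.left.obj)) (hO : IsOpen O),
      IsQuasiCompactSp (openSub W.obj.left.obj O) → B (subE O hO) := fun O hO hqc =>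
    h2 W (subE O hO) (subι O hO) hBW (repWith_isOpenImmersion_openSubι _ _ hO) hqc
  -- the empty object
  have hemptyet : IsEtaleMor (emptyHom W.obj.left.property ≫ gW.hom) :=
    isEtaleMor_comp (isEtaleMor_of_repWith_isOpenImmersion
      (repWith_isOpenImmersion_of_isEmpty W.obj.left.property _)) hWet
  obtain ⟨E, hE⟩ : ∃ E : EtSpOver X, E = schE (emptyOver S) (emptyHom W.obj.left.property ≫ gW.hom) hemptyet :=
    ⟨_, rfl⟩
  have hEaff : ∃ T : Over S, IsAffine T.left ∧ Nonempty ((yon S).obj T ≅ E.obj.left.obj) :=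
    ⟨emptyOver S, inferInstance, ⟨hE ▸ Iso.refl _⟩⟩
  have hPE : P E := (h3 E (emptyOver S) inferInstance ⟨hE ▸ Iso.refl _⟩).2
  -- along the chain
  have key : ∀ O O' : Set (Points W.obj.left.obj), EChain W.obj.left.obj O O' → ∀ (hO : IsOpen O),
      IsQuasiCompactSp (openSub W.obj.left.obj O) → P (subE O hO) →
      ∀ hO' : IsOpen O', P (subE O' hO') := by
    intro O O' hc
    induction hc with
    | refl => exact fun _ _ h _ => h
    | @step O' O'' hc hs ih =>
      intro hO hqc hP hO''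
      have hO' := hc.isOpen hO
      have hqc' := hc.qc W.obj.left.property hO hqc
      have hqc'' := hs.qc W.obj.left.property hO' hqc'
      have hP' := ih hO hqc hP hO'
      obtain ⟨A, f, k, D, p, hA, hk, hkoi, hfe, hEDS, hDc, hpb⟩ := hs.exists_square hWs hO' hO'' hqc'
      haveI := hA
      obtain ⟨gA, hgA⟩ : ∃ gA : (yon S).obj A ⟶ X.obj,
        gA = f ≫ (openSpι W.obj.left O'' hO'' ≫ gW).hom := ⟨_, rfl⟩
      have hgAet : IsEtaleMor gA := by
        rw [hgA]
        exact isEtaleMor_comp (isEtaleMor_of_repWith f hfe) (hsubet O'' hO'')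
      have hVBP := h3 (schE A gA hgAet) A hA ⟨Iso.refl _⟩
      have hUVBP := qa_BP B P h2 h3 h4 A gA hgAet D hDc
      let j : subE O' hO' ⟶ subE O'' hO'' := mkEHom ⟨k⟩ (by
        apply ObjectProperty.hom_ext
        change k ≫ openSubι W.obj.left.obj O'' ≫ gW.hom = openSubι W.obj.left.obj O' ≫ gW.hom
        rw [← Category.assoc, hk])
      let f' : schE A gA hgAet ⟶ subE O'' hO'' := mkEHom ⟨f⟩ (by
        apply ObjectProperty.hom_ext
        exact hgA.symm)
      let p' : qaE A gA hgAet D ⟶ subE O' hO' := mkEHom ⟨p⟩ (by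
        apply ObjectProperty.hom_ext
        change p ≫ openSubι W.obj.left.obj O' ≫ gW.hom = (yon S).map (Groth.Agent.H52.overOpenι A D) ≫ gA
        rw [hgA, ← hk, ← Category.assoc, ← Category.assoc, hpb.w]
        simp only [Category.assoc]
        rfl)
      let q' : qaE A gA hgAet D ⟶ schE A gA hgAet := mkEHom ⟨(yon S).map (Groth.Agent.H52.overOpenι A D)⟩ rfl
      exact h4 (subE O'' hO'') (subE O' hO') (schE A gA hgAet) (qaE A gA hgAet D) j f' p' q'
        (hsubB O'' hO'' hqc'') hqc' ⟨A, hA, ⟨Iso.refl _⟩⟩ hEDS hpb hP' hVBP.2 hUVBP.2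
  -- the start of the chain
  have hP₀ : P (subE ∅ isOpen_empty) := by
    obtain ⟨e⟩ := nonempty_iso_yon_emptyOver (isAlgSpace_openSub W.obj.left.property ∅ isOpen_empty)
      (isEmpty_points_openSub_empty W.obj.left.obj)
    exact (h3 (subE ∅ isOpen_empty) (emptyOver S) inferInstance ⟨e⟩).2
  have hP₁ := key _ _ (exists_eChain W.obj.left hWc hWs) isOpen_empty
    (isQuasiCompactSp_openSub_empty W.obj.left.property) hP₀ isOpen_univ
  have hqc₁ := (exists_eChain W.obj.left hWc hWs).qc W.obj.left.property isOpen_empty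
    (isQuasiCompactSp_openSub_empty W.obj.left.property)
  -- the end of the chain
  have hs : Function.Surjective (Points.map (openSpι W.obj.left Set.univ isOpen_univ).hom) := by
    intro y
    have : y ∈ Set.range (Points.map (openSubι W.obj.left.obj Set.univ)) := by
      rw [range_points_map_openSubι]
      trivial
    exact this
  have hιoi := repWith_isOpenImmersion_openSubι W.obj.left.obj Set.univ isOpen_univ
  have hidoi : RepWith @IsOpenImmersion (𝟙 ((yon S).obj (emptyOver S))) := by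
    have hM : (RepWith (S := S) @IsOpenImmersion).IsMultiplicative := repWith_isMultiplicative _
    exact (RepWith @IsOpenImmersion).id_mem _
  obtain ⟨p₀, hp₀⟩ := exists_isPullback_of_isOpenImmersion (openSubι W.obj.left.obj Set.univ) hιoi
    (emptyHom W.obj.left.property) (𝟙 _) hidoi (by
      ext x
      simp only [Set.mem_range, Set.mem_preimage]
      exact ⟨fun _ => hs _, fun _ => ⟨x, by rw [Points.map_id]⟩⟩)
  subst hE
  let fE : schE (emptyOver S) (emptyHom W.obj.left.property ≫ gW.hom) hemptyet ⟶ W :=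
    ObjectProperty.homMk (Over.homMk ⟨emptyHom W.obj.left.property⟩ (by rw [← hgW]; rfl))
  let pE : schE (emptyOver S) (emptyHom W.obj.left.property ≫ gW.hom) hemptyet ⟶ subE Set.univ isOpen_univ :=
    mkEHom ⟨p₀⟩ (by
      apply ObjectProperty.hom_ext
      change p₀ ≫ openSubι W.obj.left.obj Set.univ ≫ gW.hom = emptyHom W.obj.left.property ≫ gW.hom
      rw [← Category.assoc, hp₀.w, Category.id_comp])
  exact h4 W (subE Set.univ isOpen_univ) _ _ (subι Set.univ isOpen_univ) fE pE (𝟙 _) hBW hqc₁ hEaff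
    (isElemDistSq_of_surjective (openSpι W.obj.left Set.univ isOpen_univ) hιoi hs) hp₀ hP₁ hPE hPE

end Family

end Groth.Agent.Lib.Helper54
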