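import Groth.Agent.Lib.Helper54.EDS4
import Groth.Agent.Lib.Helper51.YonCoprod
import Groth.Agent.S10554
import Groth.Agent.H53.NoSpecNoeth
import Groth.Agent.H52.ImmOpen

/-!
# Enlarging a dense open subspace of a Noetherian algebraic space by an elementary distinguished square (helper54)
-/

set_option autoImplicit false
set_option backward.isDefEq.respectTransparency false
set_option linter.style.haveILetI false
universe u
open CategoryTheory CategoryTheory.Limits AlgebraicGeometry Topology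
open AlgSp

namespace Groth.Agent.Lib.Helper54

variable {S : Scheme.{u}}

/-- The first step of a chain leaving a given set. -/
theorem EChain.exists_step {X : Sp S} {O O' : Set (Points X)} (h : EChain X O O') (Ω : Set (Points X))
    (hO : O ⊆ Ω) (hO' : ¬ O' ⊆ Ω) :
    ∃ O₁ O₂, EChain X O O₁ ∧ EStep X O₁ O₂ ∧ O₁ ⊆ Ω ∧ ¬ O₂ ⊆ Ω := by
  induction h with
  | refl => exact absurd hO hO'
  | @step O' O'' hc hs ih =>
    by_cases hmid : O' ⊆ Ω
    · exact ⟨O', O'', hc, hs, hmid, hO'⟩
    · exact ih hmid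

/-! ### Binary coproducts of schemes over `S` -/

/-- The pair of schemes over `S`. -/
def pairOver (A V : Over S) : ULift.{u} Bool → Over S := fun b => bif b.down then A else V

/-- The coproduct of two schemes over `S`. -/
noncomputable def coprodOver (A V : Over S) : Over S :=
  Groth.Agent.Lib.Helper51.sigmaOver (fun b => (pairOver A V b).left) (fun b => (pairOver A V b).hom)

/-- The coprojections. -/
noncomputable def coprodOverι (A V : Over S) (b : ULift.{u} Bool) : pairOver A V b ⟶ coprodOver A V :=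
  Groth.Agent.Lib.Helper51.sigmaOverι (fun b => (pairOver A V b).left) (fun b => (pairOver A V b).hom) b

noncomputable def coprodOverInl (A V : Over S) : A ⟶ coprodOver A V := coprodOverι A V ⟨true⟩

noncomputable def coprodOverInr (A V : Over S) : V ⟶ coprodOver A V := coprodOverι A V ⟨false⟩

instance isAffine_coprodOver (A V : Over S) [IsAffine A.left] [IsAffine V.left] :
    IsAffine (coprodOver A V).left := by
  haveI : ∀ b : ULift.{u} Bool, IsAffine (pairOver A V b).left := by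
    rintro ⟨_ | _⟩
    · exact inferInstanceAs (IsAffine V.left)
    · exact inferInstanceAs (IsAffine A.left)
  exact inferInstanceAs (IsAffine (∐ fun b : ULift.{u} Bool => (pairOver A V b).left))

/-- The pair of morphisms. -/
def pairHom {A V : Over S} {X : Sp S} (f₁ : (yon S).obj A ⟶ X) (f₂ : (yon S).obj V ⟶ X) :
    ∀ b : ULift.{u} Bool, (yon S).obj (pairOver A V b) ⟶ X
  | ⟨true⟩ => f₁
  | ⟨false⟩ => f₂

/-- The morphism out of the coproduct. -/
noncomputable def coprodOverDesc {A V : Over S} {X : Sp S} (f₁ : (yon S).obj A ⟶ X) (f₂ : (yon S).obj V ⟶ X) :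
    (yon S).obj (coprodOver A V) ⟶ X :=
  Cofan.IsColimit.desc (Groth.Agent.Lib.Helper51.isColimitYonSigmaOver
    (fun b => (pairOver A V b).left) (fun b => (pairOver A V b).hom)) (pairHom f₁ f₂)

theorem coprodOverι_desc {A V : Over S} {X : Sp S} (f₁ : (yon S).obj A ⟶ X) (f₂ : (yon S).obj V ⟶ X)
    (b : ULift.{u} Bool) : (yon S).map (coprodOverι A V b) ≫ coprodOverDesc f₁ f₂ = pairHom f₁ f₂ b :=
  Cofan.IsColimit.fac (Groth.Agent.Lib.Helper51.isColimitYonSigmaOver
    (fun b => (pairOver A V b).left) (fun b => (pairOver A V b).hom)) (pairHom f₁ f₂) b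

theorem coprodOverInl_desc {A V : Over S} {X : Sp S} (f₁ : (yon S).obj A ⟶ X) (f₂ : (yon S).obj V ⟶ X) :
    (yon S).map (coprodOverInl A V) ≫ coprodOverDesc f₁ f₂ = f₁ := coprodOverι_desc f₁ f₂ ⟨true⟩

theorem coprodOverInr_desc {A V : Over S} {X : Sp S} (f₁ : (yon S).obj A ⟶ X) (f₂ : (yon S).obj V ⟶ X) :
    (yon S).map (coprodOverInr A V) ≫ coprodOverDesc f₁ f₂ = f₂ := coprodOverι_desc f₁ f₂ ⟨false⟩

/-- Every point of the coproduct lies in one of the summands. -/
theorem exists_coprodOverι_eq (A V : Over S) (x : ↥(coprodOver A V).left) :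
    ∃ (b : ULift.{u} Bool) (y : ↥(pairOver A V b).left), (coprodOverι A V b).left y = x := by
  obtain ⟨b, y, hy⟩ := (sigmaOpenCover (fun b : ULift.{u} Bool => (pairOver A V b).left)).exists_eq x
  exact ⟨b, y, hy⟩

theorem exists_inl_or_inr_eq (A V : Over S) (x : ↥(coprodOver A V).left) :
    (∃ y : ↥A.left, (coprodOverInl A V).left y = x) ∨ (∃ y : ↥V.left, (coprodOverInr A V).left y = x) := by
  obtain ⟨⟨_ | _⟩, y, hy⟩ := exists_coprodOverι_eq A V x
  · exact Or.inr ⟨y, hy⟩
  · exact Or.inl ⟨y, hy⟩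

instance isOpenImmersion_coprodOverι (A V : Over S) (b : ULift.{u} Bool) :
    IsOpenImmersion (coprodOverι A V b).left :=
  inferInstanceAs (IsOpenImmersion (Sigma.ι (fun b : ULift.{u} Bool => (pairOver A V b).left) b))

instance isOpenImmersion_coprodOverInl (A V : Over S) : IsOpenImmersion (coprodOverInl A V).left :=
  isOpenImmersion_coprodOverι A V ⟨true⟩

instance isOpenImmersion_coprodOverInr (A V : Over S) : IsOpenImmersion (coprodOverInr A V).left :=
  isOpenImmersion_coprodOverι A V ⟨false⟩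

/-- The morphism out of the coproduct of two étale charts is étale. -/
theorem repWith_etale_coprodOverDesc {A V : Over S} {X : Sp S} (hX : IsAlgSpace X)
    (f₁ : (yon S).obj A ⟶ X) (f₂ : (yon S).obj V ⟶ X) (h₁ : RepWith @Etale f₁) (h₂ : RepWith @Etale f₂) :
    RepWith @Etale (coprodOverDesc f₁ f₂) := by
  have hloc := Groth.Agent.S10554.result S
  have hcov : IsEtCover (fun b : ULift.{u} Bool => (yon S).obj (pairOver A V b))
      (fun b => (yon S).map (coprodOverι A V b)) := by
    refine ⟨fun b => (isEtaleMor_yon_map_iff _).2 inferInstance, fun x => ?_⟩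
    obtain ⟨t, rfl⟩ := exists_ofScheme_eq _ x
    obtain ⟨b, y, hy⟩ := exists_coprodOverι_eq A V t
    exact ⟨b, Points.ofScheme _ y, by rw [Groth.Agent.H52.points_map_ofScheme, hy]⟩
  have h := (hloc (fun b : ULift.{u} Bool => (yon S).obj (pairOver A V b))
    (fun b => (yon S).map (coprodOverι A V b)) (IsAlgSpace.yon_obj _) (fun b => IsAlgSpace.yon_obj _) hcov
    (coprodOverDesc f₁ f₂) hX).2 (by
      rintro ⟨_ | _⟩
      · rw [coprodOverι_desc]
        exact isEtaleMor_of_repWith f₂ h₂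
      · rw [coprodOverι_desc]
        exact isEtaleMor_of_repWith f₁ h₁)
  have := h (𝟙 _) (repWith_id _ _)
  rwa [Category.id_comp] at this

theorem range_ofPt_coprodOverDesc {A V : Over S} {X : Sp S} (f₁ : (yon S).obj A ⟶ X) (f₂ : (yon S).obj V ⟶ X) :
    Set.range (Points.ofPt (coprodOverDesc f₁ f₂)) = Set.range (Points.ofPt f₁) ∪ Set.range (Points.ofPt f₂) := by
  ext y
  constructor
  · rintro ⟨x, rfl⟩
    rcases exists_inl_or_inr_eq A V x with ⟨t, rfl⟩ | ⟨t, rfl⟩
    · left
      refine ⟨t, ?_⟩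
      rw [← Groth.Agent.H52.ofPt_yon_map_comp, coprodOverInl_desc]
    · right
      refine ⟨t, ?_⟩
      rw [← Groth.Agent.H52.ofPt_yon_map_comp, coprodOverInr_desc]
  · rintro (⟨t, rfl⟩ | ⟨t, rfl⟩)
    · refine ⟨(coprodOverInl A V).left t, ?_⟩
      rw [← Groth.Agent.H52.ofPt_yon_map_comp, coprodOverInl_desc]
    · refine ⟨(coprodOverInr A V).left t, ?_⟩
      rw [← Groth.Agent.H52.ofPt_yon_map_comp, coprodOverInr_desc]

/-- A morphism from the spectrum of a field factors through an open immersion containing the image of its point. -/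
theorem exists_factor_of_field {T T' : Over S} (ι : T' ⟶ T) [IsOpenImmersion ι.left] {K : Type u} [Field K]
    {str : Spec (CommRingCat.of K) ⟶ S} (v : Over.mk str ⟶ T)
    (h : v.left (IsLocalRing.closedPoint K) ∈ Set.range ι.left) : ∃ w : Over.mk str ⟶ T', w ≫ ι = v := by
  have hrange : Set.range v.left ⊆ Set.range ι.left := by
    rintro _ ⟨s, rfl⟩
    have : s = IsLocalRing.closedPoint K :=
      @Subsingleton.elim (PrimeSpectrum K) inferInstance _ _
    rw [this]
    exact h
  refine ⟨Over.homMk (IsOpenImmersion.lift ι.left v.left hrange) ?_, ?_⟩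
  · change IsOpenImmersion.lift ι.left v.left hrange ≫ T'.hom = str
    rw [← Over.w ι, ← Category.assoc, IsOpenImmersion.lift_fac]
    exact Over.w v
  · ext
    exact IsOpenImmersion.lift_fac _ _ _

/-- Uniqueness of field-valued points outside `Ω` for the coproduct of a chart with this property and a chart landing in
`Ω`. -/
theorem uniqOutside_coprodOverDesc {A V : Over S} {X : Sp S} (f₁ : (yon S).obj A ⟶ X) (f₂ : (yon S).obj V ⟶ X)
    (Ω : Set (Points X)) (h₁ : UniqOutside f₁ Ω) (h₂ : ∀ t, Points.ofPt f₂ t ∈ Ω) :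
    UniqOutside (coprodOverDesc f₁ f₂) Ω := by
  intro K _ str v₁ v₂ hv hno
  have key : ∀ v : Over.mk str ⟶ coprodOver A V,
      (∀ s, Points.ofPt ((yon S).map v ≫ coprodOverDesc f₁ f₂) s ∉ Ω) →
      ∃ w : Over.mk str ⟶ A, w ≫ coprodOverInl A V = v := by
    intro v hv'
    rcases exists_inl_or_inr_eq A V (v.left (IsLocalRing.closedPoint K)) with ⟨t, ht⟩ | ⟨t, ht⟩
    · exact exists_factor_of_field (coprodOverInl A V) v ⟨t, ht⟩
    · exfalso
      obtain ⟨w, hw⟩ := exists_factor_of_field (coprodOverInr A V) v ⟨t, ht⟩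
      refine hv' (IsLocalRing.closedPoint K) ?_
      rw [← hw, Functor.map_comp, Category.assoc, coprodOverInr_desc, Groth.Agent.H52.ofPt_yon_map_comp]
      exact h₂ _
  obtain ⟨w₁, hw₁⟩ := key v₁ hno
  obtain ⟨w₂, hw₂⟩ := key v₂ (by rw [← hv]; exact hno)
  have hw : w₁ = w₂ := by
    refine h₁ K str w₁ w₂ ?_ ?_
    · have := hv
      rw [← hw₁, ← hw₂, Functor.map_comp, Functor.map_comp, Category.assoc, Category.assoc,
        coprodOverInl_desc] at this
      exact this
    · intro s hs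
      refine hno s ?_
      rw [← hw₁, Functor.map_comp, Category.assoc, coprodOverInl_desc]
      exact hs
  rw [← hw₁, ← hw₂, hw]

theorem range_map_eq_range_ofPt {V : Over S} {X : Sp S} (g : (yon S).obj V ⟶ X) :
    Set.range (Points.map g) = Set.range (Points.ofPt g) := by
  ext y
  constructor
  · rintro ⟨x, rfl⟩
    obtain ⟨t, rfl⟩ := exists_ofScheme_eq V x
    exact ⟨t, Points.ofPt_eq_map_ofScheme g t⟩
  · rintro ⟨t, rfl⟩
    exact ⟨Points.ofScheme V t, (Points.ofPt_eq_map_ofScheme g t).symm⟩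

theorem mem_range_map_iff_of_comp {A B C : Sp S} (k : A ⟶ B) (jB : B ⟶ C) [Mono jB] (y : Points B) :
    y ∈ Set.range (Points.map k) ↔ Points.map jB y ∈ Set.range (Points.map (k ≫ jB)) := by
  have hinj : Function.Injective (Points.map jB) := injective_points_of_mono _
  constructor
  · rintro ⟨a, rfl⟩
    exact ⟨a, Points.map_comp _ _ _⟩
  · rintro ⟨a, ha⟩
    refine ⟨a, hinj ?_⟩
    rw [← ha, Points.map_comp]

/-- Enlarging a proper open subspace of a Noetherian algebraic space by an elementary distinguished square with affine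
étale part, whose fibre product dominates the open subspace. -/
theorem exists_enlarging_square [QuasiSeparatedSpace ↥S] {X U : Space S}
    (hqc : IsQuasiCompactSp X.obj) (hqs : IsQuasiSeparatedSp X.obj) (hN : IsLocNoethSp X.obj)
    (j : U ⟶ X) (hj : RepWith @IsOpenImmersion j.hom)
    (hne : Set.range (Points.map j.hom) ≠ Set.univ) :
    ∃ (V : Over S) (_ : IsAffine V.left) (W : Space S) (jW : W ⟶ X) (jU : U ⟶ W)
      (φ : (ofScheme S).obj V ⟶ W) (P : Space S) (p : P ⟶ U) (q : P ⟶ (ofScheme S).obj V),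
      RepWith @Etale (φ ≫ jW).hom ∧ RepWith @IsOpenImmersion jW.hom ∧ jU ≫ jW = j ∧
        Set.range (Points.map jW.hom) =
          Set.range (Points.map j.hom) ∪ Set.range (Points.map (φ ≫ jW).hom) ∧
        Set.range (Points.map jW.hom) ≠ Set.range (Points.map j.hom) ∧
        IsElemDistSq jU.hom φ.hom ∧ IsPullback p.hom q.hom jU.hom φ.hom ∧ IsDominantMor p.hom := by
  have hEt : (RepWith (S := S) @Etale).IsMultiplicative := repWith_isMultiplicative _
  haveI hjmono : Mono j.hom := mono_of_isOpenImmersion _ hj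
  have hjinj : Function.Injective (Points.map j.hom) := injective_points_of_mono _
  have hΩo : IsOpen (Set.range (Points.map j.hom)) :=
    (Groth.Agent.H52.isOpenMap_points_of_repWith j.hom @IsOpenImmersion
      (fun _ _ φ hφ => by have := hφ; exact φ.isOpenEmbedding.isOpenMap) hj).isOpen_range
  obtain ⟨Ω, hΩ, hΩo⟩ : ∃ Ω : Set (Points X.obj), Set.range (Points.map j.hom) = Ω ∧ IsOpen Ω :=
    ⟨_, rfl, hΩo⟩
  rw [hΩ] at hne
  -- the step of the chain leaving `Ω`
  obtain ⟨O₁, O₂, -, hstep, hO₁, hO₂⟩ := (exists_eChain X hqc hqs).exists_step Ω (Set.empty_subset _)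
    (fun h => hne (Set.eq_univ_of_univ_subset h))
  obtain ⟨A, f₀, hA, hf₀, hOO, hu⟩ := hstep
  haveI := hA
  have hu' : UniqOutside f₀ Ω := fun K _ str v₁ v₂ hv hno =>
    hu K str v₁ v₂ hv (fun s hs => hno s (hO₁ hs))
  have hf₀Ω : ¬ Set.range (Points.ofPt f₀) ⊆ Ω := fun h => hO₂ (by
    rw [hOO]
    exact Set.union_subset hO₁ h)
  -- a chart of `U`
  obtain ⟨A₀, a₀, hA₀, ha₀e, ha₀s⟩ := Groth.Agent.Lib.Helper54.exists_affine_etale_chart hqc
  haveI := hA₀
  haveI : IsLocallyNoetherian A₀.left := Groth.Agent.H53.isLocallyNoetherian_of_etale_chart hN a₀ ha₀e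
  haveI : IsNoetherian A₀.left := {}
  let M : A₀.left.Opens := ⟨Points.ofPt a₀ ⁻¹' Ω, hΩo.preimage (Points.continuous_ofPt a₀)⟩
  have hMc : IsCompact (M : Set ↥A₀.left) := TopologicalSpace.NoetherianSpace.isCompact _
  have hMΩ : Points.ofPt a₀ '' (M : Set ↥A₀.left) = Ω :=
    Set.image_preimage_eq_of_subset (fun y _ => Groth.Agent.H53.surjective_ofPt_of_surjective a₀ ha₀s y)
  have hqcΩ : IsQuasiCompactSp (openSub X.obj Ω) := by
    have := Groth.Agent.H52.ImmOpen.isQuasiCompactSp_openSub_image X.property a₀ ha₀e M hMc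
    rwa [hMΩ] at this
  obtain ⟨V', c, hV', hce, hcs⟩ := Groth.Agent.Lib.Helper54.exists_affine_etale_chart hqcΩ
  haveI := hV'
  have hιoi := repWith_isOpenImmersion_openSubι X.obj Ω hΩo
  obtain ⟨m, hm⟩ := Groth.Agent.H53.exists_factor_of_range_subset j.hom hj (openSubι X.obj Ω) (by
    rw [range_points_map_openSubι, hΩ])
  obtain ⟨c', hc'⟩ : ∃ c' : (yon S).obj V' ⟶ U.obj, c' = c ≫ m := ⟨_, rfl⟩
  obtain ⟨f₂, hf₂⟩ : ∃ f₂ : (yon S).obj V' ⟶ X.obj, f₂ = c' ≫ j.hom := ⟨_, rfl⟩
  have hf₂' : f₂ = c ≫ openSubι X.obj Ω := by rw [hf₂, hc', Category.assoc, hm]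
  have hf₂e : RepWith @Etale f₂ := by
    rw [hf₂']
    exact (RepWith @Etale).comp_mem _ _ hce (repWith_etale_of_isOpenImmersion _ hιoi)
  have hf₂Ω : ∀ t, Points.ofPt f₂ t ∈ Ω := by
    intro t
    rw [hf₂, ← Points.map_ofPt, ← hΩ]
    exact ⟨_, rfl⟩
  have hc's : ∀ u : Points U.obj, ∃ t, Points.ofPt c' t = u := by
    intro u
    have hu : Points.map j.hom u ∈ Ω := by rw [← hΩ]; exact ⟨u, rfl⟩
    rw [← range_points_map_openSubι X.obj Ω] at hu
    obtain ⟨y, hy⟩ := hu
    obtain ⟨t, rfl⟩ := Groth.Agent.H53.surjective_ofPt_of_surjective c hcs y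
    refine ⟨t, hjinj ?_⟩
    rw [Points.map_ofPt, ← hf₂, hf₂', ← Points.map_ofPt, hy]
  have hrf₂ : Set.range (Points.ofPt f₂) = Ω := by
    apply Set.Subset.antisymm
    · rintro _ ⟨t, rfl⟩
      exact hf₂Ω t
    · intro y hy
      rw [← hΩ] at hy
      obtain ⟨u, rfl⟩ := hy
      obtain ⟨t, rfl⟩ := hc's u
      exact ⟨t, by rw [hf₂, Points.map_ofPt]⟩
  -- the affine étale part
  obtain ⟨g₀, hg₀⟩ : ∃ g₀ : (yon S).obj (coprodOver A V') ⟶ X.obj, g₀ = coprodOverDesc f₀ f₂ := ⟨_, rfl⟩
  have hg₀e : RepWith @Etale g₀ := hg₀ ▸ repWith_etale_coprodOverDesc X.property f₀ f₂ hf₀ hf₂e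
  have hg₀u : UniqOutside g₀ Ω := hg₀ ▸ uniqOutside_coprodOverDesc f₀ f₂ Ω hu' hf₂Ω
  have hg₀r : Set.range (Points.ofPt g₀) = Set.range (Points.ofPt f₀) ∪ Ω := by
    rw [hg₀, range_ofPt_coprodOverDesc, hrf₂]
  have hinr : (yon S).map (coprodOverInr A V') ≫ g₀ = f₂ := by rw [hg₀, coprodOverInr_desc]
  -- the larger open subspace
  have hOWo : IsOpen (Ω ∪ Set.range (Points.ofPt f₀)) :=
    hΩo.union (Groth.Agent.H53.isOpenMap_ofPt_of_etale f₀ hf₀).isOpen_range
  obtain ⟨OW, hOW, hOWo⟩ : ∃ OW : Set (Points X.obj), OW = Ω ∪ Set.range (Points.ofPt f₀) ∧ IsOpen OW :=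
    ⟨_, rfl, hOWo⟩
  haveI hιWmono : Mono (openSubι X.obj OW) := mono_openSubι _ _
  have hιWinj : Function.Injective (Points.map (openSubι X.obj OW)) := injective_points_of_mono _
  have hιWoi := repWith_isOpenImmersion_openSubι X.obj OW hOWo
  obtain ⟨jU, hjU⟩ := exists_factor_openSpι OW hOWo j (by rw [hΩ, hOW]; exact Set.subset_union_left)
  have hjU' : jU.hom ≫ openSubι X.obj OW = j.hom := congrArg (fun m => m.hom) hjU
  have hjUoi : RepWith @IsOpenImmersion jU.hom :=
    Groth.Agent.H53.repWith_of_comp_mono _ jU.hom (openSubι X.obj OW) (by rw [hjU']; exact hj)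
  obtain ⟨φ₀, hφ₀⟩ := (exists_factor_openSubι_iff (W := OW) g₀).2 (fun t => by
    have : Points.ofPt g₀ t ∈ Set.range (Points.ofPt g₀) := ⟨t, rfl⟩
    rw [hg₀r] at this
    rw [hOW]
    exact this.symm)
  have hφ₀e : RepWith @Etale φ₀ :=
    Groth.Agent.H53.repWith_of_comp_mono _ φ₀ (openSubι X.obj OW) (by rw [hφ₀]; exact hg₀e)
  have hkr : ∀ y : Points (openSub X.obj OW),
      y ∈ Set.range (Points.map jU.hom) ↔ Points.map (openSubι X.obj OW) y ∈ Ω := by
    intro y
    rw [mem_range_map_iff_of_comp jU.hom (openSubι X.obj OW), hjU', hΩ]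
  -- the fibre product
  let D : (coprodOver A V').left.Opens := ⟨Points.ofPt g₀ ⁻¹' Ω, hΩo.preimage (Points.continuous_ofPt g₀)⟩
  have hqoi : RepWith @IsOpenImmersion ((yon S).map (Groth.Agent.H52.overOpenι (coprodOver A V') D)) :=
    (repWith_yon_map_iff _ _).2 (inferInstanceAs (IsOpenImmersion D.ι))
  have hr : Set.range (Points.map ((yon S).map (Groth.Agent.H52.overOpenι (coprodOver A V') D))) =
      Points.map φ₀ ⁻¹' Set.range (Points.map jU.hom) := by
    ext x
    obtain ⟨t, rfl⟩ := exists_ofScheme_eq _ x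
    rw [Set.mem_preimage, hkr, ← Points.ofPt_eq_map_ofScheme, Points.map_ofPt, hφ₀]
    constructor
    · rintro ⟨w, hw⟩
      obtain ⟨d, rfl⟩ := exists_ofScheme_eq _ w
      rw [Groth.Agent.H52.points_map_ofScheme] at hw
      have := (Points.schemeEquiv (coprodOver A V')).injective hw
      rw [← this]
      exact d.2
    · intro ht
      refine ⟨Points.ofScheme _ (⟨t, ht⟩ : ↥D), ?_⟩
      rw [Groth.Agent.H52.points_map_ofScheme]
      rfl
  obtain ⟨p, hp⟩ := exists_isPullback_of_isOpenImmersion jU.hom hjUoi φ₀ _ hqoi hr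
  refine ⟨coprodOver A V', inferInstance, openSp X OW hOWo, openSpι X OW hOWo, jU, ⟨φ₀⟩,
    (ofScheme S).obj (Groth.Agent.H52.overOpen (coprodOver A V') D), ⟨p⟩,
    ⟨(yon S).map (Groth.Agent.H52.overOpenι (coprodOver A V') D)⟩, ?_, hιWoi, hjU, ?_, ?_, ?_, hp, ?_⟩
  · change RepWith @Etale (φ₀ ≫ openSubι X.obj OW)
    rw [hφ₀]
    exact hg₀e
  · change Set.range (Points.map (openSubι X.obj OW)) =
      Set.range (Points.map j.hom) ∪ Set.range (Points.map (φ₀ ≫ openSubι X.obj OW))
    rw [range_points_map_openSubι, hφ₀, range_map_eq_range_ofPt, hg₀r, hΩ, hOW]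
    ext y
    simp only [Set.mem_union]
    tauto
  · change Set.range (Points.map (openSubι X.obj OW)) ≠ Set.range (Points.map j.hom)
    rw [range_points_map_openSubι, hΩ, hOW]
    intro h
    exact hf₀Ω (h ▸ Set.subset_union_right)
  · refine isElemDistSq_of_unique_fieldPts (W₁ := U) (W₂ := openSp X OW hOWo) jU hjUoi φ₀ hφ₀e ?_ ?_
    · intro y
      have hy := map_openSubι_mem X.obj OW y
      have hy' : Points.map (openSubι X.obj OW) y ∈ Ω ∪ Set.range (Points.ofPt f₀) := hOW ▸ hy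
      rcases hy' with hy' | ⟨t, ht⟩
      · exact Or.inl ((hkr y).2 hy')
      · refine Or.inr ⟨(coprodOverInl A V').left t, hιWinj ?_⟩
        rw [Points.map_ofPt, hφ₀, ← Groth.Agent.H52.ofPt_yon_map_comp, hg₀, coprodOverInl_desc, ht]
    · intro K _ str v₁ v₂ hv hno
      refine hg₀u K str v₁ v₂ ?_ (fun s hs => hno s ?_)
      · rw [← hφ₀, ← Category.assoc, ← Category.assoc, hv]
      · change Points.ofPt ((yon S).map v₁ ≫ φ₀) s ∈ Set.range (Points.map jU.hom)
        rw [hkr, Points.map_ofPt, Category.assoc, hφ₀]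
        exact hs
  · -- dominance
    have hw : c' ≫ jU.hom = (yon S).map (coprodOverInr A V') ≫ φ₀ := by
      rw [← cancel_mono (openSubι X.obj OW), Category.assoc, Category.assoc, hjU', hφ₀, hinr, hf₂]
    intro u
    apply subset_closure
    obtain ⟨t, rfl⟩ := hc's u
    refine ⟨Points.ofPt (hp.lift c' ((yon S).map (coprodOverInr A V')) hw) t, ?_⟩
    change Points.map p _ = _
    rw [Points.map_ofPt, hp.lift_fst]

end Groth.Agent.Lib.Helper54
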