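import Groth.Prelude.Def_AlgSpEt
import Groth.Prelude.Def_AlgSpCov
import Groth.Agent.Lib.Helper54.GeomReducedSp
import Groth.Agent.H52.Points
import Mathlib.CategoryTheory.Sites.Over
import Mathlib.CategoryTheory.Sites.CoverPreserving
import Mathlib.CategoryTheory.Sites.CoverLifting
import Mathlib.CategoryTheory.Sites.PrecoverageToGrothendieck

/-!
# The small étale site of an algebraic space inside its big étale site

The functor `Y_{etale} ⥤ Spaces/Y` is continuous and cocontinuous.
-/

set_option autoImplicit false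
set_option backward.isDefEq.respectTransparency false

universe u

open CategoryTheory CategoryTheory.Limits AlgebraicGeometry
open AlgSp

namespace Groth.Agent.Lib.Helper54

variable {S : Scheme.{u}}

/-- Every covering sieve of the big étale site of spaces is refined, after pulling back to a scheme, by an étale
covering of that scheme. -/
theorem exists_etale_cover_of_saturate (Z : Space S) (T : Sieve Z)
    (hT : (spacesPre S IsEtaleMor).Saturate Z T) :
    ∀ (U : Over S) (φ : (ofScheme S).obj U ⟶ Z),
      ∃ (ι : Type u) (V : ι → Over S) (c : ∀ i, V i ⟶ U), (∀ i, Etale (c i).left) ∧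
        (∀ x : ↥U.left, ∃ i, x ∈ Set.range (c i).left) ∧
        ∀ i, T ((ofScheme S).map (c i) ≫ φ) := by
  induction hT with
  | of X R hR =>
    intro U φ
    obtain ⟨hP, hx⟩ := hR
    have key : ∀ u : ↥U.left, ∃ (V : Over S) (c : V ⟶ U), Etale c.left ∧ u ∈ Set.range c.left ∧
        (Sieve.generate R) ((ofScheme S).map c ≫ φ) := by
      intro u
      obtain ⟨Y, g, hRg, y, hy⟩ := hx (Points.ofPt φ.hom u)
      obtain ⟨W, a, w, hae, haw⟩ := exists_chart_through Y.property y
      have hb : RepWith @Etale (a ≫ g.hom) := hP g hRg a hae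
      obtain ⟨P, snd, fst, sq⟩ := hb.1 φ.hom
      have hsnd : Etale snd.left := hb.2 φ.hom fst snd sq
      have h : Points.map (a ≫ g.hom) (Points.ofScheme W w) = Points.ofPt φ.hom u := by
        rw [← Points.ofPt_eq_map_ofScheme, ← hy, ← haw]; rfl
      obtain ⟨v, -, hv⟩ := exists_pt_of_isPullback_yon sq _ u h
      refine ⟨P, snd, hsnd, ⟨v, hv⟩, ?_⟩
      refine ⟨Y, ObjectProperty.homMk (fst ≫ a), g, hRg, ?_⟩
      apply ObjectProperty.hom_ext
      change (fst ≫ a) ≫ g.hom = (yon S).map snd ≫ φ.hom
      rw [Category.assoc]; exact sq.w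
    choose V c h1 h2 h3 using key
    exact ⟨↥U.left, V, c, h1, fun x => ⟨x, h2 x⟩, h3⟩
  | top X =>
    intro U φ
    refine ⟨PUnit, fun _ => U, fun _ => 𝟙 U, fun _ => ?_, fun x => ⟨PUnit.unit, ⟨x, rfl⟩⟩,
      fun _ => trivial⟩
    rw [Over.id_left]; infer_instance
  | pullback X T hT Y f ih =>
    intro U φ
    obtain ⟨ι, V, c, h1, h2, h3⟩ := ih U (φ ≫ f)
    refine ⟨ι, V, c, h1, h2, fun i => ?_⟩
    change T (((ofScheme S).map (c i) ≫ φ) ≫ f)
    rw [Category.assoc]; exact h3 i
  | transitive X T R hT hR ih1 ih2 =>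
    intro U φ
    obtain ⟨ι, V, c, h1, h2, h3⟩ := ih1 U φ
    have key : ∀ i, ∃ (κ : Type u) (W : κ → Over S) (d : ∀ j, W j ⟶ V i), (∀ j, Etale (d j).left) ∧
        (∀ x : ↥(V i).left, ∃ j, x ∈ Set.range (d j).left) ∧
        ∀ j, (R.pullback ((ofScheme S).map (c i) ≫ φ)) ((ofScheme S).map (d j) ≫ 𝟙 _) :=
      fun i => ih2 (h3 i) (V i) (𝟙 _)
    choose κ W d k1 k2 k3 using key
    refine ⟨Σ i, κ i, fun p => W p.1 p.2, fun p => d p.1 p.2 ≫ c p.1, ?_, ?_, ?_⟩
    · intro p
      rw [Over.comp_left]
      have := h1 p.1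
      have := k1 p.1 p.2
      infer_instance
    · intro x
      obtain ⟨i, y, rfl⟩ := h2 x
      obtain ⟨j, z, rfl⟩ := k2 i y
      exact ⟨⟨i, j⟩, z, by rw [Over.comp_left]; rfl⟩
    · intro p
      have := k3 p.1 p.2
      rw [Sieve.pullback_apply, Category.comp_id] at this
      rw [Functor.map_comp, Category.assoc]; exact this

/-- The functor from the small étale site of `Y` to the category of algebraic spaces over `Y`. -/
noncomputable abbrev etToOver (Y : Space S) : EtOver Y.obj ⥤ Over Y :=
  EtOver.toEtSpOver Y ⋙ ObjectProperty.ι (fun E : Over Y => IsEtaleMor E.hom.hom)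

/-- The functor `etToOver` is cocontinuous. -/
theorem etToOver_isCocontinuous (Y : Space S) :
    (etToOver Y).IsCocontinuous (etTop Y.obj) (spacesTopOver IsEtaleMor Y) where
  cover_lift {U T} hT := by
    rw [GrothendieckTopology.mem_over_iff] at hT
    obtain ⟨ι, V, c, h1, h2, h3⟩ :=
      exists_etale_cover_of_saturate _ _ hT U.obj.left (𝟙 _)
    let E : ι → EtOver Y.obj := fun i => EtOver.mk ((yon S).map (c i) ≫ U.obj.hom)
      ((repWith_isMultiplicative (S := S) @Etale).comp_mem _ _
        ((repWith_yon_map_iff _ _).2 (h1 i)) U.property)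
    let g : ∀ i, E i ⟶ U := fun i => EtOver.homMk (c i) rfl
    refine (etTop Y.obj).superset_covering ?_ (ofArrows_mem_etTop E g h2)
    rw [Sieve.ofArrows, Sieve.generate_le_iff, Presieve.ofArrows_le_iff]
    intro i
    change T ((etToOver Y).map (g i))
    have h3i := h3 i
    rw [Category.comp_id] at h3i
    obtain ⟨W', a, b, hTa, hab⟩ := h3i
    -- `a : W' ⟶ (etToOver Y).obj U` in `T`, `b : h_{V i} ⟶ W'.left`
    have hw : b ≫ W'.hom = ((etToOver Y).obj (E i)).hom := by
      have h4 : a.left ≫ ((etToOver Y).obj U).hom = W'.hom := Over.w a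
      rw [← h4, ← Category.assoc]
      have h5 : b ≫ a.left = (ofScheme S).map (c i) := hab.symm
      rw [h5]
      rfl
    have : (etToOver Y).map (g i) = (Over.homMk b hw : (etToOver Y).obj (E i) ⟶ W') ≫ a := by
      apply Over.OverMorphism.ext
      exact hab
    rw [this]
    exact T.downward_closed hTa _

/-- `etToOver` preserves fibre products, in the form of existence of lifts. -/
theorem exists_lift_etToOver {Y : Space S} {E₁ E₂ E₀ : EtOver Y.obj} (g₁ : E₁ ⟶ E₀) (g₂ : E₂ ⟶ E₀)
    {Z : Over Y} (k : Z ⟶ (etToOver Y).obj E₁) (l : Z ⟶ (etToOver Y).obj E₂)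
    (h : k ≫ (etToOver Y).map g₁ = l ≫ (etToOver Y).map g₂) :
    ∃ m : Z ⟶ (etToOver Y).obj (EtOver.pullbackObj g₁ g₂),
      m ≫ (etToOver Y).map (EtOver.pullbackFst g₁ g₂) = k ∧
      m ≫ (etToOver Y).map (EtOver.pullbackSnd g₁ g₂) = l := by
  have sqY : IsPullback ((yon S).map (pullback.fst g₁.hom.left g₂.hom.left))
      ((yon S).map (pullback.snd g₁.hom.left g₂.hom.left)) ((yon S).map g₁.hom.left)
      ((yon S).map g₂.hom.left) := (IsPullback.of_hasPullback _ _).map (yon S)
  have h' : k.left.hom ≫ (yon S).map g₁.hom.left = l.left.hom ≫ (yon S).map g₂.hom.left :=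
    congrArg (fun t => t.left.hom) h
  have hk : k.left.hom ≫ E₁.obj.hom = Z.hom.hom := congrArg (fun t => t.hom) (Over.w k)
  refine ⟨Over.homMk (ObjectProperty.homMk (sqY.lift k.left.hom l.left.hom h')) ?_, ?_, ?_⟩
  · apply ObjectProperty.hom_ext
    change sqY.lift k.left.hom l.left.hom h' ≫ (yon S).map (pullback.fst g₁.hom.left g₂.hom.left) ≫
      E₁.obj.hom = Z.hom.hom
    rw [← Category.assoc, sqY.lift_fst, hk]
  · apply Over.OverMorphism.ext
    apply ObjectProperty.hom_ext
    exact sqY.lift_fst _ _ _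
  · apply Over.OverMorphism.ext
    apply ObjectProperty.hom_ext
    exact sqY.lift_snd _ _ _

/-- `etToOver` is compatible-preserving. -/
theorem etToOver_compatiblePreserving (Y : Space S) :
    CompatiblePreserving.{u + 2} (spacesTopOver IsEtaleMor Y) (etToOver Y) where
  compatible ℱ {Z T x} hx {Y₁ Y₂ X} f₁ f₂ {g₁ g₂} hg₁ hg₂ e := by
    obtain ⟨m, hm1, hm2⟩ := exists_lift_etToOver g₁ g₂ f₁ f₂ e
    have hc := hx (EtOver.pullbackFst g₁ g₂) (EtOver.pullbackSnd g₁ g₂) hg₁ hg₂
      (EtOver.pullback_condition g₁ g₂)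
    have e1 : ℱ.obj.map f₁.op (x g₁ hg₁) = ℱ.obj.map m.op
        (ℱ.obj.map ((etToOver Y).map (EtOver.pullbackFst g₁ g₂)).op (x g₁ hg₁)) := by
      rw [← hm1, op_comp, Functor.map_comp]; rfl
    have e2 : ℱ.obj.map f₂.op (x g₂ hg₂) = ℱ.obj.map m.op
        (ℱ.obj.map ((etToOver Y).map (EtOver.pullbackSnd g₁ g₂)).op (x g₂ hg₂)) := by
      rw [← hm2, op_comp, Functor.map_comp]; rfl
    rw [e1, e2]
    exact congrArg (ℱ.obj.map m.op) hc

/-- Pushing forward along `etToOver` commutes with pulling back sieves (one inclusion). -/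
theorem pullback_functorPushforward_etToOver_le {Y : Space S} {E E' : EtOver Y.obj} (f : E' ⟶ E)
    (T : Sieve E) :
    (T.functorPushforward (etToOver Y)).pullback ((etToOver Y).map f) ≤
      (T.pullback f).functorPushforward (etToOver Y) := by
  rintro Z k ⟨W, s, l, hs, hkl⟩
  obtain ⟨m, hm1, hm2⟩ := exists_lift_etToOver f s k l hkl
  refine ⟨EtOver.pullbackObj f s, EtOver.pullbackFst f s, m, ?_, hm1.symm⟩
  change T (EtOver.pullbackFst f s ≫ f)
  rw [EtOver.pullback_condition]
  exact T.downward_closed hs _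

/-- `etToOver` is cover-preserving. -/
theorem etToOver_coverPreserving (Y : Space S) :
    CoverPreserving (etTop Y.obj) (spacesTopOver IsEtaleMor Y) (etToOver Y) where
  cover_preserve {U T} hT := by
    change (etPre Y.obj).Saturate U T at hT
    induction hT with
    | of U R hR =>
      obtain ⟨ι, E, g, rfl⟩ := R.exists_eq_ofArrows
      have hsurj := (ofArrows_mem_etPre_iff E g).1 hR
      rw [GrothendieckTopology.mem_over_iff]
      -- the covering family of `h_U` in the big site
      let R' : Presieve ((ofScheme S).obj U.obj.left) :=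
        Presieve.ofArrows (fun i => (ofScheme S).obj (E i).obj.left)
          (fun i => (ofScheme S).map (g i).hom.left)
      have hR' : R' ∈ spacesPre S IsEtaleMor ((ofScheme S).obj U.obj.left) := by
        refine ⟨?_, fun x => ?_⟩
        · rintro Y' g' ⟨i⟩
          exact (isEtaleMor_yon_map_iff _).2 (EtOver.etale_left (g i))
        · obtain ⟨u, rfl⟩ := exists_ofScheme_eq U.obj.left x
          obtain ⟨i, v, hv⟩ := hsurj u
          refine ⟨_, _, ⟨i⟩, Points.ofScheme _ v, ?_⟩
          rw [← hv]
          exact Groth.Agent.H52.points_map_ofScheme (g i).hom.left v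
      refine (spacesTop S IsEtaleMor).superset_covering ?_
        (Precoverage.generate_mem_toGrothendieck hR')
      rw [Sieve.generate_le_iff, Presieve.ofArrows_le_iff]
      intro i
      change (Sieve.functorPushforward (Over.forget Y) (Sieve.functorPushforward (etToOver Y)
        (Sieve.generate (Presieve.ofArrows E g)))).arrows ((ofScheme S).map (g i).hom.left)
      refine ⟨(etToOver Y).obj (E i), (etToOver Y).map (g i), 𝟙 _, ?_, (Category.id_comp _).symm⟩
      exact Sieve.image_mem_functorPushforward _ _ (Sieve.le_generate (Presieve.ofArrows E g) _ _ (Presieve.ofArrows.mk i))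
    | top U =>
      rw [Sieve.functorPushforward_top]
      exact GrothendieckTopology.top_mem _ _
    | pullback U T hT U' f ih =>
      exact GrothendieckTopology.superset_covering _ (pullback_functorPushforward_etToOver_le f T)
        (GrothendieckTopology.pullback_stable _ ((etToOver Y).map f) ih)
    | transitive U T R hT hR ih1 ih2 =>
      refine GrothendieckTopology.transitive _ ih1 _ ?_
      rintro Z k ⟨W, s, l, hs, rfl⟩
      refine GrothendieckTopology.superset_covering _ ?_
        (GrothendieckTopology.pullback_stable _ l (ih2 hs))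
      rintro Z' t ⟨W', r', l', hr', ht⟩
      refine ⟨W', r' ≫ s, l', hr', ?_⟩
      rw [Functor.map_comp, ← Category.assoc, ht, Category.assoc]

/-- `etToOver` is continuous. -/
theorem etToOver_isContinuous (Y : Space S) :
    (etToOver Y).IsContinuous (etTop Y.obj) (spacesTopOver IsEtaleMor Y) :=
  Functor.isContinuous_of_coverPreserving (etToOver_compatiblePreserving Y)
    (etToOver_coverPreserving Y)

end Groth.Agent.Lib.Helper54
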