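import Mathlib

/-!
# Fibres of standard étale algebras have bounded degree
-/

set_option autoImplicit false
universe u
open TensorProduct Polynomial

namespace Groth.Agent.Lib.Helper54

/-- A standard étale algebra over a field is finite-dimensional, of dimension at most the degree of the monic polynomial. -/
theorem StandardEtalePair.finite_finrank_le {K : Type*} [Field K] (Q : StandardEtalePair K) :
    Module.Finite K Q.Ring ∧ Module.finrank K Q.Ring ≤ Q.f.natDegree := by
  let pb := AdjoinRoot.powerBasis' Q.monic_f
  have hfin : Module.Finite K (AdjoinRoot Q.f) := pb.finite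
  have hrank : Module.finrank K (AdjoinRoot Q.f) = Q.f.natDegree := by
    rw [pb.finrank]; rfl
  have hart : IsArtinianRing (AdjoinRoot Q.f) := IsArtinianRing.of_finite K _
  have hsurj : Function.Surjective (algebraMap (AdjoinRoot Q.f)
      (Localization.Away (AdjoinRoot.mk Q.f Q.g))) :=
    IsArtinianRing.localization_surjective (Submonoid.powers (AdjoinRoot.mk Q.f Q.g)) _
  let l : AdjoinRoot Q.f →ₗ[K] Localization.Away (AdjoinRoot.mk Q.f Q.g) :=
    (IsScalarTower.toAlgHom K (AdjoinRoot Q.f) (Localization.Away (AdjoinRoot.mk Q.f Q.g))).toLinearMap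
  have hl : Function.Surjective l := hsurj
  have h1 : Module.Finite K (Localization.Away (AdjoinRoot.mk Q.f Q.g)) := Module.Finite.of_surjective l hl
  have h2 : Module.finrank K (Localization.Away (AdjoinRoot.mk Q.f Q.g)) ≤ Q.f.natDegree :=
    hrank ▸ LinearMap.finrank_le_finrank_of_surjective hl
  let e := Q.equivAwayAdjoinRoot
  exact ⟨Module.Finite.equiv e.symm.toLinearEquiv, by rw [e.toLinearEquiv.finrank_eq]; exact h2⟩

/-- Fibres of a standard étale algebra have degree at most the degree of the monic polynomial. -/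
theorem StandardEtalePresentation.finite_finrank_tensor_le {A B : Type*} [CommRing A] [CommRing B] [Algebra A B]
    (𝓟 : StandardEtalePresentation A B) (K : Type*) [Field K] [Algebra A K] :
    Module.Finite K (K ⊗[A] B) ∧ Module.finrank K (K ⊗[A] B) ≤ 𝓟.f.natDegree := by
  let 𝓠 := 𝓟.baseChange (T := K)
  obtain ⟨h1, h2⟩ := StandardEtalePair.finite_finrank_le 𝓠.P
  have hdeg : 𝓠.P.f.natDegree = 𝓟.f.natDegree := 𝓟.monic_f.natDegree_map (algebraMap A K)
  let e := 𝓠.equivRing
  exact ⟨Module.Finite.equiv e.symm.toLinearEquiv, by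
    rw [e.toLinearEquiv.finrank_eq, ← hdeg]; exact h2⟩

/-- An étale algebra is covered by finitely many standard étale localizations. -/
theorem exists_finset_span_eq_top_isStandardEtale (A B : Type u) [CommRing A] [CommRing B] [Algebra A B]
    [Algebra.Etale A B] :
    ∃ s : Finset B, Ideal.span (s : Set B) = ⊤ ∧
      ∀ g ∈ s, Algebra.IsStandardEtale A (Localization.Away g) := by
  let G : Set B := {g | Algebra.IsStandardEtale A (Localization.Away g)}
  have hG : Ideal.span G = ⊤ := by
    by_contra hne
    obtain ⟨m, hm, hle⟩ := Ideal.exists_le_maximal _ hne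
    have hmp : m.IsPrime := hm.isPrime
    have hloc : Algebra.etaleLocus A B = Set.univ := Algebra.etaleLocus_eq_univ_iff_etale.mpr inferInstance
    have hat : Algebra.IsEtaleAt A m := by
      have : (⟨m, hmp⟩ : PrimeSpectrum B) ∈ Algebra.etaleLocus A B := hloc ▸ Set.mem_univ _
      exact this
    obtain ⟨g, hgm, hg⟩ := Algebra.IsEtaleAt.exists_isStandardEtale (R := A) m
    exact hgm (hle (Ideal.subset_span hg))
  obtain ⟨s, hsG, hs⟩ := (Ideal.span_eq_top_iff_finite G).mp hG
  exact ⟨s, hs, fun g hg => hsG hg⟩

end Groth.Agent.Lib.Helper54
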