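import Groth.Agent.Lib.Helper54.UnivBdd2
import Groth.Agent.Lib.Helper54.UnivBddCompSp

/-!
# Universally bounded fibres: finite open covers
-/

set_option autoImplicit false
universe u
open AlgebraicGeometry CategoryTheory Module Function

namespace Groth.Agent.Lib.Helper54

/-- Finiteness and the dimension bound pass to a subalgebra (instance form). -/
theorem finite_and_finrank_le_of_injective_algebraMap (K A B : Type*) [Field K] [CommRing A] [CommRing B]
    [Algebra K A] [Algebra K B] [Algebra A B] [IsScalarTower K A B]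
    (hφ : Function.Injective (algebraMap A B)) [Module.Finite K B] :
    Module.Finite K A ∧ Module.finrank K A ≤ Module.finrank K B := by
  let l : A →ₗ[K] B := (IsScalarTower.toAlgHom K A B).toLinearMap
  have hl : Function.Injective l := hφ
  exact ⟨Module.Finite.of_injective l hl, LinearMap.finrank_le_finrank_of_injective hl⟩

/-- A scheme over a field covered by finitely many open subschemes which are finite over the field is finite over the field,
of degree at most the sum of the degrees. -/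
theorem isFinite_finrank_le_of_finite_open_cover {T : Scheme.{u}} {K : Type u} [Field K]
    (c : T ⟶ Spec (CommRingCat.of K)) {J : Type*} [Finite J] (W : J → T.Opens)
    (hW : ∀ t : ↥T, ∃ j, t ∈ W j) (n : J → ℕ)
    (h : ∀ j, IsFinite ((W j).ι ≫ c) ∧ ∀ s, ((W j).ι ≫ c).finrank s ≤ n j) :
    IsFinite c ∧ ∀ s, c.finrank s ≤ ∑ᶠ j, n j := by
  classical
  have hFJ : Fintype J := Fintype.ofFinite J
  have hfd : ∀ j, Finite ↥(W j).toScheme ∧ DiscreteTopology ↥(W j).toScheme := fun j => by
    have := (h j).1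
    exact finite_discrete_of_isFinite ((W j).ι ≫ c)
  -- `T` is finite and discrete
  have hTfin : Finite ↥T := by
    rw [← Set.finite_univ_iff]
    have hsub : (Set.univ : Set ↥T) ⊆ ⋃ j, ((W j : T.Opens) : Set ↥T) := by
      intro t _
      obtain ⟨j, hj⟩ := hW t
      exact Set.mem_iUnion.2 ⟨j, hj⟩
    refine Set.Finite.subset (Set.finite_iUnion fun j => ?_) hsub
    exact Set.finite_coe_iff.mp (hfd j).1
  have hTdisc : DiscreteTopology ↥T := by
    rw [discreteTopology_iff_isOpen_singleton]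
    intro t
    obtain ⟨j, hj⟩ := hW t
    have := (hfd j).2
    have h1 : IsOpen ({⟨t, hj⟩} : Set ↥(W j).toScheme) := isOpen_discrete _
    have h2 := (W j).isOpen.isOpenEmbedding_subtypeVal.isOpenMap _ h1
    convert h2 using 1
    ext x
    constructor
    · rintro rfl
      exact ⟨⟨x, hj⟩, rfl, rfl⟩
    · rintro ⟨y, hy, rfl⟩
      have hy' : y = ⟨t, hj⟩ := hy
      exact congrArg Subtype.val hy'
  have hTaff : IsAffine T := inferInstance
  -- the open cover
  have hcov : TopologicalSpace.IsOpenCover W := by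
    rw [TopologicalSpace.IsOpenCover, eq_top_iff]
    intro t _
    obtain ⟨j, hj⟩ := hW t
    exact TopologicalSpace.Opens.mem_iSup.2 ⟨j, hj⟩
  let 𝒰 := T.openCoverOfIsOpenCover W hcov
  -- algebra structures
  let algA : Algebra K Γ(T, ⊤) := (strΓ c).hom.toAlgebra
  let algB : ∀ j, Algebra K Γ((W j).toScheme, ⊤) := fun j => (strΓ ((W j).ι ≫ c)).hom.toAlgebra
  let algAB : Algebra Γ(T, ⊤) (∀ j, Γ((W j).toScheme, ⊤)) :=
    (RingHom.pi fun j => ((W j).ι.appTop).hom).toAlgebra
  have htower : IsScalarTower K Γ(T, ⊤) (∀ j, Γ((W j).toScheme, ⊤)) := by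
    refine IsScalarTower.of_algebraMap_eq' ?_
    ext k j
    change (strΓ ((W j).ι ≫ c)).hom k = ((W j).ι.appTop).hom ((strΓ c).hom k)
    rw [strΓ_comp]
    rfl
  have hinj : Function.Injective (algebraMap Γ(T, ⊤) (∀ j, Γ((W j).toScheme, ⊤))) := by
    intro a a' haa'
    refine Scheme.OpenCover.ext_elem a a' 𝒰 fun j => ?_
    exact congrFun haa' j
  have hBfin : ∀ j, Module.Finite K Γ((W j).toScheme, ⊤) := fun j => by
    have := (h j).1
    exact RingHom.finite_algebraMap.mp (finite_and_finrank_eq_of_isFinite ((W j).ι ≫ c)).2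
  have hBrank : ∀ j, Module.finrank K Γ((W j).toScheme, ⊤) ≤ n j := fun j => by
    have := (h j).1
    obtain ⟨haff, hfin⟩ := finite_and_finrank_eq_of_isFinite ((W j).ι ≫ c)
    obtain ⟨-, hrk⟩ := isFinite_and_finrank_eq ((W j).ι ≫ c) hfin
    have hne : Nonempty ↥(Spec (CommRingCat.of K)) := ⟨IsLocalRing.closedPoint K⟩
    obtain ⟨s⟩ := hne
    rw [← hrk s]
    exact (h j).2 s
  have hPifin : Module.Finite K (∀ j, Γ((W j).toScheme, ⊤)) := inferInstance
  obtain ⟨hAfin, hArank⟩ := @finite_and_finrank_le_of_injective_algebraMap K Γ(T, ⊤)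
    (∀ j, Γ((W j).toScheme, ⊤)) _ _ _ algA _ algAB htower hinj hPifin
  have hfinc : (strΓ c).hom.Finite := RingHom.finite_algebraMap.mpr hAfin
  obtain ⟨hc1, hc2⟩ := isFinite_and_finrank_eq c hfinc
  refine ⟨hc1, fun s => ?_⟩
  rw [hc2 s]
  refine hArank.trans ?_
  rw [Module.finrank_pi_fintype, finsum_eq_sum_of_fintype]
  exact Finset.sum_le_sum fun j _ => hBrank j

/-- Variant for a finite jointly surjective family of open immersions. -/
theorem isFinite_finrank_le_of_finite_openImmersion_cover {T : Scheme.{u}} {K : Type u} [Field K]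
    (c : T ⟶ Spec (CommRingCat.of K)) {J : Type*} [Finite J] (Tj : J → Scheme.{u}) (ι : ∀ j, Tj j ⟶ T)
    [∀ j, IsOpenImmersion (ι j)] (hsurj : ∀ t : ↥T, ∃ j, t ∈ Set.range (ι j)) (n : J → ℕ)
    (h : ∀ j, IsFinite (ι j ≫ c) ∧ ∀ s, (ι j ≫ c).finrank s ≤ n j) :
    IsFinite c ∧ ∀ s, c.finrank s ≤ ∑ᶠ j, n j := by
  refine isFinite_finrank_le_of_finite_open_cover c (fun j => (ι j).opensRange) (fun t => ?_) n
    (fun j => ?_)
  · obtain ⟨j, hj⟩ := hsurj t
    exact ⟨j, hj⟩
  · have hfin := (h j).1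
    have e : (ι j).opensRange.ι ≫ c = (ι j).isoOpensRange.inv ≫ (ι j ≫ c) := by
      rw [← Category.assoc, Scheme.Hom.isoOpensRange_inv_comp]
    have hflat : Flat (ι j ≫ c) := inferInstance
    rw [e]
    refine ⟨inferInstance, fun s => ?_⟩
    rw [Scheme.Hom.finrank_comp_left_of_isIso]
    exact (h j).2 s

/-- A scheme over a field receiving a finite jointly surjective family of flat morphisms from schemes finite over the
field is finite over the field, of degree at most the sum of the degrees. -/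
theorem isFinite_finrank_le_of_finite_flat_cover {T : Scheme.{u}} {K : Type u} [Field K]
    (c : T ⟶ Spec (CommRingCat.of K)) {J : Type u} [Finite J] (Tj : J → Scheme.{u}) (π : ∀ j, Tj j ⟶ T)
    (hflat : ∀ j, Flat (π j)) (hsurj : ∀ t : ↥T, ∃ j, t ∈ Set.range (π j)) (n : J → ℕ)
    (h : ∀ j, IsFinite (π j ≫ c) ∧ ∀ s, (π j ≫ c).finrank s ≤ n j) :
    IsFinite c ∧ ∀ s, c.finrank s ≤ ∑ᶠ j, n j := by
  have hloc : IsZariskiLocalAtSource (@Flat : MorphismProperty Scheme.{u}) :=
    HasRingHomProperty.instIsZariskiLocalAtSource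
  have hπflat : Flat (Limits.Sigma.desc π) := IsZariskiLocalAtSource.sigmaDesc hflat
  have hπsurj : AlgebraicGeometry.Surjective (Limits.Sigma.desc π) := by
    refine ⟨fun t => ?_⟩
    obtain ⟨j, y, hy⟩ := hsurj t
    refine ⟨Limits.Sigma.ι Tj j y, ?_⟩
    rw [← Scheme.Hom.comp_apply, Limits.Sigma.ι_desc]
    exact hy
  obtain ⟨h1, h2⟩ := isFinite_finrank_le_of_finite_openImmersion_cover (Limits.Sigma.desc π ≫ c) Tj
    (fun j => Limits.Sigma.ι Tj j) (fun t => by
      obtain ⟨j, y, hy⟩ := (sigmaOpenCover Tj).exists_eq t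
      exact ⟨j, y, hy⟩) n (fun j => by
      rw [← Category.assoc, Limits.Sigma.ι_desc]
      exact h j)
  exact isFinite_of_flat_surjective_comp (Limits.Sigma.desc π) c _ h2

end Groth.Agent.Lib.Helper54
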