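import Groth.Agent.Lib.Helper54.EtaleBound
import Groth.Agent.Lib.Helper54.UnivBddCover

/-!
# Étale morphisms between affine schemes have universally bounded fibres
-/

set_option autoImplicit false
universe u
open AlgebraicGeometry CategoryTheory CategoryTheory.Limits TensorProduct

namespace Groth.Agent.Lib.Helper54

/-- Ring-level bound for a pushout square over a standard étale algebra. -/
theorem finite_finrank_le_of_isPushout_standardEtale {A B C : CommRingCat.{u}} {K : Type u} [Field K]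
    (φ : A ⟶ B) (a : A ⟶ CommRingCat.of K) (k : CommRingCat.of K ⟶ C) (b : B ⟶ C)
    (hpo : IsPushout a φ k b) (n : ℕ)
    (h𝓟 : ∃ 𝓟 : @StandardEtalePresentation A B _ _ φ.hom.toAlgebra, 𝓟.f.natDegree ≤ n) :
    k.hom.Finite ∧ @Module.finrank K C _ _ k.hom.toAlgebra.toModule ≤ n := by
  let algAB : Algebra A B := φ.hom.toAlgebra
  let algAK : Algebra A K := a.hom.toAlgebra
  let algKC : Algebra K C := k.hom.toAlgebra
  let algBC : Algebra B C := b.hom.toAlgebra
  let algAC : Algebra A C := (k.hom.comp a.hom).toAlgebra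
  have t1 : IsScalarTower A K C := .of_algebraMap_eq' rfl
  have t2 : IsScalarTower A B C := .of_algebraMap_eq' <| congr($(hpo.w).hom)
  have hp : Algebra.IsPushout A K B C := CommRingCat.isPushout_iff_isPushout.mp hpo
  obtain ⟨𝓟, h𝓟⟩ := h𝓟
  obtain ⟨h1, h2⟩ := StandardEtalePresentation.finite_finrank_tensor_le 𝓟 K
  let e : K ⊗[A] B ≃ₐ[K] C := hp.equiv
  have hfin : Module.Finite K C := Module.Finite.equiv e.toLinearEquiv
  refine ⟨RingHom.finite_algebraMap.mpr hfin, ?_⟩
  rw [← e.toLinearEquiv.finrank_eq]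
  exact h2.trans h𝓟

/-- Scheme-level bound for the fibres of a morphism of affine schemes whose map on global sections is standard étale. -/
theorem isFinite_finrank_le_of_isPullback_standardEtale {P U T : Scheme.{u}} [IsAffine P] [IsAffine U]
    (f : P ⟶ U) {K : Type u} [Field K] (t : Spec (CommRingCat.of K) ⟶ U) (c : T ⟶ Spec (CommRingCat.of K))
    (s : T ⟶ P) (sq : IsPullback c s t f) (n : ℕ)
    (h𝓟 : ∃ 𝓟 : @StandardEtalePresentation Γ(U, ⊤) Γ(P, ⊤) _ _ f.appTop.hom.toAlgebra,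
      𝓟.f.natDegree ≤ n) :
    IsFinite c ∧ ∀ x, c.finrank x ≤ n := by
  have hTaff : IsAffine T := IsAffine.of_isPullback sq
  have hpo := isPushout_appTop_of_isPullback sq
  have hpo' : IsPushout (t.appTop ≫ (Scheme.ΓSpecIso (CommRingCat.of K)).hom) f.appTop (strΓ c) s.appTop :=
    hpo.of_iso (Iso.refl _) (Scheme.ΓSpecIso _) (Iso.refl _) (Iso.refl _) (by simp) (by simp)
      (by simp [strΓ]) (by simp)
  obtain ⟨h1, h2⟩ := finite_finrank_le_of_isPushout_standardEtale f.appTop _ (strΓ c) s.appTop hpo' n h𝓟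
  obtain ⟨h3, h4⟩ := isFinite_and_finrank_eq c h1
  exact ⟨h3, fun x => (h4 x).trans_le h2⟩

/-- An étale morphism between affine schemes has universally bounded fibres. -/
theorem exists_bound_of_etale_affine {P U : Scheme.{u}} [IsAffine P] [IsAffine U] (f : P ⟶ U) [Etale f] :
    ∃ n : ℕ, ∀ (K : Type u) [Field K] (t : Spec (CommRingCat.of K) ⟶ U) (T : Scheme.{u})
      (c : T ⟶ Spec (CommRingCat.of K)) (s : T ⟶ P),
      IsPullback c s t f → IsFinite c ∧ ∀ x, c.finrank x ≤ n := by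
  classical
  let algAB : Algebra Γ(U, ⊤) Γ(P, ⊤) := f.appTop.hom.toAlgebra
  have het : Algebra.Etale Γ(U, ⊤) Γ(P, ⊤) :=
    (HasRingHomProperty.iff_of_isAffine (P := @Etale)).mp inferInstance
  obtain ⟨s', hs', hstd⟩ := exists_finset_span_eq_top_isStandardEtale Γ(U, ⊤) Γ(P, ⊤)
  -- a presentation for each member of the cover
  have hpres : ∀ g : ↥s', Nonempty (@StandardEtalePresentation Γ(U, ⊤) Γ((P.basicOpen g.1).toScheme, ⊤) _ _
      ((P.basicOpen g.1).ι ≫ f).appTop.hom.toAlgebra) := by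
    intro g
    let algA_Bg : Algebra Γ(U, ⊤) Γ((P.basicOpen g.1).toScheme, ⊤) :=
      ((P.basicOpen g.1).ι ≫ f).appTop.hom.toAlgebra
    have tower : IsScalarTower Γ(U, ⊤) Γ(P, ⊤) Γ((P.basicOpen g.1).toScheme, ⊤) :=
      .of_algebraMap_eq' (by
        change ((P.basicOpen g.1).ι ≫ f).appTop.hom = ((P.basicOpen g.1).ι.appTop.hom).comp f.appTop.hom
        rw [Scheme.Hom.comp_appTop]; rfl)
    have hstdg := hstd g.1 g.2
    let e : Localization.Away g.1 ≃ₐ[Γ(U, ⊤)] Γ((P.basicOpen g.1).toScheme, ⊤) :=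
      (IsLocalization.algEquiv (Submonoid.powers g.1) (Localization.Away g.1)
        Γ((P.basicOpen g.1).toScheme, ⊤)).restrictScalars Γ(U, ⊤)
    have : Algebra.IsStandardEtale Γ(U, ⊤) Γ((P.basicOpen g.1).toScheme, ⊤) := .of_equiv e
    exact this.nonempty_standardEtalePresentation
  let 𝓟 := fun g : ↥s' => (hpres g).some
  refine ⟨∑ᶠ g : ↥s', (𝓟 g).f.natDegree, ?_⟩
  intro K _ t T c s sq
  refine isFinite_finrank_le_of_finite_open_cover c (fun g : ↥s' => s ⁻¹ᵁ P.basicOpen g.1) (fun x => ?_)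
    (fun g => (𝓟 g).f.natDegree) (fun g => ?_)
  · have hcov : ⨆ g : ((s' : Set Γ(P, ⊤))), P.basicOpen (g : Γ(P, ⊤)) = ⊤ :=
      (isAffineOpen_top P).iSup_basicOpen_eq_self_iff.mpr hs'
    have hx : s x ∈ (⨆ g : ((s' : Set Γ(P, ⊤))), P.basicOpen (g : Γ(P, ⊤))) := by
      rw [hcov]; trivial
    obtain ⟨g, hg⟩ := TopologicalSpace.Opens.mem_iSup.1 hx
    exact ⟨⟨g.1, g.2⟩, hg⟩
  · have haff : IsAffine (P.basicOpen g.1).toScheme := (isAffineOpen_top P).basicOpen g.1
    have top := isPullback_morphismRestrict s (P.basicOpen g.1)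
    have big := (top.paste_vert sq.flip).flip
    exact isFinite_finrank_le_of_isPullback_standardEtale ((P.basicOpen g.1).ι ≫ f) t _ _ big _
      ⟨𝓟 g, le_rfl⟩

end Groth.Agent.Lib.Helper54
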