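import Groth.Agent.Lib.Helper54.GeomReducedSp
import Groth.Agent.H53.SpTop
import Mathlib.AlgebraicGeometry.Morphisms.QuasiFinite
import Mathlib.AlgebraicGeometry.Noetherian
import Groth.Agent.Lib.Helper54.EtLocalInst

/-!
# Finiteness of fibres of `|U| → |X|` over a point, for étale charts
-/

set_option autoImplicit false
universe u
open CategoryTheory CategoryTheory.Limits AlgebraicGeometry
open AlgSp

namespace Groth.Agent.Lib.Helper54

/-- A locally quasi-finite morphism from a quasi-compact scheme has finite fibres. -/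
theorem finite_preimage_singleton_of_compactSpace {A U : Scheme.{u}} (f : A ⟶ U) [LocallyQuasiFinite f]
    [CompactSpace ↥A] (y : U) : (f ⁻¹' {y}).Finite := by
  have : QuasiCompact (U.fromSpecResidueField y) := quasiCompact_of_noetherianSpace_source _
  have hc : CompactSpace ↥(f.fiber y) := by
    unfold Scheme.Hom.fiber
    infer_instance
  have hcomp : IsCompact (f ⁻¹' {y}) := f.range_fiberι y ▸ isCompact_range (f.fiberι y).continuous
  exact hcomp.finite (f.isDiscrete_preimage_singleton y)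

variable {S : Scheme.{u}}

/-- If a jointly surjective family of étale charts has finite fibres over the point `x`, then so has every étale chart
from an affine scheme. -/
theorem finite_fibre_of_etale_cover {X : Sp S} (x : Points X) {ι : Type u} (U : ι → Over S)
    (φ : ∀ i, (yon S).obj (U i) ⟶ X) (hφ : ∀ i, RepWith @Etale (φ i))
    (hsurj : ∀ y : Points X, ∃ (i : ι) (v : ↥(U i).left), Points.ofPt (φ i) v = y)
    (hfin : ∀ i, (Points.ofPt (φ i) ⁻¹' {x}).Finite)
    {V : Over S} [CompactSpace ↥V.left] (ψ : (yon S).obj V ⟶ X) (hψ : RepWith @Etale ψ) :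
    (Points.ofPt ψ ⁻¹' {x}).Finite := by
  -- the fibre products `P i = U i ×_X V`
  have hrep : ∀ i, Representable (φ i) := fun i => (hφ i).rep
  have sq : ∀ i, IsPullback ((hrep i).fst ψ) ((yon S).map ((hrep i).snd ψ)) (φ i) ψ :=
    fun i => (hrep i).isPullback ψ
  choose ρ hρ using fun i => (yon S).map_surjective ((hrep i).fst ψ)
  have hsnd : ∀ i, Etale ((hrep i).snd ψ).left := fun i => (hφ i).property ψ _ _ (sq i)
  have hρe : ∀ i, Etale (ρ i).left := fun i =>
    hψ.property (φ i) _ _ (by rw [hρ i]; exact (sq i).flip)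
  -- the images of the affine opens of the `P i` cover `V`
  have hcov : ∀ v : ↥V.left, ∃ (i : ι) (A : ((hrep i).pullback ψ).left.affineOpens),
      v ∈ ((hrep i).snd ψ).left '' (A.1 : Set ↥((hrep i).pullback ψ).left) := by
    intro v
    obtain ⟨i, u, hu⟩ := hsurj (Points.ofPt ψ v)
    obtain ⟨p, -, hp⟩ := exists_pt_of_isPullback_yon (sq i) (Points.ofScheme (U i) u) v
      (by rw [← Points.ofPt_eq_map_ofScheme]; exact hu)
    obtain ⟨_, ⟨A, hA : IsAffineOpen A, rfl⟩, hpA, -⟩ :=
      ((hrep i).pullback ψ).left.isBasis_affineOpens.exists_subset_of_mem_open (Set.mem_univ p) isOpen_univ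
    exact ⟨i, ⟨A, hA⟩, p, hpA, hp⟩
  have hopen : ∀ (i : ι) (A : ((hrep i).pullback ψ).left.affineOpens),
      IsOpen (((hrep i).snd ψ).left '' (A.1 : Set ↥((hrep i).pullback ψ).left)) := fun i A => by
    have := hsnd i
    exact ((hrep i).snd ψ).left.isOpenMap _ A.1.2
  obtain ⟨t, ht⟩ := isCompact_univ.elim_finite_subcover
    (fun (z : Σ i, ((hrep i).pullback ψ).left.affineOpens) =>
      ((hrep z.1).snd ψ).left '' (z.2.1 : Set ↥((hrep z.1).pullback ψ).left))
    (fun z => hopen z.1 z.2)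
    (fun v _ => by
      obtain ⟨i, A, hv⟩ := hcov v
      exact Set.mem_iUnion.mpr ⟨⟨i, A⟩, hv⟩)
  -- the fibre is contained in a finite union of finite sets
  have hsub : Points.ofPt ψ ⁻¹' {x} ⊆ ⋃ z ∈ t, ⋃ u ∈ (Points.ofPt (φ z.1) ⁻¹' {x}),
      ((hrep z.1).snd ψ).left '' ((z.2.1 : Set ↥((hrep z.1).pullback ψ).left) ∩ (ρ z.1).left ⁻¹' {u}) := by
    intro v hv
    obtain ⟨z, hz, p, hpA, rfl⟩ : ∃ z ∈ t, v ∈ ((hrep z.1).snd ψ).left ''
        (z.2.1 : Set ↥((hrep z.1).pullback ψ).left) := by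
      have := ht (Set.mem_univ v)
      simpa only [Set.mem_iUnion, exists_prop] using this
    refine Set.mem_iUnion₂.mpr ⟨z, hz, Set.mem_iUnion₂.mpr ⟨(ρ z.1).left p, ?_, p, ⟨hpA, rfl⟩, rfl⟩⟩
    change Points.ofPt (φ z.1) ((ρ z.1).left p) = x
    rw [← ofPt_yon_map_comp, hρ, (sq z.1).w, ofPt_yon_map_comp]
    exact hv
  refine Set.Finite.subset ?_ hsub
  refine t.finite_toSet.biUnion fun z _ => (hfin z.1).biUnion fun u _ => Set.Finite.image _ ?_
  have : IsAffine (z.2.1 : ((hrep z.1).pullback ψ).left.Opens) := z.2.2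
  have hlqf : LocallyQuasiFinite ((z.2.1).ι ≫ (ρ z.1).left) := by
    have := hρe z.1
    have : LocallyQuasiFinite (ρ z.1).left := locallyQuasiFinite_of_formallyUnramified _
    infer_instance
  have hfib := finite_preimage_singleton_of_compactSpace ((z.2.1).ι ≫ (ρ z.1).left) u
  refine (hfib.image (z.2.1).ι).subset ?_
  rintro p ⟨hpA, hpu⟩
  exact ⟨⟨p, hpA⟩, hpu, rfl⟩

end Groth.Agent.Lib.Helper54
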