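import Groth.Agent.Lib.Helper54.FinQuot
import Groth.Agent.Lib.Helper54.OpenSubspace
import Groth.Agent.H53.OpenSub2
import Groth.Agent.H52.Top
import Mathlib.AlgebraicGeometry.PullbackCarrier

/-!
# The schematic locus of a finite locally free quotient (helper54)

`FinAff U`: every finite set of points of an open `O` of `U` lies in an affine open contained in `O`.
`representable_openSub_of_finLocFree`: if `f : X ⟶ Y` is finite locally free and surjective and `h_U ⟶ X` is
an open immersion from a scheme with `FinAff`, then the open subspace of `Y` of points whose fibre lies in `U`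
is a scheme.
-/

set_option autoImplicit false
set_option linter.style.haveILetI false
universe u
open CategoryTheory CategoryTheory.Limits AlgebraicGeometry

namespace Groth.Agent.Lib.Helper54
open AlgSp

variable {S : Scheme.{u}}

/-- Every finite set of points of an open `O` lies in an affine open contained in `O`. -/
def FinAff (U : Scheme.{u}) : Prop :=
  ∀ (O : U.Opens) (E : Set U), E.Finite → E ⊆ O → ∃ A : U.Opens, IsAffineOpen A ∧ E ⊆ A ∧ A ≤ O

theorem finAff_of_isAffine (U : Scheme.{u}) [IsAffine U] : FinAff U := by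
  intro O E hE hEO
  obtain ⟨f, hf1, hf2⟩ := Groth.Agent.Lib.Helper37.exists_basicOpen_le_of_finite_of_isAffineOpen
    (isAffineOpen_top U) O E hE (fun _ _ => trivial) hEO
  exact ⟨U.basicOpen f, (isAffineOpen_top U).basicOpen f, hf1, hf2⟩

theorem FinAff.of_openImmersion {U' U : Scheme.{u}} (ι : U' ⟶ U) [IsOpenImmersion ι] (h : FinAff U) :
    FinAff U' := by
  intro O' E' hE' hEO'
  obtain ⟨A, hA, hEA, hAO⟩ := h (ι ''ᵁ O') (ι '' E') (hE'.image _)
    (by rintro _ ⟨x, hx, rfl⟩; exact ⟨x, hEO' hx, rfl⟩)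
  have hAr : A ≤ ι.opensRange := by
    intro y hy
    obtain ⟨x, -, rfl⟩ := hAO hy
    exact ⟨x, rfl⟩
  refine ⟨ι ⁻¹ᵁ A, hA.preimage_of_isOpenImmersion ι hAr, fun x hx => hEA ⟨x, hx, rfl⟩, ?_⟩
  intro x hx
  obtain ⟨x', hx', hxx'⟩ := hAO hx
  have : x' = x := ι.isOpenEmbedding.injective hxx'
  exact this ▸ hx'

theorem FinAff.exists_affine {U : Scheme.{u}} (h : FinAff U) (E : Set U) (hE : E.Finite) :
    ∃ W : U.Opens, IsAffineOpen W ∧ E ⊆ W := by
  obtain ⟨A, hA, hEA, -⟩ := h ⊤ E hE (fun _ _ => trivial)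
  exact ⟨A, hA, hEA⟩

theorem isOpen_range_ofPt_of_isOpenImmersion {X : Sp S} {U : Over S} (a : (yon S).obj U ⟶ X)
    (ha : RepWith @IsOpenImmersion a) : IsOpen (Set.range (Points.ofPt a)) := by
  rw [← Groth.Agent.H53.range_points_map_eq_range_ofPt]
  exact (Groth.Agent.H52.isOpenMap_points_of_repWith a @IsOpenImmersion
    (fun _ _ φ hφ => by have := hφ; exact φ.isOpenEmbedding.isOpenMap) ha).isOpen_range

/-- **The schematic locus of a finite locally free quotient.** -/
theorem representable_openSub_of_finLocFree {X Y : Sp S} (f : X ⟶ Y) (hf : RepWith finLocFree f)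
    (hs : RepWith @Surjective f) {U : Over S} (a : (yon S).obj U ⟶ X)
    (ha : RepWith @IsOpenImmersion a) (hU : FinAff U.left) :
    IsOpen (Points.map f '' (Set.range (Points.ofPt a))ᶜ)ᶜ ∧
      (openSub Y (Points.map f '' (Set.range (Points.ofPt a))ᶜ)ᶜ).obj.IsRepresentable := by
  haveI : (RepWith (S := S) @Surjective).IsStableUnderBaseChange := repWith_isStableUnderBaseChange _
  have hcl : IsClosedMap (Points.map f) :=
    Groth.Agent.H52.isClosedMap_points_of_repWith f finLocFree
      (fun _ _ φ hφ => by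
        have : IsFinite φ := hφ.1
        exact φ.isClosedMap) hf
  have hO := isOpen_range_ofPt_of_isOpenImmersion a ha
  have hV : IsOpen (Points.map f '' (Set.range (Points.ofPt a))ᶜ)ᶜ :=
    (hcl _ hO.isClosed_compl).isOpen_compl
  refine ⟨hV, ?_⟩
  obtain ⟨V', hV'def⟩ : ∃ V' : Set (Points Y), V' = (Points.map f '' (Set.range (Points.ofPt a))ᶜ)ᶜ :=
    ⟨_, rfl⟩
  rw [← hV'def] at hV ⊢
  have hι := repWith_isOpenImmersion_openSubι Y V' hV
  have sq := IsPullback.of_hasPullback f (openSubι Y V')
  have hfst : RepWith @IsOpenImmersion (pullback.fst f (openSubι Y V')) :=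
    MorphismProperty.of_isPullback sq.flip hι
  have hsnd : RepWith finLocFree (pullback.snd f (openSubι Y V')) :=
    MorphismProperty.of_isPullback sq hf
  have hsnds : RepWith @Surjective (pullback.snd f (openSubι Y V')) :=
    MorphismProperty.of_isPullback sq hs
  -- the open subspace `X'` lies in `U`
  have hrange : Set.range (Points.map (pullback.fst f (openSubι Y V'))) ⊆ Set.range (Points.map a) := by
    rw [Groth.Agent.H53.range_points_map_eq_range_ofPt]
    rintro _ ⟨x', rfl⟩
    by_contra hx
    have h1 : Points.map (openSubι Y V') (Points.map (pullback.snd f (openSubι Y V')) x') ∈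
        Set.range (Points.map (openSubι Y V')) := ⟨_, rfl⟩
    rw [range_points_map_openSubι Y V', ← Points.map_comp, ← pullback.condition, Points.map_comp] at h1
    have h2 : V' ⊆ (Points.map f '' (Set.range (Points.ofPt a))ᶜ)ᶜ := hV'def.le
    exact h2 h1 ⟨_, hx, rfl⟩
  haveI hmono : Mono a := Groth.Agent.H52.mono_of_repWith a @IsOpenImmersion
    (fun _ _ g hg => by have := hg; infer_instance) ha
  obtain ⟨k, hk⟩ := Groth.Agent.H53.exists_factor_of_range_subset a ha _ hrange
  have hkoi : RepWith @IsOpenImmersion k :=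
    Groth.Agent.H53.repWith_of_comp_mono _ k a (hk ▸ hfst)
  have hkr := hkoi.rep
  have sq1 := hkr.isPullback (𝟙 ((yon S).obj U))
  have hiso : IsIso (hkr.fst (𝟙 ((yon S).obj U))) := sq1.isIso_fst_of_isIso
  have hι' : IsOpenImmersion (hkr.snd (𝟙 ((yon S).obj U))).left := hkoi.property_snd _
  have hU' : FinAff (hkr.pullback (𝟙 ((yon S).obj U))).left :=
    hU.of_openImmersion (hkr.snd (𝟙 ((yon S).obj U))).left
  -- the chart of `Y'`
  have sqp : IsPullback (hkr.fst (𝟙 ((yon S).obj U)))
      (hkr.fst (𝟙 ((yon S).obj U)) ≫ pullback.snd f (openSubι Y V'))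
      (pullback.snd f (openSubι Y V')) (𝟙 _) :=
    IsPullback.of_horiz_isIso ⟨by rw [Category.comp_id]⟩
  have hp1 : RepWith finLocFree (hkr.fst (𝟙 ((yon S).obj U)) ≫ pullback.snd f (openSubι Y V')) :=
    MorphismProperty.of_isPullback sqp hsnd
  have hp2 : RepWith @Surjective (hkr.fst (𝟙 ((yon S).obj U)) ≫ pullback.snd f (openSubι Y V')) :=
    MorphismProperty.of_isPullback sqp hsnds
  obtain ⟨M, m, e, -, -, -⟩ := representable_of_finLocFree_chart _ hp1 hp2
    (fun E hE => hU'.exists_affine E hE)
  exact (representableByOfIso e.symm).isRepresentable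

end Groth.Agent.Lib.Helper54
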