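import Groth.Agent.Lib.Helper54.LqfSepScheme
import Groth.Agent.H53.Finite

set_option autoImplicit false
set_option backward.isDefEq.respectTransparency false
universe u
open CategoryTheory CategoryTheory.Limits AlgebraicGeometry

namespace Groth.Agent.Lib.Helper54
open AlgSp
variable {S : Scheme.{u}}

/-- An algebraic space separated over a scheme `Z`, with an étale surjective chart which is finite
over `Z`, is a scheme finite over `Z`. -/
theorem exists_iso_yon_finite_of_chart {Z : Over S} {P : Sp S} (hP : IsAlgSpace P)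
    (π : P ⟶ (yon S).obj Z) (hsep : IsSeparatedMor π) {W : Over S} (q : (yon S).obj W ⟶ P)
    (hqe : RepWith @Etale q) (hqs : RepWith @Surjective q) (w : W ⟶ Z)
    (hw : q ≫ π = (yon S).map w) (hfin : IsFinite w.left) :
    ∃ (W' : Over S) (w' : W' ⟶ Z) (e : (yon S).obj W' ≅ P),
      e.hom ≫ π = (yon S).map w' ∧ IsFinite w'.left := by
  have hlqf : LocallyQuasiFinite w.left := inferInstance
  have hlft : LocallyOfFiniteType w.left := inferInstance
  have hloc : LocP (@LocallyQuasiFinite ⊓ @LocallyOfFiniteType) π :=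
    Groth.Agent.H52.isEtLocal_lqf_lft.locP_of_chart π q (𝟙 _) w hqe hqs (repWith_id _ Z)
      (by rw [Category.comp_id, hw]) ⟨hlqf, hlft⟩
  obtain ⟨⟨W', ⟨r⟩⟩⟩ := isRepresentable_of_lqf_separated hP π hloc hsep
  obtain ⟨w', hw'⟩ := (yon S).map_surjective ((isoOfRepresentableBy r).hom ≫ π)
  refine ⟨W', w', isoOfRepresentableBy r, hw'.symm, ?_⟩
  obtain ⟨c, hc⟩ := (yon S).map_surjective (q ≫ (isoOfRepresentableBy r).inv)
  have hcw : c ≫ w' = w := by
    apply (yon S).map_injective
    rw [Functor.map_comp, hc, hw', Category.assoc, Iso.inv_hom_id_assoc, hw]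
  have hcwl : c.left ≫ w'.left = w.left := by rw [← Over.comp_left, hcw]
  have hce : Etale c.left := by
    apply (repWith_yon_map_iff _ _).1
    rw [hc]
    exact (MorphismProperty.cancel_right_of_respectsIso (RepWith (S := S) @Etale) _ _).2 hqe
  have hcs : Surjective c.left := by
    apply (repWith_yon_map_iff _ _).1
    rw [hc]
    exact (MorphismProperty.cancel_right_of_respectsIso (RepWith (S := S) @Surjective) _ _).2 hqs
  have hP' : (@LocallyQuasiFinite ⊓ @LocallyOfFiniteType : MorphismProperty Scheme.{u}) w'.left :=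
    Groth.Agent.H52.isEtLocal_lqf_lft.source c.left w'.left hce hcs (by rw [hcwl]; exact ⟨hlqf, hlft⟩)
  have h1 : LocallyQuasiFinite w'.left := hP'.1
  have h2 : LocallyOfFiniteType w'.left := hP'.2
  have h3 : IsSeparated w'.left := by
    rw [← isSeparatedMor_yon_map_iff, hw']
    exact Groth.Agent.H52.repWith_diagonal_comp @IsClosedImmersion _ _
      (Groth.Agent.H52.isSeparatedMor_of_repWith_mono _) hsep
  have h4 : UniversallyClosed w'.left := by
    have : UniversallyClosed (c.left ≫ w'.left) := by rw [hcwl]; infer_instance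
    exact UniversallyClosed.of_comp_surjective c.left w'.left
  have h5 : QuasiCompact w'.left := inferInstance
  have h6 : IsProper w'.left := { }
  exact IsFinite.of_isProper_of_locallyQuasiFinite w'.left


/-- S16833: if `p : U ⟶ X` is étale and surjective, `f : X ⟶ Y` is separated and `p ≫ f` is finite,
then `f` is finite. -/
theorem isFiniteMor_of_etale_surjective_comp_finite {U X Y : Sp S} (hU : IsAlgSpace U)
    (hX : IsAlgSpace X) (hY : IsAlgSpace Y) (p : U ⟶ X) (f : X ⟶ Y) (hp : IsEtaleMor p)
    (hps : IsSurjectiveMor p) (hf : IsSeparatedMor f) (h : IsFiniteMor (p ≫ f)) :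
    IsFiniteMor f := by
  intro Z hZ g
  have hZaff : IsAffine Z.left := hZ
  obtain ⟨W, i, fstW, sqW, hWaff, hfin⟩ := h hZ g
  have sqX := IsPullback.of_hasPullback f g
  have hXZ : IsAlgSpace (pullback f g) :=
    Groth.Agent.H52.isAlgSpace_of_isPullback sqX hX hY (IsAlgSpace.yon_obj Z)
  obtain ⟨q, hq1, hq2⟩ : ∃ q : (yon S).obj W ⟶ pullback f g, q ≫ pullback.fst f g = fstW ≫ p ∧
      q ≫ pullback.snd f g = (yon S).map i :=
    ⟨sqX.lift (fstW ≫ p) ((yon S).map i) (by rw [Category.assoc]; exact sqW.w),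
      sqX.lift_fst _ _ _, sqX.lift_snd _ _ _⟩
  have sqq : IsPullback fstW q p (pullback.fst f g) := by
    refine IsPullback.of_bot ?_ hq1.symm sqX
    rw [hq2]
    exact sqW
  have hqet : IsEtaleMor q :=
    isEtaleMor_of_isPullback hU hX (IsAlgSpace.yon_obj W) hXZ sqq hp
  have hqe : RepWith @Etale q := by
    have := hqet (𝟙 _) (repWith_id _ W)
    rwa [Category.id_comp] at this
  have hqs : RepWith @Surjective q := by
    refine Groth.Agent.H52.repWith_surjective_of_surjective_points q hqe.rep ?_
    intro y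
    obtain ⟨u, hu⟩ := hps (Points.map (pullback.fst f g) y)
    obtain ⟨w, -, hw⟩ := Groth.Agent.H52.exists_point_of_isPullback sqq u y hu
    exact ⟨w, hw⟩
  have hsepπ : IsSeparatedMor (pullback.snd f g) :=
    Groth.Agent.H52.repWith_diagonal_of_isPullback @IsClosedImmersion sqX hf
  obtain ⟨W', w', e, he, hfin'⟩ :=
    exists_iso_yon_finite_of_chart hXZ (pullback.snd f g) hsepπ q hqe hqs i hq2 hfin
  have hW'aff : IsAffine W'.left := isAffine_of_isAffineHom w'.left
  refine ⟨W', w', e.hom ≫ pullback.fst f g, ?_, hW'aff, hfin'⟩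
  rw [← he]
  exact IsPullback.of_iso sqX e.symm (Iso.refl _) (Iso.refl _) (Iso.refl _)
    (by simp) (by simp) (by simp) (by simp)

end Groth.Agent.Lib.Helper54
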