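import Groth.Agent.Lib.Helper54.DecentTop
import Groth.Agent.Lib.Helper54.DecentPts
import Groth.Agent.H53.ZarGlueInt
import Mathlib.AlgebraicGeometry.Morphisms.QuasiFinite

/-!
# Dimension functions and finite surjective morphisms (helper54)
-/

set_option autoImplicit false
set_option linter.style.haveILetI false
universe u
open CategoryTheory CategoryTheory.Limits AlgebraicGeometry Topology
open AlgSp

namespace Groth.Agent.Lib.Helper54

variable {S : Scheme.{u}}

/-- Points of a fibre of a locally quasi-finite morphism of schemes do not specialize to each other. -/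
theorem eq_of_specializes_of_locallyQuasiFinite {P V : Scheme.{u}} (g : P ⟶ V) [LocallyQuasiFinite g]
    {p p' : ↥P} (h : p ⤳ p') (he : g p = g p') : p = p' := by
  have hd := g.isDiscrete_preimage_singleton (g p')
  rw [isDiscrete_iff_forall_mem_exists_isOpen] at hd
  obtain ⟨O, hO, hOs⟩ := hd p' rfl
  have hp' : p' ∈ O := by
    have : p' ∈ O ∩ g ⁻¹' {g p'} := by rw [hOs]; rfl
    exact this.1
  have hp : p ∈ O ∩ g ⁻¹' {g p'} := ⟨h.mem_open hO hp', he⟩
  rw [hOs] at hp
  exact hp

/-- The fibres of a finite morphism between decent algebraic spaces have no nontrivial specializations. -/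
theorem eq_of_specializes_of_isFiniteMor {X Y : Sp S} (hX : IsAlgSpace X) (hY : IsAlgSpace Y)
    (hXd : IsDecent X) (hYd : IsDecent Y) (f : Y ⟶ X) (hf : IsFiniteMor f) {y z : Points Y} (h : y ⤳ z)
    (he : Points.map f y = Points.map f z) : y = z := by
  haveI : (RepWith (S := S) @Etale).IsStableUnderBaseChange := repWith_isStableUnderBaseChange _
  obtain ⟨U, b, v, hU, hb, hv⟩ := exists_affine_chart_through hX (Points.map f z)
  have hr : RepWith @IsFinite f := (Groth.Agent.H53.ZarGlue.isFiniteMor_iff_repWith _).1 hf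
  have sq := hr.rep.isPullback b
  have hfin : IsFinite (hr.rep.snd b).left := hr.property_snd b
  have hfst : RepWith @Etale (hr.rep.fst b) := MorphismProperty.of_isPullback sq.flip hb
  obtain ⟨pz, hpz1, hpz2⟩ := exists_pt_of_isPullback_yon sq z v hv.symm
  obtain ⟨py, hpy1, hpy2⟩ := exists_generization_of_isDecent hY hYd (hr.rep.fst b) hfst pz y
    (by rw [hpz1]; exact h)
  have hspec : (hr.rep.snd b).left py ⤳ v := by
    rw [← hpz2]
    exact hpy1.map (hr.rep.snd b).left.continuous
  have himg : Points.ofPt b ((hr.rep.snd b).left py) = Points.ofPt b v := by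
    rw [← Groth.Agent.H52.ofPt_yon_map_comp, ← sq.w, ← Points.map_ofPt, hpy2, he, hv]
  have hveq : v = (hr.rep.snd b).left py :=
    eq_of_specializes_of_ofPt_eq hX hXd b hb v _ himg.symm hspec
  have hpp : py = pz :=
    eq_of_specializes_of_locallyQuasiFinite (hr.rep.snd b).left hpy1 (by rw [← hveq, hpz2])
  rw [← hpy2, hpp, hpz1]

/-- A function on the points of the target of a finite surjective morphism of decent algebraic spaces is a dimension
function as soon as its composite with the morphism is. -/
theorem dimFun_of_comp_finite_surjective {X Y : Sp S} (hX : IsAlgSpace X) (hY : IsAlgSpace Y)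
    (hXd : IsDecent X) (hYd : IsDecent Y) (f : Y ⟶ X) (hf : IsFiniteMor f) (hs : IsSurjectiveMor f)
    (δ : Points X → ℤ)
    (hδ : ∀ a b : Points Y, a ⤳ b → a ≠ b → δ (Points.map f b) < δ (Points.map f a) ∧
      ((∀ c : Points Y, a ⤳ c → c ⤳ b → c = a ∨ c = b) → δ (Points.map f a) = δ (Points.map f b) + 1)) :
    ∀ a b : Points X, a ⤳ b → a ≠ b → δ b < δ a ∧
      ((∀ c : Points X, a ⤳ c → c ⤳ b → c = a ∨ c = b) → δ a = δ b + 1) := by
  have hr : RepWith @IsFinite f := (Groth.Agent.H53.ZarGlue.isFiniteMor_iff_repWith _).1 hf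
  have hcl : IsClosedMap (Points.map f) :=
    Groth.Agent.H52.isClosedMap_points_of_repWith f @IsFinite
      (fun _ _ φ hφ => by
        have : IsFinite φ := hφ
        exact φ.isClosedMap) hr
  intro a b hab hne
  obtain ⟨y, rfl⟩ := hs a
  have hcl' : IsClosed (Points.map f '' closure {y}) := hcl _ isClosed_closure
  have hb : b ∈ Points.map f '' closure {y} := by
    have h1 : closure {Points.map f y} ⊆ Points.map f '' closure {y} :=
      closure_minimal (by
        rintro _ rfl
        exact ⟨y, subset_closure rfl, rfl⟩) hcl'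
    exact h1 (specializes_iff_mem_closure.1 hab)
  obtain ⟨y', hy', rfl⟩ := hb
  have hyy' : y ⤳ y' := specializes_iff_mem_closure.2 hy'
  have hne' : y ≠ y' := fun h => hne (by rw [h])
  obtain ⟨h1, h2⟩ := hδ y y' hyy' hne'
  refine ⟨h1, fun himm => h2 fun z hyz hzy' => ?_⟩
  rcases himm (Points.map f z) (hyz.map (Points.continuous_map f)) (hzy'.map (Points.continuous_map f))
    with h | h
  · exact Or.inl (eq_of_specializes_of_isFiniteMor hX hY hXd hYd f hf hyz h.symm).symm
  · exact Or.inr (eq_of_specializes_of_isFiniteMor hX hY hXd hYd f hf hzy' h)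

end Groth.Agent.Lib.Helper54
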