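/-
Helper library (helper54): a scheme finite over the spectrum of a field of degree at most `n` has at most `n` points.
-/
import Mathlib.AlgebraicGeometry.Morphisms.FlatRank
import Mathlib.RingTheory.Artinian.Ring
import Mathlib.RingTheory.Ideal.Quotient.Operations
import Mathlib.LinearAlgebra.Dimension.Constructions
import Mathlib.LinearAlgebra.FiniteDimensional.Lemmas

set_option autoImplicit false
universe u
open AlgebraicGeometry CategoryTheory Module Function

namespace Groth.Agent.Lib.Helper54

/-- A finite-dimensional algebra over a field has at most as many primes as its dimension. -/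
theorem card_primeSpectrum_le_finrank (K A : Type*) [Field K] [CommRing A] [Algebra K A]
    [Module.Finite K A] : Nat.card (PrimeSpectrum A) ≤ Module.finrank K A := by
  classical
  have : IsArtinianRing A := IsArtinianRing.of_finite K A
  have : Finite (PrimeSpectrum A) := inferInstance
  cases nonempty_fintype (PrimeSpectrum A)
  let I : PrimeSpectrum A → Ideal A := fun p => p.asIdeal
  have hI : Pairwise (IsCoprime on I) := by
    intro p q hpq
    have hp : (I p).IsMaximal := IsArtinianRing.isMaximal_of_isPrime _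
    have hq : (I q).IsMaximal := IsArtinianRing.isMaximal_of_isPrime _
    exact Ideal.isCoprime_of_isMaximal (fun h => hpq (PrimeSpectrum.ext h))
  have hs := Ideal.pi_mkQ_surjective hI
  have h1 : Module.finrank K (∀ p : PrimeSpectrum A, A ⧸ I p) ≤ Module.finrank K A := by
    exact LinearMap.finrank_le_finrank_of_surjective
      (f := (LinearMap.pi fun i ↦ (I i).mkQ).restrictScalars K) hs
  have h2 : Fintype.card (PrimeSpectrum A) ≤ Module.finrank K (∀ p : PrimeSpectrum A, A ⧸ I p) := by
    rw [Module.finrank_pi_fintype]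
    calc Fintype.card (PrimeSpectrum A) = ∑ _p : PrimeSpectrum A, 1 := by simp
      _ ≤ _ := Finset.sum_le_sum fun p _ => by
        have : Nontrivial (A ⧸ I p) := Ideal.Quotient.nontrivial_iff.mpr p.2.ne_top
        exact Module.finrank_pos
  rw [Nat.card_eq_fintype_card]
  exact h2.trans h1

theorem hom_eq_toSpecΓ_comp {T : Scheme.{u}} {R : CommRingCat.{u}} (c : T ⟶ Spec R) :
    c = T.toSpecΓ ≫ Spec.map ((Scheme.ΓSpecIso R).inv ≫ c.appTop) := by
  rw [Spec.map_comp, ← Scheme.toSpecΓ_naturality_assoc]
  simp

/-- A scheme finite over the spectrum of a field, of rank at most `n`, has at most `n` points. -/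
theorem card_le_of_isFinite_of_finrank_le {T : Scheme.{u}} {K : Type u} [Field K]
    (c : T ⟶ Spec (CommRingCat.of K)) [IsFinite c] (n : ℕ) (h : ∀ s, c.finrank s ≤ n) :
    Finite ↥T ∧ Nat.card ↥T ≤ n := by
  have : IsAffine T := isAffine_of_isAffineHom c
  let ψ : CommRingCat.of K ⟶ Γ(T, ⊤) := (Scheme.ΓSpecIso (CommRingCat.of K)).inv ≫ c.appTop
  have hc : c = T.isoSpec.hom ≫ Spec.map ψ := hom_eq_toSpecΓ_comp c
  have hfin : IsFinite (Spec.map ψ) := by
    have h1 : Spec.map ψ = T.isoSpec.inv ≫ c := by rw [hc, Iso.inv_hom_id_assoc]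
    rw [h1]; infer_instance
  have hψfin : ψ.hom.Finite := (IsFinite.SpecMap_iff ψ).mp hfin
  have hψflat : ψ.hom.Flat := by
    algebraize [ψ.hom]
    exact (RingHom.flat_algebraMap_iff).mpr inferInstance
  have hflat : Flat (Spec.map ψ) := Flat.SpecMap_iff.mpr hψflat
  algebraize [ψ.hom]
  have hfin' : Module.Finite K Γ(T, ⊤) := RingHom.finite_algebraMap.mp hψfin
  have hrank : ∀ s, c.finrank s = Module.finrank K Γ(T, ⊤) := by
    intro s
    rw [hc, Scheme.Hom.finrank_comp_left_of_isIso, Scheme.Hom.finrank_SpecMap_eq_finrank hψfin hψflat,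
      ← RingHom.algebraMap_toAlgebra ψ.hom, RingHom.finrank_algebraMap,
      Module.rankAtStalk_eq_finrank_of_free]
    rfl
  have hA : IsArtinianRing Γ(T, ⊤) := IsArtinianRing.of_finite K _
  have e : ↥T ≃ PrimeSpectrum Γ(T, ⊤) := (Scheme.homeoOfIso T.isoSpec).toEquiv
  have hfinT : Finite ↥T := Finite.of_equiv _ e.symm
  refine ⟨hfinT, ?_⟩
  rw [Nat.card_congr e]
  refine (card_primeSpectrum_le_finrank K _).trans ?_
  rw [← hrank (IsLocalRing.closedPoint K)]
  exact h _

end Groth.Agent.Lib.Helper54
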