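import Groth.Agent.Lib.Helper54.FiniteChart
import Groth.Agent.H53.FiniteComp
import Groth.Agent.H53.EtaleMor
import Groth.Agent.Lib.Helper54.LocalST

/-!
# Étale-local splitting off of a finite part at a quasi-finite point (helper54)

For a separated morphism `f : X ⟶ Y` of algebraic spaces, quasi-finite at a point `x`, there is an
étale neighbourhood `(U, u) ⟶ Y` of the image of `x` such that `U ×_Y X` has an open and closed
subspace finite over `U` containing a point over `x` and `u` (Stacks, decent spaces; via the scheme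
version S1482 and `FiniteChart`).
-/

set_option autoImplicit false
set_option backward.isDefEq.respectTransparency false
universe u
open CategoryTheory CategoryTheory.Limits AlgebraicGeometry

namespace Groth.Agent.Lib.Helper54
open AlgSp
variable {S : Scheme.{u}}

/-- `h_w` is finite when `w` is. -/
theorem isFiniteMor_yon_map {W T : Over S} (w : W ⟶ T) (hw : IsFinite w.left) :
    IsFiniteMor ((yon S).map w) := by
  intro Z hZ g
  obtain ⟨g', rfl⟩ := (yon S).map_surjective g
  have sq := IsPullback.of_hasPullback w g'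
  have sq' := sq.map (Over.forget S)
  have hfin : IsFinite (pullback.snd w g').left := MorphismProperty.of_isPullback sq' hw
  have hZa : IsAffine Z.left := hZ
  refine ⟨pullback w g', pullback.snd w g', (yon S).map (pullback.fst w g'), sq.map (yon S), ?_, hfin⟩
  exact isAffine_of_isAffineHom (pullback.snd w g').left

/-- The image of an étale chart `c : h_{V₁} ⟶ P` whose composite to a scheme `T₁` is finite, for
`P` separated over `T₁`, is open and closed in `P` and finite over `T₁`. -/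
theorem clopen_finite_image {T₁ : Over S} {P : Sp S} (hP : IsAlgSpace P) (π : P ⟶ (yon S).obj T₁)
    (hsep : IsSeparatedMor π) {V₁ : Over S} (c : (yon S).obj V₁ ⟶ P) (hce : RepWith @Etale c)
    (πV : V₁ ⟶ T₁) (hc : c ≫ π = (yon S).map πV) (hfin : IsFinite πV.left) :
    RepWith @IsClosedImmersion (Sheaf.imageι c) ∧ IsFiniteMor (Sheaf.imageι c ≫ π) := by
  have hV : IsAlgSpace (Sheaf.image c) := Groth.Agent.H52.isAlgSpace_image hP c hce
  have hjo : RepWith @IsOpenImmersion (Sheaf.imageι c) :=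
    Groth.Agent.H52.repWith_isOpenImmersion_imageι c hce
  have hm : Mono (Sheaf.imageι c) := inferInstance
  have hsepj : IsSeparatedMor (Sheaf.imageι c ≫ π) :=
    Groth.Agent.H52.repWith_diagonal_comp @IsClosedImmersion _ _
      (Groth.Agent.H52.isSeparatedMor_of_repWith_mono _) hsep
  have hw : Sheaf.toImage c ≫ (Sheaf.imageι c ≫ π) = (yon S).map πV := by
    rw [← Category.assoc, Sheaf.toImage_ι, hc]
  obtain ⟨W', w', e, he, hw'fin⟩ := exists_iso_yon_finite_of_chart hV (Sheaf.imageι c ≫ π) hsepj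
    (Sheaf.toImage c) (Groth.Agent.H52.repWith_etale_toImage c hce)
    (Groth.Agent.H52.repWith_surjective_toImage c hce) πV hw hfin
  constructor
  · apply MorphismProperty.relative.of_exists
    intro T ξ
    obtain ⟨t, ht⟩ := (yon S).map_surjective (ξ ≫ π)
    have sqR := (IsPullback.of_hasPullback w' t).map (yon S)
    have sqR' : IsPullback ((yon S).map (pullback.fst w' t)) ((yon S).map (pullback.snd w' t))
        ((e.hom ≫ Sheaf.imageι c) ≫ π) (ξ ≫ π) := by
      rw [Category.assoc, he, ← ht]; exact sqR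
    obtain ⟨W'', c', fst', sq', hc'⟩ := Groth.Agent.H53.exists_closedImmersion_of_comp_separated
      (e.hom ≫ Sheaf.imageι c) π hsep ξ _ _ sqR'
    have hfinR : IsFinite (pullback.snd w' t).left :=
      MorphismProperty.of_isPullback ((IsPullback.of_hasPullback w' t).map (Over.forget S)) hw'fin
    have sq'' : IsPullback (fst' ≫ e.hom) ((yon S).map (c' ≫ pullback.snd w' t))
        (Sheaf.imageι c) ξ := by
      have h1 : IsPullback e.hom (e.hom ≫ Sheaf.imageι c) (Sheaf.imageι c) (𝟙 P) :=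
        IsPullback.of_horiz_isIso ⟨by simp⟩
      have := sq'.paste_horiz h1
      rwa [Category.comp_id] at this
    refine ⟨W'', fst' ≫ e.hom, c' ≫ pullback.snd w' t, sq'', ?_⟩
    change IsClosedImmersion (c' ≫ pullback.snd w' t).left
    rw [IsClosedImmersion.iff_isFinite_and_mono]
    constructor
    · change IsFinite (c'.left ≫ (pullback.snd w' t).left)
      infer_instance
    · have hm1 : Mono ((yon S).map (c' ≫ pullback.snd w' t)) := sq''.mono_snd_of_mono
      have hm2 : Mono (c' ≫ pullback.snd w' t) := (yon S).mono_of_mono_map hm1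
      infer_instance
  · refine isFiniteMor_of_etale_surjective_comp_finite (IsAlgSpace.yon_obj V₁) hV
      (IsAlgSpace.yon_obj T₁) (Sheaf.toImage c) (Sheaf.imageι c ≫ π) ?_ ?_ hsepj ?_
    · have hE : (RepWith (S := S) @Etale).IsMultiplicative := repWith_isMultiplicative _
      exact fun _ φ hφ => (RepWith (S := S) @Etale).comp_mem _ _ hφ
        (Groth.Agent.H52.repWith_etale_toImage c hce)
    · exact Groth.Agent.H52.surjective_points_of_repWith_surjective _
        (Groth.Agent.H52.repWith_surjective_toImage c hce)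
    · rw [hw]
      exact isFiniteMor_yon_map πV hfin

/-- Étale localisation at a quasi-finite point: sheaf-level form of S10677. -/
theorem exists_etale_split_finite {X Y : Sp S} (hX : IsAlgSpace X) (hY : IsAlgSpace Y) (f : X ⟶ Y)
    (x : Points X) (hf2 : IsSeparatedMor f)
    (hf3 : HasAtMor (fun U _ h u => ∃ W : U.Opens, u ∈ W ∧ LocallyQuasiFinite (W.ι ≫ h) ∧
      LocallyOfFiniteType (W.ι ≫ h)) f x) :
    ∃ (T₁ : Over S) (a : (yon S).obj T₁ ⟶ Y) (t₁ : ↥T₁.left), IsEtaleMor a ∧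
      Points.map a (Points.ofScheme T₁ t₁) = Points.map f x ∧
      ∀ (P : Sp S) (prX : P ⟶ X) (prU : P ⟶ (yon S).obj T₁), IsPullback prX prU f a →
        ∃ (V : Sp S) (jV : V ⟶ P), IsAlgSpace V ∧ RepWith @IsOpenImmersion jV ∧
          RepWith @IsClosedImmersion jV ∧ IsFiniteMor (jV ≫ prU) ∧
          ∃ v : Points V, Points.map (jV ≫ prX) v = x ∧
            Points.map (jV ≫ prU) v = Points.ofScheme T₁ t₁ := by
  have hE : (RepWith (S := S) @Etale).IsMultiplicative := repWith_isMultiplicative _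
  obtain ⟨U₀, V₀, a₀, b₀, h, u₀, ha₀, hb₀, comm, hx, W, hu₀W, hlqf, hlft⟩ := hf3
  obtain ⟨u₀', hu₀'⟩ : ∃ u₀' : ↥(W : Scheme.{u}), u₀' = ⟨u₀, hu₀W⟩ := ⟨_, rfl⟩
  obtain ⟨T₁s, e₁, t₁, he₁, ht₁, J, hJ, Vo, v, hV, -, hcov⟩ :=
    Groth.Agent.S1482.result (W.ι ≫ h.left) ((W.ι ≫ h.left) u₀') (fun _ : Unit => u₀')
      (fun _ _ _ => Subsingleton.elim _ _) (fun _ => rfl)
      (fun _ => (W.ι ≫ h.left).quasiFiniteAt u₀')
  obtain ⟨w₀, hw₀1, hw₀2⟩ := Scheme.Pullback.exists_preimage_pullback (f := W.ι ≫ h.left) (g := e₁)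
    u₀' t₁ ht₁.symm
  obtain ⟨j₀, hj₀⟩ := hcov w₀ () hw₀2 hw₀1
  obtain ⟨hvV, hVfin, hvt, -, -, hvu⟩ := hV () j₀
  -- objects over `S`
  let T₁ : Over S := Over.mk (e₁ ≫ V₀.hom)
  let e₁O : T₁ ⟶ V₀ := Over.homMk e₁ rfl
  let WO : Over S := Groth.Agent.H52.overOpen U₀ W
  let ιW : WO ⟶ U₀ := Groth.Agent.H52.overOpenι U₀ W
  let g : WO ⟶ V₀ := ιW ≫ h
  let U' : Over S := Over.mk (pullback.fst (W.ι ≫ h.left) e₁ ≫ WO.hom)
  let q1 : U' ⟶ WO := Over.homMk (pullback.fst (W.ι ≫ h.left) e₁) rfl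
  let q2 : U' ⟶ T₁ := Over.homMk (pullback.snd (W.ι ≫ h.left) e₁) (by
    change pullback.snd (W.ι ≫ h.left) e₁ ≫ e₁ ≫ V₀.hom = pullback.fst (W.ι ≫ h.left) e₁ ≫ WO.hom
    rw [← Over.w g, ← Category.assoc, ← Category.assoc, ← pullback.condition]
    rfl)
  have sqU' : IsPullback q1 q2 g e₁O := by
    refine IsPullback.of_map (Over.forget S) ?_ ?_
    · ext1
      exact pullback.condition
    · exact IsPullback.of_hasPullback (W.ι ≫ h.left) e₁
  let V₁ : Over S := Groth.Agent.H52.overOpen U' (Vo () j₀)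
  let ιV : V₁ ⟶ U' := Groth.Agent.H52.overOpenι U' (Vo () j₀)
  let πV : V₁ ⟶ T₁ := ιV ≫ q2
  have hπVfin : IsFinite πV.left := hVfin
  obtain ⟨a, hadef⟩ : ∃ a : (yon S).obj T₁ ⟶ Y, a = (yon S).map e₁O ≫ b₀ := ⟨_, rfl⟩
  have hae : RepWith @Etale a := by
    rw [hadef]
    exact (RepWith (S := S) @Etale).comp_mem _ _ ((repWith_yon_map_iff _ _).2 he₁) hb₀
  have haet : IsEtaleMor a := fun _ φ hφ => (RepWith (S := S) @Etale).comp_mem _ _ hφ hae
  refine ⟨T₁, a, t₁, haet, ?_, ?_⟩
  · rw [← hx, Points.map_ofPt, Points.map_ofPt, Category.id_comp, comm, hadef,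
      Groth.Agent.H53.ofPt_yon_map_comp, Groth.Agent.H53.ofPt_yon_map_comp]
    congr 1
    change e₁ t₁ = h.left u₀
    rw [ht₁, hu₀', Scheme.Hom.comp_apply]
    rfl
  · intro P prX prU sqP
    have hP : IsAlgSpace P :=
      Groth.Agent.H52.isAlgSpace_of_isPullback sqP hX hY (IsAlgSpace.yon_obj T₁)
    have hsepU : IsSeparatedMor prU :=
      Groth.Agent.H52.repWith_diagonal_of_isPullback @IsClosedImmersion sqP hf2
    have hprXet : IsEtaleMor prX :=
      isEtaleMor_of_isPullback (IsAlgSpace.yon_obj T₁) hY hP hX sqP.flip haet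
    have hcw : ((yon S).map (q1 ≫ ιW) ≫ a₀) ≫ f = (yon S).map q2 ≫ a := by
      rw [Category.assoc, comm, hadef, ← Category.assoc, ← Category.assoc, ← Functor.map_comp,
        ← Functor.map_comp, Category.assoc, sqU'.w]
    obtain ⟨c', hc'1, hc'2⟩ : ∃ c' : (yon S).obj U' ⟶ P,
        c' ≫ prX = (yon S).map (q1 ≫ ιW) ≫ a₀ ∧ c' ≫ prU = (yon S).map q2 :=
      ⟨sqP.lift _ _ hcw, sqP.lift_fst _ _ _, sqP.lift_snd _ _ _⟩
    have hq1e : Etale (q1 ≫ ιW).left := by
      change Etale (pullback.fst (W.ι ≫ h.left) e₁ ≫ W.ι)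
      infer_instance
    have hc'e : RepWith @Etale c' := by
      refine Groth.Agent.H53.repWith_etale_of_comp_isEtaleMor hP c' prX hprXet ?_
      rw [hc'1]
      exact (RepWith (S := S) @Etale).comp_mem _ _ ((repWith_yon_map_iff _ _).2 hq1e) ha₀
    obtain ⟨cV, hcVdef⟩ : ∃ cV : (yon S).obj V₁ ⟶ P, cV = (yon S).map ιV ≫ c' := ⟨_, rfl⟩
    have hcVe : RepWith @Etale cV := by
      rw [hcVdef]
      exact (RepWith (S := S) @Etale).comp_mem _ _
        (Groth.Agent.H52.repWith_etale_overOpenι U' _) hc'e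
    have hcVU : cV ≫ prU = (yon S).map πV := by
      rw [hcVdef, Category.assoc, hc'2, ← Functor.map_comp]
    have hcVX : cV ≫ prX = (yon S).map (ιV ≫ q1 ≫ ιW) ≫ a₀ := by
      rw [hcVdef, Category.assoc, hc'1, ← Category.assoc, ← Functor.map_comp]
    obtain ⟨hcl, hfinV⟩ := clopen_finite_image hP prU hsepU cV hcVe πV hcVU hπVfin
    refine ⟨Sheaf.image cV, Sheaf.imageι cV, Groth.Agent.H52.isAlgSpace_image hP cV hcVe,
      Groth.Agent.H52.repWith_isOpenImmersion_imageι cV hcVe, hcl, hfinV, ?_⟩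
    have hej : Sheaf.toImage cV ≫ Sheaf.imageι cV = cV := Sheaf.toImage_ι cV
    refine ⟨Points.map (Sheaf.toImage cV) (Points.ofScheme V₁ ⟨v () j₀, hvV⟩), ?_, ?_⟩
    · rw [← Points.map_comp, ← Category.assoc, hej, hcVX, ← Points.ofPt_eq_map_ofScheme,
        Groth.Agent.H53.ofPt_yon_map_comp, ← hx]
      congr 1
      change W.ι (pullback.fst (W.ι ≫ h.left) e₁ (v () j₀)) = u₀
      rw [hvu, hu₀']
      rfl
    · rw [← Points.map_comp, ← Category.assoc, hej, hcVU, Groth.Agent.H52.points_map_ofScheme]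
      congr 1

end Groth.Agent.Lib.Helper54
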