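import Groth.Agent.Lib.Helper54.FiniteChart
import Groth.Agent.Lib.Helper54.SchematicLocusFE
import Groth.Agent.H52.QC
import Groth.Agent.Lib.Helper54.SplitFinite
import Groth.Agent.H53.ZarGlueInt
import Groth.Agent.H53.Integral
import Groth.Agent.Lib.Helper54.DecentPts
import Groth.Agent.Lib.Helper54.AffineDescent
import Groth.Agent.H53.CodimQF3
import Groth.Agent.H53.SepDescend
import Groth.Agent.H53.ChartDescent
import Groth.Agent.S2080
import Groth.Agent.S10540
import Mathlib.AlgebraicGeometry.Morphisms.QuasiFinite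
import Mathlib.AlgebraicGeometry.Morphisms.FlatDescent

/-!
# Generic finiteness for morphisms of algebraic spaces (helper54)
-/

set_option autoImplicit false
set_option linter.style.haveILetI false
universe u
open CategoryTheory CategoryTheory.Limits AlgebraicGeometry Topology
open AlgSp

namespace Groth.Agent.Lib.Helper54

/-- A quasi-compact morphism locally of finite type which is quasi-finite at all points of a fibre has a finite fibre. -/
theorem finite_fibre_of_quasiFiniteAt {W V : Scheme.{u}} (h : W ⟶ V) [LocallyOfFiniteType h] [QuasiCompact h]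
    (v : ↥V) (H : ∀ w : ↥W, h w = v → h.QuasiFiniteAt w) : (h ⁻¹' {v}).Finite := by
  have hc : IsCompact (h ⁻¹' {v}) := h.isCompact_preimage_singleton v
  refine hc.finite ?_
  rw [isDiscrete_iff_discreteTopology, discreteTopology_iff_isOpen_singleton]
  rintro ⟨w, hw⟩
  have hw' : h w = v := hw
  subst hw'
  have := (Scheme.Hom.quasiFiniteAt_iff_isOpen_singleton_asFiber (f := h) (x := w)).1 (H w rfl)
  rw [← (h.fiberHomeo (h w)).isOpen_image] at this
  simpa only [Set.image_singleton, Scheme.Hom.asFiber, Homeomorph.apply_symm_apply] using this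

/-- Kernel pairs commute with base change. -/
theorem exists_isPullback_kernelPair_of_isPullback {C : Type*} [Category C] {U X U' X' R R' : C}
    {a : U ⟶ X} {π : X' ⟶ X} {k : U' ⟶ U} {a' : U' ⟶ X'} (sq₁ : IsPullback k a' a π) {s t : R ⟶ U}
    (sqR : IsPullback s t a a) {s' t' : R' ⟶ U'} (sqR' : IsPullback s' t' a' a') :
    ∃ ρ : R' ⟶ R, ρ ≫ s = s' ≫ k ∧ ρ ≫ t = t' ≫ k ∧ IsPullback ρ (s' ≫ a') (s ≫ a) π := by
  have hw : (s' ≫ k) ≫ a = (t' ≫ k) ≫ a := by
    rw [Category.assoc, Category.assoc, sq₁.w, ← Category.assoc, ← Category.assoc, sqR'.w]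
  refine ⟨sqR.lift (s' ≫ k) (t' ≫ k) hw, sqR.lift_fst _ _ _, sqR.lift_snd _ _ _, ?_⟩
  have hρs : sqR.lift (s' ≫ k) (t' ≫ k) hw ≫ s = s' ≫ k := sqR.lift_fst _ _ _
  have hρt : sqR.lift (s' ≫ k) (t' ≫ k) hw ≫ t = t' ≫ k := sqR.lift_snd _ _ _
  generalize sqR.lift (s' ≫ k) (t' ≫ k) hw = ρ at hρs hρt
  have hcomm : ρ ≫ s ≫ a = (s' ≫ a') ≫ π := by
    rw [← Category.assoc, hρs, Category.assoc, sq₁.w, Category.assoc]
  have h1 : ∀ c : PullbackCone (s ≫ a) π, (c.fst ≫ s) ≫ a = c.snd ≫ π := fun c => by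
    rw [Category.assoc]; exact c.condition
  have h2 : ∀ c : PullbackCone (s ≫ a) π, (c.fst ≫ t) ≫ a = c.snd ≫ π := fun c => by
    rw [Category.assoc, ← sqR.w]; exact c.condition
  have h3 : ∀ c : PullbackCone (s ≫ a) π,
      sq₁.lift (c.fst ≫ s) c.snd (h1 c) ≫ a' = sq₁.lift (c.fst ≫ t) c.snd (h2 c) ≫ a' := fun c => by
    rw [sq₁.lift_snd, sq₁.lift_snd]
  refine ⟨⟨hcomm⟩, ⟨PullbackCone.IsLimit.mk _
    (fun c => sqR'.lift (sq₁.lift (c.fst ≫ s) c.snd (h1 c)) (sq₁.lift (c.fst ≫ t) c.snd (h2 c)) (h3 c))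
    ?_ ?_ ?_⟩⟩
  · intro c
    apply sqR.hom_ext
    · rw [Category.assoc, hρs, ← Category.assoc, sqR'.lift_fst, sq₁.lift_fst]
    · rw [Category.assoc, hρt, ← Category.assoc, sqR'.lift_snd, sq₁.lift_fst]
  · intro c
    rw [← Category.assoc, sqR'.lift_fst, sq₁.lift_snd]
  · intro c m hm1 hm2
    apply sqR'.hom_ext
    · rw [sqR'.lift_fst]
      apply sq₁.hom_ext
      · rw [sq₁.lift_fst, Category.assoc, ← hρs, ← Category.assoc, hm1]
      · rw [sq₁.lift_snd, Category.assoc]; exact hm2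
    · rw [sqR'.lift_snd]
      apply sq₁.hom_ext
      · rw [sq₁.lift_fst, Category.assoc, ← hρt, ← Category.assoc, hm1]
      · rw [sq₁.lift_snd, Category.assoc, ← sqR'.w]; exact hm2

variable {S : Scheme.{u}}

open Groth.Agent.H52 (overOpen overOpenι)

/-- The restriction of a morphism over `S` over an open subset of its target (copy of `overRestrict`, to avoid an
import clash). -/
noncomputable def overRestr {R U : Over S} (s : R ⟶ U) (V : U.left.Opens) :
    overOpen R (s.left ⁻¹ᵁ V) ⟶ overOpen U V :=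
  Over.homMk (s.left ∣_ V) (by
    change (s.left ∣_ V) ≫ V.ι ≫ U.hom = (s.left ⁻¹ᵁ V).ι ≫ R.hom
    rw [← Category.assoc, morphismRestrict_ι, Category.assoc, Over.w])

theorem overRestr_left {R U : Over S} (s : R ⟶ U) (V : U.left.Opens) :
    (overRestr s V).left = s.left ∣_ V := rfl

theorem isPullback_overRestr {R U : Over S} (s : R ⟶ U) (V : U.left.Opens) :
    IsPullback ((yon S).map (overOpenι R (s.left ⁻¹ᵁ V))) ((yon S).map (overRestr s V))
      ((yon S).map s) ((yon S).map (overOpenι U V)) := by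
  have e : overOpenι R (s.left ⁻¹ᵁ V) ≫ s = overRestr s V ≫ overOpenι U V := by
    ext
    change (s.left ⁻¹ᵁ V).ι ≫ s.left = (s.left ∣_ V) ≫ V.ι
    rw [morphismRestrict_ι]
  have sq' : IsPullback (overOpenι R (s.left ⁻¹ᵁ V)) (overRestr s V) s (overOpenι U V) :=
    IsPullback.of_map (Over.forget S) e (isPullback_morphismRestrict s.left V).flip
  exact sq'.map (yon S)

/-- The kernel pair of an étale chart `c : h_W ⟶ P` from an affine scheme, for `P` quasi-separated over an affine scheme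
`V`, is quasi-compact and quasi-separated. -/
theorem compactSpace_kernelPair_of_isQuasiSeparatedMor {P : Sp S} {W V R : Over S}
    (c : (yon S).obj W ⟶ P) (g : P ⟶ (yon S).obj V) (hg : IsQuasiSeparatedMor g)
    (hW : IsAffine W.left) (hV : IsAffine V.left) (s t : R ⟶ W)
    (sqR : IsPullback ((yon S).map s) ((yon S).map t) c c) :
    CompactSpace ↥R.left ∧ QuasiSeparatedSpace ↥R.left := by
  obtain ⟨h, hh⟩ := (yon S).map_surjective (c ≫ g)
  have hst : s ≫ h = t ≫ h := by
    apply (yon S).map_injective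
    rw [Functor.map_comp, Functor.map_comp, hh, ← Category.assoc, ← Category.assoc, sqR.w]
  have sqP := IsPullback.of_hasPullback h h
  have sqPy : IsPullback ((yon S).map (pullback.fst h h)) ((yon S).map (pullback.snd h h))
      (c ≫ g) (c ≫ g) := by
    have := sqP.map (yon S)
    rwa [hh] at this
  let r : R ⟶ pullback h h := pullback.lift s t hst
  have hr1 : (yon S).map r ≫ (yon S).map (pullback.fst h h) = (yon S).map s := by
    rw [← Functor.map_comp, pullback.lift_fst]
  have hr2 : (yon S).map r ≫ (yon S).map (pullback.snd h h) = (yon S).map t := by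
    rw [← Functor.map_comp, pullback.lift_snd]
  have sqΔ := isPullback_diagonal_of_kernelPair c g sqR sqPy ((yon S).map r) hr1 hr2
  have hqc : QuasiCompact r.left := hg.property _ _ r sqΔ
  have hmono : Mono ((yon S).map r) := sqΔ.mono_snd_of_mono
  have hmono' : Mono r := (yon S).mono_of_mono_map hmono
  have hmono'' : Mono r.left := inferInstance
  have hPaff : IsAffine (pullback h h).left := IsAffine.of_isPullback (isPullback_left sqP)
  exact ⟨QuasiCompact.compactSpace_of_compactSpace r.left,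
    quasiSeparatedSpace_of_quasiSeparated r.left⟩

/-- If the restriction of `h` over an open `V` is finite, so is every base change of `h` along `V.ι`. -/
theorem isFinite_snd_of_isFinite_morphismRestrict {W V₀ Q : Scheme.{u}} (h : W ⟶ V₀) (V : V₀.Opens)
    (hfin : IsFinite (h ∣_ V)) {fst : Q ⟶ W} {snd : Q ⟶ V} (sq : IsPullback fst snd h V.ι) :
    IsFinite snd := by
  have sq' := (isPullback_morphismRestrict h V).flip
  have e : snd = (sq.isoIsPullback _ _ sq').hom ≫ (h ∣_ V) := (sq.isoIsPullback_hom_snd _ _ sq').symm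
  rw [e]
  infer_instance

/-- If the restriction of `h` over an open `V₁` is finite, so is every base change of `h` along a morphism landing in
`V₁`. -/
theorem isFinite_snd_of_isFinite_morphismRestrict_of_range {W V₀ Q T : Scheme.{u}} (h : W ⟶ V₀)
    (V₁ : V₀.Opens) (hfin : IsFinite (h ∣_ V₁)) (i : T ⟶ V₀) (hi : Set.range i ⊆ (V₁ : Set ↥V₀))
    {fst : Q ⟶ W} {snd : Q ⟶ T} (sq : IsPullback fst snd h i) : IsFinite snd := by
  have hi' : Set.range i ⊆ Set.range V₁.ι := by
    rw [Scheme.Opens.range_ι]; exact hi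
  obtain ⟨i', hi'⟩ : ∃ i' : T ⟶ V₁.toScheme, i' ≫ V₁.ι = i :=
    ⟨IsOpenImmersion.lift V₁.ι i hi', IsOpenImmersion.lift_fac _ _ _⟩
  have sq' := (isPullback_morphismRestrict h V₁).flip
  have hw : fst ≫ h = (snd ≫ i') ≫ V₁.ι := by rw [Category.assoc, hi']; exact sq.w
  have hl1 : sq'.lift fst (snd ≫ i') hw ≫ (h ⁻¹ᵁ V₁).ι = fst := sq'.lift_fst _ _ _
  have hl2 : sq'.lift fst (snd ≫ i') hw ≫ (h ∣_ V₁) = snd ≫ i' := sq'.lift_snd _ _ _
  generalize sq'.lift fst (snd ≫ i') hw = l at hl1 hl2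
  have sqL : IsPullback l snd (h ∣_ V₁) i' := by
    refine IsPullback.of_right ?_ hl2 sq'
    rw [hl1, hi']
    exact sq
  exact MorphismProperty.of_isPullback sqL hfin

set_option backward.isDefEq.respectTransparency false in
/-- An algebraic space `P` over a scheme `V` with an étale surjective chart `c : h_W ⟶ P` such that `W` and the kernel
pair of `c` are finite over `V`, is finite over `V`. -/
theorem isFiniteMor_of_chart_finite {P : Sp S} (hP : IsAlgSpace P) {W V R : Over S}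
    (c : (yon S).obj W ⟶ P) (hce : RepWith @Etale c) (hcs : RepWith @Surjective c)
    (g : P ⟶ (yon S).obj V) (h : W ⟶ V) (hh : (yon S).map h = c ≫ g) (hfin : IsFinite h.left)
    (s t : R ⟶ W) (sqR : IsPullback ((yon S).map s) ((yon S).map t) c c)
    (hRfin : IsFinite (s ≫ h).left) : IsFiniteMor g := by
  have hsfin : IsFinite s.left := by
    have : IsFinite (s.left ≫ h.left) := hRfin
    exact IsFinite.of_comp s.left h.left
  have hdesc := Groth.Agent.Lib.Helper1.descendsAlong_isFinite_fpqc.{u}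
  have hcfin : RepWith @IsFinite c :=
    Groth.Agent.H52.repWith_of_etale_surjective_base_change @IsFinite sqR.flip hce.rep hce hcs
      ((repWith_yon_map_iff @IsFinite _).2 hsfin)
  have hcuc : IsUnivClosedMor c :=
    Groth.Agent.H53.isUnivClosedMor_of_repWith_universallyClosed c
      (Groth.Agent.H53.repWith_of_le (fun _ _ φ hφ => by have := hφ; infer_instance) hcfin)
  have hcsurj : Function.Surjective (Points.map c) :=
    Groth.Agent.H52.surjective_points_of_repWith_surjective c hcs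
  have hsep : IsSeparatedMor g := by
    refine Groth.Agent.H53.SepDescend.isSeparatedMor_of_surjective_univClosed (IsAlgSpace.yon_obj W) hP
      (IsAlgSpace.yon_obj V) c g hcuc hcsurj ?_
    rw [← hh, isSeparatedMor_yon_map_iff]
    infer_instance
  refine isFiniteMor_of_etale_surjective_comp_finite (IsAlgSpace.yon_obj W) hP (IsAlgSpace.yon_obj V)
    c g (isEtaleMor_of_repWith c hce) hcsurj hsep ?_
  rw [← hh]
  exact isFiniteMor_yon_map h hfin

open Groth.Agent.H53.CodimQF in
/-- Generic finiteness, chart form: a quasi-separated finite type morphism which is quasi-finite at all points over a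
codimension 0 point `y` of the target becomes finite over an affine étale chart through `y`. -/
theorem exists_chart_isFiniteMor_of_quasiFiniteAt {X Y : Sp S} (hX : IsAlgSpace X) (hY : IsAlgSpace Y)
    (f : X ⟶ Y) (hqs : IsQuasiSeparatedMor f) (hft : IsFiniteTypeMor f) (y : Points Y)
    (hy : HasAt (fun U u => ringKrullDim ↥(U.presheaf.stalk u) = 0) Y y)
    (hqf : ∀ x : Points X, Points.map f x = y → HasAtMor QF f x) :
    ∃ (V : Over S) (b : (yon S).obj V ⟶ Y), IsAffine V.left ∧ RepWith @Etale b ∧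
      y ∈ Set.range (Points.ofPt b) ∧
      ∀ (Q : Sp S) (fstQ : Q ⟶ X) (sndQ : Q ⟶ (yon S).obj V), IsPullback fstQ sndQ f b →
        IsFiniteMor sndQ := by
  have hE : (RepWith (S := S) @Etale).IsMultiplicative := repWith_isMultiplicative _
  haveI : (RepWith (S := S) @Etale).IsStableUnderBaseChange := repWith_isStableUnderBaseChange _
  haveI : (RepWith (S := S) @Surjective).IsStableUnderBaseChange := repWith_isStableUnderBaseChange _
  obtain ⟨V₀, b₀, v₀, hV₀aff, hb₀e, hv₀⟩ := exists_affine_chart_through hY y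
  have hdim : ringKrullDim ↥(V₀.left.presheaf.stalk v₀) = 0 :=
    stalk_dim_zero_of_hasAt b₀ hb₀e v₀ (hv₀ ▸ hy)
  have hη : closure ({v₀} : Set ↥V₀.left) ∈ irreducibleComponents (V₀.left : Type u) :=
    closure_singleton_mem_irreducibleComponents_of_dim_zero v₀ hdim
  -- the base change to the chart
  have sqP := IsPullback.of_hasPullback f b₀
  have hP₀ : IsAlgSpace (pullback f b₀) :=
    Groth.Agent.H52.isAlgSpace_of_isPullback sqP hX hY (IsAlgSpace.yon_obj V₀)
  have hP₀qc : IsQuasiCompactSp (pullback f b₀) :=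
    hft.2 (IsAlgSpace.yon_obj V₀) (Groth.Agent.H52.isQuasiCompactSp_yon V₀) b₀ _ _ sqP
  obtain ⟨W₀, c₀, hW₀aff, hc₀e, hc₀s⟩ := exists_affine_etale_chart hP₀qc
  obtain ⟨h₀, hh₀⟩ := (yon S).map_surjective (c₀ ≫ pullback.snd f b₀)
  have hfste : RepWith @Etale (pullback.fst f b₀) := MorphismProperty.of_isPullback sqP.flip hb₀e
  have ha₀e : RepWith @Etale (c₀ ≫ pullback.fst f b₀) := (RepWith @Etale).comp_mem _ _ hc₀e hfste
  have comm₀ : (c₀ ≫ pullback.fst f b₀) ≫ f = (yon S).map h₀ ≫ b₀ := by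
    rw [Category.assoc, sqP.w, ← Category.assoc, hh₀]
  have hlft₀ : LocallyOfFiniteType h₀.left := hft.1 _ b₀ h₀ ha₀e hb₀e comm₀
  have H₀ : ∀ w : ↥W₀.left, h₀.left w = v₀ → h₀.left.QuasiFiniteAt w := by
    intro w hw
    refine quasiFiniteAt_of_hasAtMor f hft.1 _ b₀ h₀ ha₀e hb₀e comm₀ w (hqf _ ?_)
    rw [Points.map_ofPt, comm₀, Groth.Agent.H52.ofPt_yon_map_comp, hw, hv₀]
  obtain ⟨V₁, -, hv₀V₁, hfin₁⟩ :=
    (Groth.Agent.S2080.result h₀.left v₀ hη).1 (finite_fibre_of_quasiFiniteAt h₀.left v₀ H₀)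
  -- the kernel pair
  obtain ⟨R₀, s, t, sqR⟩ := exists_kernelPair_of_rep c₀ hc₀e.rep
  have hg₀qs : IsQuasiSeparatedMor (pullback.snd f b₀) :=
    Groth.Agent.H52.repWith_diagonal_of_isPullback @QuasiCompact sqP hqs
  obtain ⟨hRc, hRqs⟩ :=
    compactSpace_kernelPair_of_isQuasiSeparatedMor c₀ _ hg₀qs hW₀aff hV₀aff s t sqR
  have hset : Etale s.left := hc₀e.property c₀ _ _ sqR.flip
  have hlftR : LocallyOfFiniteType (s ≫ h₀).left := by
    change LocallyOfFiniteType (s.left ≫ h₀.left)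
    infer_instance
  have HR : ∀ z : ↥R₀.left, (s ≫ h₀).left z = v₀ → (s ≫ h₀).left.QuasiFiniteAt z := by
    intro z hz
    exact (quasiFiniteAt_comp_etale_iff s.left h₀.left z).2 (H₀ (s.left z) hz)
  obtain ⟨V₂, -, hv₀V₂, hfin₂⟩ :=
    (Groth.Agent.S2080.result (s ≫ h₀).left v₀ hη).1 (finite_fibre_of_quasiFiniteAt _ v₀ HR)
  -- a common affine neighbourhood
  obtain ⟨_, ⟨V, hVaff : IsAffineOpen V, rfl⟩, hv₀V, hV12⟩ :=
    V₀.left.isBasis_affineOpens.exists_subset_of_mem_open
      (show v₀ ∈ ((V₁ ⊓ V₂ : V₀.left.Opens) : Set ↥V₀.left) from ⟨hv₀V₁, hv₀V₂⟩) (V₁ ⊓ V₂).2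
  have hrange : Set.range (overOpenι V₀ V).left = (V : Set ↥V₀.left) := Scheme.Opens.range_ι V
  refine ⟨overOpen V₀ V, (yon S).map (overOpenι V₀ V) ≫ b₀, hVaff,
    (RepWith @Etale).comp_mem _ _ (Groth.Agent.H52.repWith_etale_overOpenι V₀ V) hb₀e,
    ⟨(show ↥(overOpen V₀ V).left from ⟨v₀, hv₀V⟩), ?_⟩, ?_⟩
  · exact (Groth.Agent.H52.ofPt_yon_map_comp (overOpenι V₀ V) b₀ _).trans hv₀
  intro Q fstQ sndQ sqQ
  have hQ : IsAlgSpace Q :=
    Groth.Agent.H52.isAlgSpace_of_isPullback sqQ hX hY (IsAlgSpace.yon_obj _)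
  -- the morphism to `P₀`
  have hwπ : fstQ ≫ f = (sndQ ≫ (yon S).map (overOpenι V₀ V)) ≫ b₀ := by
    rw [Category.assoc]; exact sqQ.w
  have hπ1 : sqP.lift fstQ (sndQ ≫ (yon S).map (overOpenι V₀ V)) hwπ ≫ pullback.fst f b₀ = fstQ :=
    sqP.lift_fst _ _ _
  have hπ2 : sqP.lift fstQ (sndQ ≫ (yon S).map (overOpenι V₀ V)) hwπ ≫ pullback.snd f b₀ =
      sndQ ≫ (yon S).map (overOpenι V₀ V) := sqP.lift_snd _ _ _
  generalize sqP.lift fstQ (sndQ ≫ (yon S).map (overOpenι V₀ V)) hwπ = π at hπ1 hπ2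
  have sqπ : IsPullback π sndQ (pullback.snd f b₀) ((yon S).map (overOpenι V₀ V)) := by
    refine IsPullback.of_right ?_ hπ2 sqP
    rw [hπ1]
    exact sqQ
  -- the chart of `Q`
  have sqW := isPullback_overRestr h₀ V
  have hwc : ((yon S).map (overOpenι W₀ (h₀.left ⁻¹ᵁ V)) ≫ c₀) ≫ pullback.snd f b₀ =
      (yon S).map (overRestr h₀ V) ≫ (yon S).map (overOpenι V₀ V) := by
    rw [Category.assoc, ← hh₀]; exact sqW.w
  have hc1 : sqπ.lift _ _ hwc ≫ π = (yon S).map (overOpenι W₀ (h₀.left ⁻¹ᵁ V)) ≫ c₀ :=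
    sqπ.lift_fst _ _ _
  have hc2 : sqπ.lift _ _ hwc ≫ sndQ = (yon S).map (overRestr h₀ V) := sqπ.lift_snd _ _ _
  generalize sqπ.lift _ _ hwc = cV at hc1 hc2
  have sqc : IsPullback ((yon S).map (overOpenι W₀ (h₀.left ⁻¹ᵁ V))) cV c₀ π := by
    refine IsPullback.of_bot ?_ hc1.symm sqπ
    rw [hc2, ← hh₀]
    exact sqW
  have hcVe : RepWith @Etale cV := MorphismProperty.of_isPullback sqc hc₀e
  have hcVs : RepWith @Surjective cV := MorphismProperty.of_isPullback sqc hc₀s
  have hfinW : IsFinite (overRestr h₀ V).left :=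
    isFinite_snd_of_isFinite_morphismRestrict_of_range h₀.left V₁ hfin₁ (overOpenι V₀ V).left
      (hrange.subset.trans (fun x hx => (hV12 hx).1))
      (Groth.Agent.H52.isPullback_left_of_isPullback_yon sqW)
  -- the kernel pair of the chart of `Q`
  obtain ⟨RV, s', t', sqR'⟩ := exists_kernelPair_of_rep cV hcVe.rep
  obtain ⟨ρ, hρs, -, sqρ⟩ := exists_isPullback_kernelPair_of_isPullback sqc sqR sqR'
  obtain ⟨ρ₀, rfl⟩ := (yon S).map_surjective ρ
  have sqρ' := sqρ.paste_vert sqπ
  have e1 : ((yon S).map s' ≫ cV) ≫ sndQ = (yon S).map (s' ≫ overRestr h₀ V) := by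
    rw [Category.assoc, hc2, Functor.map_comp]
  have e2 : ((yon S).map s ≫ c₀) ≫ pullback.snd f b₀ = (yon S).map (s ≫ h₀) := by
    rw [Category.assoc, ← hh₀, Functor.map_comp]
  rw [e1, e2] at sqρ'
  have hfinR : IsFinite (s' ≫ overRestr h₀ V).left :=
    isFinite_snd_of_isFinite_morphismRestrict_of_range (s ≫ h₀).left V₂ hfin₂ (overOpenι V₀ V).left
      (hrange.subset.trans (fun x hx => (hV12 hx).2))
      (Groth.Agent.H52.isPullback_left_of_isPullback_yon sqρ')
  exact isFiniteMor_of_chart_finite hQ cV hcVe hcVs sndQ (overRestr h₀ V) hc2.symm hfinW s' t' sqR' hfinR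

end Groth.Agent.Lib.Helper54
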