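import Groth.Agent.Lib.Helper54.GenericFiniteSp

/-!
# Generic finiteness for morphisms of algebraic spaces, II (helper54)
-/

set_option autoImplicit false
set_option linter.style.haveILetI false
universe u
open CategoryTheory CategoryTheory.Limits AlgebraicGeometry Topology
open AlgSp

namespace Groth.Agent.Lib.Helper54

/-- Generic finiteness for a separated morphism of schemes whose fibre over a maximal point `v` is finite and dense. -/
theorem exists_isFinite_morphismRestrict_of_isSeparated {R V : Scheme.{u}} (r : R ⟶ V) [IsSeparated r]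
    [LocallyOfFiniteType r] [QuasiSeparatedSpace ↥V] (v : ↥V)
    (hη : closure ({v} : Set ↥V) ∈ irreducibleComponents (V : Type u)) (hfin : (r ⁻¹' {v}).Finite)
    (hdense : ∀ O : R.Opens, (O : Set ↥R).Nonempty → ∃ z ∈ O, r z = v) :
    ∃ V' : V.Opens, IsAffineOpen V' ∧ v ∈ V' ∧ IsFinite (r ∣_ V') := by
  classical
  -- a quasi-compact open containing the fibre
  have hA : ∀ z : ↥R, ∃ A : R.Opens, IsAffineOpen A ∧ z ∈ A := fun z => by
    obtain ⟨_, ⟨A, hA, rfl⟩, hzA, -⟩ :=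
      R.isBasis_affineOpens.exists_subset_of_mem_open (Set.mem_univ z) isOpen_univ
    exact ⟨A, hA, hzA⟩
  choose A hAaff hzA using hA
  let R' : R.Opens := ⨆ z : hfin.toFinset, A z.1
  have hR'c : IsCompact (R' : Set ↥R) := by
    have : (R' : Set ↥R) = ⋃ z : hfin.toFinset, (A z.1 : Set ↥R) := by
      simp [R']
    rw [this]
    exact isCompact_iUnion fun z => (hAaff z.1).isCompact
  have hfib : r ⁻¹' {v} ⊆ (R' : Set ↥R) := by
    intro z hz
    have hz' : z ∈ hfin.toFinset := hfin.mem_toFinset.2 hz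
    exact TopologicalSpace.Opens.mem_iSup.2 ⟨⟨z, hz'⟩, hzA z⟩
  haveI : CompactSpace ↥R'.toScheme := isCompact_iff_compactSpace.1 hR'c
  have hfin' : ((R'.ι ≫ r) ⁻¹' {v}).Finite := by
    have : (R'.ι ≫ r) ⁻¹' {v} = R'.ι ⁻¹' (r ⁻¹' {v}) := by
      ext z; simp
    rw [this]
    exact hfin.preimage R'.ι.isOpenEmbedding.injective.injOn
  obtain ⟨V', hV'aff, hvV', hfinV'⟩ := (Groth.Agent.S2080.result (R'.ι ≫ r) v hη).1 hfin'
  refine ⟨V', hV'aff, hvV', ?_⟩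
  -- comparison of the two restrictions
  have sq := isPullback_morphismRestrict r V'
  have sq' := isPullback_morphismRestrict (R'.ι ≫ r) V'
  have hw : ((R'.ι ≫ r) ∣_ V') ≫ V'.ι = (((R'.ι ≫ r) ⁻¹ᵁ V').ι ≫ R'.ι) ≫ r := by
    rw [Category.assoc]; exact sq'.w
  have hk1 : sq.lift _ _ hw ≫ (r ∣_ V') = (R'.ι ≫ r) ∣_ V' := sq.lift_fst _ _ _
  have hk2 : sq.lift _ _ hw ≫ (r ⁻¹ᵁ V').ι = ((R'.ι ≫ r) ⁻¹ᵁ V').ι ≫ R'.ι := sq.lift_snd _ _ _
  generalize sq.lift _ _ hw = k at hk1 hk2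
  haveI hkoi : IsOpenImmersion k := by
    have : IsOpenImmersion (k ≫ (r ⁻¹ᵁ V').ι) := by rw [hk2]; infer_instance
    exact IsOpenImmersion.of_comp k (r ⁻¹ᵁ V').ι
  haveI : IsProper (k ≫ (r ∣_ V')) := by rw [hk1]; infer_instance
  haveI hkp : IsProper k := IsProper.of_comp k (r ∣_ V')
  have hclosed : IsClosed (Set.range k) := k.isClosedMap.isClosed_range
  -- the complement of the image is an open subset of `R` missing the fibre
  have hsurj : Function.Surjective k := by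
    by_contra hns
    have hne : ((Set.range k)ᶜ).Nonempty := by
      rw [Set.nonempty_compl]
      intro h
      exact hns (Set.range_eq_univ.1 h)
    let O : R.Opens := ⟨(r ⁻¹ᵁ V').ι '' (Set.range k)ᶜ,
      (r ⁻¹ᵁ V').ι.isOpenEmbedding.isOpenMap _ hclosed.isOpen_compl⟩
    obtain ⟨z, ⟨z', hz', rfl⟩, hzv⟩ := hdense O (hne.image _)
    apply hz'
    have hzR' : (r ⁻¹ᵁ V').ι z' ∈ (R' : Set ↥R) := hfib hzv
    obtain ⟨w, hw⟩ : ∃ w : ↥R'.toScheme, R'.ι w = (r ⁻¹ᵁ V').ι z' := ⟨⟨_, hzR'⟩, rfl⟩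
    have hwV' : w ∈ (R'.ι ≫ r) ⁻¹ᵁ V' := by
      change r (R'.ι w) ∈ V'
      rw [hw]
      exact z'.2
    obtain ⟨w', hw'⟩ : ∃ w' : ↥((R'.ι ≫ r) ⁻¹ᵁ V').toScheme, ((R'.ι ≫ r) ⁻¹ᵁ V').ι w' = w :=
      ⟨⟨w, hwV'⟩, rfl⟩
    refine ⟨w', ?_⟩
    apply (r ⁻¹ᵁ V').ι.isOpenEmbedding.injective
    rw [← Scheme.Hom.comp_apply, hk2, Scheme.Hom.comp_apply, hw', hw]
  haveI : Surjective k := ⟨hsurj⟩
  haveI : IsIso k := (isIso_iff_isOpenImmersion_and_surjective k).mpr ⟨hkoi, ⟨hsurj⟩⟩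
  have : r ∣_ V' = inv k ≫ ((R'.ι ≫ r) ∣_ V') := by rw [← hk1, IsIso.inv_hom_id_assoc]
  rw [this]
  infer_instance

variable {S : Scheme.{u}}

open Groth.Agent.H52 (overOpen overOpenι)

/-- Generic finiteness, chart form: if an étale surjective chart `W₀` of `P` and its kernel pair are finite over
neighbourhoods of `v₀` in `V₀`, then `P` is finite over an affine neighbourhood of `v₀`. -/
theorem exists_isFiniteMor_of_chart_generic {P : Sp S} (hP : IsAlgSpace P) {W₀ V₀ R₀ : Over S}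
    (g : P ⟶ (yon S).obj V₀) (c₀ : (yon S).obj W₀ ⟶ P) (hc₀e : RepWith @Etale c₀)
    (hc₀s : RepWith @Surjective c₀) (h₀ : W₀ ⟶ V₀) (hh₀ : (yon S).map h₀ = c₀ ≫ g)
    (s t : R₀ ⟶ W₀) (sqR : IsPullback ((yon S).map s) ((yon S).map t) c₀ c₀) (v₀ : ↥V₀.left)
    (V₁ V₂ : V₀.left.Opens) (hv₁ : v₀ ∈ V₁) (hv₂ : v₀ ∈ V₂) (hfin₁ : IsFinite (h₀.left ∣_ V₁))
    (hfin₂ : IsFinite ((s ≫ h₀).left ∣_ V₂)) :
    ∃ V : V₀.left.Opens, IsAffineOpen V ∧ v₀ ∈ V ∧
      ∀ (Q : Sp S) (π : Q ⟶ P) (sndQ : Q ⟶ (yon S).obj (overOpen V₀ V)),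
        IsPullback π sndQ g ((yon S).map (overOpenι V₀ V)) → IsFiniteMor sndQ := by
  haveI : (RepWith (S := S) @Etale).IsStableUnderBaseChange := repWith_isStableUnderBaseChange _
  haveI : (RepWith (S := S) @Surjective).IsStableUnderBaseChange := repWith_isStableUnderBaseChange _
  obtain ⟨_, ⟨V, hVaff : IsAffineOpen V, rfl⟩, hv₀V, hV12⟩ :=
    V₀.left.isBasis_affineOpens.exists_subset_of_mem_open
      (show v₀ ∈ ((V₁ ⊓ V₂ : V₀.left.Opens) : Set ↥V₀.left) from ⟨hv₁, hv₂⟩) (V₁ ⊓ V₂).2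
  have hrange : Set.range (overOpenι V₀ V).left = (V : Set ↥V₀.left) := Scheme.Opens.range_ι V
  refine ⟨V, hVaff, hv₀V, ?_⟩
  intro Q π sndQ sqπ
  have hQ : IsAlgSpace Q :=
    Groth.Agent.H52.isAlgSpace_of_isPullback sqπ hP (IsAlgSpace.yon_obj _) (IsAlgSpace.yon_obj _)
  -- the chart of `Q`
  have sqW := isPullback_overRestr h₀ V
  have hwc : ((yon S).map (overOpenι W₀ (h₀.left ⁻¹ᵁ V)) ≫ c₀) ≫ g =
      (yon S).map (overRestr h₀ V) ≫ (yon S).map (overOpenι V₀ V) := by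
    rw [Category.assoc, ← hh₀]; exact sqW.w
  have hc1 : sqπ.lift _ _ hwc ≫ π = (yon S).map (overOpenι W₀ (h₀.left ⁻¹ᵁ V)) ≫ c₀ :=
    sqπ.lift_fst _ _ _
  have hc2 : sqπ.lift _ _ hwc ≫ sndQ = (yon S).map (overRestr h₀ V) := sqπ.lift_snd _ _ _
  generalize sqπ.lift _ _ hwc = cV at hc1 hc2
  have sqc : IsPullback ((yon S).map (overOpenι W₀ (h₀.left ⁻¹ᵁ V))) cV c₀ π := by
    refine IsPullback.of_bot ?_ hc1.symm sqπ
    rw [hc2, ← hh₀]
    exact sqW
  have hcVe : RepWith @Etale cV := MorphismProperty.of_isPullback sqc hc₀e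
  have hcVs : RepWith @Surjective cV := MorphismProperty.of_isPullback sqc hc₀s
  have hfinW : IsFinite (overRestr h₀ V).left :=
    isFinite_snd_of_isFinite_morphismRestrict_of_range h₀.left V₁ hfin₁ (overOpenι V₀ V).left
      (hrange.subset.trans (fun x hx => (hV12 hx).1))
      (Groth.Agent.H52.isPullback_left_of_isPullback_yon sqW)
  -- the kernel pair of the chart of `Q`
  obtain ⟨RV, s', t', sqR'⟩ := exists_kernelPair_of_rep cV hcVe.rep
  obtain ⟨ρ, hρs, -, sqρ⟩ := exists_isPullback_kernelPair_of_isPullback sqc sqR sqR'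
  obtain ⟨ρ₀, rfl⟩ := (yon S).map_surjective ρ
  have sqρ' := sqρ.paste_vert sqπ
  have e1 : ((yon S).map s' ≫ cV) ≫ sndQ = (yon S).map (s' ≫ overRestr h₀ V) := by
    rw [Category.assoc, hc2, Functor.map_comp]
  have e2 : ((yon S).map s ≫ c₀) ≫ g = (yon S).map (s ≫ h₀) := by
    rw [Category.assoc, ← hh₀, Functor.map_comp]
  rw [e1, e2] at sqρ'
  have hfinR : IsFinite (s' ≫ overRestr h₀ V).left :=
    isFinite_snd_of_isFinite_morphismRestrict_of_range (s ≫ h₀).left V₂ hfin₂ (overOpenι V₀ V).left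
      (hrange.subset.trans (fun x hx => (hV12 hx).2))
      (Groth.Agent.H52.isPullback_left_of_isPullback_yon sqρ')
  exact isFiniteMor_of_chart_finite hQ cV hcVe hcVs sndQ (overRestr h₀ V) hc2.symm hfinW s' t' sqR' hfinR

end Groth.Agent.Lib.Helper54
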