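import Groth.Agent.Lib.Helper54.GenericFiniteSp3
import Groth.Agent.H53.QSDecent

/-!
# Generic finiteness for morphisms of algebraic spaces, IV: finite fibres (helper54)
-/

set_option autoImplicit false
set_option linter.style.haveILetI false
universe u
open CategoryTheory CategoryTheory.Limits AlgebraicGeometry Topology
open AlgSp

namespace Groth.Agent.Lib.Helper54

open Groth.Agent.H52 (overOpen overOpenι)

/-- A morphism locally of finite type is quasi-finite at the points of a finite fibre. -/
theorem quasiFiniteAt_of_finite_fibre {U V : Scheme.{u}} (h : U ⟶ V) [LocallyOfFiniteType h] (u : ↥U)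
    (hfin : (h ⁻¹' {h u}).Finite) : h.QuasiFiniteAt u := by
  rw [Scheme.Hom.quasiFiniteAt_iff_isOpen_singleton_asFiber]
  have hF : Finite ↥(h.fiber (h u)) := by
    have := hfin.to_subtype
    exact (h.fiberHomeo (h u)).toEquiv.finite_iff.2 this
  have : LocallyOfFiniteType (h.fiberToSpecResidueField (h u)) :=
    show LocallyOfFiniteType (pullback.snd h (V.fromSpecResidueField (h u))) from inferInstance
  have hlqf : LocallyQuasiFinite (h.fiberToSpecResidueField (h u)) :=
    .of_finite_preimage_singleton _ (fun _ => Set.toFinite _)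
  have hd := (h.fiberToSpecResidueField (h u)).isDiscrete_preimage_singleton
    (IsLocalRing.closedPoint (V.residueField (h u)))
  have hd' : _root_.IsDiscrete (Set.univ : Set ↥(h.fiber (h u))) := by
    refine hd.mono fun x _ => ?_
    rw [Set.mem_preimage, Scheme.Hom.fiberToSpecResidueField_apply]
    exact rfl
  rw [isDiscrete_univ_iff] at hd'
  exact isOpen_discrete _

variable {S : Scheme.{u}}

/-- A finite morphism of sheaves has finite fibres on points. -/
theorem finite_fibre_points_of_isFiniteMor {A B : Sp S} (hB : IsAlgSpace B) (g : A ⟶ B) (hg : IsFiniteMor g)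
    (y : Points B) : (Points.map g ⁻¹' {y}).Finite := by
  obtain ⟨V, b, v, hVaff, hbe, rfl⟩ := exists_affine_chart_through hB y
  obtain ⟨W, i, fst, sq, -, hi⟩ := hg hVaff b
  have hfin : (i.left ⁻¹' {v}).Finite := Scheme.Hom.finite_preimage_singleton i.left v
  refine (hfin.image (Points.ofPt fst)).subset ?_
  intro x hx
  have hx' : Points.map g x = Points.map b (Points.ofScheme V v) := by
    rw [← Points.ofPt_eq_map_ofScheme]; exact hx
  obtain ⟨w, hw1, hw2⟩ := Groth.Agent.H52.exists_point_of_isPullback sq x (Points.ofScheme V v) hx'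
  obtain ⟨w₀, rfl⟩ := (Points.schemeEquiv W).surjective w
  refine ⟨w₀, ?_, ?_⟩
  · change i.left w₀ = v
    apply (Points.schemeEquiv V).injective
    exact (Groth.Agent.H52.points_map_ofScheme i w₀).symm.trans hw2
  · rw [Points.ofPt_eq_map_ofScheme]; exact hw1

open Groth.Agent.H53.CodimQF in
/-- A morphism locally of finite type from a decent space is quasi-finite at the points of a finite fibre. -/
theorem hasAtMor_qf_of_finite_fibre {X Y : Sp S} (hX : IsAlgSpace X) (hXd : IsDecent X) (hY : IsAlgSpace Y)
    (f : X ⟶ Y) (hf : LocP @LocallyOfFiniteType f) (y : Points Y)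
    (hfib : (Points.map f ⁻¹' {y}).Finite) (x : Points X) (hx : Points.map f x = y) :
    HasAtMor QF f x := by
  have hE : (RepWith (S := S) @Etale).IsMultiplicative := repWith_isMultiplicative _
  obtain ⟨V, b, v, hbe, rfl⟩ := Groth.Agent.H52.exists_chart_through_point hY y
  obtain ⟨U, a, h, u, hae, comm, rfl, hu, -⟩ := Groth.Agent.H53.CodimQF.exists_chart_through hX f hf b hbe v x hx
  obtain ⟨_, ⟨A, hA : IsAffineOpen A, rfl⟩, huA, -⟩ :=
    U.left.isBasis_affineOpens.exists_subset_of_mem_open (Set.mem_univ u) isOpen_univ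
  have ha' : RepWith @Etale ((yon S).map (overOpenι U A) ≫ a) :=
    (RepWith @Etale).comp_mem _ _ (Groth.Agent.H52.repWith_etale_overOpenι U A) hae
  have comm' : ((yon S).map (overOpenι U A) ≫ a) ≫ f = (yon S).map (overOpenι U A ≫ h) ≫ b := by
    rw [Category.assoc, comm, Functor.map_comp, Category.assoc]
  haveI hlft : LocallyOfFiniteType (overOpenι U A ≫ h).left := hf _ b _ ha' hbe comm'
  haveI : IsAffine (overOpen U A).left := hA
  obtain ⟨u', hu'⟩ : ∃ u' : ↥(overOpen U A).left, (overOpenι U A).left u' = u := ⟨⟨u, huA⟩, rfl⟩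
  have hu'v : (overOpenι U A ≫ h).left u' = v := by
    change h.left ((overOpenι U A).left u') = v
    rw [hu', hu]
  have hfin : ((overOpenι U A ≫ h).left ⁻¹' {v}).Finite := by
    have hfin1 : ∀ x' ∈ Points.map f ⁻¹' {Points.ofPt b v},
        (Points.ofPt ((yon S).map (overOpenι U A) ≫ a) ⁻¹' {x'}).Finite := by
      intro x' _
      obtain ⟨p, rfl, -, hq⟩ := hXd x'
      exact finite_fibre_of_quasiCompact_point p hq _ ha'
    refine (hfib.biUnion hfin1).subset ?_
    intro w hw
    simp only [Set.mem_iUnion]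
    refine ⟨Points.ofPt ((yon S).map (overOpenι U A) ≫ a) w, ?_, rfl⟩
    change Points.map f (Points.ofPt ((yon S).map (overOpenι U A) ≫ a) w) = Points.ofPt b v
    rw [Points.map_ofPt, comm', Groth.Agent.H52.ofPt_yon_map_comp]
    exact congrArg (Points.ofPt b) hw
  have hq : (overOpenι U A ≫ h).left.QuasiFiniteAt u' :=
    quasiFiniteAt_of_finite_fibre _ u' (by rw [hu'v]; exact hfin)
  refine ⟨overOpen U A, V, _, b, overOpenι U A ≫ h, u', ha', hbe, comm', ?_,
    (qf_iff_quasiFiniteAt (overOpenι U A ≫ h).left u').2 hq⟩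
  rw [Groth.Agent.H52.ofPt_yon_map_comp, hu']

end Groth.Agent.Lib.Helper54
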