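import Groth.Agent.Lib.Helper54.GeomReducedBC2
import Groth.Agent.Lib.Helper54.Points

/-!
# Base change of a sheaf over a field: the projection is representable, decency ascends
-/

set_option autoImplicit false
universe u
open CategoryTheory CategoryTheory.Limits AlgebraicGeometry
open AlgSp

namespace Groth.Agent.Lib.Helper54

variable {k : Type u} [Field k]

/-- The projection `X_K ⟶ X` is representable. -/
theorem representable_bc_fst (X : Sp (Spec (CommRingCat.of k))) (K : Type u) [Field K] [Algebra k K] :
    Representable (prod.fst : X ⨯ (yon (Spec (CommRingCat.of k))).obj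
      (Over.mk (Spec.map (CommRingCat.ofHom (algebraMap k K)))) ⟶ X) :=
  fun U g => ⟨bcOver U K, bcOverπ U K, bcChart g K, isPullback_bcChart g K⟩

/-- Decency passes to the base change `X_K`. -/
theorem isDecent_bc (X : Sp (Spec (CommRingCat.of k))) (hX : IsDecent X) (K : Type u) [Field K] [Algebra k K] :
    IsDecent (X ⨯ (yon (Spec (CommRingCat.of k))).obj
      (Over.mk (Spec.map (CommRingCat.ofHom (algebraMap k K))))) :=
  isDecent_of_representable _ (representable_bc_fst X K) hX

end Groth.Agent.Lib.Helper54
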