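import Groth.Agent.Lib.Helper54.GeomReducedBC2
import Groth.Agent.Lib.Helper62.PerfectReducedExt

/-!
# Reducedness after all finite purely inseparable extensions implies geometric reducedness
-/

set_option autoImplicit false
universe u
open CategoryTheory CategoryTheory.Limits AlgebraicGeometry TensorProduct
open AlgSp

namespace Groth.Agent.Lib.Helper54

/-- If `A ⊗ k'` is reduced for all finite purely inseparable extensions `k'` of `k`, then `A ⊗ Ω` is reduced for all
purely inseparable extensions `Ω` of `k`. -/
theorem isReduced_tensor_of_forall_finite_purelyInseparable (k A Ω : Type u) [Field k] [CommRing A] [Algebra k A]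
    [Field Ω] [Algebra k Ω] [IsPurelyInseparable k Ω]
    (h : ∀ (k' : Type u) [Field k'] [Algebra k k'], Module.Finite k k' → IsPurelyInseparable k k' →
      _root_.IsReduced (A ⊗[k] k')) : _root_.IsReduced (A ⊗[k] Ω) := by
  apply IsReduced.tensorProduct_of_flat_of_forall_fg
  intro B hB
  obtain ⟨s, rfl⟩ := hB
  let B' : IntermediateField k Ω := IntermediateField.adjoin k (s : Set Ω)
  have hfin : Module.Finite k B' :=
    IntermediateField.finiteDimensional_adjoin (fun x _ => IsPurelyInseparable.isIntegral' k x)
  have hred : _root_.IsReduced (A ⊗[k] B') := h B' hfin inferInstance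
  have hle : Algebra.adjoin k (s : Set Ω) ≤ B'.toSubalgebra := IntermediateField.algebra_adjoin_le_adjoin k _
  let f : ↥(Algebra.adjoin k (s : Set Ω)) →ₐ[k] ↥B' := Subalgebra.inclusion hle
  have hf : Function.Injective f := Subalgebra.inclusion_injective hle
  have h_inj : Function.Injective (Algebra.TensorProduct.map (AlgHom.id A A) f) :=
    Module.Flat.lTensor_preserves_injective_linearMap _ hf
  exact isReduced_of_injective (Algebra.TensorProduct.map (AlgHom.id A A) f) h_inj

variable {k : Type u} [Field k]

/-- Affine case of `isReduced_bc_of_forall_finite_purelyInseparable`. -/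
theorem isReduced_pullback_spec_of_forall_finite_purelyInseparable (A : CommRingCat.{u})
    (φ : Spec A ⟶ Spec (CommRingCat.of k)) (Ω : Type u) [Field Ω] [Algebra k Ω] [IsPurelyInseparable k Ω]
    (h : ∀ (k' : Type u) [Field k'] [Algebra k k'], Module.Finite k k' → IsPurelyInseparable k k' →
      AlgebraicGeometry.IsReduced (pullback φ (Spec.map (CommRingCat.ofHom (algebraMap k k'))))) :
    AlgebraicGeometry.IsReduced (pullback φ (Spec.map (CommRingCat.ofHom (algebraMap k Ω)))) := by
  obtain ⟨a, rfl⟩ := Spec.map_surjective φ
  algebraize [a.hom]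
  have ha : a = CommRingCat.ofHom (algebraMap k A) := rfl
  rw [ha] at h ⊢
  have h2 : _root_.IsReduced (A ⊗[k] Ω) := by
    apply isReduced_tensor_of_forall_finite_purelyInseparable
    intro k' _ _ hfin hpi
    have h0 : AlgebraicGeometry.IsReduced (Spec (CommRingCat.of (A ⊗[k] k'))) :=
      @isReduced_of_isOpenImmersion _ _ (pullbackSpecIso k A k').inv _ (h k' hfin hpi)
    exact (affine_isReduced_iff _).mp h0
  have h3 : AlgebraicGeometry.IsReduced (Spec (CommRingCat.of (A ⊗[k] Ω))) := inferInstance
  exact isReduced_of_isOpenImmersion (pullbackSpecIso k A Ω).hom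

/-- If `U_{k'}` is reduced for all finite purely inseparable extensions `k'` of `k`, then `U_Ω` is reduced for all
purely inseparable extensions `Ω` of `k`. -/
theorem isReduced_bc_of_forall_finite_purelyInseparable {U : Scheme.{u}} (hU : U ⟶ Spec (CommRingCat.of k))
    (Ω : Type u) [Field Ω] [Algebra k Ω] [IsPurelyInseparable k Ω]
    (h : ∀ (k' : Type u) [Field k'] [Algebra k k'], Module.Finite k k' → IsPurelyInseparable k k' →
      AlgebraicGeometry.IsReduced (FBase.bc hU k')) :
    AlgebraicGeometry.IsReduced (FBase.bc hU Ω) := by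
  apply +allowSynthFailures @IsReduced.of_openCover
    (𝒰 := Scheme.Pullback.openCoverOfLeft U.affineCover hU _)
  intro (i : U.affineCover.I₀)
  apply isReduced_pullback_spec_of_forall_finite_purelyInseparable _ (U.affineCover.f i ≫ hU) Ω
  intro k' _ _ hfin hpi
  exact @isReduced_of_isOpenImmersion _ _
      ((Scheme.Pullback.openCoverOfLeft U.affineCover hU
        (Spec.map (CommRingCat.ofHom (algebraMap k k')))).f i)
      ((Scheme.Pullback.openCoverOfLeft U.affineCover hU
        (Spec.map (CommRingCat.ofHom (algebraMap k k')))).map_prop i) (h k' hfin hpi)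

/-- If `X_{k'}` is étale locally reduced for all finite purely inseparable `k'/k`, then `X_K` is étale locally reduced for
all field extensions `K/k`. -/
theorem etaleLocally_isReduced_bc_of_forall_finite_purelyInseparable (X : AlgSp.Space (Spec (CommRingCat.of k)))
    (h : ∀ (k' : Type u) [Field k'] [Algebra k k'], Module.Finite k k' → IsPurelyInseparable k k' →
      AlgSp.EtaleLocally (fun U => AlgebraicGeometry.IsReduced U) (X.obj ⨯ (AlgSp.yon (Spec (CommRingCat.of k))).obj (Over.mk (Spec.map (CommRingCat.ofHom (algebraMap k k'))))))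
    (K : Type u) [Field K] [Algebra k K] :
    AlgSp.EtaleLocally (fun U => AlgebraicGeometry.IsReduced U) (X.obj ⨯ (AlgSp.yon (Spec (CommRingCat.of k))).obj (Over.mk (Spec.map (CommRingCat.ofHom (algebraMap k K))))) := by
  let Ω : Type u := perfectClosure k (AlgebraicClosure k)
  have hΩ : AlgSp.EtaleLocally (fun U => AlgebraicGeometry.IsReduced U)
      (X.obj ⨯ (AlgSp.yon (Spec (CommRingCat.of k))).obj (Over.mk (Spec.map (CommRingCat.ofHom (algebraMap k Ω))))) := by
    obtain ⟨U, p, hpe, hps⟩ := X.property.atlas
    refine ⟨bcOver U Ω, bcChart p Ω, repWith_etale_bcChart p hpe Ω, repWith_surjective_bcChart p hps Ω, ?_⟩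
    change AlgebraicGeometry.IsReduced (FBase.bc U.hom Ω)
    apply isReduced_bc_of_forall_finite_purelyInseparable
    intro k' _ _ hfin hpi
    exact isReduced_chart_of_etaleLocally (h k' hfin hpi) (bcChart p k') (repWith_etale_bcChart p hpe k')
  have hgr := geomReduced_of_etaleLocally_isReduced_bc_perfect X Ω hΩ
  exact etaleLocally_isReduced_bc_of_geomReduced X hgr K

end Groth.Agent.Lib.Helper54
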