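import Groth.Agent.Lib.Helper41.EtGlueModule
import Groth.Agent.Lib.Helper54.FpqcTop
import Groth.Agent.Lib.Helper54.GeomReducedSp

/-!
# Glueable modules and étale maps (helper54)
-/

set_option autoImplicit false
set_option linter.style.haveILetI false
universe u
open CategoryTheory CategoryTheory.Limits AlgebraicGeometry TensorProduct
open AlgSp

namespace Groth.Agent.Lib.Helper54.Glue

section Ring

variable (R : Type u) [CommRing R] (R' : Type u) [CommRing R'] [Algebra R R'] (f : R)

/-- The torsion criterion: an `f`-power torsion element killed by `R' ⊗ -` vanishes. -/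
def Tors0 (M : Type u) [AddCommGroup M] [Module R M] : Prop :=
  ∀ m : M, (∃ n : ℕ, f ^ n • m = 0) → (1 : R') ⊗ₜ[R] m = 0 → m = 0

variable {R R' f}

theorem isGlueable_iff_tors0 (hRR' : EtGlue.IsGlueingPair R R' f) (M : Type u) [AddCommGroup M] [Module R M] :
    EtGlue.IsGlueable R R' f M ↔ Tors0 R R' f M :=
  ⟨fun h => (Groth.Agent.Lib.Helper41.EtGlueModule.torsion_of_isGlueable h).1,
    fun h => Groth.Agent.Lib.Helper41.EtGlueModule.isGlueable_of_torsion hRR'.1 h
      (fun x hx => Groth.Agent.Lib.Helper41.EtGlueModule.torsion_surjective_of_isGlueingPair hRR' x hx)⟩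

/-- Naturality: an `R`-linear map sends the kernel of the torsion criterion to itself. -/
theorem tors0_map_eq_zero {A C : Type u} [CommRing A] [Algebra R A] [CommRing C] [Algebra R C]
    (α : A →ₐ[R] C) (hC : Tors0 R R' f C) (a : A) (ha : ∃ n : ℕ, f ^ n • a = 0)
    (ha1 : (1 : R') ⊗ₜ[R] a = 0) : α a = 0 := by
  apply hC
  · obtain ⟨n, hn⟩ := ha
    exact ⟨n, by rw [← map_smul, hn, map_zero]⟩
  · have : (α.toLinearMap.lTensor R') ((1 : R') ⊗ₜ[R] a) = (1 : R') ⊗ₜ[R] (α a) := rfl
    rw [← this, ha1, map_zero]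

/-- Flat base change of the torsion criterion. -/
theorem tors0_of_flat {A B : Type u} [CommRing A] [Algebra R A] [CommRing B] [Algebra R B]
    (φ : A →ₐ[R] B) (hφ : φ.toRingHom.Flat) (hA : Tors0 R R' f A) : Tors0 R R' f B := by
  intro b ⟨n, hn⟩ hb1
  letI : Algebra A B := φ.toRingHom.toAlgebra
  haveI : IsScalarTower R A B := IsScalarTower.of_algebraMap_eq (fun r => (φ.commutes r).symm)
  haveI : Module.Flat A B := hφ
  -- the injective `A`-linear map `A → (A ⊗ R') × A`
  let ψ : A →ₗ[A] (A ⊗[R] R') × A :=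
    LinearMap.prod ((TensorProduct.AlgebraTensorModule.mk R A A R').flip 1)
      (algebraMap R A (f ^ n) • LinearMap.id)
  have hψ1 : ∀ a : A, ψ a = (a ⊗ₜ[R] (1 : R'), algebraMap R A (f ^ n) * a) := fun a => rfl
  have hψ : Function.Injective ψ := by
    rw [← LinearMap.ker_eq_bot, LinearMap.ker_eq_bot']
    intro a ha
    rw [hψ1, Prod.mk_eq_zero] at ha
    apply hA a
    · exact ⟨n, by rw [Algebra.smul_def]; exact ha.2⟩
    · have := congrArg (TensorProduct.comm R A R') ha.1
      simpa using this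
  have hinj := Module.Flat.lTensor_preserves_injective_linearMap (M := B) ψ hψ
  -- the additive map `R' ⊗ B → B ⊗_A ((A ⊗ R') × A)`
  let θ : R' ⊗[R] B →+ B ⊗[A] ((A ⊗[R] R') × A) :=
    TensorProduct.liftAddHom
      { toFun := fun r' =>
          { toFun := fun b => b ⊗ₜ[A] ((1 : A) ⊗ₜ[R] r', (0 : A))
            map_zero' := by rw [TensorProduct.zero_tmul]
            map_add' := fun b b' => by rw [TensorProduct.add_tmul] }
        map_zero' := by
          ext b
          change b ⊗ₜ[A] ((1 : A) ⊗ₜ[R] (0 : R'), (0 : A)) = 0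
          rw [TensorProduct.tmul_zero, show (((0 : A ⊗[R] R'), (0 : A)) : (A ⊗[R] R') × A) = 0 from rfl,
            TensorProduct.tmul_zero]
        map_add' := fun r₁ r₂ => by
          ext b
          change b ⊗ₜ[A] ((1 : A) ⊗ₜ[R] (r₁ + r₂), (0 : A)) =
            b ⊗ₜ[A] ((1 : A) ⊗ₜ[R] r₁, (0 : A)) + b ⊗ₜ[A] ((1 : A) ⊗ₜ[R] r₂, (0 : A))
          rw [← TensorProduct.tmul_add, Prod.mk_add_mk, ← TensorProduct.tmul_add, add_zero] }
      (by
        intro r r' b
        change b ⊗ₜ[A] ((1 : A) ⊗ₜ[R] (r • r'), (0 : A)) = (r • b) ⊗ₜ[A] ((1 : A) ⊗ₜ[R] r', (0 : A))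
        have h1 : (((1 : A) ⊗ₜ[R] (r • r'), (0 : A)) : (A ⊗[R] R') × A) =
            algebraMap R A r • (((1 : A) ⊗ₜ[R] r', (0 : A)) : (A ⊗[R] R') × A) := by
          rw [Prod.smul_mk, smul_zero, TensorProduct.smul_tmul', smul_eq_mul, mul_one,
            ← TensorProduct.smul_tmul, Algebra.smul_def, mul_one]
        rw [h1, ← TensorProduct.smul_tmul, algebraMap_smul])
  have hθ : θ ((1 : R') ⊗ₜ[R] b) = b ⊗ₜ[A] ((1 : A) ⊗ₜ[R] (1 : R'), (0 : A)) := rfl
  have key : (ψ.lTensor B) (b ⊗ₜ[A] (1 : A)) = 0 := by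
    rw [LinearMap.lTensor_tmul, hψ1, mul_one]
    have h2 : (((1 : A) ⊗ₜ[R] (1 : R'), algebraMap R A (f ^ n)) : (A ⊗[R] R') × A) =
        ((1 : A) ⊗ₜ[R] (1 : R'), (0 : A)) + algebraMap R A (f ^ n) • ((0 : A ⊗[R] R'), (1 : A)) := by
      rw [Prod.smul_mk, smul_zero, Prod.mk_add_mk, add_zero, zero_add, smul_eq_mul, mul_one]
    rw [h2, TensorProduct.tmul_add, ← hθ, hb1, map_zero, zero_add, ← TensorProduct.smul_tmul,
      algebraMap_smul, hn, TensorProduct.zero_tmul]
  have h0 : b ⊗ₜ[A] (1 : A) = 0 := hinj (by rw [key, map_zero])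
  have := congrArg (TensorProduct.rid A B) h0
  simpa using this

end Ring

section Geom

variable {R : Type u} [CommRing R]

/-- `Spec A` over `Spec R`. -/
noncomputable abbrev specOver (A : Type u) [CommRing A] [Algebra R A] : Over (Spec (CommRingCat.of R)) :=
  Over.mk (Spec.map (CommRingCat.ofHom (algebraMap R A)))

/-- The ring map `R → Γ(T, ⊤)` for a scheme `T` over `Spec R`. -/
noncomputable def overAlgHom (T : Over (Spec (CommRingCat.of R))) : R →+* Γ(T.left, ⊤) :=
  ((Scheme.ΓSpecIso (CommRingCat.of R)).inv ≫ T.hom.appTop).hom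

/-- The `R`-algebra structure on the global sections of a scheme over `Spec R`. -/
noncomputable abbrev overAlg (T : Over (Spec (CommRingCat.of R))) : Algebra R Γ(T.left, ⊤) :=
  (overAlgHom T).toAlgebra

/-- An affine scheme over `Spec R` is the spectrum of an `R`-algebra. -/
noncomputable def isoSpecOver (T : Over (Spec (CommRingCat.of R))) [IsAffine T.left] :
    T ≅ @specOver R _ Γ(T.left, ⊤) _ (overAlg T) :=
  letI := overAlg T
  Over.isoMk T.left.isoSpec (by
    change T.left.isoSpec.hom ≫ Spec.map (CommRingCat.ofHom (overAlgHom T)) = T.hom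
    have h1 : CommRingCat.ofHom (overAlgHom T) =
        (Scheme.ΓSpecIso (CommRingCat.of R)).inv ≫ T.hom.appTop := rfl
    rw [h1, Spec.map_comp, Scheme.isoSpec_hom, ← Category.assoc, ← Scheme.toSpecΓ_naturality, Category.assoc]
    have h2 : (Spec (CommRingCat.of R)).toSpecΓ = Spec.map (Scheme.ΓSpecIso (CommRingCat.of R)).hom := by
      rw [← Scheme.isoSpec_hom, Scheme.isoSpec_Spec_hom]
    rw [h2, ← Spec.map_comp, Iso.inv_hom_id, Spec.map_id, Category.comp_id])

/-- The ring map `A → Γ(T, ⊤)` of a morphism `T ⟶ Spec A` over `Spec R`. -/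
noncomputable def pullHom {A : Type u} [CommRing A] [Algebra R A] {T : Over (Spec (CommRingCat.of R))}
    (h : T ⟶ specOver A) : A →+* Γ(T.left, ⊤) :=
  ((Scheme.ΓSpecIso (CommRingCat.of A)).inv ≫ h.left.appTop).hom

theorem pullHom_algebraMap {A : Type u} [CommRing A] [Algebra R A] {T : Over (Spec (CommRingCat.of R))}
    (h : T ⟶ specOver A) (r : R) : pullHom h (algebraMap R A r) = overAlgHom T r := by
  have hw : h.left ≫ Spec.map (CommRingCat.ofHom (algebraMap R A)) = T.hom := Over.w h
  have h1 : CommRingCat.ofHom (algebraMap R A) ≫ (Scheme.ΓSpecIso (CommRingCat.of A)).inv ≫ h.left.appTop =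
      (Scheme.ΓSpecIso (CommRingCat.of R)).inv ≫ T.hom.appTop := by
    rw [← hw, Scheme.Hom.comp_appTop, ← Category.assoc, Scheme.ΓSpecIso_inv_naturality, Category.assoc]
  exact congrArg (fun φ => φ.hom r) h1

/-- The `R`-algebra map `A → Γ(T, ⊤)` of a morphism `T ⟶ Spec A` over `Spec R`. -/
noncomputable def pullAlgHom {A : Type u} [CommRing A] [Algebra R A] {T : Over (Spec (CommRingCat.of R))}
    (h : T ⟶ specOver A) : @AlgHom R A Γ(T.left, ⊤) _ _ _ _ (overAlg T) :=
  letI := overAlg T
  { pullHom h with commutes' := pullHom_algebraMap h }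

theorem pullHom_flat {A : Type u} [CommRing A] [Algebra R A] {T : Over (Spec (CommRingCat.of R))}
    [IsAffine T.left] (h : T ⟶ specOver A) [Flat h.left] : (pullHom h).Flat := by
  haveI : IsAffine (specOver (R := R) A).left := inferInstanceAs (IsAffine (Spec (CommRingCat.of A)))
  have h1 : h.left.appTop.hom.Flat := Scheme.Hom.flat_appTop h.left
  have h2 : (Scheme.ΓSpecIso (CommRingCat.of A)).inv.hom.Flat :=
    RingHom.Flat.of_bijective (ConcreteCategory.bijective_of_isIso _)
  exact RingHom.Flat.comp h2 h1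

/-- If the pullback of `a` along a flat morphism `T ⟶ Spec A` vanishes, then the germs of `a` at the image points
vanish. -/
theorem germ_eq_zero_of_pullHom_eq_zero {A : Type u} [CommRing A] [Algebra R A]
    {T : Over (Spec (CommRingCat.of R))} (h : T ⟶ specOver A) [Flat h.left] (w : ↥T.left) (a : A)
    (ha : pullHom h a = 0) :
    (Spec (CommRingCat.of A)).presheaf.germ ⊤ (h.left w) trivial
      ((Scheme.ΓSpecIso (CommRingCat.of A)).inv a) = 0 := by
  have hflat : (h.left.stalkMap w).hom.Flat := Flat.stalkMap h.left w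
  have hinj : Function.Injective (h.left.stalkMap w).hom := by
    letI := (h.left.stalkMap w).hom.toAlgebra
    haveI : Module.Flat ↑((specOver (R := R) A).left.presheaf.stalk (h.left w)) ↑(T.left.presheaf.stalk w) := hflat
    haveI : IsLocalHom (algebraMap ↑((specOver (R := R) A).left.presheaf.stalk (h.left w))
        ↑(T.left.presheaf.stalk w)) :=
      inferInstanceAs (IsLocalHom (h.left.stalkMap w).hom)
    haveI : Module.FaithfullyFlat ↑((specOver (R := R) A).left.presheaf.stalk (h.left w))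
        ↑(T.left.presheaf.stalk w) := Module.FaithfullyFlat.of_flat_of_isLocalHom
    exact FaithfulSMul.algebraMap_injective _ _
  apply hinj
  rw [map_zero]
  have h1 := Scheme.Hom.germ_stalkMap_apply h.left ⊤ w trivial
    ((Scheme.ΓSpecIso (CommRingCat.of A)).inv a)
  refine h1.trans ?_
  have h2 : h.left.app ⊤ ((Scheme.ΓSpecIso (CommRingCat.of A)).inv a) = 0 := ha
  rw [h2, map_zero]

/-- The torsion criterion passes from an étale covering by affines to every affine étale over `Y`. -/
theorem tors0_of_etale_cover {R' : Type u} [CommRing R'] [Algebra R R'] {f : R}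
    {Y : Sp (Spec (CommRingCat.of R))} {ι : Type u} (A : ι → Type u)
    [∀ k, CommRing (A k)] [∀ k, Algebra R (A k)]
    (g : ∀ k, (yon (Spec (CommRingCat.of R))).obj (specOver (A k)) ⟶ Y) (hg : ∀ k, RepWith @Etale (g k))
    (hsurj : ∀ y : Points Y, ∃ k, y ∈ Set.range (Points.map (g k)))
    (hA : ∀ k, Tors0 R R' f (A k))
    (B : Type u) [CommRing B] [Algebra R B] (gB : (yon (Spec (CommRingCat.of R))).obj (specOver B) ⟶ Y)
    (hgB : RepWith @Etale gB) : Tors0 R R' f B := by
  intro a hator ha1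
  suffices h : (Scheme.ΓSpecIso (CommRingCat.of B)).inv a = 0 by
    have := congrArg (Scheme.ΓSpecIso (CommRingCat.of B)).hom h
    simpa using this
  apply TopCat.Presheaf.section_ext (Spec (CommRingCat.of B)).sheaf ⊤
  intro x hx
  refine Eq.trans ?_ (map_zero _).symm
  obtain ⟨k, pt, hpt⟩ := hsurj (Points.ofPt gB x)
  obtain ⟨xk, rfl⟩ := exists_ofScheme_eq _ pt
  have hrep := (hg k).rep
  have sq := hrep.isPullback gB
  obtain ⟨sn, hsn⟩ := (yon (Spec (CommRingCat.of R))).map_surjective (hrep.fst gB)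
  rw [← hsn] at sq
  obtain ⟨w, hw1, hw2⟩ := exists_pt_of_isPullback_yon sq (Points.ofScheme _ xk) x hpt
  have hfs : Etale (hrep.snd gB).left := (hg k).property_snd gB
  have hsn' : Etale sn.left := hgB.property (g k) _ _ sq.flip
  obtain ⟨_, ⟨O, hO, rfl⟩, hwO, -⟩ :=
    (hrep.pullback gB).left.isBasis_affineOpens.exists_subset_of_mem_open (Set.mem_univ w) isOpen_univ
  let T := Groth.Agent.H52.overOpen (hrep.pullback gB) O
  haveI : IsAffine T.left := hO
  let hB : T ⟶ specOver B := Groth.Agent.H52.overOpenι (hrep.pullback gB) O ≫ hrep.snd gB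
  let hA' : T ⟶ specOver (A k) := Groth.Agent.H52.overOpenι (hrep.pullback gB) O ≫ sn
  haveI : Flat hB.left := by
    change Flat (Scheme.Opens.ι (X := (hrep.pullback gB).left) O ≫ (hrep.snd gB).left)
    infer_instance
  haveI : Flat hA'.left := by
    change Flat (Scheme.Opens.ι (X := (hrep.pullback gB).left) O ≫ sn.left)
    infer_instance
  letI := overAlg T
  have hT : Tors0 R R' f Γ(T.left, ⊤) := tors0_of_flat (pullAlgHom hA') (pullHom_flat hA') (hA k)
  have h0 : pullHom hB a = 0 := tors0_map_eq_zero (pullAlgHom hB) hT a hator ha1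
  have := germ_eq_zero_of_pullHom_eq_zero hB ⟨w, hwO⟩ a h0
  subst hw2
  exact this

/-- An algebraic space over `Spec R` has an étale covering by spectra of `R`-algebras. -/
theorem exists_affine_etale_cover {Y : Sp (Spec (CommRingCat.of R))} (hY : IsAlgSpace Y) :
    ∃ (ι : Type u) (A : ι → Type u) (_ : ∀ k, CommRing (A k)) (_ : ∀ k, Algebra R (A k))
      (g : ∀ k, (yon (Spec (CommRingCat.of R))).obj (specOver (A k)) ⟶ Y),
      (∀ k, RepWith @Etale (g k)) ∧ ∀ y : Points Y, ∃ k, y ∈ Set.range (Points.map (g k)) := by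
  obtain ⟨U, p, hpe, hps⟩ := hY.atlas
  have hE : (RepWith (S := Spec (CommRingCat.of R)) @Etale).IsMultiplicative := repWith_isMultiplicative _
  let T : U.left.affineOpens → Over (Spec (CommRingCat.of R)) := fun O => Groth.Agent.H52.overOpen U O.1
  haveI hT : ∀ O, IsAffine (T O).left := fun O => O.2
  refine ⟨U.left.affineOpens, fun O => Γ((T O).left, ⊤), fun O => inferInstance, fun O => overAlg (T O),
    fun O => (yon (Spec (CommRingCat.of R))).map ((isoSpecOver (T O)).inv ≫ Groth.Agent.H52.overOpenι U O.1) ≫ p,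
    ?_, ?_⟩
  · intro O
    refine (RepWith @Etale).comp_mem _ _ ?_ hpe
    refine (repWith_yon_map_iff _ _).2 ?_
    haveI : IsIso (isoSpecOver (T O)).inv.left :=
      inferInstanceAs (IsIso ((Over.forget _).map (isoSpecOver (T O)).inv))
    change Etale ((isoSpecOver (T O)).inv.left ≫ O.1.ι)
    infer_instance
  · intro y
    obtain ⟨u', rfl⟩ := Groth.Agent.H52.surjective_points_of_repWith_surjective p hps y
    obtain ⟨u, rfl⟩ := exists_ofScheme_eq U u'
    obtain ⟨_, ⟨O, hO, rfl⟩, huO, -⟩ :=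
      U.left.isBasis_affineOpens.exists_subset_of_mem_open (Set.mem_univ u) isOpen_univ
    refine ⟨⟨O, hO⟩, Points.ofScheme _ ((isoSpecOver (T ⟨O, hO⟩)).hom.left ⟨u, huO⟩), ?_⟩
    rw [← Points.ofPt_eq_map_ofScheme, ← Points.ofPt_eq_map_ofScheme, ofPt_yon_map_comp]
    congr 1
    have key : ∀ z : ↥(T ⟨O, hO⟩).left,
        ((isoSpecOver (T ⟨O, hO⟩)).inv ≫ Groth.Agent.H52.overOpenι U O).left
          ((isoSpecOver (T ⟨O, hO⟩)).hom.left z) = (Groth.Agent.H52.overOpenι U O).left z := by
      intro z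
      rw [← Scheme.Hom.comp_apply, ← Over.comp_left, ← Category.assoc, Iso.hom_inv_id, Category.id_comp]
    exact key ⟨u, huO⟩

end Geom

end Groth.Agent.Lib.Helper54.Glue
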