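import Groth.Agent.Lib.Helper54.UnivBdd

/-!
# Descent of finiteness over a field along field extensions
-/

set_option autoImplicit false
universe u
open AlgebraicGeometry CategoryTheory CategoryTheory.Limits Module Function

namespace Groth.Agent.Lib.Helper54

/-- A scheme finite over a field is a finite discrete space. -/
theorem finite_discrete_of_isFinite {T : Scheme.{u}} {K : Type u} [Field K]
    (c : T ⟶ Spec (CommRingCat.of K)) [IsFinite c] : Finite ↥T ∧ DiscreteTopology ↥T := by
  obtain ⟨hTaff, hTfin⟩ := finite_and_finrank_eq_of_isFinite c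
  have hA : IsArtinianRing Γ(T, ⊤) := by
    algebraize [(strΓ c).hom]
    have : Module.Finite K Γ(T, ⊤) := RingHom.finite_algebraMap.mp hTfin
    exact IsArtinianRing.of_finite K _
  have h1 : DiscreteTopology ↥(Spec Γ(T, ⊤)) := inferInstanceAs (DiscreteTopology (PrimeSpectrum Γ(T, ⊤)))
  have h2 : Finite ↥(Spec Γ(T, ⊤)) := inferInstanceAs (Finite (PrimeSpectrum Γ(T, ⊤)))
  exact ⟨Finite.of_equiv _ (Scheme.homeoOfIso T.isoSpec).toEquiv.symm,
    (Scheme.homeoOfIso T.isoSpec).isEmbedding.discreteTopology⟩

/-- The target of a flat surjection from a finite discrete scheme is finite and discrete. -/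
theorem finite_discrete_of_flat_surjective {P T : Scheme.{u}} (π : P ⟶ T) [Flat π]
    [AlgebraicGeometry.Surjective π] [Finite ↥P] [DiscreteTopology ↥P] :
    Finite ↥T ∧ DiscreteTopology ↥T := by
  have hFinT : Finite ↥T := Finite.of_surjective π π.surjective
  have hT1 : T1Space ↥T := by
    refine ⟨fun t => ?_⟩
    rw [← closure_eq_iff_isClosed]
    refine subset_antisymm (fun t' ht' => ?_) subset_closure
    have hspec : t ⤳ t' := specializes_iff_mem_closure.mpr ht'
    obtain ⟨p', rfl⟩ := π.surjective t'
    obtain ⟨p, hp, hpt⟩ := (Flat.generalizingMap π) hspec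
    have : p = p' := hp.eq
    rw [Set.mem_singleton_iff, ← hpt, this]
  exact ⟨hFinT, inferInstance⟩

/-- Finiteness of a ring map descends along a faithfully flat cobase change. -/
theorem finite_of_isPushout_of_faithfullyFlat {R A B P : CommRingCat.{u}} {f : R ⟶ A} {g : R ⟶ B}
    {inl : A ⟶ P} {inr : B ⟶ P} (h : IsPushout f g inl inr) (hg : g.hom.FaithfullyFlat)
    (hfin : inr.hom.Finite) : f.hom.Finite := by
  algebraize [f.hom, g.hom, inl.hom, inr.hom, inl.hom.comp f.hom]
  have : IsScalarTower R B P := .of_algebraMap_eq' <| congr($(h.1.1).hom)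
  have : Algebra.IsPushout R A B P := CommRingCat.isPushout_iff_isPushout.mp h
  exact RingHom.Finite.codescendsAlong_faithfullyFlat (R := R) (S := A) (R' := B) (S' := P) hg hfin

set_option backward.isDefEq.respectTransparency.types false in
/-- Descent of finiteness and of the degree bound along a field extension. -/
theorem isFinite_of_isPullback_fieldExt {T T' : Scheme.{u}} {K Ω : Type u} [Field K] [Field Ω]
    (c : T ⟶ Spec (CommRingCat.of K)) (a : Spec (CommRingCat.of Ω) ⟶ Spec (CommRingCat.of K)) (π : T' ⟶ T)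
    (c' : T' ⟶ Spec (CommRingCat.of Ω)) (sq : IsPullback π c' c a) [IsFinite c'] (n : ℕ)
    (h : ∀ s, c'.finrank s ≤ n) : IsFinite c ∧ ∀ s, c.finrank s ≤ n := by
  have haflat : Flat a := inferInstance
  have hasurj : AlgebraicGeometry.Surjective a := by
    refine ⟨fun s => ⟨IsLocalRing.closedPoint Ω, ?_⟩⟩
    have : Subsingleton ↥(Spec (CommRingCat.of K)) := inferInstanceAs (Subsingleton (PrimeSpectrum K))
    exact Subsingleton.elim _ _
  have hπflat : Flat π := MorphismProperty.of_isPullback sq.flip haflat
  have hπsurj : AlgebraicGeometry.Surjective π := MorphismProperty.of_isPullback sq.flip hasurj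
  obtain ⟨hF', hD'⟩ := finite_discrete_of_isFinite c'
  obtain ⟨hF, hD⟩ := finite_discrete_of_flat_surjective π
  have hTaff : IsAffine T := inferInstance
  have hT'aff : IsAffine T' := isAffine_of_isAffineHom c'
  have hpo := isPushout_appTop_of_isPullback sq
  have haff : a.appTop.hom.FaithfullyFlat :=
    (Flat.flat_and_surjective_iff_faithfullyFlat_of_isAffine a).mp ⟨haflat, hasurj⟩
  have hcfin : c.appTop.hom.Finite :=
    finite_of_isPushout_of_faithfullyFlat hpo haff (Scheme.Hom.finite_appTop c')
  have hc : IsFinite c := (HasAffineProperty.iff_of_isAffine (P := @IsFinite)).mpr ⟨hTaff, hcfin⟩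
  refine ⟨hc, fun s => ?_⟩
  have hcflat : Flat c := inferInstance
  have := Scheme.Hom.finrank_of_isPullback π c' c a sq (IsLocalRing.closedPoint Ω)
  have hs : a (IsLocalRing.closedPoint Ω) = s := by
    have : Subsingleton ↥(Spec (CommRingCat.of K)) := inferInstanceAs (Subsingleton (PrimeSpectrum K))
    exact Subsingleton.elim _ _
  rw [hs] at this
  rw [← this]
  exact h _

/-- The empty scheme is finite of degree zero over any field. -/
theorem isFinite_finrank_le_of_isEmpty {T : Scheme.{u}} [IsEmpty ↥T] {K : Type u} [Field K]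
    (c : T ⟶ Spec (CommRingCat.of K)) (n : ℕ) : IsFinite c ∧ ∀ s, c.finrank s ≤ n := by
  have hfin : (strΓ c).hom.Finite := by
    algebraize [(strΓ c).hom]
    exact RingHom.finite_algebraMap.mpr Module.Finite.of_finite
  obtain ⟨h1, h2⟩ := isFinite_and_finrank_eq c hfin
  refine ⟨h1, fun s => ?_⟩
  rw [h2 s]
  have : @Module.finrank K Γ(T, ⊤) _ _ (strΓ c).hom.toAlgebra.toModule = 0 :=
    @Module.finrank_zero_of_subsingleton K Γ(T, ⊤) _ _ (strΓ c).hom.toAlgebra.toModule _ _
  omega

end Groth.Agent.Lib.Helper54
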