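import Groth.Agent.S10116
import Groth.Agent.Lib.Helper54.ClosedPtSp
import Groth.Agent.Lib.Helper54.MonoPoint
import Groth.Agent.Lib.Helper54.UnivBdd2
import Groth.Agent.H52.QS

/-!
# Decent group algebraic spaces over a field are separated (helper54)

The unit section of a decent group algebraic space over a field is a closed immersion: it is a quasi-compact
monomorphism from the spectrum of the field, and the points over it in an affine étale chart are closed because
they are images of points of a finite scheme over the field.
-/

set_option autoImplicit false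
set_option backward.isDefEq.respectTransparency false
set_option linter.style.haveILetI false
universe u
open CategoryTheory CategoryTheory.Limits AlgebraicGeometry Topology MonoidalCategory MonObj
open AlgSp

namespace Groth.Agent.Lib.Helper54

/-- The image of a point of a finite `k`-scheme in a separated `k`-scheme is a closed point. -/
theorem isClosed_singleton_image_of_isFinite_field {k : Type u} [Field k] {T V : Scheme.{u}}
    (c : T ⟶ Spec (CommRingCat.of k)) [IsFinite c] (hV : V ⟶ Spec (CommRingCat.of k)) [IsSeparated hV]
    (d : T ⟶ V) (hd : d ≫ hV = c) (t : ↥T) : IsClosed ({d t} : Set ↥V) := by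
  haveI : IsFinite (d ≫ hV) := hd ▸ ‹IsFinite c›
  haveI : IsFinite d := IsFinite.of_comp d hV
  obtain ⟨-, hdisc⟩ := finite_discrete_of_isFinite c
  have h1 : IsClosed ({t} : Set ↥T) := isClosed_discrete _
  have h2 := d.isClosedMap _ h1
  rwa [Set.image_singleton] at h2

/-- A section of a morphism from a decent algebraic space to the spectrum of a field is a closed immersion. -/
theorem repWith_isClosedImmersion_of_section_field {k : Type u} [Field k]
    {X : Sp (Spec (CommRingCat.of k))} (hX : IsAlgSpace X) (hd : IsDecent X)
    (e : (yon (Spec (CommRingCat.of k))).obj (Over.mk (𝟙 (Spec (CommRingCat.of k)))) ⟶ X) [Mono e] :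
    RepWith @IsClosedImmersion e := by
  let pe : FieldPt X := fieldPtOfHom k (𝟙 _) e
  have hpe : pe.toHom = e := fieldPtOfHom_toHom k _ e
  obtain ⟨p', hp', hm', hq'⟩ := hd (Points.mk pe)
  have hq : RepWith @QuasiCompact pe.toHom := repWith_quasiCompact_of_mono_point p' pe hm' hq' hp'.symm
  have hm : Mono pe.toHom := hpe ▸ ‹Mono e›
  rw [← hpe]
  refine repWith_isClosedImmersion_of_closed_fibre_points hX pe hm hq ?_
  intro V b hV hb v hv
  have hrep := hX.representable_from_yon pe.toHom
  have sq : IsPullback ((yon _).map (hrep.fst' b)) ((yon _).map (hrep.snd b)) pe.toHom b :=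
    hrep.isPullback' b
  have hfin : IsFinite (hrep.fst' b).left :=
    Groth.Agent.H53.FibrePts.finFib_of_repWith_quasiCompact pe hq V b hV hb _ _ _ sq
  have hmem : v ∈ Set.range (hrep.snd b).left := by
    rw [Groth.Agent.H53.FibrePts.range_eq_fibre pe b _ _ sq]
    exact hv
  obtain ⟨t, rfl⟩ := hmem
  haveI : IsAffine V.left := hV
  haveI : IsSeparated V.hom := inferInstance
  refine isClosed_singleton_image_of_isFinite_field (hrep.fst' b).left V.hom (hrep.snd b).left ?_ t
  have h1 := Over.w (hrep.snd b)
  have h2 := Over.w (hrep.fst' b)
  rw [h1, ← h2]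
  exact (Category.comp_id _).symm

end Groth.Agent.Lib.Helper54
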