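import Groth.Agent.S10122
import Groth.Agent.Lib.Helper54.GrpFieldSep

/-!
# Groupoids over a field with decent space of arrows are separated (helper54)
-/

set_option autoImplicit false
set_option backward.isDefEq.respectTransparency false
set_option linter.style.haveILetI false
universe u
open CategoryTheory CategoryTheory.Limits AlgebraicGeometry Topology
open AlgSp

namespace Groth.Agent.Lib.Helper54

variable {S : Scheme.{u}}

/-- A section `e` of a morphism `r : X ⟶ h_{Spec k}` from a decent algebraic space is a closed immersion. -/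
theorem repWith_isClosedImmersion_of_section_field' {k : Type u} [Field k]
    (σ : Spec (CommRingCat.of k) ⟶ S) {X : Sp S} (hX : IsAlgSpace X) (hd : IsDecent X)
    (e : (yon S).obj (Over.mk σ) ⟶ X) (r : X ⟶ (yon S).obj (Over.mk σ)) (her : e ≫ r = 𝟙 _) :
    RepWith @IsClosedImmersion e := by
  haveI : Mono e := (SplitMono.mk r her).mono
  let pe : FieldPt X := fieldPtOfHom k σ e
  have hpe : pe.toHom = e := fieldPtOfHom_toHom k _ e
  obtain ⟨p', hp', hm', hq'⟩ := hd (Points.mk pe)
  have hq : RepWith @QuasiCompact pe.toHom := repWith_quasiCompact_of_mono_point p' pe hm' hq' hp'.symm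
  have hm : Mono pe.toHom := hpe ▸ ‹Mono e›
  rw [← hpe]
  refine repWith_isClosedImmersion_of_closed_fibre_points hX pe hm hq ?_
  intro V b hV hb v hv
  have hrep := hX.representable_from_yon pe.toHom
  have sq : IsPullback ((yon S).map (hrep.fst' b)) ((yon S).map (hrep.snd b)) pe.toHom b :=
    hrep.isPullback' b
  have hfin : IsFinite (hrep.fst' b).left :=
    Groth.Agent.H53.FibrePts.finFib_of_repWith_quasiCompact pe hq V b hV hb _ _ _ sq
  have hmem : v ∈ Set.range (hrep.snd b).left := by
    rw [Groth.Agent.H53.FibrePts.range_eq_fibre pe b _ _ sq]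
    exact hv
  obtain ⟨t, rfl⟩ := hmem
  haveI : IsAffine V.left := hV
  obtain ⟨hVk, hhVk⟩ := (yon S).map_surjective (b ≫ r)
  haveI : IsSeparated hVk.left := inferInstance
  refine isClosed_singleton_image_of_isFinite_field (hrep.fst' b).left hVk.left (hrep.snd b).left ?_ t
  have h1 : hrep.snd b ≫ hVk = hrep.fst' b := by
    apply (yon S).map_injective
    have her' : pe.toHom ≫ r = 𝟙 _ := by rw [hpe]; exact her
    rw [Functor.map_comp, hhVk, ← Category.assoc, ← sq.w, Category.assoc, her']
    exact Category.comp_id _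
  exact congrArg (fun f => f.left) h1

/-- A groupoid in algebraic spaces whose space of objects is the spectrum of a field and whose space of arrows is
decent has separated space of arrows. -/
theorem isSeparatedSp_R_of_field_of_isDecent (B : Sp S) (hB : IsAlgSpace B)
    (G : GroupoidSp B) (hR : IsAlgSpace G.R) (k : Type u) [Field k]
    (σ : Spec (CommRingCat.of k) ⟶ S) (eU : G.U ≅ (yon S).obj (Over.mk σ)) (hd : IsDecent G.R) :
    IsSeparatedSp G.R := by
  have hU : IsAlgSpace G.U := (IsAlgSpace.yon_obj (Over.mk σ)).of_iso eU.symm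
  have hP : IsAlgSpace (pullback G.pU G.pU) :=
    Groth.Agent.H52.isAlgSpace_of_isPullback (IsPullback.of_hasPullback G.pU G.pU) hU hB hU
  have sqSt : IsPullback G.stabilizerι G.stabilizerToU G.j G.diag := IsPullback.of_hasPullback G.j G.diag
  have hSt : IsAlgSpace G.stabilizer := Groth.Agent.H52.isAlgSpace_of_isPullback sqSt hR hP hU
  have hdiagrep : Representable G.diag := (Groth.Agent.H52.diagonal_properties hU G.pU).1
  have hιrep : Representable G.stabilizerι := MorphismProperty.of_isPullback sqSt.flip hdiagrep
  have hStd : IsDecent G.stabilizer := isDecent_of_representable G.stabilizerι hιrep hd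
  have hw : G.e ≫ G.j = 𝟙 G.U ≫ G.diag := by
    apply pullback.hom_ext
    · simp [GroupoidSp.diag, G.e_t]
    · simp [GroupoidSp.diag, G.e_s]
  let eG : G.U ⟶ G.stabilizer := pullback.lift G.e (𝟙 G.U) hw
  have heG : eG ≫ G.stabilizerι = G.e := pullback.lift_fst _ _ _
  have heG2 : eG ≫ G.stabilizerToU = 𝟙 _ := pullback.lift_snd _ _ _
  have h122 := (Groth.Agent.S10122.result S B hB G hU hR eG heG).1.2
  have hcl : RepWith @IsClosedImmersion (eU.inv ≫ eG) :=
    repWith_isClosedImmersion_of_section_field' σ hSt hStd (eU.inv ≫ eG) (G.stabilizerToU ≫ eU.hom) (by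
      rw [Category.assoc, ← Category.assoc eG, heG2, Category.id_comp, Iso.inv_hom_id])
  have hcl' : RepWith @IsClosedImmersion eG :=
    (MorphismProperty.cancel_left_of_respectsIso (RepWith (S := S) @IsClosedImmersion) eU.inv eG).1 hcl
  have hj : IsSeparatedMor G.j := h122.2 hcl'
  have hany : ∀ {A : Sp S} (t t' : A ⟶ (yon S).obj (Over.mk (𝟙 S))),
      RepWith @IsClosedImmersion (pullback.diagonal t) → RepWith @IsClosedImmersion (pullback.diagonal t') := by
    intro A t t' h
    obtain rfl : t = t' := (Groth.Agent.H52.yonBaseIsTerminal S).hom_ext _ _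
    exact h
  -- `U` is separated
  have hyon : RepWith @IsClosedImmersion (Limits.diag ((yon S).obj (Over.mk σ))) :=
    (repWith_diag_yon_iff _ (Over.mk σ)).2 (inferInstance : IsClosedImmersion (pullback.diagonal σ))
  have hUsep : RepWith @IsClosedImmersion (Limits.diag G.U) := by
    rw [Groth.Agent.H52.repWith_diag_iff_diagonal_from] at hyon ⊢
    have h1 : RepWith @IsClosedImmersion (pullback.diagonal eU.hom) :=
      Groth.Agent.H52.repWith_of_isIso _ _
    exact hany _ _ (Groth.Agent.H52.repWith_diagonal_comp @IsClosedImmersion eU.hom _ h1 hyon)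
  have hPsep : RepWith @IsClosedImmersion (Limits.diag (pullback G.pU G.pU)) :=
    Groth.Agent.H52.repWith_diag_of_isPullback _ (IsPullback.of_hasPullback G.pU G.pU) hUsep hUsep
  refine (Groth.Agent.H52.repWith_diag_iff_diagonal_from @IsClosedImmersion G.R).2 ?_
  exact hany _ _ (Groth.Agent.H52.repWith_diagonal_comp @IsClosedImmersion G.j _ hj
    ((Groth.Agent.H52.repWith_diag_iff_diagonal_from @IsClosedImmersion _).1 hPsep))

end Groth.Agent.Lib.Helper54
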