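import Groth.Agent.Lib.Helper54.ImmersionDescentSch
import Groth.Agent.Lib.Helper54.ClosedDescent

/-!
# fpqc descent of quasi-compact locally closed subspaces over an affine base (helper54)

A quasi-compact algebraic space `XZ` with a monomorphism to an affine scheme `Z`, which becomes a
quasi-compact locally closed subscheme after base change to the members of a finite flat affine
covering of `Z`, is itself a quasi-compact locally closed subscheme of `Z`: an open subscheme of
the scheme-theoretic image of an affine étale chart.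
-/

set_option autoImplicit false
set_option backward.isDefEq.respectTransparency false
universe u
open CategoryTheory CategoryTheory.Limits AlgebraicGeometry

namespace Groth.Agent.Lib.Helper54

open AlgSp

variable {S : Scheme.{u}}

/-- fpqc descent of quasi-compact immersions into an affine scheme, for algebraic spaces. -/
theorem exists_iso_yon_of_immersion_family {Z : Over S} (hZ : IsAffine Z.left) {XZ : Sp S}
    (fZ : XZ ⟶ (yon S).obj Z) [Mono fZ] (hqc : IsQuasiCompactSp XZ)
    {m : ℕ} (W : Fin m → Over S) (c : ∀ j, W j ⟶ Z) (haff : ∀ j, IsAffine (W j).left)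
    (hflat : ∀ j, Flat (c j).left) (hsurj : ∀ z : ↥Z.left, ∃ j, z ∈ Set.range (c j).left)
    (H : ∀ j, ∃ (A' : Sp S) (a : A' ⟶ XZ) (φ' : A' ⟶ (yon S).obj (W j)),
      IsPullback a φ' fZ ((yon S).map (c j)) ∧ RepWith (@IsImmersion ⊓ @QuasiCompact) φ') :
    ∃ (V : Over S) (ι : V ⟶ Z) (e : (yon S).obj V ≅ XZ),
      IsImmersion ι.left ∧ QuasiCompact ι.left ∧ e.hom ≫ fZ = (yon S).map ι := by
  obtain ⟨U₀, p₀, hp₀e, hp₀s, hU₀⟩ := hqc
  have : CompactSpace ↥U₀.left := hU₀
  obtain ⟨U', π, hU'aff, hπe, hπs⟩ := Groth.Agent.H53.exists_affine_etale_surjective U₀.left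
  let U : Over S := Over.mk (π ≫ U₀.hom)
  let πO : U ⟶ U₀ := Over.homMk π rfl
  have hE : (RepWith (S := S) @Etale).IsMultiplicative := repWith_isMultiplicative _
  have hSj : (RepWith (S := S) @Surjective).IsMultiplicative := repWith_isMultiplicative _
  let a : (yon S).obj U ⟶ XZ := (yon S).map πO ≫ p₀
  have hae : RepWith @Etale a :=
    (RepWith @Etale).comp_mem _ _ ((repWith_yon_map_iff _ _).2 hπe) hp₀e
  have has : RepWith @Surjective a :=
    (RepWith @Surjective).comp_mem _ _ ((repWith_yon_map_iff _ _).2 hπs) hp₀s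
  have hepi : Epi a := Groth.Agent.H52.epi_of_repWith_etale_surjective a hae has
  obtain ⟨h, hh⟩ := (yon S).map_surjective (a ≫ fZ)
  have hUaff : IsAffine U.left := hU'aff
  have hZaff : IsAffine Z.left := hZ
  have hWaff : ∀ j, IsAffine (W j).left := haff
  -- the comparison maps are étale
  have hQ : ∀ j, ∃ (UW : Scheme.{u}) (p1 : UW ⟶ U.left) (p2 : UW ⟶ (W j).left)
      (sq : IsPullback p1 p2 h.left (c j).left),
      Etale (toPullbackImage h.left (c j).left sq) := by
    intro j
    obtain ⟨A', a', φ', sqA, hφ'⟩ := H j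
    have hr := hφ'.rep
    have sqb := hr.isPullback (𝟙 ((yon S).obj (W j)))
    have hv := hφ'.property_snd (𝟙 ((yon S).obj (W j)))
    have hvi : IsImmersion (hr.snd (𝟙 ((yon S).obj (W j)))).left := hv.1
    have hvq : QuasiCompact (hr.snd (𝟙 ((yon S).obj (W j)))).left := hv.2
    have sqV : IsPullback (hr.fst (𝟙 _) ≫ a') ((yon S).map (hr.snd (𝟙 ((yon S).obj (W j))))) fZ
        ((yon S).map (c j)) := by
      have := sqb.paste_horiz sqA
      rwa [Category.id_comp] at this
    have sqO := IsPullback.of_hasPullback h (c j)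
    have sqOy := sqO.map (yon S)
    have hcomm : ((yon S).map (pullback.fst h (c j)) ≫ a) ≫ fZ =
        (yon S).map (pullback.snd h (c j)) ≫ (yon S).map (c j) := by
      rw [Category.assoc, ← hh]
      exact sqOy.w
    obtain ⟨uj, huj⟩ := (yon S).map_surjective (sqV.lift _ _ hcomm)
    have hu1 : (yon S).map uj ≫ (hr.fst (𝟙 _) ≫ a') = (yon S).map (pullback.fst h (c j)) ≫ a := by
      rw [huj]
      exact sqV.lift_fst _ _ _
    have hu2 : (yon S).map uj ≫ (yon S).map (hr.snd (𝟙 ((yon S).obj (W j)))) =
        (yon S).map (pullback.snd h (c j)) := by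
      rw [huj]
      exact sqV.lift_snd _ _ _
    have hu2' : uj ≫ hr.snd (𝟙 ((yon S).obj (W j))) = pullback.snd h (c j) :=
      (yon S).map_injective (by rw [Functor.map_comp, hu2])
    have sqL : IsPullback ((yon S).map (pullback.fst h (c j))) ((yon S).map uj) a
        (hr.fst (𝟙 _) ≫ a') := by
      refine IsPullback.of_bot ?_ hu1.symm sqV
      rw [hu2, ← hh]
      exact sqOy
    have huje : Etale uj.left := hae.property _ _ uj sqL
    have hujs : Surjective uj.left := has.property _ _ uj sqL
    have sqS := sqO.map (Over.forget S)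
    have : Flat (c j).left := hflat j
    obtain ⟨e, he, heu⟩ := exists_iso_image_pullback_imageι h.left (c j).left sqS
      (hr.snd (𝟙 ((yon S).obj (W j)))).left uj.left
      (by
        have := congrArg (fun φ => φ.left) hu2'
        exact this)
    refine ⟨_, _, _, sqS, ?_⟩
    rw [← heu]
    infer_instance
  have hke : Etale h.left.toImage :=
    toImage_of_finite_flat_family @Etale h.left (fun j => (W j).left) (fun j => (c j).left) hflat
      hsurj hQ
  -- the open image of the chart in the scheme-theoretic image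
  let V₀ : h.left.image.Opens := ⟨Set.range h.left.toImage, h.left.toImage.isOpenMap.isOpen_range⟩
  let V : Over S := Over.mk (V₀.ι ≫ h.left.imageι ≫ Z.hom)
  let ι : V ⟶ Z := Over.homMk (V₀.ι ≫ h.left.imageι) (by simp [V])
  have hrange : Set.range h.left.toImage ⊆ Set.range V₀.ι := by
    rw [Scheme.Opens.range_ι]
    exact subset_rfl
  let k : U ⟶ V := Over.homMk (IsOpenImmersion.lift V₀.ι h.left.toImage hrange) (by
    change IsOpenImmersion.lift V₀.ι h.left.toImage hrange ≫ V₀.ι ≫ h.left.imageι ≫ Z.hom = U.hom
    rw [IsOpenImmersion.lift_fac_assoc, Scheme.Hom.toImage_imageι_assoc, Over.w h])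
  have hkfac : k.left ≫ V₀.ι = h.left.toImage := IsOpenImmersion.lift_fac _ _ _
  have hkι : k ≫ ι = h := by
    apply Over.OverMorphism.ext
    change k.left ≫ V₀.ι ≫ h.left.imageι = h.left
    rw [reassoc_of% hkfac]
    exact Scheme.Hom.toImage_imageι _
  have hke' : Etale k.left := by
    have : Etale (k.left ≫ V₀.ι) := by rw [hkfac]; exact hke
    exact Etale.of_comp k.left V₀.ι
  have hks : Surjective k.left := by
    refine ⟨fun x => ?_⟩
    obtain ⟨y, hy⟩ : (V₀.ι x) ∈ Set.range h.left.toImage := by
      have := x.2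
      exact this
    refine ⟨y, V₀.ι.isOpenEmbedding.injective ?_⟩
    have h1 : (k.left ≫ V₀.ι) y = h.left.toImage y := by rw [hkfac]
    exact h1.trans hy
  have hVcomp : CompactSpace ↥V.left := by
    have : CompactSpace ↥U.left := inferInstance
    exact Function.Surjective.compactSpace k.left.continuous hks.surj
  have hιimm : IsImmersion ι.left := inferInstanceAs (IsImmersion (V₀.ι ≫ h.left.imageι))
  have hιqc : QuasiCompact ι.left := inferInstance
  -- the end game
  have hkepi : Epi ((yon S).map k) := Groth.Agent.H52.epi_yon_map_of_fppf k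
  have hιmono : Mono ((yon S).map ι) := by
    have : Mono ι := (Over.forget S).mono_of_mono_map (inferInstanceAs (Mono (V₀.ι ≫ h.left.imageι)))
    infer_instance
  have hg : pullback.fst a a ≫ (yon S).map k = pullback.snd a a ≫ (yon S).map k := by
    rw [← cancel_mono ((yon S).map ι), Category.assoc, Category.assoc, ← Functor.map_comp, hkι, hh,
      pullback.condition_assoc]
  obtain ⟨mm, hmm⟩ := Groth.Agent.H53.HomAff.exists_desc_of_epi a (pullback.fst a a)
    (pullback.snd a a) (IsPullback.of_hasPullback a a) ((yon S).map k) hg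
  have hmι : mm ≫ (yon S).map ι = fZ := by
    rw [← cancel_epi a, ← Category.assoc, hmm, ← Functor.map_comp, hkι, hh]
  have hmmono : Mono mm := by
    have : Mono (mm ≫ (yon S).map ι) := by rw [hmι]; infer_instance
    exact mono_of_mono mm ((yon S).map ι)
  have hmepi : Epi mm := by
    have : Epi (a ≫ mm) := by rw [hmm]; exact hkepi
    exact epi_of_epi a mm
  have hiso : IsIso mm := Groth.Agent.Lib.Helper51.isIso_of_mono_of_epi_sp mm
  refine ⟨V, ι, (asIso mm).symm, hιimm, hιqc, ?_⟩
  rw [← hmι]
  simp

end Groth.Agent.Lib.Helper54
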