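import Groth.Agent.Lib.Helper54.ClosedDescentSch
import Mathlib.AlgebraicGeometry.Morphisms.Immersion

/-!
# Flat base change of scheme-theoretic images, quasi-compact case (helper54)

Generalises `exists_iso_pullback_imageι`: the closed subscheme `v : V' ⟶ W` is replaced by any
quasi-compact morphism and its scheme-theoretic image.
-/

set_option autoImplicit false
universe u
open CategoryTheory CategoryTheory.Limits AlgebraicGeometry

namespace Groth.Agent.Lib.Helper54

/-- A flat surjective morphism of schemes is injective on sections. -/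
theorem injective_app_of_flat_of_surjective {X Y : Scheme.{u}} (f : X ⟶ Y) [Flat f] [Surjective f]
    (U : Y.Opens) : Function.Injective (f.app U).hom := by
  intro s t hst
  refine TopCat.Presheaf.section_ext Y.sheaf U s t (fun y hy => ?_)
  obtain ⟨x, rfl⟩ := f.surjective y
  have hinj : Function.Injective (f.stalkMap x).hom := by
    algebraize [(f.stalkMap x).hom]
    have : Module.FaithfullyFlat (Y.presheaf.stalk (f x)) (X.presheaf.stalk x) :=
      @Module.FaithfullyFlat.of_flat_of_isLocalHom _ _ _ _ _ _ _
        (Flat.stalkMap f x) (f.toLRSHom.prop x)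
    exact ‹RingHom.FaithfullyFlat _›.injective
  apply hinj
  have h1 := Scheme.Hom.germ_stalkMap_apply f U x hy s
  have h2 := Scheme.Hom.germ_stalkMap_apply f U x hy t
  have h3 : (X.presheaf.germ (f ⁻¹ᵁ U) x hy) ((f.app U) s) =
      (X.presheaf.germ (f ⁻¹ᵁ U) x hy) ((f.app U) t) := congrArg _ hst
  exact h1.trans (h3.trans h2.symm)

/-- Flat base change of the scheme-theoretic image in the affine case: the scheme-theoretic image
of a quasi-compact `v : Vj ⟶ W` receiving a flat surjection from `U ×_Z W` over `W` is the base
change of the image of `U ⟶ Z`. -/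
theorem exists_iso_image_pullback_imageι {U Z W UW Vj : Scheme.{u}} [IsAffine U] [IsAffine Z]
    [IsAffine W] (h : U ⟶ Z) (c : W ⟶ Z) [Flat c] {p1 : UW ⟶ U} {p2 : UW ⟶ W}
    (sqU : IsPullback p1 p2 h c) (v : Vj ⟶ W) [QuasiCompact v] (u : UW ⟶ Vj) [Flat u]
    [Surjective u] (hu : u ≫ v = p2) :
    ∃ e : v.image ⟶ pullback h.imageι c, IsIso e ∧
      (u ≫ v.toImage) ≫ e = toPullbackImage h c sqU := by
  have hVaff : IsAffine h.image := isAffine_of_isAffineHom h.imageι
  have hVjaff : IsAffine v.image := isAffine_of_isAffineHom v.imageι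
  have hVWaff : IsAffine (pullback h.imageι c) := inferInstance
  have hinj : Function.Injective h.toImage.appTop.hom :=
    h.toImage_app_injective ⟨⊤, isAffineOpen_top Z⟩
  have hl : (toPullbackImage h c sqU).ker = ⊥ :=
    ker_eq_bot_of_injective_appTop _
      (injective_appTop_of_isPullback_of_flat (isPullback_toPullbackImage h c sqU) hinj)
  have hk1 : p2.ker = (pullback.snd h.imageι c).ker := by
    rw [← toPullbackImage_snd h c sqU]
    exact ker_comp_of_ker_eq_bot _ _ hl
  have hinj2 : Function.Injective (u ≫ v.toImage).appTop.hom := by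
    rw [Scheme.Hom.comp_appTop, CommRingCat.hom_comp, RingHom.coe_comp]
    exact (injective_app_of_flat_of_surjective u ⊤).comp
      (v.toImage_app_injective ⟨⊤, isAffineOpen_top W⟩)
  have hk2 : p2.ker = v.imageι.ker := by
    have : p2 = (u ≫ v.toImage) ≫ v.imageι := by
      rw [Category.assoc, Scheme.Hom.toImage_imageι, hu]
    rw [this]
    exact ker_comp_of_ker_eq_bot _ _ (ker_eq_bot_of_injective_appTop _ hinj2)
  have hk : (pullback.snd h.imageι c).ker = v.imageι.ker := hk1.symm.trans hk2
  have hiso := IsClosedImmersion.isIso_lift (pullback.snd h.imageι c) v.imageι hk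
  refine ⟨IsClosedImmersion.lift (pullback.snd h.imageι c) v.imageι hk.le, hiso, ?_⟩
  rw [← cancel_mono (pullback.snd h.imageι c), Category.assoc, IsClosedImmersion.lift_fac,
    Category.assoc, Scheme.Hom.toImage_imageι, hu, toPullbackImage_snd]

end Groth.Agent.Lib.Helper54
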