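import Mathlib

/-!
# Irreducible components meeting the image of an open map from a Noetherian space
-/

set_option autoImplicit false
open TopologicalSpace

namespace Groth.Agent.Lib.Helper54

/-- Only finitely many irreducible components of `B` meet the image of a continuous open map from a Noetherian
space. -/
theorem finite_irreducibleComponents_inter_range {A B : Type*} [TopologicalSpace A] [TopologicalSpace B]
    [NoetherianSpace A] (φ : A → B) (hc : Continuous φ) (ho : IsOpenMap φ) :
    {Z ∈ irreducibleComponents B | (Z ∩ Set.range φ).Nonempty}.Finite := by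
  classical
  have hfin : (irreducibleComponents A).Finite := NoetherianSpace.finite_irreducibleComponents
  refine (hfin.image (fun C => closure (φ '' C))).subset ?_
  rintro Z ⟨hZ, hne⟩
  have hZi : IsIrreducible Z := hZ.1
  have hopen : IsOpen (Set.range φ) := ho.isOpen_range
  have hclosed : IsClosed (⋃₀ ((fun C => closure (φ '' C)) '' irreducibleComponents A)) := by
    rw [Set.sUnion_image]
    exact hfin.isClosed_biUnion fun C _ => isClosed_closure
  -- `Z ∩ range φ` is contained in the union of the closures of the images of the components of `A`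
  have hcov : Z ∩ Set.range φ ⊆ ⋃₀ ((fun C => closure (φ '' C)) '' irreducibleComponents A) := by
    rintro b ⟨-, a, rfl⟩
    obtain ⟨C, hC, haC⟩ : ∃ C ∈ irreducibleComponents A, a ∈ C :=
      ⟨irreducibleComponent a, irreducibleComponent_mem_irreducibleComponents a, mem_irreducibleComponent⟩
    exact ⟨_, ⟨C, hC, rfl⟩, subset_closure ⟨a, haC, rfl⟩⟩
  have hZsub : Z ⊆ ⋃₀ ((fun C => closure (φ '' C)) '' irreducibleComponents A) :=
    (subset_closure_inter_of_isPreirreducible_of_isOpen hZi.2 hopen hne).trans
      (closure_minimal hcov hclosed)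
  have := (isIrreducible_iff_sUnion_isClosed.mp hZi) ((hfin.image (fun C => closure (φ '' C))).toFinset)
    (by
      intro z hz
      rw [Set.Finite.mem_toFinset] at hz
      obtain ⟨C, -, rfl⟩ := hz
      exact isClosed_closure)
    (by rwa [Set.Finite.coe_toFinset])
  obtain ⟨z, hz, hZz⟩ := this
  rw [Set.Finite.mem_toFinset] at hz
  obtain ⟨C, hC, rfl⟩ := hz
  refine ⟨C, hC, ?_⟩
  have hirr : IsIrreducible (closure (φ '' C)) := (hC.1.image φ hc.continuousOn).closure
  exact (hZ.eq_of_subset hirr hZz).symm

/-- Local finiteness of the irreducible components of a closed subset, for a space covered by open images of Noetherian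
spaces. -/
theorem locallyFinite_irreducibleComponents_of_cover {B : Type*} [TopologicalSpace B]
    (hB : ∀ x : B, ∃ (A : Type*) (_ : TopologicalSpace A) (_ : NoetherianSpace A) (φ : A → B),
      Continuous φ ∧ IsOpenMap φ ∧ x ∈ Set.range φ)
    (T : Set B) :
    LocallyFinite (fun Z : ↥(irreducibleComponents ↥T) => ((↑) : ↥T → B) '' (Z : Set ↥T)) := by
  intro x
  obtain ⟨A, _, _, φ, hc, ho, hx⟩ := hB x
  refine ⟨Set.range φ, ho.isOpen_range.mem_nhds hx, ?_⟩
  -- restrict `φ` to the preimage of `T`
  have hfin := finite_irreducibleComponents_inter_range (T.restrictPreimage φ)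
    hc.restrictPreimage (ho.restrictPreimage T)
  have : {Z : ↥(irreducibleComponents ↥T) | (((↑) : ↥T → B) '' (Z : Set ↥T) ∩ Set.range φ).Nonempty} ⊆
      Subtype.val ⁻¹' {Z ∈ irreducibleComponents ↥T | (Z ∩ Set.range (T.restrictPreimage φ)).Nonempty} := by
    rintro ⟨Z, hZ⟩ ⟨b, ⟨⟨t, ht⟩, htZ, rfl⟩, a, ha⟩
    refine ⟨hZ, ⟨t, ht⟩, htZ, ⟨⟨a, by simpa [ha] using ht⟩, Subtype.ext ha⟩⟩
  exact (hfin.preimage Subtype.val_injective.injOn).subset this

end Groth.Agent.Lib.Helper54
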