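import Groth.Agent.Lib.Helper54.FibreFinite
import Groth.Agent.Lib.Helper54.FlatPoint
import Mathlib.AlgebraicGeometry.Morphisms.Finite
import Mathlib.AlgebraicGeometry.Morphisms.UniversallyOpen

/-!
# Closed points and étale morphisms of Jacobson schemes
-/

set_option autoImplicit false
universe u
open CategoryTheory CategoryTheory.Limits AlgebraicGeometry
open AlgSp

namespace Groth.Agent.Lib.Helper54

/-- A point in the fibre of a locally quasi-finite morphism over a closed point is closed. -/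
theorem isClosed_singleton_of_locallyQuasiFinite {A B : Scheme.{u}} (f : A ⟶ B) [LocallyQuasiFinite f] (a : A)
    (h : IsClosed ({f a} : Set ↥B)) : IsClosed ({a} : Set ↥A) := by
  have hcl : IsClosed (f ⁻¹' {f a}) := h.preimage f.continuous
  have hd : _root_.IsDiscrete (f ⁻¹' {f a}) := f.isDiscrete_preimage_singleton (f a)
  have : DiscreteTopology ↥(f ⁻¹' {f a}) := hd.to_subtype
  have h1 : IsClosed ({⟨a, rfl⟩} : Set ↥(f ⁻¹' {f a})) := isClosed_discrete _
  have := hcl.isClosedEmbedding_subtypeVal.isClosedMap _ h1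
  simpa using this

-- `locallyQuasiFinite_of_etale` now lives in `FlatPoint.lean`.

/-- An étale surjective morphism from a Jacobson scheme maps closed points to closed points. -/
theorem isClosed_singleton_image_of_etale_surjective {P W : Scheme.{u}} (f : P ⟶ W) [Etale f] [Surjective f]
    [JacobsonSpace ↥P] (p : P) (hp : IsClosed ({p} : Set ↥P)) : IsClosed ({f p} : Set ↥W) := by
  rw [← closure_eq_iff_isClosed]
  refine subset_antisymm (fun w₁ hw₁ => ?_) subset_closure
  have hspec : f p ⤳ w₁ := specializes_iff_mem_closure.mpr hw₁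
  obtain ⟨p₁, rfl⟩ := f.surjective w₁
  obtain ⟨η, hη, hηp⟩ := (Flat.generalizingMap f) hspec
  obtain ⟨z, hz1, hz2⟩ := Scheme.Pullback.exists_preimage_pullback (f := f) (g := f) p η hηp.symm
  have : LocallyQuasiFinite (pullback.fst f f) := locallyQuasiFinite_of_etale _
  have hz : IsClosed ({z} : Set ↥(pullback f f)) :=
    isClosed_singleton_of_locallyQuasiFinite (pullback.fst f f) z (by rw [hz1]; exact hp)
  have hQ : JacobsonSpace ↥(pullback f f) := LocallyOfFiniteType.jacobsonSpace (pullback.fst f f)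
  have hη' : IsClosed ({η} : Set ↥P) := by
    have := (pullback.snd f f).closePoints_subset_preimage_closedPoints (show z ∈ closedPoints _ from hz)
    rw [Set.mem_preimage, hz2] at this
    exact this
  have : p₁ = η := by
    have h2 : p₁ ∈ closure ({η} : Set ↥P) := specializes_iff_mem_closure.mp hη
    rw [hη'.closure_eq] at h2
    exact h2
  rw [Set.mem_singleton_iff, this, hηp]

variable {S : Scheme.{u}}

/-- In a Jacobson sheaf (some surjective étale chart is a Jacobson scheme), a point which is closed on some étale chart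
is a closed point of a Jacobson surjective étale chart. -/
theorem exists_jacobson_chart_closedPoint {X : Sp S} (hX : EtaleLocally (fun U => JacobsonSpace ↥U) X)
    (x : Points X) (hx : HasAt (fun U u => IsClosed ({u} : Set ↥U)) X x) :
    ∃ (U : Over S) (a : (yon S).obj U ⟶ X) (u : ↥U.left), RepWith @Etale a ∧ RepWith @Surjective a ∧
      JacobsonSpace ↥U.left ∧ Points.ofPt a u = x ∧ IsClosed ({u} : Set ↥U.left) := by
  obtain ⟨U₀, a₀, ha₀e, ha₀s, hJ⟩ := hX
  obtain ⟨U₁, a₁, u₁, ha₁, hu₁, hcl₁⟩ := hx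
  obtain ⟨u₀', hu₀'⟩ := Groth.Agent.H52.surjective_points_of_repWith_surjective a₀ ha₀s x
  obtain ⟨u₀, rfl⟩ := exists_ofScheme_eq U₀ u₀'
  rw [← Points.ofPt_eq_map_ofScheme] at hu₀'
  refine ⟨U₀, a₀, u₀, ha₀e, ha₀s, hJ, hu₀', ?_⟩
  obtain ⟨W', α, β, w', hα, hβ, hw1, hw2, -⟩ :=
    exists_common_chart a₁ ha₁ a₀ ha₀e u₁ u₀ (hu₁.trans hu₀'.symm)
  have : JacobsonSpace ↥U₀.left := hJ
  have : LocallyQuasiFinite β.left := locallyQuasiFinite_of_etale _
  have hw' : IsClosed ({w'} : Set ↥W'.left) :=
    isClosed_singleton_of_locallyQuasiFinite β.left w' (by rw [hw2]; exact hcl₁)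
  have := α.left.closePoints_subset_preimage_closedPoints (show w' ∈ closedPoints _ from hw')
  rw [Set.mem_preimage, hw1] at this
  exact this

/-- In a Jacobson sheaf, a finite type point in the image of a morphism locally of finite type from a scheme `W` is the
image of a closed point of `W`. -/
theorem exists_closedPoint_over_of_jacobson {X : Sp S} (hX : EtaleLocally (fun U => JacobsonSpace ↥U) X)
    (x : Points X) (hx : HasAt (fun U u => IsClosed ({u} : Set ↥U)) X x) {W : Over S}
    (g : (yon S).obj W ⟶ X) (hg : LocP @LocallyOfFiniteType g) (hxW : x ∈ Set.range (Points.ofPt g)) :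
    ∃ w : ↥W.left, IsClosed ({w} : Set ↥W.left) ∧ Points.ofPt g w = x := by
  obtain ⟨U₀, a₀, u₀, ha₀e, ha₀s, hJ, hu₀, hcl⟩ := exists_jacobson_chart_closedPoint hX x hx
  obtain ⟨w₀, hw₀⟩ := hxW
  have hrep := ha₀e.rep
  have sq := hrep.isPullback g
  obtain ⟨ρ, hρ⟩ := (yon S).map_surjective (hrep.fst g)
  rw [← hρ] at sq
  have hσe : Etale (hrep.snd g).left := ha₀e.property g _ _ sq
  have hσs : Surjective (hrep.snd g).left := ha₀s.property g _ _ sq
  have hρ' : LocallyOfFiniteType ρ.left :=
    hg ((yon S).map (hrep.snd g)) a₀ ρ ((repWith_yon_map_iff @Etale _).mpr hσe) ha₀e sq.w.symm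
  have : JacobsonSpace ↥U₀.left := hJ
  have hPJ : JacobsonSpace ↥(hrep.pullback g).left := LocallyOfFiniteType.jacobsonSpace ρ.left
  obtain ⟨p₀, hp₀, -⟩ := exists_pt_of_isPullback_yon sq (Points.ofScheme U₀ u₀) w₀
    (by rw [← Points.ofPt_eq_map_ofScheme, hu₀, hw₀])
  have hp₀' : ρ.left p₀ = u₀ := by
    have : Points.ofScheme U₀ (ρ.left p₀) = Points.ofScheme U₀ u₀ := by
      rw [← hp₀, ← Category.comp_id ((yon S).map ρ), ofPt_yon_map_comp]
    exact (Points.schemeEquiv U₀).injective this
  obtain ⟨p', hp'1, hp'2⟩ := nonempty_inter_closedPoints (Z := ρ.left ⁻¹' {u₀}) ⟨p₀, hp₀'⟩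
    (hcl.preimage ρ.left.continuous).isLocallyClosed
  refine ⟨(hrep.snd g).left p', isClosed_singleton_image_of_etale_surjective _ p' hp'2, ?_⟩
  rw [← ofPt_yon_map_comp, ← sq.w, ofPt_yon_map_comp, hp'1, hu₀]

end Groth.Agent.Lib.Helper54
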