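import Groth.Prelude.Def_Grpd
import Groth.Prelude.Def_AlgSp

/-!
# The groupoid scheme of a kernel pair (helper54)

If `p : h_U ⟶ X` is a morphism of sheaves whose kernel pair `h_U ×_X h_U` is represented by a scheme
`R` over `S` with projections `t, s : R ⟶ U`, then `(U, R, s, t)` is a groupoid scheme over `S`, and
`(s, t)` is an equivalence relation.
-/

set_option autoImplicit false
universe u
open CategoryTheory CategoryTheory.Limits AlgebraicGeometry

namespace Groth.Agent.Lib.Helper54
open AlgSp

variable {S : Scheme.{u}}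

section KP

variable {X : Sp S} {U R : Over S} {p : (yon S).obj U ⟶ X} {s t : R ⟶ U}

theorem kp_ext (sq : IsPullback ((yon S).map t) ((yon S).map s) p p) {T : Over S} (x y : T ⟶ R)
    (ht : x ≫ t = y ≫ t) (hs : x ≫ s = y ≫ s) : x = y := by
  apply (yon S).map_injective
  apply sq.hom_ext
  · rw [← Functor.map_comp, ← Functor.map_comp, ht]
  · rw [← Functor.map_comp, ← Functor.map_comp, hs]

theorem kp_ext_left (sq : IsPullback ((yon S).map t) ((yon S).map s) p p) {T : Scheme.{u}}
    (x y : T ⟶ R.left) (ht : x ≫ t.left = y ≫ t.left) (hs : x ≫ s.left = y ≫ s.left) : x = y := by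
  have hxy : y ≫ R.hom = x ≫ R.hom := by
    rw [← Over.w s, ← Category.assoc, ← hs, Category.assoc]
  have := kp_ext sq (T := Over.mk (x ≫ R.hom)) (Over.homMk x rfl) (Over.homMk y hxy)
    (by ext; exact ht) (by ext; exact hs)
  exact congrArg (fun f => f.left) this

/-- The lift of a pair of `T`-points of `U` with the same image in `X` to a `T`-point of `R`. -/
noncomputable def kpLift (sq : IsPullback ((yon S).map t) ((yon S).map s) p p) {T : Over S}
    (a b : T ⟶ U) (h : (yon S).map a ≫ p = (yon S).map b ≫ p) : T ⟶ R :=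
  (yon S).preimage (sq.lift ((yon S).map a) ((yon S).map b) h)

theorem kpLift_t (sq : IsPullback ((yon S).map t) ((yon S).map s) p p) {T : Over S}
    (a b : T ⟶ U) (h : (yon S).map a ≫ p = (yon S).map b ≫ p) : kpLift sq a b h ≫ t = a := by
  apply (yon S).map_injective
  rw [Functor.map_comp, kpLift, Functor.map_preimage, sq.lift_fst]

theorem kpLift_s (sq : IsPullback ((yon S).map t) ((yon S).map s) p p) {T : Over S}
    (a b : T ⟶ U) (h : (yon S).map a ≫ p = (yon S).map b ≫ p) : kpLift sq a b h ≫ s = b := by
  apply (yon S).map_injective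
  rw [Functor.map_comp, kpLift, Functor.map_preimage, sq.lift_snd]

theorem kp_rel_iff (sq : IsPullback ((yon S).map t) ((yon S).map s) p p) {T : Over S}
    (a b : T ⟶ U) : (∃ r : T ⟶ R, r ≫ t = a ∧ r ≫ s = b) ↔
      (yon S).map a ≫ p = (yon S).map b ≫ p := by
  constructor
  · rintro ⟨r, rfl, rfl⟩
    rw [Functor.map_comp, Functor.map_comp, Category.assoc, Category.assoc, sq.w]
  · intro h
    exact ⟨kpLift sq a b h, kpLift_t sq a b h, kpLift_s sq a b h⟩

/-- A kernel pair is an equivalence relation. -/
theorem isEqvRel_of_isPullback (sq : IsPullback ((yon S).map t) ((yon S).map s) p p) :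
    IsEqvRel s t := by
  refine ⟨fun T r r' h1 h2 => kp_ext sq r r' h1 h2, fun T => ⟨fun a => ?_, fun {a b} h => ?_,
    fun {a b c} h1 h2 => ?_⟩⟩
  · exact (kp_rel_iff sq a a).2 rfl
  · exact (kp_rel_iff sq b a).2 ((kp_rel_iff sq a b).1 h).symm
  · exact (kp_rel_iff sq a c).2 (((kp_rel_iff sq a b).1 h1).trans ((kp_rel_iff sq b c).1 h2))

/-- the identity of the kernel pair groupoid -/
noncomputable def kpE (sq : IsPullback ((yon S).map t) ((yon S).map s) p p) : U ⟶ R :=
  kpLift sq (𝟙 U) (𝟙 U) rfl

/-- the inverse of the kernel pair groupoid -/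
noncomputable def kpI (sq : IsPullback ((yon S).map t) ((yon S).map s) p p) : R ⟶ R :=
  kpLift sq s t sq.w.symm

/-- The fibre product `R ×_{s,U,t} R` as a scheme over `S`. -/
noncomputable def kpRR (s t : R ⟶ U) : Over S := Over.mk (pullback.fst s.left t.left ≫ R.hom)

/-- first projection -/
noncomputable def kpRRfst (s t : R ⟶ U) : kpRR s t ⟶ R := Over.homMk (pullback.fst s.left t.left) rfl

/-- second projection -/
noncomputable def kpRRsnd (s t : R ⟶ U) : kpRR s t ⟶ R :=
  Over.homMk (pullback.snd s.left t.left) (by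
    change pullback.snd s.left t.left ≫ R.hom = pullback.fst s.left t.left ≫ R.hom
    calc pullback.snd s.left t.left ≫ R.hom
        = pullback.snd s.left t.left ≫ t.left ≫ U.hom := by rw [Over.w t]
      _ = pullback.fst s.left t.left ≫ s.left ≫ U.hom := by
          rw [← Category.assoc, ← pullback.condition, Category.assoc]
      _ = pullback.fst s.left t.left ≫ R.hom := by rw [Over.w s])

theorem kpRR_condition (s t : R ⟶ U) : kpRRfst s t ≫ s = kpRRsnd s t ≫ t := by
  ext
  exact pullback.condition

/-- the composition of the kernel pair groupoid -/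
noncomputable def kpC (sq : IsPullback ((yon S).map t) ((yon S).map s) p p) : kpRR s t ⟶ R :=
  kpLift sq (kpRRfst s t ≫ t) (kpRRsnd s t ≫ s) (by
    rw [Functor.map_comp, Category.assoc, sq.w, ← Category.assoc, ← Functor.map_comp,
      kpRR_condition, Functor.map_comp, Functor.map_comp, Category.assoc, Category.assoc, sq.w])

/-- the composition, as a morphism of schemes -/
noncomputable def kpCl (sq : IsPullback ((yon S).map t) ((yon S).map s) p p) :
    pullback s.left t.left ⟶ R.left := (kpC sq).left

theorem kpC_t (sq : IsPullback ((yon S).map t) ((yon S).map s) p p) :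
    kpCl sq ≫ t.left = pullback.fst s.left t.left ≫ t.left := by
  have h : kpC sq ≫ t = kpRRfst s t ≫ t := kpLift_t sq _ _ _
  exact congrArg (fun f => f.left) h

theorem kpC_s (sq : IsPullback ((yon S).map t) ((yon S).map s) p p) :
    kpCl sq ≫ s.left = pullback.snd s.left t.left ≫ s.left := by
  have h : kpC sq ≫ s = kpRRsnd s t ≫ s := kpLift_s sq _ _ _
  exact congrArg (fun f => f.left) h

theorem kpE_t (sq : IsPullback ((yon S).map t) ((yon S).map s) p p) :
    (kpE sq).left ≫ t.left = 𝟙 U.left := by
  have h : kpE sq ≫ t = 𝟙 U := kpLift_t sq _ _ _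
  exact congrArg (fun f => f.left) h

theorem kpE_s (sq : IsPullback ((yon S).map t) ((yon S).map s) p p) :
    (kpE sq).left ≫ s.left = 𝟙 U.left := by
  have h : kpE sq ≫ s = 𝟙 U := kpLift_s sq _ _ _
  exact congrArg (fun f => f.left) h

theorem kpI_t (sq : IsPullback ((yon S).map t) ((yon S).map s) p p) :
    (kpI sq).left ≫ t.left = s.left := by
  have h : kpI sq ≫ t = s := kpLift_t sq _ _ _
  exact congrArg (fun f => f.left) h

theorem kpI_s (sq : IsPullback ((yon S).map t) ((yon S).map s) p p) :
    (kpI sq).left ≫ s.left = t.left := by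
  have h : kpI sq ≫ s = t := kpLift_s sq _ _ _
  exact congrArg (fun f => f.left) h

theorem kp_lift_c_t (sq : IsPullback ((yon S).map t) ((yon S).map s) p p) {T : Scheme.{u}}
    (α β : T ⟶ R.left) (h : α ≫ s.left = β ≫ t.left) :
    (pullback.lift α β h ≫ kpCl sq) ≫ t.left = α ≫ t.left := by
  rw [Category.assoc, kpC_t, pullback.lift_fst_assoc]

theorem kp_lift_c_s (sq : IsPullback ((yon S).map t) ((yon S).map s) p p) {T : Scheme.{u}}
    (α β : T ⟶ R.left) (h : α ≫ s.left = β ≫ t.left) :
    (pullback.lift α β h ≫ kpCl sq) ≫ s.left = β ≫ s.left := by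
  rw [Category.assoc, kpC_s, pullback.lift_snd_assoc]

/-- The groupoid scheme of a kernel pair. -/
noncomputable def kpGroupoid (sq : IsPullback ((yon S).map t) ((yon S).map s) p p) :
    Grpd.GroupoidScheme S where
  U := U.left
  R := R.left
  pU := U.hom
  pR := R.hom
  s := s.left
  t := t.left
  e := (kpE sq).left
  i := (kpI sq).left
  c := kpCl sq
  s_over := Over.w s
  t_over := Over.w t
  comp_s := fun α β h => kp_lift_c_s sq α β h
  comp_t := fun α β h => kp_lift_c_t sq α β h
  assoc := fun α β γ h₁ h₂ => by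
    apply kp_ext_left sq
    · rw [kp_lift_c_t, kp_lift_c_t, kp_lift_c_t]
    · rw [kp_lift_c_s, kp_lift_c_s, kp_lift_c_s]
  e_s := kpE_s sq
  e_t := kpE_t sq
  comp_e := fun α => by
    apply kp_ext_left sq
    · rw [kp_lift_c_t]
    · rw [kp_lift_c_s, Category.assoc, Category.assoc, kpE_s, Category.comp_id]
  e_comp := fun α => by
    apply kp_ext_left sq
    · rw [kp_lift_c_t, Category.assoc, Category.assoc, kpE_t, Category.comp_id]
    · rw [kp_lift_c_s]
  i_s := kpI_s sq
  i_t := kpI_t sq
  comp_i := fun α => by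
    apply kp_ext_left sq
    · rw [kp_lift_c_t, Category.assoc, Category.assoc, kpE_t, Category.comp_id]
    · rw [kp_lift_c_s, Category.assoc, kpI_s, Category.assoc, Category.assoc, kpE_s,
        Category.comp_id]
  i_comp := fun α => by
    apply kp_ext_left sq
    · rw [kp_lift_c_t, Category.assoc, kpI_t, Category.assoc, Category.assoc, kpE_t,
        Category.comp_id]
    · rw [kp_lift_c_s, Category.assoc, Category.assoc, kpE_s, Category.comp_id]

end KP

end Groth.Agent.Lib.Helper54
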