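import Groth.Agent.Lib.Helper54.UnivBddCover
import Groth.Agent.H52.QFinFibre2
import Mathlib

/-!
# Scheme-level and algebraic input for "locally separated implies decent" (helper54)

* `card_le_of_dual_family`: a family of vectors with a dual family is no larger than the dimension.
* `evPt`: evaluation of global functions at a field-valued point.
* `exists_separating_function`: separation of a closed set from a section in an affine scheme.
* `exists_sum_of_isPullback_affine`: functions on a fibre product of affine schemes are finite sums of products.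
* `isFinite_finrank_le_of_etale_of_sections`: a scheme étale over an algebraically closed field with at most `r`
  sections is finite of rank at most `r`.
-/

set_option autoImplicit false
universe u
open CategoryTheory CategoryTheory.Limits AlgebraicGeometry

namespace Groth.Agent.Lib.Helper54

/-- A family of `N` vectors in `Ω^ι` admitting a dual family has at most `card ι` members. -/
theorem card_le_of_dual_family {Ω : Type*} [Field Ω] {ι : Type*} [Fintype ι] {N : ℕ} (A B : Fin N → ι → Ω)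
    (h : ∀ n m, ∑ i, A n i * B m i = if n = m then 1 else 0) : N ≤ Fintype.card ι := by
  classical
  let MA : Matrix (Fin N) ι Ω := Matrix.of A
  let MB : Matrix ι (Fin N) Ω := (Matrix.of B).transpose
  have hmul : MA * MB = 1 := by
    ext n m
    simp only [MA, MB, Matrix.mul_apply, Matrix.of_apply, Matrix.transpose_apply, Matrix.one_apply]
    exact h n m
  have h1 : (MA * MB).rank = N := by
    rw [hmul, Matrix.rank_one, Fintype.card_fin]
  have h2 : (MA * MB).rank ≤ Fintype.card ι :=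
    (Matrix.rank_mul_le_left _ _).trans (Matrix.rank_le_card_width _)
  omega

/-- Evaluation of global functions at a field-valued point. -/
noncomputable def evPt {Y : Scheme.{u}} {Ω : Type u} [Field Ω] (a : Spec (CommRingCat.of Ω) ⟶ Y) :
    Γ(Y, ⊤) →+* Ω :=
  (a.appTop ≫ (Scheme.ΓSpecIso (CommRingCat.of Ω)).hom).hom

theorem evPt_apply {Y : Scheme.{u}} {Ω : Type u} [Field Ω] (a : Spec (CommRingCat.of Ω) ⟶ Y)
    (g : Γ(Y, ⊤)) : evPt a g = (Scheme.ΓSpecIso (CommRingCat.of Ω)).hom (a.appTop g) := rfl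

theorem evPt_comp {Y Z : Scheme.{u}} {Ω : Type u} [Field Ω] (a : Spec (CommRingCat.of Ω) ⟶ Y)
    (f : Y ⟶ Z) (g : Γ(Z, ⊤)) : evPt (a ≫ f) g = evPt a (f.appTop g) := by
  rw [evPt_apply, evPt_apply, Scheme.Hom.comp_appTop]
  rfl

theorem evPt_eq_zero_iff {Y : Scheme.{u}} {Ω : Type u} [Field Ω] (a : Spec (CommRingCat.of Ω) ⟶ Y)
    (g : Γ(Y, ⊤)) : evPt a g = 0 ↔ a (IsLocalRing.closedPoint Ω) ∉ Y.basicOpen g := by
  have h1 : a (IsLocalRing.closedPoint Ω) ∈ Y.basicOpen g ↔
      (IsLocalRing.closedPoint Ω : Spec (CommRingCat.of Ω)) ∈ a ⁻¹ᵁ Y.basicOpen g := Iff.rfl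
  rw [h1, Scheme.preimage_basicOpen_top, basicOpen_eq_of_affine']
  change _ ↔ ¬ (_ ∉ (IsLocalRing.closedPoint Ω).asIdeal)
  rw [not_not]
  change _ ↔ _ ∈ IsLocalRing.maximalIdeal Ω
  rw [IsLocalRing.maximalIdeal_eq_bot, Ideal.mem_bot]
  rfl

theorem mem_basicOpen_iff_toSpecΓ {P : Scheme.{u}} (g : Γ(P, ⊤)) (x : P) :
    x ∈ P.basicOpen g ↔ g ∉ (P.toSpecΓ x).asIdeal := by
  rw [← Scheme.toSpecΓ_preimage_basicOpen]
  rfl

/-- In an affine scheme, a closed subset disjoint from the image of a morphism from an affine scheme which is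
surjective on global sections is separated from it by a global function. -/
theorem exists_separating_function {P U : Scheme.{u}} [IsAffine P] [IsAffine U] (Δ : U ⟶ P)
    (hμ : Function.Surjective Δ.appTop) (C : Set P) (hC : IsClosed C)
    (hdisj : Disjoint C (Set.range Δ)) :
    ∃ g : Γ(P, ⊤), (∀ x ∈ C, x ∉ P.basicOpen g) ∧ Δ.appTop g = 1 := by
  have hhomeo : IsHomeomorph P.toSpecΓ := P.toSpecΓ.homeomorph.isHomeomorph
  have hU : Function.Surjective U.toSpecΓ := U.toSpecΓ.homeomorph.surjective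
  let f : P → PrimeSpectrum Γ(P, ⊤) := fun x => P.toSpecΓ x
  have hcl : IsClosed (f '' C) := hhomeo.isClosedMap C hC
  let I₁ : Ideal Γ(P, ⊤) := PrimeSpectrum.vanishingIdeal (f '' C)
  let I₂ : Ideal Γ(P, ⊤) := RingHom.ker Δ.appTop.hom
  have hnat : ∀ u : U, P.toSpecΓ (Δ u) = (Spec.map Δ.appTop) (U.toSpecΓ u) := fun u =>
    congrArg (fun f => f.base u) (Scheme.toSpecΓ_naturality Δ)
  have h3 : I₁ ⊔ I₂ = ⊤ := by
    by_contra hne
    obtain ⟨m, hm, hle⟩ := Ideal.exists_le_maximal _ hne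
    let y : PrimeSpectrum Γ(P, ⊤) := ⟨m, hm.isPrime⟩
    have hy1 : y ∈ PrimeSpectrum.zeroLocus (I₁ : Set Γ(P, ⊤)) := fun a ha => hle (Ideal.mem_sup_left ha)
    rw [PrimeSpectrum.zeroLocus_vanishingIdeal_eq_closure, hcl.closure_eq] at hy1
    obtain ⟨x, hxC, hxy⟩ := hy1
    have hy2 : y ∈ PrimeSpectrum.zeroLocus ((RingHom.ker Δ.appTop.hom : Ideal Γ(P, ⊤)) : Set Γ(P, ⊤)) :=
      fun a ha => hle (Ideal.mem_sup_right ha)
    rw [← range_comap_of_surjective _ Δ.appTop.hom hμ] at hy2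
    obtain ⟨z, hz⟩ := hy2
    obtain ⟨u, rfl⟩ := hU z
    have : P.toSpecΓ (Δ u) = P.toSpecΓ x := by
      rw [hnat u]; exact hz.trans hxy.symm
    have hx : Δ u = x := hhomeo.injective this
    exact Set.disjoint_left.1 hdisj hxC ⟨u, hx⟩
  obtain ⟨g, hg, h, hh, hgh⟩ := Submodule.mem_sup.1 (h3 ▸ (Submodule.mem_top : (1 : Γ(P, ⊤)) ∈ ⊤))
  refine ⟨g, fun x hx => ?_, ?_⟩
  · rw [mem_basicOpen_iff_toSpecΓ, not_not]
    exact (PrimeSpectrum.mem_vanishingIdeal _ _).1 hg (f x) ⟨x, hx, rfl⟩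
  · have hh' : Δ.appTop.hom h = 0 := hh
    have : Δ.appTop.hom (g + h) = 1 := by rw [hgh, map_one]
    rw [map_add, hh', add_zero] at this
    exact this

/-- Every element of a pushout of commutative rings is a finite sum of products of elements coming from the two
factors. -/
theorem exists_sum_of_isPushout {R A B X : CommRingCat.{u}} {f : R ⟶ A} {g : R ⟶ B} {a : A ⟶ X} {b : B ⟶ X}
    (H : IsPushout f g a b) (x : X) :
    ∃ (ι : Type) (_ : Fintype ι) (α : ι → A) (β : ι → B), x = ∑ i, a (α i) * b (β i) := by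
  have hx : x ∈ Subring.closure (Set.range a ∪ Set.range b) := by
    rw [CommRingCat.closure_range_union_range_eq_top_of_isPushout H]; trivial
  induction hx using Subring.closure_induction with
  | mem y hy =>
    rcases hy with ⟨z, rfl⟩ | ⟨z, rfl⟩
    · exact ⟨Unit, inferInstance, fun _ => z, fun _ => 1, by simp⟩
    · exact ⟨Unit, inferInstance, fun _ => 1, fun _ => z, by simp⟩
  | zero => exact ⟨Empty, inferInstance, Empty.elim, Empty.elim, by simp⟩
  | one => exact ⟨Unit, inferInstance, fun _ => 1, fun _ => 1, by simp⟩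
  | add y z _ _ hy hz =>
    obtain ⟨ι₁, _, α₁, β₁, rfl⟩ := hy
    obtain ⟨ι₂, _, α₂, β₂, rfl⟩ := hz
    exact ⟨ι₁ ⊕ ι₂, inferInstance, Sum.elim α₁ α₂, Sum.elim β₁ β₂, by simp [Fintype.sum_sum_type]⟩
  | neg y _ hy =>
    obtain ⟨ι₁, _, α₁, β₁, rfl⟩ := hy
    exact ⟨ι₁, inferInstance, fun i => -α₁ i, β₁, by simp [Finset.sum_neg_distrib]⟩
  | mul y z _ _ hy hz =>
    obtain ⟨ι₁, _, α₁, β₁, rfl⟩ := hy
    obtain ⟨ι₂, _, α₂, β₂, rfl⟩ := hz
    refine ⟨ι₁ × ι₂, inferInstance, fun p => α₁ p.1 * α₂ p.2, fun p => β₁ p.1 * β₂ p.2, ?_⟩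
    rw [Finset.sum_mul_sum, Fintype.sum_prod_type]
    refine Finset.sum_congr rfl fun i _ => Finset.sum_congr rfl fun j _ => ?_
    simp only [map_mul]
    ring

/-- Global functions on a fibre product of affine schemes are finite sums of products of functions pulled back
from the factors. -/
theorem exists_sum_of_isPullback_affine {P U V B : Scheme.{u}} [IsAffine U] [IsAffine V] [IsAffine B]
    {fst : P ⟶ U} {snd : P ⟶ V} {f : U ⟶ B} {g' : V ⟶ B} (h : IsPullback fst snd f g') (g : Γ(P, ⊤)) :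
    ∃ (ι : Type) (_ : Fintype ι) (α : ι → Γ(U, ⊤)) (β : ι → Γ(V, ⊤)),
      g = ∑ i, fst.appTop (α i) * snd.appTop (β i) :=
  exists_sum_of_isPushout (isPushout_appTop_of_isPullback h) g

/-- A scheme with exactly one point is affine. -/
theorem isAffine_of_unique (W : Scheme.{u}) [Subsingleton ↥W] [Nonempty ↥W] : IsAffine W := by
  obtain ⟨w⟩ := ‹Nonempty ↥W›
  let 𝒰 := W.affineCover
  obtain ⟨z, hz⟩ := 𝒰.covers w
  have hsurj : Function.Surjective (𝒰.f (𝒰.idx w)) := fun y => ⟨z, Subsingleton.elim _ _⟩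
  have : Epi (𝒰.f (𝒰.idx w)).base := (TopCat.epi_iff_surjective _).2 hsurj
  have : IsIso (𝒰.f (𝒰.idx w)) := IsOpenImmersion.isIso _
  exact .of_isIso (asIso (𝒰.f (𝒰.idx w))).inv

/-- A one-point scheme étale over an algebraically closed field is isomorphic to its spectrum: finite of rank one. -/
theorem isFinite_finrank_le_one_of_etale_unique {W : Scheme.{u}} [Subsingleton ↥W] [Nonempty ↥W]
    {Ω : Type u} [Field Ω] [IsAlgClosed Ω] (c : W ⟶ Spec (CommRingCat.of Ω)) [Etale c] :
    IsIso c ∧ IsFinite c ∧ ∀ s, c.finrank s ≤ 1 := by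
  have haff : IsAffine W := isAffine_of_unique W
  let alg : Algebra Ω Γ(W, ⊤) := (strΓ c).hom.toAlgebra
  have het0 : c.appTop.hom.Etale := (HasRingHomProperty.iff_of_isAffine (P := @Etale)).mp inferInstance
  have het1 : (strΓ c).hom.Etale := by
    change ((c.appTop.hom).comp (Scheme.ΓSpecIso (CommRingCat.of Ω)).inv.hom).Etale
    exact RingHom.Etale.stableUnderComposition _ _
      (RingHom.Etale.of_bijective (ConcreteCategory.bijective_of_isIso _)) het0
  have het : Algebra.Etale Ω Γ(W, ⊤) := het1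
  have hsub : Subsingleton (PrimeSpectrum Γ(W, ⊤)) :=
    W.isoSpec.hom.homeomorph.symm.injective.subsingleton
  have hnt : Nontrivial Γ(W, ⊤) := by
    have : Nonempty (PrimeSpectrum Γ(W, ⊤)) := ⟨W.isoSpec.hom (Classical.arbitrary _)⟩
    exact (PrimeSpectrum.nonempty_iff_nontrivial).1 this
  have hloc : IsLocalRing Γ(W, ⊤) := by
    obtain ⟨m, hm⟩ := Ideal.exists_maximal Γ(W, ⊤)
    refine IsLocalRing.of_unique_max_ideal ⟨m, hm, fun m' hm' => ?_⟩
    have := Subsingleton.elim (⟨m', hm'.isPrime⟩ : PrimeSpectrum Γ(W, ⊤)) ⟨m, hm.isPrime⟩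
    exact congrArg PrimeSpectrum.asIdeal this
  have hbij : Function.Bijective (algebraMap Ω Γ(W, ⊤)) :=
    Algebra.FormallyUnramified.bijective_of_isAlgClosed_of_isLocalRing Ω Γ(W, ⊤)
  have hfin : (strΓ c).hom.Finite := RingHom.Finite.of_surjective _ hbij.2
  obtain ⟨h1, h2⟩ := isFinite_and_finrank_eq c hfin
  have hiso : IsIso c := by
    have h3 : IsIso (strΓ c) := (ConcreteCategory.isIso_iff_bijective _).2 hbij
    have hc : c = W.isoSpec.hom ≫ Spec.map (strΓ c) := hom_eq_toSpecΓ_comp c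
    rw [hc]
    infer_instance
  refine ⟨hiso, h1, fun s => ?_⟩
  rw [h2 s]
  have e : Ω ≃ₗ[Ω] Γ(W, ⊤) := LinearEquiv.ofBijective (Algebra.linearMap Ω Γ(W, ⊤)) hbij
  rw [← e.finrank_eq, Module.finrank_self]

/-- A scheme étale over an algebraically closed field with at most `r` sections is finite of rank at most `r`. -/
theorem isFinite_finrank_le_of_etale_of_sections {T : Scheme.{u}} {Ω : Type u} [Field Ω] [IsAlgClosed Ω]
    (c : T ⟶ Spec (CommRingCat.of Ω)) [Etale c] (r : ℕ)
    (h : ∀ (N : ℕ) (σ : Fin N → (Spec (CommRingCat.of Ω) ⟶ T)), (∀ n, σ n ≫ c = 𝟙 _) →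
      Function.Injective σ → N ≤ r) :
    IsFinite c ∧ ∀ s, c.finrank s ≤ r := by
  classical
  have hsubΩ : Subsingleton ↥(Spec (CommRingCat.of Ω)) := inferInstanceAs (Subsingleton (PrimeSpectrum Ω))
  obtain ⟨pt⟩ : Nonempty ↥(Spec (CommRingCat.of Ω)) := ⟨IsLocalRing.closedPoint Ω⟩
  have hdisc : DiscreteTopology ↥T := by
    have h1 := Groth.Agent.H52.isDiscrete_preimage_singleton_of_etale c pt
    have h2 : c ⁻¹' {pt} = Set.univ := by
      ext x; simp only [Set.mem_preimage, Set.mem_univ, iff_true]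
      exact Subsingleton.elim _ _
    exact isDiscrete_univ_iff.1 (h2 ▸ h1)
  let W : ↥T → T.Opens := fun t => ⟨{t}, isOpen_discrete _⟩
  have hWsub : ∀ t, Subsingleton ↥(W t).toScheme := fun t =>
    ⟨fun a b => Subtype.ext (a.2.trans b.2.symm)⟩
  have hWne : ∀ t, Nonempty ↥(W t).toScheme := fun t => ⟨⟨t, rfl⟩⟩
  have key := fun t => isFinite_finrank_le_one_of_etale_unique ((W t).ι ≫ c)
  -- sections through every point
  have hsec : ∀ t : ↥T, ∃ σ : Spec (CommRingCat.of Ω) ⟶ T, σ ≫ c = 𝟙 _ ∧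
      σ pt = t := by
    intro t
    have : IsIso ((W t).ι ≫ c) := (key t).1
    refine ⟨inv ((W t).ι ≫ c) ≫ (W t).ι, by rw [Category.assoc, IsIso.inv_hom_id], ?_⟩
    rw [Scheme.Hom.comp_apply]
    exact ((inv ((W t).ι ≫ c)) pt).2
  choose σ hσ1 hσ2 using hsec
  have hσinj : Function.Injective σ := by
    intro t t' htt
    rw [← hσ2 t, ← hσ2 t', htt]
  have hbound : ∀ (N : ℕ) (pts : Fin N → ↥T), Function.Injective pts → N ≤ r := fun N pts hpts =>
    h N (fun n => σ (pts n)) (fun n => hσ1 _) (hσinj.comp hpts)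
  have hfinT : Finite ↥T := by
    by_contra hinf
    rw [not_finite_iff_infinite] at hinf
    have := hbound (r + 1) (fun n => Infinite.natEmbedding ↥T n.1)
      (fun a b hab => Fin.ext ((Infinite.natEmbedding ↥T).injective hab))
    omega
  have hFT : Fintype ↥T := Fintype.ofFinite _
  have hcard : Fintype.card ↥T ≤ r :=
    hbound _ (Fintype.equivFin ↥T).symm (Fintype.equivFin ↥T).symm.injective
  obtain ⟨h1, h2⟩ := isFinite_finrank_le_of_finite_open_cover c W (fun t => ⟨t, rfl⟩) (fun _ => 1)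
    (fun t => (key t).2)
  refine ⟨h1, fun s => (h2 s).trans ?_⟩
  rw [finsum_eq_sum_of_fintype, Finset.sum_const, Finset.card_univ, smul_eq_mul, mul_one]
  exact hcard

end Groth.Agent.Lib.Helper54
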