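import Groth.Agent.Lib.Helper54.LocSepAlg
import Groth.Agent.Lib.Helper54.KPGroupoid
import Groth.Agent.H52.QSChart2

/-!
# Locally separated algebraic spaces are decent (helper54)

For a locally separated algebraic space `X` and an étale chart `φ : h_U ⟶ X` from an affine scheme, the number of
lifts of a field-valued point of `X` to `U` is bounded independently of the point (`exists_bound_lifts`), hence
`φ` has universally bounded fibres.
-/

set_option autoImplicit false
universe u
open CategoryTheory CategoryTheory.Limits AlgebraicGeometry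

namespace Groth.Agent.Lib.Helper54
open AlgSp

variable {S : Scheme.{u}}

set_option backward.isDefEq.respectTransparency false in
/-- Bounded lifts, with the kernel pair given. -/
theorem exists_bound_lifts_of_kernelPair {X : Sp S} (hX : IsLocallySeparatedSp X) {U R : Over S}
    [IsAffine U.left] (φ : (yon S).obj U ⟶ X) (t s : R ⟶ U)
    (sq : IsPullback ((yon S).map t) ((yon S).map s) φ φ) (hse : Etale s.left) :
    ∃ r : ℕ, ∀ (Ω : Type u) [Field Ω] (str : Spec (CommRingCat.of Ω) ⟶ S) (N : ℕ)
      (L : Fin N → (Over.mk str ⟶ U)), Function.Injective L →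
      (∀ n m, (yon S).map (L n) ≫ φ = (yon S).map (L m) ≫ φ) → N ≤ r := by
  classical
  -- the immersion into `U ×_S U` and then into the affine scheme `P`
  have himm : IsImmersion (prod.lift t s).left :=
    Groth.Agent.H52.prop_prod_lift_of_repWith_diag @IsImmersion hX φ φ t s sq
  let c : S ⟶ Spec Γ(S, ⊤) := S.toSpecΓ
  let j₀ : R.left ⟶ pullback U.hom U.hom := (prod.lift t s).left ≫ (Over.prodLeftIsoPullback U U).hom
  have hj₀1 : j₀ ≫ pullback.fst U.hom U.hom = t.left := by
    simp only [j₀, Category.assoc, Over.prodLeftIsoPullback_hom_fst, ← Over.comp_left, prod.lift_fst]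
  have hj₀2 : j₀ ≫ pullback.snd U.hom U.hom = s.left := by
    simp only [j₀, Category.assoc, Over.prodLeftIsoPullback_hom_snd, ← Over.comp_left, prod.lift_snd]
  let ι : R.left ⟶ pullback (U.hom ≫ c) (U.hom ≫ c) := j₀ ≫ pullback.mapDesc U.hom U.hom c
  have hι1 : ι ≫ pullback.fst (U.hom ≫ c) (U.hom ≫ c) = t.left := by
    simp only [ι, Category.assoc, pullback.mapDesc, pullback.lift_fst, Category.comp_id, hj₀1]
  have hι2 : ι ≫ pullback.snd (U.hom ≫ c) (U.hom ≫ c) = s.left := by
    simp only [ι, Category.assoc, pullback.mapDesc, pullback.lift_snd, Category.comp_id, hj₀2]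
  have hιimm : IsImmersion ι := inferInstance
  have hPaff : IsAffine (pullback (U.hom ≫ c) (U.hom ≫ c)) := inferInstance
  -- the diagonal
  let ΔP : U.left ⟶ pullback (U.hom ≫ c) (U.hom ≫ c) := pullback.lift (𝟙 _) (𝟙 _) rfl
  have hΔ1 : ΔP ≫ pullback.fst (U.hom ≫ c) (U.hom ≫ c) = 𝟙 _ := pullback.lift_fst _ _ _
  have hΔ2 : ΔP ≫ pullback.snd (U.hom ≫ c) (U.hom ≫ c) = 𝟙 _ := pullback.lift_snd _ _ _
  have he : (kpE sq).left ≫ ι = ΔP := by
    apply pullback.hom_ext
    · rw [Category.assoc, hι1, hΔ1]; exact kpE_t sq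
    · rw [Category.assoc, hι2, hΔ2]; exact kpE_s sq
  have hμ : Function.Surjective ΔP.appTop := by
    intro x
    refine ⟨(pullback.fst (U.hom ≫ c) (U.hom ≫ c)).appTop x, ?_⟩
    have h1 : (pullback.fst (U.hom ≫ c) (U.hom ≫ c)).appTop ≫ ΔP.appTop = 𝟙 _ := by
      rw [← Scheme.Hom.comp_appTop, hΔ1]; simp
    exact ConcreteCategory.congr_hom h1 x
  -- the identity section has open range
  have hee : Etale (kpE sq).left := by
    have h1 : Etale ((kpE sq).left ≫ s.left) := by rw [kpE_s sq]; infer_instance
    exact MorphismProperty.of_postcomp (W := @Etale) (W' := @Etale) (kpE sq).left s.left hse h1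
  have hopen : IsOpen (Set.range (kpE sq).left) := (kpE sq).left.isOpenMap.isOpen_range
  let C : Set ↥(pullback (U.hom ≫ c) (U.hom ≫ c)) := closure (ι '' (Set.range (kpE sq).left)ᶜ)
  have hdisj : Disjoint C (Set.range ΔP) := by
    rw [Set.disjoint_left]
    rintro y hyC ⟨p, rfl⟩
    have hemb : Topology.IsEmbedding ι := ι.isEmbedding
    have h1 : (kpE sq).left p ∈ closure ((Set.range (kpE sq).left)ᶜ) := by
      rw [hemb.isInducing.closure_eq_preimage_closure_image]
      change ι ((kpE sq).left p) ∈ C
      rw [← Scheme.Hom.comp_apply, he]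
      exact hyC
    rw [(hopen.isClosed_compl).closure_eq] at h1
    exact h1 ⟨p, rfl⟩
  obtain ⟨g, hg1, hg2⟩ := exists_separating_function ΔP hμ C isClosed_closure hdisj
  obtain ⟨idx, hidx, α, β, hgsum⟩ :=
    exists_sum_of_isPullback_affine (IsPullback.of_hasPullback (U.hom ≫ c) (U.hom ≫ c)) g
  -- on the open range of the identity section, `t` and `s` agree
  let V : R.left.Opens := ⟨Set.range (kpE sq).left, hopen⟩
  have hVts : V.ι ≫ t.left = V.ι ≫ s.left := by
    have hsub : Set.range (kpE sq).left ⊆ Set.range V.ι := by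
      rw [Scheme.Opens.range_ι]; exact subset_rfl
    let e' : U.left ⟶ V := IsOpenImmersion.lift V.ι (kpE sq).left hsub
    have he' : e' ≫ V.ι = (kpE sq).left := IsOpenImmersion.lift_fac _ _ _
    have h1 : Etale e' :=
      MorphismProperty.of_postcomp (W := @Etale) (W' := @Etale) e' V.ι inferInstance (by rw [he']; exact hee)
    have h2 : Surjective e' := by
      refine ⟨fun v => ?_⟩
      obtain ⟨u, hu⟩ : V.ι v ∈ Set.range (kpE sq).left := v.2
      refine ⟨u, ?_⟩
      apply V.ι.injective
      rw [← Scheme.Hom.comp_apply, he', hu]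
    have h3 : Epi e' := Flat.epi_of_flat_of_surjective e'
    rw [← cancel_epi e', ← Category.assoc, ← Category.assoc, he', kpE_t sq, kpE_s sq]
  refine ⟨Fintype.card idx, ?_⟩
  intro Ω _ str N L hLinj hLsame
  have hsubΩ : Subsingleton ↥(Spec (CommRingCat.of Ω)) := inferInstanceAs (Subsingleton (PrimeSpectrum Ω))
  refine card_le_of_dual_family (fun n i => evPt (L n).left (α i)) (fun n i => evPt (L n).left (β i))
    (fun n m => ?_)
  have hw : (L n).left ≫ U.hom ≫ c = (L m).left ≫ U.hom ≫ c := by
    rw [← Category.assoc, ← Category.assoc, Over.w (L n), Over.w (L m)]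
  have hsum : ∑ i, evPt (L n).left (α i) * evPt (L m).left (β i) =
      evPt (pullback.lift (L n).left (L m).left hw) g := by
    rw [hgsum, map_sum]
    refine Finset.sum_congr rfl fun i _ => ?_
    rw [map_mul, ← evPt_comp, ← evPt_comp, pullback.lift_fst, pullback.lift_snd]
  rw [hsum]
  split_ifs with hnm
  · subst hnm
    have hab : pullback.lift (L n).left (L n).left hw = (L n).left ≫ ΔP := by
      apply pullback.hom_ext
      · rw [pullback.lift_fst, Category.assoc, hΔ1, Category.comp_id]
      · rw [pullback.lift_snd, Category.assoc, hΔ2, Category.comp_id]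
    rw [hab, evPt_comp, hg2, map_one]
  · rw [evPt_eq_zero_iff]
    apply hg1
    have hρι : (kpLift sq (L n) (L m) (hLsame n m)).left ≫ ι = pullback.lift (L n).left (L m).left hw := by
      apply pullback.hom_ext
      · rw [Category.assoc, hι1, pullback.lift_fst]
        exact congrArg (fun f => f.left) (kpLift_t sq (L n) (L m) (hLsame n m))
      · rw [Category.assoc, hι2, pullback.lift_snd]
        exact congrArg (fun f => f.left) (kpLift_s sq (L n) (L m) (hLsame n m))
    rw [← hρι, Scheme.Hom.comp_apply]
    apply subset_closure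
    refine ⟨_, ?_, rfl⟩
    intro hmem
    apply hnm
    apply hLinj
    -- the lift factors through `V`
    have hsub : Set.range (kpLift sq (L n) (L m) (hLsame n m)).left ⊆ Set.range V.ι := by
      rw [Scheme.Opens.range_ι]
      rintro _ ⟨z, rfl⟩
      have hz : z = (IsLocalRing.closedPoint Ω : ↥(Spec (CommRingCat.of Ω))) := hsubΩ.elim _ _
      rw [hz]
      exact hmem
    have hfac := IsOpenImmersion.lift_fac V.ι (kpLift sq (L n) (L m) (hLsame n m)).left hsub
    ext1
    have h1 : (L n).left = (kpLift sq (L n) (L m) (hLsame n m)).left ≫ t.left :=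
      (congrArg (fun f => f.left) (kpLift_t sq (L n) (L m) (hLsame n m))).symm
    have h2 : (L m).left = (kpLift sq (L n) (L m) (hLsame n m)).left ≫ s.left :=
      (congrArg (fun f => f.left) (kpLift_s sq (L n) (L m) (hLsame n m))).symm
    rw [h1, h2, ← hfac, Category.assoc, Category.assoc, hVts]

set_option backward.isDefEq.respectTransparency false in
/-- Étale charts from affine schemes to a locally separated algebraic space have universally bounded fibres. -/
theorem hasUnivBddFibres_of_isLocallySeparatedSp {X : Sp S} (hX : IsLocallySeparatedSp X) {U : Over S}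
    (hU : IsAffine U.left) (φ : (yon S).obj U ⟶ X) (hφ : RepWith @Etale φ) : W4dec.HasUnivBddFibres φ := by
  have hrep := hφ.rep
  have sq := hrep.isPullback φ
  obtain ⟨t, ht⟩ := (yon S).map_surjective (hrep.fst φ)
  rw [← ht] at sq
  obtain ⟨r, hr⟩ := exists_bound_lifts_of_kernelPair hX φ t (hrep.snd φ) sq (hφ.property_snd φ)
  refine ⟨r, ?_⟩
  intro q T c snd sqT
  obtain ⟨sn, rfl⟩ := (yon S).map_surjective snd
  have hce : Etale c.left := hφ.property q.toHom _ _ sqT.flip
  let aΩ : Spec (CommRingCat.of (AlgebraicClosure q.K)) ⟶ Spec (CommRingCat.of q.K) :=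
    Spec.map (CommRingCat.ofHom (algebraMap q.K (AlgebraicClosure q.K)))
  have sq' := IsPullback.of_hasPullback c.left aΩ
  have hc'e : Etale (pullback.snd c.left aΩ) := inferInstance
  have hcT : c.left ≫ q.str = T.hom := Over.w c
  have hsnT : sn.left ≫ U.hom = T.hom := Over.w sn
  have key : ∀ (N : ℕ) (σ : Fin N → (Spec (CommRingCat.of (AlgebraicClosure q.K)) ⟶ pullback c.left aΩ)),
      (∀ n, σ n ≫ pullback.snd c.left aΩ = 𝟙 _) → Function.Injective σ → N ≤ r := by
    intro N σ hσ hσinj
    have hτw : ∀ n, (σ n ≫ pullback.fst c.left aΩ) ≫ T.hom = aΩ ≫ q.str := by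
      intro n
      rw [← hcT, Category.assoc, ← Category.assoc (pullback.fst c.left aΩ), pullback.condition, Category.assoc,
        ← Category.assoc (σ n), hσ n, Category.id_comp]
    let τ : ∀ n, Over.mk (aΩ ≫ q.str) ⟶ T := fun n => Over.homMk (σ n ≫ pullback.fst c.left aΩ) (hτw n)
    let aO : Over.mk (aΩ ≫ q.str) ⟶ q.pt := Over.homMk aΩ rfl
    have hτc : ∀ n, τ n ≫ c = aO := by
      intro n
      ext1
      change (σ n ≫ pullback.fst c.left aΩ) ≫ c.left = aΩ
      rw [Category.assoc, pullback.condition, ← Category.assoc, hσ n, Category.id_comp]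
    refine hr (AlgebraicClosure q.K) (aΩ ≫ q.str) N (fun n => τ n ≫ sn) ?_ ?_
    · intro n m hnm
      apply hσinj
      have h1 : τ n = τ m := by
        apply (yon S).map_injective
        apply sqT.hom_ext
        · rw [← Functor.map_comp, ← Functor.map_comp, hτc n, hτc m]
        · rw [← Functor.map_comp, ← Functor.map_comp]
          exact congrArg _ hnm
      apply pullback.hom_ext
      · exact congrArg (fun f => f.left) h1
      · rw [hσ n, hσ m]
    · intro n m
      rw [Functor.map_comp, Functor.map_comp, Category.assoc, Category.assoc, ← sqT.w, ← Category.assoc,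
        ← Category.assoc, ← Functor.map_comp, ← Functor.map_comp, hτc n, hτc m]
  obtain ⟨h1, h2⟩ := isFinite_finrank_le_of_etale_of_sections (pullback.snd c.left aΩ) r key
  exact isFinite_of_isPullback_fieldExt c.left aΩ (pullback.fst c.left aΩ) (pullback.snd c.left aΩ) sq' r h2

end Groth.Agent.Lib.Helper54
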