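import Groth.Agent.H53.FibrePts5
import Groth.Agent.Lib.Helper54.EtaleField
import Groth.Agent.Lib.Helper54.MonoOfFinRel
import Groth.Agent.Lib.Helper54.LocalST
import Groth.Agent.H52.FibreProd
import Groth.Agent.H52.LocPInst

set_option autoImplicit false
set_option backward.isDefEq.respectTransparency false
universe u
open CategoryTheory CategoryTheory.Limits AlgebraicGeometry Opposite
open AlgSp

namespace Groth.Agent.Lib.Helper54

variable {S : Scheme.{u}}

/-- Core computation for S10385: if `f : X ⟶ Y` is quasi-compact and étale and `p : Spec k ⟶ X` is a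
monomorphism, then the kernel pair `W = Spec k ×_Y Spec k` of `p ≫ f` is étale and quasi-compact over `Spec k`. -/
theorem kernelPair_etale_compact_of_qc_etale {X Y : Sp S} (hXalg : IsAlgSpace X) (hYalg : IsAlgSpace Y)
    (f : X ⟶ Y) (hq : IsQuasiCompactMor f) (he : IsEtaleMor f) (p : FieldPt X) (hmono : Mono p.toHom)
    {W : Over S} (w₁ w₂ : W ⟶ p.pt)
    (sqW : IsPullback ((yon S).map w₁) ((yon S).map w₂) (p.toHom ≫ f) (p.toHom ≫ f)) :
    Etale w₂.left ∧ CompactSpace ↥W.left := by
  let F : Sp S := pullback f (p.toHom ≫ f)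
  let prX : F ⟶ X := pullback.fst f (p.toHom ≫ f)
  let prk : F ⟶ (yon S).obj p.pt := pullback.snd f (p.toHom ≫ f)
  have sqF : IsPullback prX prk f (p.toHom ≫ f) := IsPullback.of_hasPullback _ _
  have hkalg : IsAlgSpace ((yon S).obj p.pt) := IsAlgSpace.yon_obj p.pt
  have hFalg : IsAlgSpace F := Groth.Agent.H52.isAlgSpace_of_isPullback sqF hXalg hYalg hkalg
  have hprk : IsEtaleMor prk := isEtaleMor_of_isPullback hXalg hYalg hFalg hkalg sqF he
  have hcpt : CompactSpace ↥p.pt.left := Groth.Agent.H53.FieldQuot.compactSpace_fieldPt_pt p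
  have hFqc : IsQuasiCompactSp F :=
    hq hkalg (Groth.Agent.H52.isQuasiCompactSp_yon p.pt) (p.toHom ≫ f) prX prk sqF
  obtain ⟨V, a, hae, has, hVc⟩ := hFqc
  obtain ⟨v, hv⟩ := (yon S).map_surjective (a ≫ prk)
  have hvet : Etale v.left := by
    have h1 : RepWith @Etale (a ≫ prk) := hprk a hae
    rw [← hv] at h1
    exact (repWith_yon_map_iff _ _).1 h1
  -- the map `W ⟶ F`
  have hw : ((yon S).map w₁ ≫ p.toHom) ≫ f = (yon S).map w₂ ≫ (p.toHom ≫ f) := by
    rw [Category.assoc]; exact sqW.w
  let j : (yon S).obj W ⟶ F := sqF.lift ((yon S).map w₁ ≫ p.toHom) ((yon S).map w₂) hw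
  have hj1 : j ≫ prX = (yon S).map w₁ ≫ p.toHom := sqF.lift_fst _ _ _
  have hj2 : j ≫ prk = (yon S).map w₂ := sqF.lift_snd _ _ _
  have sqj : IsPullback j ((yon S).map w₁) prX p.toHom := by
    refine IsPullback.of_right ?_ hj1 sqF.flip
    rw [hj2]
    exact sqW.flip
  have hjmono : Mono j := sqj.mono_fst_of_mono
  -- pull back along the chart
  let Z : Over S := hae.rep.pullback j
  let z₁ : Z ⟶ V := hae.rep.fst' j
  let z₂ : Z ⟶ W := hae.rep.snd j
  have sqZ : IsPullback ((yon S).map z₁) ((yon S).map z₂) a j := hae.rep.isPullback' j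
  have hz2et : Etale z₂.left := hae.property_snd j
  have hz2s : Surjective z₂.left := has.2 _ _ _ (hae.rep.isPullback j)
  have hz1m : Mono ((yon S).map z₁) := sqZ.mono_fst_of_mono
  have hz1m' : Mono z₁ := (yon S).mono_of_mono_map hz1m
  have hz1m'' : Mono z₁.left := inferInstance
  have hoi : IsOpenImmersion z₁.left :=
    isOpenImmersion_of_mono_of_etale_field (K := p.K) v.left z₁.left
  have hcomp : z₁ ≫ v = z₂ ≫ w₂ := by
    apply (yon S).map_injective
    rw [Functor.map_comp, Functor.map_comp, hv, ← hj2, ← Category.assoc, sqZ.w, Category.assoc]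
  have hcompl : z₂.left ≫ w₂.left = z₁.left ≫ v.left := by
    rw [← Over.comp_left, ← Over.comp_left, hcomp]
  have het2 : Etale (z₂.left ≫ w₂.left) := by
    rw [hcompl]; infer_instance
  refine ⟨Groth.Agent.H52.isEtLocal_etale.source z₂.left w₂.left hz2et hz2s het2, ?_⟩
  have hVfin : IsFinite v.left := Groth.Agent.H53.FieldQuot.isFinite_of_etale_of_compact (k := p.K) v.left
  have hVF : Finite ↥V.left := finite_of_isFinite_field (L := p.K) v.left
  have hZF : Finite ↥Z.left := Finite.of_injective _ z₁.left.isOpenEmbedding.injective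
  have hWF : Finite ↥W.left := Finite.of_surjective _ z₂.left.surjective
  infer_instance

end Groth.Agent.Lib.Helper54
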