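import Groth.Agent.Lib.Helper54.MonoRelFibre
import Groth.Agent.Lib.Helper54.UnivBddCompSp

/-!
# Finiteness of the set of points of a fibre product above a pair of points, over a point represented by a monomorphism
-/

set_option autoImplicit false
universe u
open CategoryTheory CategoryTheory.Limits AlgebraicGeometry
open AlgSp

namespace Groth.Agent.Lib.Helper54

/-- For a scheme `F` over a field `k` which is locally quasi-finite at the point `f` (in the form: the residue field point
at `f` is locally quasi-finite over `k`) and a field extension `Spec L ⟶ Spec k`, only finitely many points of `Spec L ×_k F`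
lie above `f`. -/
theorem finite_pullback_fibre_of_locallyQuasiFinite_at {F : Scheme.{u}} {k L : Type u} [Field k] [Field L]
    (e : Spec (CommRingCat.of L) ⟶ Spec (CommRingCat.of k)) (c : F ⟶ Spec (CommRingCat.of k)) (f : ↥F)
    [LocallyQuasiFinite (F.fromSpecResidueField f ≫ c)] :
    {w : ↥(pullback e c) | pullback.snd e c w = f}.Finite := by
  let i₂ := F.fromSpecResidueField f
  have hG : Finite ↥(pullback e (i₂ ≫ c)) := by
    have hc : CompactSpace ↥(pullback e (i₂ ≫ c)) := inferInstance
    have hq : LocallyQuasiFinite (pullback.fst e (i₂ ≫ c)) := inferInstance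
    have := finite_preimage_singleton_of_compactSpace (pullback.fst e (i₂ ≫ c))
      (IsLocalRing.closedPoint L)
    rw [← Set.finite_univ_iff]
    refine this.subset fun w _ => ?_
    exact Subsingleton.elim (α := PrimeSpectrum L) _ _
  have hrange := Scheme.Pullback.range_map (f := e) (g := i₂ ≫ c) e c (𝟙 _) i₂ (𝟙 _)
    (by simp) (by simp)
  have : {w : ↥(pullback e c) | pullback.snd e c w = f} =
      Set.range (pullback.map e (i₂ ≫ c) e c (𝟙 _) i₂ (𝟙 _) (by simp) (by simp)) := by
    rw [hrange, Scheme.range_fromSpecResidueField]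
    ext w
    simp
  rw [this]
  exact Set.finite_range _

variable {S : Scheme.{u}}

/-- General form: let `W = X ×_Y Z`, let `x`, `z` be points of `X`, `Z` above a point of `Y` represented by a monomorphism
`r : Spec k ⟶ Y`, and let `a : h_U ⟶ Z` be a chart through `z = a(u)` whose fibre `F = Spec k ×_Y U` is locally quasi-finite over
`k` at the point `fpt` above `u`. Then only finitely many points of `W` lie above `x` and `z`. -/
theorem finite_fibre_pullback_of_mono_point {X Y Z W : Sp S} (hY : IsAlgSpace Y) (f : X ⟶ Y) (g : Z ⟶ Y)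
    (p : W ⟶ X) (q : W ⟶ Z) (hW : IsPullback p q f g) (x : Points X) (z : Points Z)
    (r : FieldPt Y) (hm : Mono r.toHom) (hrx : Points.map f x = Points.mk r)
    {U : Over S} (a : (yon S).obj U ⟶ Z) (u : ↥U.left) (hu : Points.ofPt a u = z)
    {Fo : Over S} (σ : Fo ⟶ U) (cF : Fo ⟶ r.pt)
    (sqF : IsPullback ((yon S).map σ) ((yon S).map cF) (a ≫ g) r.toHom)
    (fpt : ↥Fo.left) (hfpt : σ.left fpt = u)
    (hq : LocallyQuasiFinite (Fo.left.fromSpecResidueField fpt ≫ cF.left)) :
    {w : Points W | Points.map p w = x ∧ Points.map q w = z}.Finite := by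
  -- `σ` is injective on points
  have hm2 : Mono ((yon S).map σ) :=
    MorphismProperty.of_isPullback (P := MorphismProperty.monomorphisms (Sp S)) sqF.flip hm
  have hm3 : Mono σ := (yon S).mono_of_mono_map hm2
  have hm4 : Mono σ.left := inferInstance
  have hσinj : Function.Injective σ.left := σ.left.injective
  -- a field-valued point representing `x`, factoring through `r`
  obtain ⟨ξ, rfl⟩ := Points.mk_surjective x
  have hr : Representable r.toHom := hY.representable_from_yon r.toHom
  obtain ⟨e, he⟩ := exists_factor_of_mono_point r (ξ.map f) hm hr hrx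
  rw [FieldPt.toHom_map] at he
  change ξ.pt ⟶ r.pt at e
  replace he : (yon S).map e ≫ r.toHom = ξ.toHom ≫ f := he
  -- the scheme `T = Spec L ×_k F`
  let To : Over S := Over.mk (pullback.fst e.left cF.left ≫ ξ.pt.hom)
  let prL : To ⟶ ξ.pt := Over.homMk (pullback.fst e.left cF.left) rfl
  let prF : To ⟶ Fo := Over.homMk (pullback.snd e.left cF.left) (by
    change pullback.snd e.left cF.left ≫ Fo.hom = pullback.fst e.left cF.left ≫ ξ.pt.hom
    rw [← Over.w cF, ← Over.w e, ← Category.assoc, ← Category.assoc, pullback.condition])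
  have hpr : prL ≫ e = prF ≫ cF := by
    apply Over.OverMorphism.ext
    exact pullback.condition
  have sqT : IsPullback ((yon S).map prL) ((yon S).map prF) ((yon S).map e) ((yon S).map cF) :=
    isPullback_yon_of_isPullback_left hpr (IsPullback.of_hasPullback e.left cF.left)
  -- the map `h_T ⟶ W`
  have hμc : ((yon S).map prL ≫ ξ.toHom) ≫ f = ((yon S).map (prF ≫ σ) ≫ a) ≫ g := by
    rw [Category.assoc, ← he, ← Category.assoc, ← Functor.map_comp, hpr, Functor.map_comp, Functor.map_comp,
      Category.assoc, Category.assoc, Category.assoc, sqF.w]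
  let μ : (yon S).obj To ⟶ W := hW.lift _ _ hμc
  have hμ1 : μ ≫ p = (yon S).map prL ≫ ξ.toHom := hW.lift_fst _ _ _
  have hμ2 : μ ≫ q = (yon S).map (prF ≫ σ) ≫ a := hW.lift_snd _ _ _
  -- the finite set
  have hfin := finite_pullback_fibre_of_locallyQuasiFinite_at (k := r.K) (L := ξ.K) e.left cF.left fpt
  refine (hfin.image (Points.ofPt μ)).subset ?_
  rintro w ⟨hw1, hw2⟩
  -- lifting `w` to the iterated fibre products
  have s0 : ↥(Spec (CommRingCat.of ξ.K)) := IsLocalRing.closedPoint ξ.K
  have hx0 : Points.map ξ.toHom (Points.ofScheme ξ.pt s0) = Points.mk ξ := by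
    rw [← Points.ofPt_eq_map_ofScheme]; exact Points.ofPt_toHom ξ s0
  obtain ⟨w₁, hw₁1, hw₁2⟩ := exists_point_of_isPullback (IsPullback.of_hasPullback ξ.toHom p)
    (Points.ofScheme ξ.pt s0) w (by rw [hx0, hw1])
  obtain ⟨w₂, hw₂1, hw₂2⟩ := exists_point_of_isPullback
    (IsPullback.of_hasPullback (pullback.snd ξ.toHom p ≫ q) a) w₁ (Points.ofScheme U u) (by
      rw [Points.map_comp, hw₁2, hw2, ← Points.ofPt_eq_map_ofScheme, hu])
  -- the map from the iterated fibre product to `h_T`
  have c1 : pullback.snd (pullback.snd ξ.toHom p ≫ q) a ≫ a ≫ g =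
      (pullback.fst (pullback.snd ξ.toHom p ≫ q) a ≫ pullback.fst ξ.toHom p ≫ (yon S).map e) ≫ r.toHom := by
    rw [← Category.assoc, ← pullback.condition, Category.assoc, Category.assoc, Category.assoc, Category.assoc,
      he, ← hW.w, ← Category.assoc (pullback.fst ξ.toHom p), pullback.condition, Category.assoc]
  let ν₁ := sqF.lift _ _ c1
  have hν₁1 : ν₁ ≫ (yon S).map σ = pullback.snd (pullback.snd ξ.toHom p ≫ q) a := sqF.lift_fst _ _ _
  have hν₁2 : ν₁ ≫ (yon S).map cF =
      pullback.fst (pullback.snd ξ.toHom p ≫ q) a ≫ pullback.fst ξ.toHom p ≫ (yon S).map e := sqF.lift_snd _ _ _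
  have c2 : (pullback.fst (pullback.snd ξ.toHom p ≫ q) a ≫ pullback.fst ξ.toHom p) ≫ (yon S).map e =
      ν₁ ≫ (yon S).map cF := by rw [hν₁2, Category.assoc]
  let ν := sqT.lift _ _ c2
  have hν1 : ν ≫ (yon S).map prL = pullback.fst (pullback.snd ξ.toHom p ≫ q) a ≫ pullback.fst ξ.toHom p :=
    sqT.lift_fst _ _ _
  have hν2 : ν ≫ (yon S).map prF = ν₁ := sqT.lift_snd _ _ _
  have hνμ : ν ≫ μ = pullback.fst (pullback.snd ξ.toHom p ≫ q) a ≫ pullback.snd ξ.toHom p := by
    apply hW.hom_ext
    · rw [Category.assoc, hμ1, ← Category.assoc, hν1, Category.assoc, Category.assoc, pullback.condition]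
    · rw [Category.assoc, hμ2, Functor.map_comp, Category.assoc, ← Category.assoc, hν2, ← Category.assoc, hν₁1,
        ← pullback.condition, Category.assoc]
  obtain ⟨t, ht⟩ := exists_ofScheme_eq To (Points.map ν w₂)
  refine ⟨t, ?_, ?_⟩
  · change prF.left t = fpt
    apply hσinj
    rw [hfpt]
    apply (Points.schemeEquiv U).injective
    change Points.ofScheme U (σ.left (prF.left t)) = Points.ofScheme U u
    have : σ.left (prF.left t) = (prF ≫ σ).left t := rfl
    rw [this, ← Groth.Agent.H52.points_map_ofScheme, ht, ← Points.map_comp, Functor.map_comp, ← Category.assoc,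
      hν2, hν₁1, hw₂2]
  · rw [Points.ofPt_eq_map_ofScheme, ht, ← Points.map_comp, hνμ, Points.map_comp, hw₂1, hw₁2]

/-- If `θ : F ⟶ G` is a base change of `h : U ⟶ V` and `h` is locally quasi-finite on an open neighbourhood of the image `u`
of the point `f` of `F`, then the residue field point at `f` is locally quasi-finite over `G`. -/
theorem locallyQuasiFinite_fromSpecResidueField_comp_of_isPullback {F U G V : Scheme.{u}} {σ : F ⟶ U} {θ : F ⟶ G}
    {h : U ⟶ V} {τ : G ⟶ V} (sq : IsPullback σ θ h τ) (U' : U.Opens) (hU' : LocallyQuasiFinite (U'.ι ≫ h))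
    (f : ↥F) (hf : σ f ∈ U') : LocallyQuasiFinite (F.fromSpecResidueField f ≫ θ) := by
  have left : IsPullback (σ ⁻¹ᵁ U').ι (σ ∣_ U') σ U'.ι := (isPullback_morphismRestrict σ U').flip
  have big := left.paste_horiz sq.flip
  have h1 : LocallyQuasiFinite ((σ ⁻¹ᵁ U').ι ≫ θ) := MorphismProperty.of_isPullback big.flip hU'
  have hrange : Set.range (F.fromSpecResidueField f) ⊆ Set.range (σ ⁻¹ᵁ U').ι := by
    rw [Scheme.range_fromSpecResidueField, Scheme.Opens.range_ι]
    rintro _ rfl
    exact hf
  have hj : IsOpenImmersion.lift (σ ⁻¹ᵁ U').ι (F.fromSpecResidueField f) hrange ≫ (σ ⁻¹ᵁ U').ι =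
      F.fromSpecResidueField f := IsOpenImmersion.lift_fac _ _ _
  have h2 : IsPreimmersion (IsOpenImmersion.lift (σ ⁻¹ᵁ U').ι (F.fromSpecResidueField f) hrange) := by
    have : IsPreimmersion (IsOpenImmersion.lift (σ ⁻¹ᵁ U').ι (F.fromSpecResidueField f) hrange ≫ (σ ⁻¹ᵁ U').ι) := by
      rw [hj]; infer_instance
    exact IsPreimmersion.of_comp _ (σ ⁻¹ᵁ U').ι
  rw [← hj, Category.assoc]
  infer_instance

/-- Let `W = X ×_Y Z` be a fibre product of algebraic spaces, `x`, `z` points of `X`, `Z` over the same point `y` of `Y`. If `y`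
is represented by a monomorphism from the spectrum of a field and `g : Z ⟶ Y` is quasi-finite at `z`, then only finitely many
points of `W` map to `x` and to `z`. -/
theorem finite_fibre_pullback_of_mono_point_of_quasiFiniteAt {X Y Z W : AlgSp.Space S} (f : X ⟶ Y)
    (g : Z ⟶ Y) (p : W ⟶ X) (q : W ⟶ Z) (hW : IsPullback p.hom q.hom f.hom g.hom) (x : AlgSp.Points X.obj)
    (z : AlgSp.Points Z.obj) (hxz : AlgSp.Points.map f.hom x = AlgSp.Points.map g.hom z)
    (hy : ∃ r : AlgSp.FieldPt Y.obj, AlgSp.Points.mk r = AlgSp.Points.map g.hom z ∧ Mono r.toHom)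
    (hg : AlgSp.HasAtMor (fun U _ h u => ∃ W : U.Opens, u ∈ W ∧ LocallyQuasiFinite (W.ι ≫ h) ∧ LocallyOfFiniteType (W.ι ≫ h)) g.hom z) :
    {w : AlgSp.Points W.obj | AlgSp.Points.map p.hom w = x ∧ AlgSp.Points.map q.hom w = z}.Finite := by
  obtain ⟨r, hr, hm⟩ := hy
  obtain ⟨U, V, a, b, h, u, ha, hb, hcomm, hu, U', huU', hU'q, -⟩ := hg
  -- the fibre `F = Spec k ×_Y U`
  have hrepF := Y.property.representable_from_yon (a ≫ g.hom)
  have sqF := hrepF.isPullback r.toHom
  obtain ⟨σ, hσ⟩ := (yon S).map_surjective (hrepF.fst r.toHom)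
  rw [← hσ] at sqF
  have s0 : ↥(Spec (CommRingCat.of r.K)) := IsLocalRing.closedPoint r.K
  have hx0 : Points.map r.toHom (Points.ofScheme r.pt s0) = Points.mk r := by
    rw [← Points.ofPt_eq_map_ofScheme]; exact Points.ofPt_toHom r s0
  obtain ⟨fpt, -, hfpt⟩ := exists_pt_of_isPullback_yon sqF.flip (Points.ofScheme r.pt s0) u (by
    rw [hx0, hr, ← hu, Points.map_ofPt])
  -- the fibre `G = Spec k ×_Y V`
  have hrepG := hb.rep
  have sqG := hrepG.isPullback r.toHom
  obtain ⟨τ, hτ⟩ := (yon S).map_surjective (hrepG.fst r.toHom)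
  rw [← hτ] at sqG
  have hcG : Etale (hrepG.snd r.toHom).left := hb.property_snd r.toHom
  have hcGq : LocallyQuasiFinite (hrepG.snd r.toHom).left := locallyQuasiFinite_of_etale _
  have cθ : (yon S).map (σ ≫ h) ≫ b = (yon S).map (hrepF.snd r.toHom) ≫ r.toHom := by
    rw [Functor.map_comp, Category.assoc, ← hcomm, sqF.w]
  obtain ⟨θ, hθ⟩ := (yon S).map_surjective (sqG.lift _ _ cθ)
  have hθ1 : (yon S).map θ ≫ (yon S).map τ = (yon S).map σ ≫ (yon S).map h := by
    rw [hθ, sqG.lift_fst, Functor.map_comp]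
  have hθ2 : (yon S).map θ ≫ (yon S).map (hrepG.snd r.toHom) = (yon S).map (hrepF.snd r.toHom) := by
    rw [hθ, sqG.lift_snd]
  have top : IsPullback ((yon S).map σ) ((yon S).map θ) ((yon S).map h) ((yon S).map τ) := by
    refine IsPullback.of_bot ?_ hθ1.symm sqG
    rw [hθ2, ← hcomm]
    exact sqF
  have sqsch := isPullback_left_of_isPullback_yon top
  have hθc : θ ≫ hrepG.snd r.toHom = hrepF.snd r.toHom :=
    (yon S).map_injective (by rw [Functor.map_comp, hθ2])
  have hq1 : LocallyQuasiFinite ((hrepF.pullback r.toHom).left.fromSpecResidueField fpt ≫ θ.left) :=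
    locallyQuasiFinite_fromSpecResidueField_comp_of_isPullback sqsch U' hU'q fpt (by rw [hfpt]; exact huU')
  have hq2 : LocallyQuasiFinite ((hrepF.pullback r.toHom).left.fromSpecResidueField fpt ≫
      (hrepF.snd r.toHom).left) := by
    have : (hrepF.snd r.toHom).left = θ.left ≫ (hrepG.snd r.toHom).left := by
      rw [← hθc]; rfl
    rw [this, ← Category.assoc]
    infer_instance
  exact finite_fibre_pullback_of_mono_point Y.property f.hom g.hom p.hom q.hom hW x z r hm (by rw [hxz, hr])
    a u hu σ (hrepF.snd r.toHom) sqF fpt hfpt hq2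

end Groth.Agent.Lib.Helper54
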