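import Groth.Agent.Lib.Helper54.MonoPoint
import Groth.Agent.Lib.Helper54.FibreFinite
import Groth.Agent.Lib.Helper54.JacobsonPts
import Groth.Agent.Lib.Helper54.OpenSubspace
import Groth.Agent.Lib.Helper54.FpqcTop

/-!
# A point represented by a monomorphism has finite fibres in the étale equivalence relation of a chart
-/

set_option autoImplicit false
universe u
open CategoryTheory CategoryTheory.Limits AlgebraicGeometry
open AlgSp

namespace Groth.Agent.Lib.Helper54

/-- For a locally quasi-finite scheme `F` over a field, the fibre product `F ×_k F` has finitely many points above a given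
pair of points of `F`. -/
theorem finite_pullback_fibre_of_locallyQuasiFinite {F : Scheme.{u}} {k : Type u} [Field k]
    (c : F ⟶ Spec (CommRingCat.of k)) [LocallyQuasiFinite c] (f f' : ↥F) :
    {w : ↥(pullback c c) | pullback.fst c c w = f ∧ pullback.snd c c w = f'}.Finite := by
  let i₁ := F.fromSpecResidueField f
  let i₂ := F.fromSpecResidueField f'
  have hG : Finite ↥(pullback (i₁ ≫ c) (i₂ ≫ c)) := by
    have hc : CompactSpace ↥(pullback (i₁ ≫ c) (i₂ ≫ c)) := inferInstance
    have hq : LocallyQuasiFinite (pullback.fst (i₁ ≫ c) (i₂ ≫ c)) := inferInstance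
    have := finite_preimage_singleton_of_compactSpace (pullback.fst (i₁ ≫ c) (i₂ ≫ c))
      (IsLocalRing.closedPoint (F.residueField f))
    rw [← Set.finite_univ_iff]
    refine this.subset fun w _ => ?_
    exact Subsingleton.elim (α := PrimeSpectrum (F.residueField f)) _ _
  have hrange := Scheme.Pullback.range_map (f := i₁ ≫ c) (g := i₂ ≫ c) c c i₁ i₂ (𝟙 _)
    (by simp) (by simp)
  have : {w : ↥(pullback c c) | pullback.fst c c w = f ∧ pullback.snd c c w = f'} =
      Set.range (pullback.map (i₁ ≫ c) (i₂ ≫ c) c c i₁ i₂ (𝟙 _) (by simp) (by simp)) := by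
    rw [hrange, Scheme.range_fromSpecResidueField, Scheme.range_fromSpecResidueField]
    rfl
  rw [this]
  exact Set.finite_range _

variable {S : Scheme.{u}}

/-- (4) ⇒ (2): a point represented by a monomorphism from the spectrum of a field has finite fibres in the relation
`U ×_X U` of any étale chart. -/
theorem finite_relation_fibre_of_mono_point {X : Sp S} (p : FieldPt X) (hp : Mono p.toHom) {U : Over S}
    (φ : (yon S).obj U ⟶ X) (hφ : RepWith @Etale φ) (u u' : ↥U.left)
    (hu : Points.ofPt φ u = Points.mk p) (hu' : Points.ofPt φ u' = Points.mk p)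
    (R : Over S) (s t : R ⟶ U) (sqR : IsPullback ((yon S).map t) ((yon S).map s) φ φ) :
    {r : ↥R.left | s.left r = u ∧ t.left r = u'}.Finite := by
  have hrep := hφ.rep
  have sqF := hrep.isPullback p.toHom
  obtain ⟨σ, hσ⟩ := (yon S).map_surjective (hrep.fst p.toHom)
  rw [← hσ] at sqF
  -- notation: `Fo` is the fibre, `cF : Fo ⟶ Spec k` is étale, `σ : Fo ⟶ U` is a monomorphism
  have hcF : Etale (hrep.snd p.toHom).left := hφ.property_snd p.toHom
  have hcFq : LocallyQuasiFinite (hrep.snd p.toHom).left := locallyQuasiFinite_of_etale _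
  have hm2 : Mono ((yon S).map σ) :=
    MorphismProperty.of_isPullback (P := MorphismProperty.monomorphisms (Sp S)) sqF.flip hp
  have hm3 : Mono σ := (yon S).mono_of_mono_map hm2
  have hm4 : Mono σ.left := inferInstance
  have hσinj : Function.Injective σ.left := σ.left.injective
  -- the points `f`, `f'` of the fibre above `u`, `u'`
  have s0 : ↥(Spec (CommRingCat.of p.K)) := IsLocalRing.closedPoint p.K
  have hx0 : Points.map p.toHom (Points.ofScheme p.pt s0) = Points.mk p := by
    rw [← Points.ofPt_eq_map_ofScheme]; exact Points.ofPt_toHom p s0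
  obtain ⟨f, -, hf⟩ := exists_pt_of_isPullback_yon sqF.flip (Points.ofScheme p.pt s0) u (by rw [hx0, hu])
  obtain ⟨f', -, hf'⟩ := exists_pt_of_isPullback_yon sqF.flip (Points.ofScheme p.pt s0) u' (by rw [hx0, hu'])
  -- the scheme `W = Fo ×_k Fo`
  let cF := hrep.snd p.toHom
  let Fo := hrep.pullback p.toHom
  let W : Over S := Over.mk (pullback.fst cF.left cF.left ≫ Fo.hom)
  let pr₁ : W ⟶ Fo := Over.homMk (pullback.fst cF.left cF.left) rfl
  let pr₂ : W ⟶ Fo := Over.homMk (pullback.snd cF.left cF.left) (by
    change pullback.snd cF.left cF.left ≫ Fo.hom = pullback.fst cF.left cF.left ≫ Fo.hom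
    rw [← Over.w cF, ← Category.assoc, ← pullback.condition, Category.assoc])
  have hpr : pr₁ ≫ cF = pr₂ ≫ cF := by
    apply Over.OverMorphism.ext
    exact pullback.condition
  have hcomm : (yon S).map (pr₂ ≫ σ) ≫ φ = (yon S).map (pr₁ ≫ σ) ≫ φ := by
    rw [Functor.map_comp, Functor.map_comp, Category.assoc, Category.assoc, sqF.w, ← Category.assoc,
      ← Category.assoc, ← Functor.map_comp, ← Functor.map_comp, hpr]
  obtain ⟨ρ, hρ⟩ := (yon S).map_surjective (sqR.lift _ _ hcomm)
  have hρt : ρ ≫ t = pr₂ ≫ σ := (yon S).map_injective (by rw [Functor.map_comp, hρ, sqR.lift_fst])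
  have hρs : ρ ≫ s = pr₁ ≫ σ := (yon S).map_injective (by rw [Functor.map_comp, hρ, sqR.lift_snd])
  -- `W = Spec k ×_X R`
  have sqW : IsPullback ((yon S).map (pr₁ ≫ cF)) ((yon S).map ρ) p.toHom ((yon S).map s ≫ φ) := by
    refine isPullback_of_forall_yon _ _ _ _ ?_ ?_ ?_
    · rw [← Category.assoc, ← Functor.map_comp, hρs, Functor.map_comp, Functor.map_comp, Category.assoc,
        Category.assoc, sqF.w]
    · intro T a a' h1 h2
      obtain ⟨γ, rfl⟩ := (yon S).map_surjective a
      obtain ⟨γ', rfl⟩ := (yon S).map_surjective a'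
      congr 1
      rw [← Functor.map_comp, ← Functor.map_comp] at h1 h2
      replace h1 := (yon S).map_injective h1
      replace h2 := (yon S).map_injective h2
      have e1 : γ ≫ pr₁ = γ' ≫ pr₁ := by
        apply (yon S).map_injective
        apply sqF.hom_ext
        · rw [← Functor.map_comp, ← Functor.map_comp, Category.assoc, Category.assoc, ← hρs,
            ← Category.assoc, ← Category.assoc, h2]
        · rw [← Functor.map_comp, ← Functor.map_comp, Category.assoc, Category.assoc, h1]
      have e2 : γ ≫ pr₂ = γ' ≫ pr₂ := by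
        apply (yon S).map_injective
        apply sqF.hom_ext
        · rw [← Functor.map_comp, ← Functor.map_comp, Category.assoc, Category.assoc, ← hρt,
            ← Category.assoc, ← Category.assoc, h2]
        · rw [← Functor.map_comp, ← Functor.map_comp, Category.assoc, Category.assoc, ← hpr, h1]
      apply Over.OverMorphism.ext
      apply pullback.hom_ext
      · exact congrArg CommaMorphism.left e1
      · exact congrArg CommaMorphism.left e2
    · intro T a b hab
      obtain ⟨α, rfl⟩ := (yon S).map_surjective a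
      obtain ⟨β, rfl⟩ := (yon S).map_surjective b
      have hab' : (yon S).map β ≫ (yon S).map t ≫ φ = (yon S).map α ≫ p.toHom := by
        rw [sqR.w]; exact hab.symm
      obtain ⟨δ₁, hδ₁⟩ := (yon S).map_surjective (sqF.lift ((yon S).map β ≫ (yon S).map s) ((yon S).map α)
        (by rw [Category.assoc]; exact hab.symm))
      obtain ⟨δ₂, hδ₂⟩ := (yon S).map_surjective (sqF.lift ((yon S).map β ≫ (yon S).map t) ((yon S).map α)
        (by rw [Category.assoc]; exact hab'))
      have h11 : δ₁ ≫ σ = β ≫ s := (yon S).map_injective (by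
        rw [Functor.map_comp, hδ₁, sqF.lift_fst, Functor.map_comp])
      have h12 : δ₁ ≫ cF = α := (yon S).map_injective (by rw [Functor.map_comp, hδ₁, sqF.lift_snd])
      have h21 : δ₂ ≫ σ = β ≫ t := (yon S).map_injective (by
        rw [Functor.map_comp, hδ₂, sqF.lift_fst, Functor.map_comp])
      have h22 : δ₂ ≫ cF = α := (yon S).map_injective (by rw [Functor.map_comp, hδ₂, sqF.lift_snd])
      let ε : T ⟶ W := Over.homMk (pullback.lift δ₁.left δ₂.left (by
        have := congrArg CommaMorphism.left (h12.trans h22.symm)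
        exact this)) (by
        change pullback.lift δ₁.left δ₂.left _ ≫ pullback.fst cF.left cF.left ≫ Fo.hom = T.hom
        rw [pullback.lift_fst_assoc, Over.w δ₁])
      have hε1 : ε ≫ pr₁ = δ₁ := by
        apply Over.OverMorphism.ext
        exact pullback.lift_fst _ _ _
      have hε2 : ε ≫ pr₂ = δ₂ := by
        apply Over.OverMorphism.ext
        exact pullback.lift_snd _ _ _
      refine ⟨(yon S).map ε, ?_, ?_⟩
      · rw [← Functor.map_comp, ← Category.assoc, hε1, h12]
      · rw [← Functor.map_comp]
        congr 1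
        apply (yon S).map_injective
        apply sqR.hom_ext
        · rw [← Functor.map_comp, ← Functor.map_comp, Category.assoc, hρt, ← Category.assoc, hε2, h21]
        · rw [← Functor.map_comp, ← Functor.map_comp, Category.assoc, hρs, ← Category.assoc, hε1, h11]
  -- conclusion
  have hfinW := finite_pullback_fibre_of_locallyQuasiFinite (k := p.K) cF.left f f'
  refine (hfinW.image ρ.left).subset ?_
  rintro r ⟨hr1, hr2⟩
  obtain ⟨w, -, hw⟩ := exists_pt_of_isPullback_yon sqW (Points.ofScheme p.pt s0) r (by
    rw [hx0, ofPt_yon_map_comp, hr1, hu])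
  refine ⟨w, ⟨?_, ?_⟩, hw⟩
  · apply hσinj
    have : σ.left (pr₁.left w) = s.left (ρ.left w) := by
      rw [← Scheme.Hom.comp_apply, ← Scheme.Hom.comp_apply]
      exact congrArg (fun m : W ⟶ U => m.left w) hρs.symm
    exact this.trans (by rw [hw, hr1, hf])
  · apply hσinj
    have : σ.left (pr₂.left w) = t.left (ρ.left w) := by
      rw [← Scheme.Hom.comp_apply, ← Scheme.Hom.comp_apply]
      exact congrArg (fun m : W ⟶ U => m.left w) hρt.symm
    exact this.trans (by rw [hw, hr2, hf'])

end Groth.Agent.Lib.Helper54
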