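import Groth.Agent.Lib.Helper54.GenericFiniteSp2
import Mathlib.AlgebraicGeometry.IdealSheaf.IrreducibleComponent

/-!
# Étale separated morphisms with finite fibres over a Noetherian scheme are quasi-compact (helper54)
-/

set_option autoImplicit false
set_option linter.style.haveILetI false
universe u
open CategoryTheory CategoryTheory.Limits AlgebraicGeometry Topology TopologicalSpace
open AlgSp

namespace Groth.Agent.Lib.Helper54

/-- The irreducible step of the Noetherian induction: over an irreducible closed subset `Z`, the preimage of a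
dense open piece `K` of `Z` is compact. -/
theorem exists_closeds_lt_of_isIrreducible {W V : Scheme.{u}} (r : W ⟶ V) [IsSeparated r] [Etale r]
    [IsNoetherian V] (hfin : ∀ v : ↥V, (r ⁻¹' {v}).Finite) (Z : Closeds ↥V)
    (hZ : IsIrreducible (Z : Set ↥V)) :
    ∃ (Z' : Closeds ↥V) (K : Set ↥V), Z' < Z ∧ IsCompact (r ⁻¹' K) ∧ (Z : Set ↥V) = K ∪ Z' := by
  classical
  let I := Scheme.IdealSheafData.vanishingIdeal Z
  let Y : Scheme.{u} := I.subscheme
  let ι : Y ⟶ V := I.subschemeι
  have hrange : Set.range ι = (Z : Set ↥V) := by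
    rw [Scheme.IdealSheafData.range_subschemeι]
    simp [I]
  have hemb : IsClosedEmbedding ι := ι.isClosedEmbedding
  -- generic point
  obtain ⟨v, hv⟩ : ∃ v, IsGenericPoint v (Z : Set ↥V) := QuasiSober.sober hZ Z.isClosed
  obtain ⟨η, rfl⟩ : v ∈ Set.range ι := by rw [hrange]; exact hv.mem
  have hcl : closure ({η} : Set ↥Y) = Set.univ := by
    rw [hemb.isInducing.closure_eq_preimage_closure_image, Set.image_singleton, hv.def, ← hrange]
    simp
  have hcomp : closure ({η} : Set ↥Y) ∈ irreducibleComponents (Y : Type u) := by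
    refine ⟨isIrreducible_singleton.closure, fun t _ _ => ?_⟩
    rw [hcl]; exact Set.subset_univ t
  -- the base change
  let rY : pullback r ι ⟶ Y := pullback.snd r ι
  let p₁ : pullback r ι ⟶ W := pullback.fst r ι
  have hp₁inj : Function.Injective p₁ := (Scheme.Hom.isClosedEmbedding p₁).injective
  have hcomm : ∀ z, r (p₁ z) = ι (rY z) := fun z => by
    have := congrArg (fun f => f z) (pullback.condition (f := r) (g := ι))
    simpa using this
  have hfinY : (rY ⁻¹' {η}).Finite := by
    refine ((hfin (ι η)).preimage hp₁inj.injOn).subset ?_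
    intro z hz
    simp only [Set.mem_preimage, Set.mem_singleton_iff] at hz ⊢
    rw [hcomm, hz]
  haveI : QuasiSeparatedSpace ↥Y := quasiSeparatedSpace_of_quasiSeparated ι
  have hdense : ∀ O : (pullback r ι).Opens, (O : Set ↥(pullback r ι)).Nonempty → ∃ z ∈ O, rY z = η := by
    intro O hO
    have hopen : IsOpen (rY '' (O : Set ↥(pullback r ι))) := rY.isOpenMap _ O.isOpen
    obtain ⟨z₀, hz₀⟩ := hO
    have hmem : rY z₀ ∈ closure ({η} : Set ↥Y) := by rw [hcl]; trivial
    obtain ⟨y, ⟨z, hz, rfl⟩, hy⟩ := mem_closure_iff.mp hmem _ hopen ⟨z₀, hz₀, rfl⟩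
    exact ⟨z, hz, hy⟩
  obtain ⟨V', hV'aff, hηV', hV'fin⟩ :=
    exists_isFinite_morphismRestrict_of_isSeparated rY η hcomp hfinY hdense
  -- compactness of the preimage of V'
  have hcpt : IsCompact ((rY ⁻¹ᵁ V' : (pullback r ι).Opens) : Set ↥(pullback r ι)) := by
    haveI : CompactSpace ↥(V' : Scheme.{u}) := isCompact_iff_compactSpace.mp hV'aff.isCompact
    haveI : CompactSpace ↥((rY ⁻¹ᵁ V' : (pullback r ι).Opens) : Scheme.{u}) :=
      QuasiCompact.compactSpace_of_compactSpace (rY ∣_ V')
    exact isCompact_iff_compactSpace.mpr this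
  refine ⟨⟨ι '' ((V' : Set ↥Y)ᶜ), hemb.isClosedMap _ V'.isOpen.isClosed_compl⟩, ι '' (V' : Set ↥Y), ?_, ?_, ?_⟩
  · refine lt_of_le_of_ne ?_ ?_
    · intro x hx
      obtain ⟨y, -, rfl⟩ := hx
      change ι y ∈ (Z : Set ↥V)
      rw [← hrange]; exact ⟨y, rfl⟩
    · intro h
      have : ι η ∈ ι '' ((V' : Set ↥Y)ᶜ) := by
        have h2 : ι η ∈ (Z : Set ↥V) := hv.mem
        rw [← h] at h2
        exact h2
      obtain ⟨y, hy, hyη⟩ := this
      rw [hemb.injective hyη] at hy
      exact hy hηV'
  · have : r ⁻¹' (ι '' (V' : Set ↥Y)) = p₁ '' ((rY ⁻¹ᵁ V' : (pullback r ι).Opens) : Set ↥(pullback r ι)) := by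
      ext w
      constructor
      · rintro ⟨y, hy, hyw⟩
        obtain ⟨z, hz1, hz2⟩ := Scheme.Pullback.exists_preimage_pullback w y hyw.symm
        exact ⟨z, by change rY z ∈ V'; rw [show rY z = y from hz2]; exact hy, hz1⟩
      · rintro ⟨z, hz, rfl⟩
        exact ⟨rY z, hz, (hcomm z).symm⟩
    rw [this]
    exact hcpt.image p₁.continuous
  · change (Z : Set ↥V) = ι '' (V' : Set ↥Y) ∪ ι '' ((V' : Set ↥Y)ᶜ)
    rw [← Set.image_union, Set.union_compl_self, Set.image_univ, hrange]

/-- Noetherian induction: for an étale separated morphism with finite fibres over a Noetherian scheme,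
preimages of closed sets are compact. -/
theorem isCompact_preimage_closeds_of_etale_finite_fibres {W V : Scheme.{u}} (r : W ⟶ V) [IsSeparated r]
    [Etale r] [IsNoetherian V] (hfin : ∀ v : ↥V, (r ⁻¹' {v}).Finite) (Z : Closeds ↥V) :
    IsCompact (r ⁻¹' (Z : Set ↥V)) := by
  induction Z using WellFoundedLT.induction with
  | ind Z ih =>
    by_cases hne : (Z : Set ↥V).Nonempty
    · by_cases hirr : IsPreirreducible (Z : Set ↥V)
      · obtain ⟨Z', K, hlt, hK, hZ⟩ := exists_closeds_lt_of_isIrreducible r hfin Z ⟨hne, hirr⟩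
        rw [hZ, Set.preimage_union]
        exact hK.union (ih Z' hlt)
      · rw [isPreirreducible_iff_isClosed_union_isClosed] at hirr
        push Not at hirr
        obtain ⟨z₁, z₂, h1, h2, hsub, hn1, hn2⟩ := hirr
        let Z₁ : Closeds ↥V := ⟨(Z : Set ↥V) ∩ z₁, Z.isClosed.inter h1⟩
        let Z₂ : Closeds ↥V := ⟨(Z : Set ↥V) ∩ z₂, Z.isClosed.inter h2⟩
        have hlt1 : Z₁ < Z := by
          refine lt_of_le_of_ne (fun x hx => hx.1) (fun h => hn1 ?_)
          intro x hx
          have : x ∈ (Z₁ : Set ↥V) := by rw [h]; exact hx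
          exact this.2
        have hlt2 : Z₂ < Z := by
          refine lt_of_le_of_ne (fun x hx => hx.1) (fun h => hn2 ?_)
          intro x hx
          have : x ∈ (Z₂ : Set ↥V) := by rw [h]; exact hx
          exact this.2
        have hZ : (Z : Set ↥V) = (Z₁ : Set ↥V) ∪ (Z₂ : Set ↥V) := by
          ext x
          constructor
          · intro hx
            rcases hsub hx with h | h
            · exact Or.inl ⟨hx, h⟩
            · exact Or.inr ⟨hx, h⟩
          · rintro (h | h)
            · exact h.1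
            · exact h.1
        rw [hZ, Set.preimage_union]
        exact (ih Z₁ hlt1).union (ih Z₂ hlt2)
    · rw [Set.not_nonempty_iff_eq_empty] at hne
      rw [hne]
      simp

/-- An étale separated morphism with finite fibres over a Noetherian scheme has quasi-compact source. -/
theorem compactSpace_of_etale_finite_fibres {W V : Scheme.{u}} (r : W ⟶ V) [IsSeparated r]
    [Etale r] [IsNoetherian V] (hfin : ∀ v : ↥V, (r ⁻¹' {v}).Finite) : CompactSpace ↥W := by
  have := isCompact_preimage_closeds_of_etale_finite_fibres r hfin ⊤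
  exact isCompact_univ_iff.mp (by simpa using this)

end Groth.Agent.Lib.Helper54
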