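import Groth.Agent.Lib.Helper54.NoethCompact
import Groth.Agent.Lib.Helper54.MonoFibreProd
import Groth.Agent.Lib.Helper54.DecentPts
import Groth.Agent.H52.QSChart3

/-!
# Locally Noetherian decent algebraic spaces are quasi-separated (helper54)
-/

set_option autoImplicit false
set_option linter.style.haveILetI false
universe u
open CategoryTheory CategoryTheory.Limits AlgebraicGeometry Topology TopologicalSpace
open AlgSp

namespace Groth.Agent.Lib.Helper54

variable {S : Scheme.{u}}

/-- On a decent algebraic space, the projection `A ×_X B ⟶ A` has finite fibres when `B` is a quasi-compact étale chart. -/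
theorem finite_fibre_fst_of_isDecent {X : Sp S} (hX : IsAlgSpace X) (hdec : IsDecent X) {A B W : Over S}
    [CompactSpace ↥B.left] (a : (yon S).obj A ⟶ X) (b : (yon S).obj B ⟶ X) (hb : RepWith @Etale b)
    (fst : W ⟶ A) (snd : W ⟶ B) (sq : IsPullback ((yon S).map fst) ((yon S).map snd) a b) (u : ↥A.left) :
    (fst.left ⁻¹' {u}).Finite := by
  classical
  obtain ⟨q, hq, hm, hqc⟩ := hdec (Points.ofPt a u)
  have hFB : (Points.ofPt b ⁻¹' {Points.mk q}).Finite := finite_fibre_of_quasiCompact_point q hqc b hb
  have hW : IsAlgSpace ((yon S).obj W) := IsAlgSpace.yon_obj W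
  have hE : (RepWith (S := S) @Etale).IsMultiplicative := repWith_isMultiplicative _
  have hfin2 : ∀ v : ↥B.left, Points.ofPt b v = Points.mk q →
      {w : ↥W.left | fst.left w = u ∧ snd.left w = v}.Finite := by
    intro v hv
    have hxz : Points.map a (Points.ofScheme A u) = Points.map b (Points.ofScheme B v) := by
      rw [← Points.ofPt_eq_map_ofScheme, ← Points.ofPt_eq_map_ofScheme, hv, hq]
    have hg : AlgSp.HasAtMor (fun U _ h u => ∃ W : U.Opens, u ∈ W ∧ LocallyQuasiFinite (W.ι ≫ h) ∧
        LocallyOfFiniteType (W.ι ≫ h)) b (Points.ofScheme B v) := by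
      refine ⟨B, B, 𝟙 _, b, 𝟙 B, v, (RepWith @Etale).id_mem _, hb, ?_, rfl, ⊤, trivial, ?_, ?_⟩
      · simp
      · change LocallyQuasiFinite ((⊤ : B.left.Opens).ι ≫ 𝟙 B.left)
        infer_instance
      · change LocallyOfFiniteType ((⊤ : B.left.Opens).ι ≫ 𝟙 B.left)
        infer_instance
    have := finite_fibre_pullback_of_mono_point_of_quasiFiniteAt
      (X := ⟨(yon S).obj A, IsAlgSpace.yon_obj A⟩) (Y := ⟨X, hX⟩)
      (Z := ⟨(yon S).obj B, IsAlgSpace.yon_obj B⟩) (W := ⟨(yon S).obj W, hW⟩)
      (ObjectProperty.homMk a) (ObjectProperty.homMk b) (ObjectProperty.homMk ((yon S).map fst))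
      (ObjectProperty.homMk ((yon S).map snd)) sq (Points.ofScheme A u) (Points.ofScheme B v) hxz
      ⟨q, by rw [← hv]; exact Points.ofPt_eq_map_ofScheme b v, hm⟩ hg
    refine Set.Finite.of_finite_image (f := Points.ofScheme W) (this.subset ?_)
      (Points.schemeEquiv W).injective.injOn
    rintro _ ⟨w, ⟨h1, h2⟩, rfl⟩
    exact ⟨by rw [← h1]; exact Groth.Agent.H52.points_map_ofScheme fst w,
      by rw [← h2]; exact Groth.Agent.H52.points_map_ofScheme snd w⟩
  have hsub : fst.left ⁻¹' {u} ⊆ ⋃ v ∈ hFB.toFinset, {w : ↥W.left | fst.left w = u ∧ snd.left w = v} := by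
    intro w hw
    have hw' : fst.left w = u := hw
    have hv : Points.ofPt b (snd.left w) = Points.mk q := by
      rw [hq, ← hw']
      have h1 : Points.ofPt b (snd.left w) = Points.ofPt ((yon S).map snd ≫ b) w :=
        (ofPt_yon_map_comp snd b w).symm
      have h2 : Points.ofPt a (fst.left w) = Points.ofPt ((yon S).map fst ≫ a) w :=
        (ofPt_yon_map_comp fst a w).symm
      rw [h1, h2, sq.w]
    simp only [Set.mem_iUnion, Set.Finite.mem_toFinset, Set.mem_preimage, Set.mem_singleton_iff, exists_prop]
    exact ⟨snd.left w, hv, hw', rfl⟩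
  refine (Set.Finite.biUnion (Finset.finite_toSet _) ?_).subset hsub
  intro v hv
  exact hfin2 v (by simpa using hv)

/-- The projection `A ×_X B ⟶ A` is separated when `B` is affine. -/
theorem isSeparated_fst_of_isAffine {X : Sp S} {A B W : Over S} [IsAffine B.left]
    (a : (yon S).obj A ⟶ X) (b : (yon S).obj B ⟶ X)
    (fst : W ⟶ A) (snd : W ⟶ B) (sq : IsPullback ((yon S).map fst) ((yon S).map snd) a b) :
    IsSeparated fst.left := by
  have hmono : Mono (prod.lift fst snd) := by
    constructor
    intro T g h hgh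
    apply (yon S).map_injective
    apply sq.hom_ext
    · rw [← Functor.map_comp, ← Functor.map_comp]
      congr 1
      have := congrArg (· ≫ prod.fst) hgh
      simpa only [Category.assoc, prod.lift_fst] using this
    · rw [← Functor.map_comp, ← Functor.map_comp]
      congr 1
      have := congrArg (· ≫ prod.snd) hgh
      simpa only [Category.assoc, prod.lift_snd] using this
  have hm2 : Mono (prod.lift fst snd).left := inferInstance
  have hB : IsSeparated B.hom := Groth.Agent.H52.isSeparated_hom_of_isAffine B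
  have h2 : IsSeparated (prod.fst : A ⨯ B ⟶ A).left := by
    rw [← Over.prodLeftIsoPullback_hom_fst]
    infer_instance
  have h3 : fst.left = (prod.lift fst snd).left ≫ (prod.fst : A ⨯ B ⟶ A).left := by
    rw [← Over.comp_left, prod.lift_fst]
  rw [h3]
  infer_instance

/-- On a decent algebraic space, the fibre product over `X` of a Noetherian étale chart and an affine étale chart is
quasi-compact. -/
theorem compactSpace_pullback_of_isDecent_of_isNoetherian {X : Sp S} (hX : IsAlgSpace X) (hdec : IsDecent X)
    {A B W : Over S} [AlgebraicGeometry.IsNoetherian A.left] [IsAffine B.left] (a : (yon S).obj A ⟶ X)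
    (b : (yon S).obj B ⟶ X) (hb : RepWith @Etale b) (fst : W ⟶ A) (snd : W ⟶ B)
    (sq : IsPullback ((yon S).map fst) ((yon S).map snd) a b) : CompactSpace ↥W.left := by
  have hfin := finite_fibre_fst_of_isDecent hX hdec a b hb fst snd sq
  haveI : Etale fst.left := hb.property a _ _ sq.flip
  haveI : IsSeparated fst.left := isSeparated_fst_of_isAffine a b fst snd sq
  exact compactSpace_of_etale_finite_fibres fst.left hfin

/-- For a kernel pair `R ⇉ U` of an étale chart of a decent algebraic space, `t⁻¹ A ∩ s⁻¹ B` is quasi-compact for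
`A` a Noetherian open and `B` an affine open of `U`. -/
theorem isCompact_inter_preimage_of_isDecent {X : Sp S} (hX : IsAlgSpace X) (hdec : IsDecent X) {U R : Over S}
    (p : (yon S).obj U ⟶ X) (hp : RepWith @Etale p) (t s : R ⟶ U)
    (hR : IsPullback ((yon S).map t) ((yon S).map s) p p) (A B : U.left.Opens) [AlgebraicGeometry.IsNoetherian (A : Scheme.{u})]
    (hB : IsAffineOpen B) :
    IsCompact ((t.left ⁻¹ᵁ A ⊓ s.left ⁻¹ᵁ B : R.left.Opens) : Set ↥R.left) := by
  have hE : (RepWith (S := S) @Etale).IsMultiplicative := repWith_isMultiplicative _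
  let A' := Groth.Agent.H52.overOpen U A
  let B' := Groth.Agent.H52.overOpen U B
  let ιA := Groth.Agent.H52.overOpenι U A
  let ιB := Groth.Agent.H52.overOpenι U B
  let a : (yon S).obj A' ⟶ X := (yon S).map ιA ≫ p
  let b : (yon S).obj B' ⟶ X := (yon S).map ιB ≫ p
  have hb : RepWith @Etale b :=
    (RepWith @Etale).comp_mem _ _ (Groth.Agent.H52.repWith_etale_overOpenι U B) hp
  have hrep := hb.rep
  have sq := hrep.isPullback a
  obtain ⟨sn, hsn⟩ := (yon S).map_surjective (hrep.fst a)
  rw [← hsn] at sq
  have sq' := sq.flip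
  haveI : IsAffine B'.left := hB
  haveI : AlgebraicGeometry.IsNoetherian A'.left := inferInstanceAs (AlgebraicGeometry.IsNoetherian (A : Scheme.{u}))
  have hWc : CompactSpace ↥(hrep.pullback a).left :=
    compactSpace_pullback_of_isDecent_of_isNoetherian hX hdec a b hb (hrep.snd a) sn sq'
  -- the map `k : W ⟶ R`
  have hcomm : (yon S).map (hrep.snd a ≫ ιA) ≫ p = (yon S).map (sn ≫ ιB) ≫ p := by
    rw [Functor.map_comp, Functor.map_comp, Category.assoc, Category.assoc]
    exact sq'.w
  obtain ⟨k, hk⟩ := (yon S).map_surjective (hR.lift _ _ hcomm)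
  have hk1 : k ≫ t = hrep.snd a ≫ ιA :=
    (yon S).map_injective (by rw [Functor.map_comp, hk, hR.lift_fst])
  have hk2 : k ≫ s = sn ≫ ιB :=
    (yon S).map_injective (by rw [Functor.map_comp, hk, hR.lift_snd])
  -- the map `j : R_O ⟶ W`
  set O : R.left.Opens := t.left ⁻¹ᵁ A ⊓ s.left ⁻¹ᵁ B with hO
  let ιO := Groth.Agent.H52.overOpenι R O
  obtain ⟨tA, htA⟩ := Groth.Agent.H52.exists_factor_overOpen (ιO ≫ t) A (fun x => x.2.1)
  obtain ⟨sB, hsB⟩ := Groth.Agent.H52.exists_factor_overOpen (ιO ≫ s) B (fun x => x.2.2)
  have hcomm2 : (yon S).map tA ≫ a = (yon S).map sB ≫ b := by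
    change (yon S).map tA ≫ (yon S).map ιA ≫ p = (yon S).map sB ≫ (yon S).map ιB ≫ p
    rw [← Category.assoc, ← Category.assoc, ← Functor.map_comp, ← Functor.map_comp, htA, hsB,
      Functor.map_comp, Functor.map_comp, Category.assoc, Category.assoc, hR.w]
  obtain ⟨j, hj⟩ := (yon S).map_surjective (sq'.lift _ _ hcomm2)
  have hj1 : j ≫ hrep.snd a = tA :=
    (yon S).map_injective (by rw [Functor.map_comp, hj, sq'.lift_fst])
  have hj2 : j ≫ sn = sB :=
    (yon S).map_injective (by rw [Functor.map_comp, hj, sq'.lift_snd])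
  have hjk : j ≫ k = ιO := by
    apply (yon S).map_injective
    apply hR.hom_ext
    · rw [← Functor.map_comp, ← Functor.map_comp, Category.assoc, hk1, ← Category.assoc, hj1, htA]
    · rw [← Functor.map_comp, ← Functor.map_comp, Category.assoc, hk2, ← Category.assoc, hj2, hsB]
  have hrange : (O : Set ↥R.left) = Set.range k.left := by
    apply Set.Subset.antisymm
    · intro z hz
      have : z ∈ Set.range ιO.left := by
        change z ∈ Set.range O.ι
        rw [Scheme.Opens.range_ι]; exact hz
      obtain ⟨z', rfl⟩ := this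
      refine ⟨j.left z', ?_⟩
      rw [← Scheme.Hom.comp_apply, ← Over.comp_left, hjk]
    · rintro _ ⟨w, rfl⟩
      constructor
      · change t.left (k.left w) ∈ A
        rw [← Scheme.Hom.comp_apply, ← Over.comp_left, hk1, Over.comp_left, Scheme.Hom.comp_apply]
        exact ((hrep.snd a).left w).2
      · change s.left (k.left w) ∈ B
        rw [← Scheme.Hom.comp_apply, ← Over.comp_left, hk2, Over.comp_left, Scheme.Hom.comp_apply]
        exact (sn.left w).2
  rw [hrange]
  exact isCompact_range k.left.continuous

/-- Morphisms out of a quasi-separated scheme are quasi-separated. -/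
theorem quasiSeparated_of_quasiSeparatedSpace {Y Z : Scheme.{u}} (f : Y ⟶ Z) [QuasiSeparatedSpace ↥Y] :
    QuasiSeparated f := by
  have h1 : QuasiSeparated (f ≫ terminal.from Z) := by
    rw [show f ≫ terminal.from Z = terminal.from Y from terminal.hom_ext _ _]
    exact (quasiSeparatedSpace_iff_quasiSeparated Y).1 inferInstance
  exact QuasiSeparated.of_comp f (terminal.from Z)

set_option backward.isDefEq.respectTransparency false in
/-- For an étale chart `U` (locally Noetherian) of a decent algebraic space, with kernel pair `R`, the morphism of schemes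
`R ⟶ U ×_S U` is quasi-compact. -/
theorem quasiCompact_prod_lift_of_isDecent {X : Sp S} (hX : IsAlgSpace X) (hdec : IsDecent X) {U R : Over S}
    [IsLocallyNoetherian U.left] (p : (yon S).obj U ⟶ X) (hp : RepWith @Etale p) (t s : R ⟶ U)
    (hR : IsPullback ((yon S).map t) ((yon S).map s) p p) : QuasiCompact (prod.lift t s).left := by
  let e := Over.prodLeftIsoPullback U U
  let g : R.left ⟶ pullback U.hom U.hom := (prod.lift t s).left ≫ e.hom
  have hg1 : g ≫ pullback.fst _ _ = t.left := by
    simp only [g, e, Category.assoc, Over.prodLeftIsoPullback_hom_fst, ← Over.comp_left, prod.lift_fst]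
  have hg2 : g ≫ pullback.snd _ _ = s.left := by
    simp only [g, e, Category.assoc, Over.prodLeftIsoPullback_hom_snd, ← Over.comp_left, prod.lift_snd]
  suffices hgq : QuasiCompact g by
    have : (prod.lift t s).left = g ≫ e.inv := by simp [g]
    rw [this]
    infer_instance
  have key : ∀ i : U.left.affineCover.I₀ × U.left.affineCover.I₀,
      QuasiCompact (pullback.snd g (pullback.map (U.left.affineCover.f i.1 ≫ U.hom)
        (U.left.affineCover.f i.2 ≫ U.hom) U.hom U.hom (U.left.affineCover.f i.1) (U.left.affineCover.f i.2)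
        (𝟙 _) (Category.comp_id _) (Category.comp_id _))) := by
    intro i
    let a₁ := U.left.affineCover.f i.1
    let a₂ := U.left.affineCover.f i.2
    -- target quasi-separated
    haveI : QuasiSeparatedSpace ↥(pullback (a₁ ≫ U.hom) (a₂ ≫ U.hom)) := by
      haveI : QuasiSeparated (a₂ ≫ U.hom) := quasiSeparated_of_quasiSeparatedSpace _
      exact quasiSeparatedSpace_of_quasiSeparated (pullback.fst (a₁ ≫ U.hom) (a₂ ≫ U.hom))
    -- source compact
    haveI : CompactSpace ↥(pullback g (pullback.map (a₁ ≫ U.hom) (a₂ ≫ U.hom) U.hom U.hom a₁ a₂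
        (𝟙 _) (Category.comp_id _) (Category.comp_id _))) := by
      let A : U.left.Opens := a₁.opensRange
      let B : U.left.Opens := a₂.opensRange
      have hA : IsAffineOpen A := isAffineOpen_opensRange a₁
      have hB : IsAffineOpen B := isAffineOpen_opensRange a₂
      haveI : IsAffine (A : Scheme.{u}) := hA
      haveI : AlgebraicGeometry.IsNoetherian (A : Scheme.{u}) := { }
      have hc := isCompact_inter_preimage_of_isDecent hX hdec p hp t s hR A B hB
      have hrange : Set.range (pullback.fst g (pullback.map (a₁ ≫ U.hom) (a₂ ≫ U.hom) U.hom U.hom a₁ a₂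
          (𝟙 _) (Category.comp_id _) (Category.comp_id _))) =
          ((t.left ⁻¹ᵁ A ⊓ s.left ⁻¹ᵁ B : R.left.Opens) : Set ↥R.left) := by
        rw [Scheme.Pullback.range_fst, Scheme.Pullback.range_map]
        ext z
        simp only [Set.mem_preimage, Set.mem_inter_iff, TopologicalSpace.Opens.coe_inf, Scheme.Hom.coe_preimage,
          SetLike.mem_coe]
        rw [← Scheme.Hom.comp_apply, ← Scheme.Hom.comp_apply, hg1, hg2]
        rfl
      rw [← hrange] at hc
      exact isCompact_univ_iff.mp
        (((pullback.fst g _).isOpenEmbedding.isEmbedding.isCompact_iff).mpr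
          (by rwa [Set.image_univ]))
    infer_instance
  let 𝒰 := Scheme.Pullback.openCoverOfLeftRight U.left.affineCover U.left.affineCover U.hom U.hom
  rw [IsZariskiLocalAtTarget.iff_of_openCover (P := @QuasiCompact) 𝒰]
  intro i
  exact key i

/-- A locally Noetherian decent algebraic space is quasi-separated. -/
theorem isQuasiSeparatedSp_of_isLocNoethSp_of_isDecent {X : Sp S} (hX : IsAlgSpace X) (hN : IsLocNoethSp X)
    (hdec : IsDecent X) : IsQuasiSeparatedSp X := by
  obtain ⟨U, p, hp, hs, hU⟩ := hN
  haveI : IsLocallyNoetherian U.left := hU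
  have hrep := hp.rep
  have sq := hrep.isPullback p
  obtain ⟨t, ht⟩ := (yon S).map_surjective (hrep.fst p)
  rw [← ht] at sq
  have hqc := quasiCompact_prod_lift_of_isDecent hX hdec p hp t (hrep.snd p) sq
  have := Groth.Agent.H52.descendsAlong_quasiCompact_fppf.{u}
  have hj : RepWith @QuasiCompact (prod.lift ((yon S).map t) ((yon S).map (hrep.snd p))) := by
    rw [Groth.Agent.H52.prod_lift_yon_map]
    exact (MorphismProperty.cancel_right_of_respectsIso (RepWith (S := S) @QuasiCompact) _
      (prodComparison (yon S) U U)).2 ((repWith_yon_map_iff _ _).2 hqc)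
  exact Groth.Agent.H52.repWith_of_etale_surjective_base_change @QuasiCompact
    (Groth.Agent.H52.isPullback_diag_prod_map' sq) hX.diag
    (Groth.Agent.H52.repWith_prod_map _ p p hp hp) (Groth.Agent.H52.repWith_prod_map _ p p hs hs) hj

end Groth.Agent.Lib.Helper54
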