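/-
Helper library (helper54): a quasi-compact flat surjective monomorphism from the spectrum of a field to an algebraic space is an
isomorphism.
-/
import Groth.Agent.Lib.Helper54.MonoField
import Mathlib.AlgebraicGeometry.Morphisms.FlatMono

set_option autoImplicit false
universe u
open CategoryTheory CategoryTheory.Limits AlgebraicGeometry

namespace Groth.Agent.Lib.Helper54

open AlgSp

variable {S : Scheme.{u}}

/-- A monomorphism `m : h_T ⟶ X` from a scheme to an algebraic space which is representable quasi-compact, flat (étale locally)
and surjective is an isomorphism. -/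
theorem isIso_of_mono_qc_flat_surjective {X : Sp S} (hX : IsAlgSpace X) {T : Over S}
    (m : (yon S).obj T ⟶ X) [Mono m] (hq : RepWith @QuasiCompact m) (hfl : LocP @Flat m)
    (hs : IsSurjectiveMor m) : IsIso m := by
  obtain ⟨W, b, hbe, hbs⟩ := hX.atlas
  have hid : RepWith @Etale (𝟙 ((yon S).obj T)) := repWith_id _ _
  obtain ⟨E, α, π, hα, sq, hrep⟩ := exists_chart_square m (𝟙 _) hid b hbe
  have hflat : Flat π.left := locP_of_chart_square hfl hbe sq hrep
  have hsurj : Surjective π.left :=
    ⟨surjective_of_chart_square sq (fun x => ⟨x, by rw [Points.map_id]⟩) hs⟩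
  have sq' : IsPullback ((yon S).map α) ((yon S).map π) m b := by
    have := sq
    rwa [Category.id_comp] at this
  have hqc : QuasiCompact π.left := hq.property _ _ _ sq'
  have hmono : Mono ((yon S).map π) := sq'.mono_snd_of_mono
  have hmono' : Mono π := (yon S).mono_of_mono_map hmono
  have hmono'' : Mono π.left := inferInstance
  have hiso : IsIso π.left := Flat.isIso_of_surjective_of_mono π.left
  have hiso' : IsIso π := by
    have : IsIso ((Over.forget S).map π) := hiso
    exact isIso_of_reflects_iso π (Over.forget S)
  have hiso'' : IsIso ((yon S).map π) := inferInstance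
  have h2 : Epi b := Groth.Agent.H52.epi_of_repWith_etale_surjective b hbe hbs
  have h3 : Epi ((yon S).map α ≫ m) := by
    rw [sq'.w]
    exact epi_comp _ _
  have : Epi m := epi_of_epi ((yon S).map α) m
  exact isIso_of_mono_of_epi m

end Groth.Agent.Lib.Helper54
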