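import Mathlib.Topology.Spectral.Basic
import Mathlib.Topology.JacobsonSpace
import Mathlib.Topology.NoetherianSpace
import Mathlib.Topology.Sober

/-!
# Topological lemmas for sets of generizations (helper54)

* a generization-stable subset of a quasi-sober space is quasi-sober;
* a Noetherian, T0, quasi-sober space is spectral;
* transfer of the Jacobson property along a continuous surjection lifting generizations whose
  fibres have no nontrivial specializations.
-/

set_option autoImplicit false
universe u v
open Topology TopologicalSpace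

namespace Groth.Agent.Lib.Helper54

/-- A generization-stable subset of a quasi-sober space is quasi-sober. -/
theorem quasiSober_of_stableUnderGeneralization {α : Type u} [TopologicalSpace α] [QuasiSober α]
    {s : Set α} (hs : StableUnderGeneralization s) : QuasiSober s := by
  constructor
  intro Z hZirr hZcl
  have hemb : IsEmbedding (Subtype.val : s → α) := IsEmbedding.subtypeVal
  have hirr : IsIrreducible (closure (Subtype.val '' Z)) :=
    (hZirr.image _ continuous_subtype_val.continuousOn).closure
  obtain ⟨η, hη⟩ := QuasiSober.sober hirr isClosed_closure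
  obtain ⟨z, hz⟩ := hZirr.nonempty
  have hzη : η ⤳ z.1 := by
    rw [specializes_iff_mem_closure, hη.def]
    exact subset_closure ⟨z, hz, rfl⟩
  have hηs : η ∈ s := hs hzη z.2
  refine ⟨⟨η, hηs⟩, ?_⟩
  rw [IsGenericPoint, hemb.closure_eq_preimage_closure_image, Set.image_singleton, hη.def,
    ← hemb.closure_eq_preimage_closure_image, hZcl.closure_eq]

/-- In a T0 space, the set of proper generizations of a point is stable under generization. -/
theorem stableUnderGeneralization_punctured {α : Type u} [TopologicalSpace α] [T0Space α] (x : α) :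
    StableUnderGeneralization {x' : α | x' ⤳ x ∧ x' ≠ x} := by
  intro a b hba ha
  refine ⟨hba.trans ha.1, ?_⟩
  rintro rfl
  exact ha.2 (ha.1.antisymm hba).eq

/-- A Noetherian, T0, quasi-sober space is spectral. -/
theorem spectralSpace_of_noetherianSpace {α : Type u} [TopologicalSpace α] [NoetherianSpace α]
    [T0Space α] [QuasiSober α] : SpectralSpace α where
  inter_isCompact _ _ _ _ _ _ := NoetherianSpace.isCompact _

/-- Transfer of the Jacobson property along a continuous surjection `ψ : G → W` which lifts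
generizations and whose fibres have no nontrivial specializations, for `W` Noetherian and T0. -/
theorem jacobsonSpace_of_surjective_lifting {G : Type u} {W : Type v} [TopologicalSpace G]
    [TopologicalSpace W] [JacobsonSpace G] [NoetherianSpace W] [T0Space W] (ψ : G → W)
    (hc : Continuous ψ) (hsurj : Function.Surjective ψ)
    (hL : ∀ (g : G) (w' : W), w' ⤳ ψ g → ∃ g' : G, g' ⤳ g ∧ ψ g' = w')
    (hF : ∀ g g' : G, g' ⤳ g → ψ g = ψ g' → g = g') : JacobsonSpace W := by
  rw [jacobsonSpace_iff_locallyClosed]
  intro T hTne hT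
  -- choose a point of `T` with minimal closure
  let 𝒞 : Set (Closeds W) := {C | ∃ t ∈ T, C = Closeds.closure {t}}
  have h𝒞 : 𝒞.Nonempty := by
    obtain ⟨t, ht⟩ := hTne
    exact ⟨_, t, ht, rfl⟩
  obtain ⟨C, ⟨ζ, hζT, rfl⟩, hmin⟩ := (wellFounded_lt (α := Closeds W)).has_min 𝒞 h𝒞
  refine ⟨ζ, hζT, ?_⟩
  rw [mem_closedPoints_iff, ← closure_subset_iff_isClosed]
  intro w hw
  rw [Set.mem_singleton_iff]
  by_contra hne
  have hζw : ζ ⤳ w := specializes_iff_mem_closure.mpr hw
  obtain ⟨gw, rfl⟩ := hsurj w
  obtain ⟨gζ, hgζ, rfl⟩ := hL gw ζ hζw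
  -- the locally closed subset `ψ⁻¹(T)`-ish
  obtain ⟨O, Cc, hO, hCc, rfl⟩ := hT
  have hT' : IsLocallyClosed (ψ ⁻¹' O ∩ closure {gζ}) :=
    ⟨_, _, hO.preimage hc, isClosed_closure, rfl⟩
  obtain ⟨g', ⟨hg'O, hg'cl⟩, hg'closed⟩ :=
    nonempty_inter_closedPoints (X := G) (Z := ψ ⁻¹' O ∩ closure {gζ})
      ⟨gζ, hζT.1, subset_closure rfl⟩ hT'
  have hsp : gζ ⤳ g' := specializes_iff_mem_closure.mpr hg'cl
  have hsp' : ψ gζ ⤳ ψ g' := hsp.map hc
  have hg'T : ψ g' ∈ O ∩ Cc := ⟨hg'O, hsp'.mem_closed hCc hζT.2⟩
  have hle : Closeds.closure {ψ g'} ≤ Closeds.closure {ψ gζ} := by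
    intro y hy
    exact (specializes_iff_mem_closure.mp (hsp'.trans (specializes_iff_mem_closure.mpr hy)))
  have heq : Closeds.closure {ψ g'} = Closeds.closure {ψ gζ} := by
    by_contra hne'
    exact hmin _ ⟨ψ g', hg'T, rfl⟩ (lt_of_le_of_ne hle hne')
  have hψeq : ψ g' = ψ gζ := by
    have h1 : ψ g' ⤳ ψ gζ := by
      rw [specializes_iff_mem_closure]
      have : ψ gζ ∈ (Closeds.closure {ψ gζ} : Set W) := subset_closure rfl
      rw [← heq] at this
      exact this
    exact (h1.antisymm hsp').eq
  have hgeq : g' = gζ := hF g' gζ hsp hψeq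
  subst hgeq
  have : gw ∈ closure {g'} := specializes_iff_mem_closure.mp hgζ
  rw [(mem_closedPoints_iff.mp hg'closed).closure_eq, Set.mem_singleton_iff] at this
  exact hne (by rw [this])

end Groth.Agent.Lib.Helper54
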