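import Groth.Agent.Lib.Helper54.DecentTop
import Groth.Agent.Lib.Helper54.PuncturedTop
import Groth.Agent.S3433
import Mathlib.AlgebraicGeometry.Noetherian

/-!
# Proper generizations of a point of a decent locally Noetherian algebraic space (helper54)
-/

set_option autoImplicit false
set_option backward.isDefEq.respectTransparency false
set_option linter.style.haveILetI false
universe u
open CategoryTheory CategoryTheory.Limits AlgebraicGeometry Topology TopologicalSpace
open AlgSp

namespace Groth.Agent.Lib.Helper54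

variable {S : Scheme.{u}}

/-- The space of proper generizations of the image of a point `u₀` of a locally Noetherian étale chart of a
decent algebraic space is Noetherian, spectral, quasi-sober and Jacobson. -/
theorem punctured_generizations_of_isDecent {X : Sp S} (hX : IsAlgSpace X) (hd : IsDecent X)
    {U : Over S} (a : (yon S).obj U ⟶ X) (ha : RepWith @Etale a) [IsLocallyNoetherian U.left]
    (u₀ : ↥U.left) :
    NoetherianSpace {x' : Points X // x' ⤳ Points.ofPt a u₀ ∧ x' ≠ Points.ofPt a u₀} ∧
      SpectralSpace {x' : Points X // x' ⤳ Points.ofPt a u₀ ∧ x' ≠ Points.ofPt a u₀} ∧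
      QuasiSober {x' : Points X // x' ⤳ Points.ofPt a u₀ ∧ x' ≠ Points.ofPt a u₀} ∧
      JacobsonSpace {x' : Points X // x' ⤳ Points.ofPt a u₀ ∧ x' ≠ Points.ofPt a u₀} := by
  haveI := t0Space_points_of_isDecent hX hd
  haveI := quasiSober_points_of_isDecent hX hd
  set x := Points.ofPt a u₀ with hx
  let A := U.left.presheaf.stalk u₀
  let f := U.left.fromSpecStalk u₀
  have hemb : IsEmbedding f := f.isEmbedding
  have hcp : f (IsLocalRing.closedPoint A) = u₀ := Scheme.fromSpecStalk_closedPoint
  have hrange : ∀ u' : U.left, u' ⤳ u₀ → ∃ g : PrimeSpectrum A, f g = u' := by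
    intro u' h
    have : u' ∈ Set.range f := by rw [Scheme.range_fromSpecStalk]; exact h
    exact this
  have hspec : ∀ g : PrimeSpectrum A, f g ⤳ u₀ := by
    intro g
    have : f g ∈ Set.range f := ⟨g, rfl⟩
    rw [Scheme.range_fromSpecStalk] at this
    exact this
  let G := ↥({IsLocalRing.closedPoint A}ᶜ : Set (PrimeSpectrum A))
  have hmem : ∀ g : G, Points.ofPt a (f g.1) ⤳ x ∧ Points.ofPt a (f g.1) ≠ x := by
    intro g
    refine ⟨(hspec g.1).map (Points.continuous_ofPt a), ?_⟩
    intro he
    have := eq_of_specializes_of_ofPt_eq hX hd a ha u₀ (f g.1) he.symm (hspec g.1)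
    exact g.2 (hemb.injective (hcp.trans this)).symm
  let ψ : G → {x' : Points X // x' ⤳ x ∧ x' ≠ x} := fun g => ⟨Points.ofPt a (f g.1), hmem g⟩
  have hψc : Continuous ψ :=
    ((Points.continuous_ofPt a).comp (f.continuous.comp continuous_subtype_val)).subtype_mk _
  have hψs : Function.Surjective ψ := by
    intro w
    obtain ⟨u', hu', he⟩ := exists_generization_of_isDecent hX hd a ha u₀ w.1 w.2.1
    obtain ⟨g, rfl⟩ := hrange u' hu'
    refine ⟨⟨g, ?_⟩, Subtype.ext he⟩
    intro hg
    rw [Set.mem_singleton_iff] at hg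
    rw [hg, hcp] at he
    exact w.2.2 he.symm
  have hL : ∀ (g : G) (w' : {x' : Points X // x' ⤳ x ∧ x' ≠ x}), w' ⤳ ψ g →
      ∃ g' : G, g' ⤳ g ∧ ψ g' = w' := by
    intro g w' h
    have h' : w'.1 ⤳ Points.ofPt a (f g.1) := (subtype_specializes_iff _ _).1 h
    obtain ⟨u', hu', he⟩ := exists_generization_of_isDecent hX hd a ha (f g.1) w'.1 h'
    obtain ⟨g', rfl⟩ := hrange u' (hu'.trans (hspec g.1))
    have hg'g : g' ⤳ g.1 := hemb.isInducing.specializes_iff.1 hu'
    have hg' : g' ∈ ({IsLocalRing.closedPoint A}ᶜ : Set (PrimeSpectrum A)) := by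
      intro hg
      rw [Set.mem_singleton_iff] at hg
      rw [hg, hcp] at he
      exact w'.2.2 he.symm
    exact ⟨⟨g', hg'⟩, (subtype_specializes_iff _ _).2 hg'g, Subtype.ext he⟩
  have hF : ∀ g g' : G, g' ⤳ g → ψ g = ψ g' → g = g' := by
    intro g g' h he
    have h1 : f g'.1 ⤳ f g.1 := ((subtype_specializes_iff _ _).1 h).map f.continuous
    have h2 : Points.ofPt a (f g.1) = Points.ofPt a (f g'.1) := congrArg Subtype.val he
    exact Subtype.ext (hemb.injective (eq_of_specializes_of_ofPt_eq hX hd a ha _ _ h2 h1))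
  haveI : NoetherianSpace G := inferInstance
  haveI hWN : NoetherianSpace {x' : Points X // x' ⤳ x ∧ x' ≠ x} :=
    noetherianSpace_of_surjective ψ hψc hψs
  haveI hWS : QuasiSober {x' : Points X // x' ⤳ x ∧ x' ≠ x} :=
    quasiSober_of_stableUnderGeneralization (stableUnderGeneralization_punctured x)
  haveI : JacobsonSpace G := (Groth.Agent.S3433.result A).1
  exact ⟨hWN, spectralSpace_of_noetherianSpace, hWS,
    jacobsonSpace_of_surjective_lifting ψ hψc hψs hL hF⟩

end Groth.Agent.Lib.Helper54
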