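import Groth.Agent.H53.IntegralComp
import Groth.Agent.H53.ZarGlueInt
import Groth.Agent.H52.QC
import Mathlib.AlgebraicGeometry.QuasiAffine

/-!
# Quasi-affine morphisms of sheaves (helper54)

Base change, separatedness and quasi-compactness of `AlgSp.IsQuasiAffineMor`.
-/

set_option autoImplicit false
set_option backward.isDefEq.respectTransparency false
universe u
open CategoryTheory CategoryTheory.Limits AlgebraicGeometry

namespace Groth.Agent.Lib.Helper54

open AlgSp

variable {S : Scheme.{u}}

/-- Quasi-affine morphisms are stable under base change. -/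
theorem isQuasiAffineMor_of_isPullback {F G F' G' : Sp S} {f : F ⟶ G} {g : G' ⟶ G} {fst : F' ⟶ F}
    {f' : F' ⟶ G'} (sq : IsPullback fst f' f g) (hf : IsQuasiAffineMor f) :
    IsQuasiAffineMor f' := by
  intro Z hZ y
  obtain ⟨W, i, fstW, sqW, hW⟩ := hf hZ (y ≫ g)
  refine ⟨W, i, sq.lift fstW ((yon S).map i ≫ y) (by rw [sqW.w, Category.assoc]), ?_, hW⟩
  exact IsPullback.of_right (by rwa [sq.lift_fst]) (sq.lift_snd _ _ _) sq

/-- A quasi-affine morphism is separated. -/
theorem isSeparatedMor_of_isQuasiAffineMor {X Y : Sp S} (hX : IsAlgSpace X) (f : X ⟶ Y)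
    (hf : IsQuasiAffineMor f) : IsSeparatedMor f := by
  refine Groth.Agent.H52.repWith_diagonal_of_affine_base_change @IsClosedImmersion hX f
    (fun Z hZ g Q p₁ p₂ sq => ?_)
  obtain ⟨W, i, fst, sq', hW⟩ := hf hZ g
  have : W.left.IsQuasiAffine := hW
  have : IsAffine Z.left := hZ
  have h1 : RepWith @IsSeparated p₂ :=
    Groth.Agent.H53.repWith_snd_of_isPullback_yon @IsSeparated sq'
      (inferInstance : IsSeparated i.left) sq
  exact Groth.Agent.H53.isSeparatedMor_of_repWith_isSeparated p₂ h1

/-- A quasi-affine morphism is representable by quasi-compact morphisms. -/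
theorem repWith_quasiCompact_of_isQuasiAffineMor {X Y : Sp S} (f : X ⟶ Y)
    (hf : IsQuasiAffineMor f) : RepWith @QuasiCompact f := by
  refine Groth.Agent.H53.ZarGlue.repWith_of_affine_local @QuasiCompact fun Z hZ g => ?_
  obtain ⟨W, i, fst, sq, hW⟩ := hf hZ g
  have : W.left.IsQuasiAffine := hW
  have : IsAffine Z.left := hZ
  refine ⟨W, i, fst, sq, ?_⟩
  exact HasAffineProperty.iff_of_isAffine.mpr (inferInstance : CompactSpace ↥W.left)

end Groth.Agent.Lib.Helper54
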