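import Groth.Agent.Lib.Helper54.FibBound
import Groth.Agent.Lib.Helper54.MonoDescentRep
import Groth.Agent.Lib.Helper54.LocalST
import Groth.Agent.H52.LqfSource
import Groth.Agent.H52.LocPCalc4
import Groth.Agent.S9946

/-!
# Stacks 0417: images of quasi-affine opens of an étale base change are schemes (helper54)

Let `X` be an algebraic space, separated and locally quasi-finite over an affine scheme `T`, let
`T' ⟶ T` be étale with `T'` affine and `V'` a quasi-affine open subscheme of `T' ×_T X`.  Then the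
image of `V'` in `X` is an open subspace which is a scheme
(`isRepresentable_image_of_quasiAffine_over_etale`).  The proof is by induction on a bound `n` for
the number of points in the geometric fibres of `T' ⟶ T` (`FibBound`): the base change of the image
`U` to `T'` is covered by `V'` and by the image of `V' ×_{T'} C`, where `C` is the complement of the
diagonal in `T' ×_T T'`, whose fibres over `T'` have at most `n - 1` points; so `U ×_T T'` is a
scheme, which is quasi-affine by Zariski's main theorem, and `U` is a scheme by étale descent of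
quasi-affine morphisms (S9946).
-/

set_option autoImplicit false
set_option backward.isDefEq.respectTransparency false
universe u
open CategoryTheory CategoryTheory.Limits AlgebraicGeometry

namespace Groth.Agent.Lib.Helper54
open AlgSp
variable {S : Scheme.{u}}
section T2
variable {T T' : Over S} (e : T' ⟶ T)

/-- The fibre product `T' ×_T T'` as a scheme over `S`, built on the scheme-level pullback. -/
noncomputable def T2 : Over S := Over.mk (pullback.fst e.left e.left ≫ T'.hom)

noncomputable def T2pr0 : T2 e ⟶ T' := Over.homMk (pullback.fst e.left e.left) rfl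

noncomputable def T2pr1 : T2 e ⟶ T' := Over.homMk (pullback.snd e.left e.left) (by
  change pullback.snd e.left e.left ≫ T'.hom = pullback.fst e.left e.left ≫ T'.hom
  rw [← Over.w e, ← Category.assoc, ← Category.assoc, pullback.condition])

theorem isPullback_T2 : IsPullback (T2pr0 e) (T2pr1 e) e e := by
  refine IsPullback.of_map (Over.forget S) ?_ ?_
  · ext1
    exact pullback.condition
  · exact IsPullback.of_hasPullback e.left e.left

noncomputable def T2diag : T' ⟶ T2 e := Over.homMk (pullback.diagonal e.left) (by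
  change pullback.diagonal e.left ≫ pullback.fst e.left e.left ≫ T'.hom = T'.hom
  rw [← Category.assoc, pullback.diagonal_fst, Category.id_comp])

end T2

/-- The complement of the diagonal of a separated morphism, as an open subscheme. -/
noncomputable def offDiagOpen {A B : Scheme.{u}} (g : A ⟶ B) [IsSeparated g] : (pullback g g).Opens :=
  ⟨(Set.range (pullback.diagonal g))ᶜ,
    (pullback.diagonal g).isClosedEmbedding.isClosed_range.isOpen_compl⟩

theorem disjoint_offDiagOpen {A B : Scheme.{u}} (g : A ⟶ B) [IsSeparated g] :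
    Disjoint (offDiagOpen g : Set ↥(pullback g g)) (Set.range (pullback.diagonal g)) :=
  disjoint_compl_left

theorem mem_offDiagOpen_or {A B : Scheme.{u}} (g : A ⟶ B) [IsSeparated g] (z : ↥(pullback g g)) :
    z ∈ offDiagOpen g ∨ z ∈ Set.range (pullback.diagonal g) := by
  by_cases h : z ∈ Set.range (pullback.diagonal g)
  · exact Or.inr h
  · exact Or.inl h

theorem isAffine_offDiagOpen {A B : Scheme.{u}} [IsAffine A] [IsAffine B] (g : A ⟶ B) [Etale g] :
    IsAffine (offDiagOpen g : Scheme.{u}) := by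
  have hoi : IsOpenImmersion (pullback.diagonal g) := inferInstance
  have hcl : IsClosed (Set.range (offDiagOpen g).ι) := by
    rw [Scheme.Opens.range_ι]
    change IsClosed ((Set.range (pullback.diagonal g))ᶜ)
    exact (pullback.diagonal g).isOpenEmbedding.isOpen_range.isClosed_compl
  have : IsClosedImmersion (offDiagOpen g).ι := .of_isPreimmersion _ hcl
  exact isAffine_of_isAffineHom (offDiagOpen g).ι

/-- The scheme-level data for the inductive step: `T' ×_T T'` is the disjoint union of the diagonal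
and an affine open `C'` on which the fibre bound of the second projection drops by one. -/
theorem exists_offDiag_data {T T' : Over S} (hT : IsAffine T.left) (hT' : IsAffine T'.left)
    (e : T' ⟶ T) (he : Etale e.left) {n : ℕ} (hn : FibBound e.left (n + 1)) :
    ∃ (T2 C' : Over S) (pr0 pr1 : T2 ⟶ T') (Δ : T' ⟶ T2) (cι : C' ⟶ T2),
      IsPullback pr0 pr1 e e ∧ Δ ≫ pr0 = 𝟙 _ ∧ Δ ≫ pr1 = 𝟙 _ ∧ IsAffine C'.left ∧
      IsOpenImmersion cι.left ∧ FibBound (cι ≫ pr1).left n ∧
      ∀ z : ↥T2.left, z ∈ Set.range cι.left ∨ z ∈ Set.range Δ.left := by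
  have : IsSeparated e.left := inferInstance
  refine ⟨T2 e, Groth.Agent.H52.overOpen (T2 e) (offDiagOpen e.left), T2pr0 e, T2pr1 e, T2diag e,
    Groth.Agent.H52.overOpenι (T2 e) (offDiagOpen e.left), isPullback_T2 e, ?_, ?_,
    isAffine_offDiagOpen e.left, (inferInstance : IsOpenImmersion (offDiagOpen e.left).ι),
    FibBound.offDiagonal e.left (offDiagOpen e.left) (disjoint_offDiagOpen e.left) hn, ?_⟩
  · ext1
    exact pullback.diagonal_fst e.left
  · ext1
    exact pullback.diagonal_snd e.left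
  · intro z
    rcases mem_offDiagOpen_or e.left z with h | h
    · left
      exact ⟨⟨z, h⟩, rfl⟩
    · right
      exact h


/-- The statement proved by induction on the fibre bound `n`. -/
def ImageRepAt (S : Scheme.{u}) (n : ℕ) : Prop :=
  ∀ {T T' : Over S} (_ : IsAffine T.left) (_ : IsAffine T'.left) (e : T' ⟶ T) (_ : Etale e.left)
    (_ : FibBound e.left n) {X P : Sp S} (_ : IsAlgSpace X) (f : X ⟶ (yon S).obj T)
    (_ : IsSeparatedMor f) (_ : LocP (@LocallyQuasiFinite ⊓ @LocallyOfFiniteType) f)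
    (p1 : P ⟶ (yon S).obj T') (p2 : P ⟶ X) (_ : IsPullback p2 p1 f ((yon S).map e))
    {V' : Over S} (_ : V'.left.IsQuasiAffine) (j : (yon S).obj V' ⟶ P)
    (_ : RepWith @IsOpenImmersion j), (Sheaf.image (j ≫ p2)).obj.IsRepresentable

theorem isRepresentable_baseChange_of_imageRepAt {n : ℕ} (IH : ImageRepAt S n)
    {T T' : Over S} (hT : IsAffine T.left) (hT' : IsAffine T'.left) (e : T' ⟶ T)
    (he : Etale e.left) (hn : FibBound e.left (n + 1)) {X P : Sp S} (hX : IsAlgSpace X)
    (f : X ⟶ (yon S).obj T) (hsep : IsSeparatedMor f)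
    (hqf : LocP (@LocallyQuasiFinite ⊓ @LocallyOfFiniteType) f)
    (p1 : P ⟶ (yon S).obj T') (p2 : P ⟶ X) (sq : IsPullback p2 p1 f ((yon S).map e))
    {V' : Over S} (hV' : V'.left.IsQuasiAffine) (j : (yon S).obj V' ⟶ P)
    (hj : RepWith @IsOpenImmersion j)
    {U : Sp S} (hU : IsAlgSpace U) (ι : U ⟶ X) (hι : RepWith @IsOpenImmersion ι)
    (π : (yon S).obj V' ⟶ U) (hπe : RepWith @Etale π) (hπs : RepWith @Surjective π)
    (hπι : π ≫ ι = j ≫ p2) {UT : Sp S} (u1 : UT ⟶ U) (u2 : UT ⟶ (yon S).obj T')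
    (sqU : IsPullback u1 u2 (ι ≫ f) ((yon S).map e)) : UT.obj.IsRepresentable := by
  have hE : (RepWith (S := S) @Etale).IsMultiplicative := repWith_isMultiplicative _
  have hoe : ∀ ⦃A B : Scheme.{u}⦄ (φ : A ⟶ B), IsOpenImmersion φ → Etale φ :=
    fun _ _ φ hφ => by have := hφ; infer_instance
  obtain ⟨τ, hτ⟩ := (yon S).map_surjective (j ≫ p1)
  have hP : IsAlgSpace P :=
    Groth.Agent.H52.isAlgSpace_of_isPullback sq hX (IsAlgSpace.yon_obj T) (IsAlgSpace.yon_obj T')
  have hUT : IsAlgSpace UT :=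
    Groth.Agent.H52.isAlgSpace_of_isPullback sqU hU (IsAlgSpace.yon_obj T) (IsAlgSpace.yon_obj T')
  -- the open immersion `k : UT ⟶ P`
  obtain ⟨k, hk1, hk2⟩ : ∃ k : UT ⟶ P, k ≫ p2 = u1 ≫ ι ∧ k ≫ p1 = u2 :=
    ⟨sq.lift (u1 ≫ ι) u2 (by rw [Category.assoc]; exact sqU.w), sq.lift_fst _ _ _,
      sq.lift_snd _ _ _⟩
  have sqk : IsPullback u1 k ι p2 := by
    refine IsPullback.of_bot ?_ hk1.symm sq
    rw [hk2]
    exact sqU
  have hk : RepWith @IsOpenImmersion k := MorphismProperty.of_isPullback sqk hι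
  have hkm : Mono k := Groth.Agent.H52.mono_of_repWith k @IsOpenImmersion
    (fun _ _ φ hφ => by have := hφ; infer_instance) hk
  have hkinj : Function.Injective (Points.map k) :=
    Groth.Agent.H53.injective_points_of_repWith k @IsOpenImmersion
      (fun _ _ φ hφ => by have := hφ; exact φ.isOpenEmbedding.injective) hk
  -- scheme-level data
  obtain ⟨T2, C', pr0, pr1, Δ, cι, sqT2, hΔ0, hΔ1, hC', hcι, hnC, hcov⟩ :=
    exists_offDiag_data hT hT' e he hn
  obtain ⟨Vt, r1, r2, sqVt⟩ : ∃ (Vt : Over S) (r1 : Vt ⟶ V') (r2 : Vt ⟶ T'),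
      IsPullback r1 r2 (τ ≫ e) e := ⟨_, _, _, IsPullback.of_hasPullback _ _⟩
  obtain ⟨θ, hθ0, hθ1⟩ : ∃ θ : Vt ⟶ T2, θ ≫ pr0 = r1 ≫ τ ∧ θ ≫ pr1 = r2 :=
    ⟨sqT2.lift (r1 ≫ τ) r2 (by rw [Category.assoc]; exact sqVt.w), sqT2.lift_fst _ _ _,
      sqT2.lift_snd _ _ _⟩
  have sqθ : IsPullback θ r1 pr0 τ := by
    refine IsPullback.of_right ?_ hθ0 sqT2.flip
    rw [hθ1]
    exact sqVt.flip
  -- the chart `c : yon Vt ⟶ UT`
  have hb : π ≫ ι ≫ f = (yon S).map (τ ≫ e) := by
    rw [← Category.assoc, hπι, Category.assoc, sq.w, ← Category.assoc, ← hτ, ← Functor.map_comp]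
  have hc0 : ((yon S).map r1 ≫ π) ≫ ι ≫ f = (yon S).map r2 ≫ (yon S).map e := by
    rw [Category.assoc, hb, ← Functor.map_comp, ← Functor.map_comp, sqVt.w]
  obtain ⟨c, hc1, hc2⟩ : ∃ c : (yon S).obj Vt ⟶ UT, c ≫ u1 = (yon S).map r1 ≫ π ∧
      c ≫ u2 = (yon S).map r2 := ⟨sqU.lift _ _ hc0, sqU.lift_fst _ _ _, sqU.lift_snd _ _ _⟩
  have sqc : IsPullback c ((yon S).map r1) u1 π := by
    refine IsPullback.of_right ?_ hc1 sqU.flip
    rw [hc2, hb]
    exact (sqVt.flip).map (yon S)
  have hce : RepWith @Etale c := MorphismProperty.of_isPullback sqc.flip hπe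
  have hcs : RepWith @Surjective c := MorphismProperty.of_isPullback sqc.flip hπs
  -- every point of `UT` lies in an open subscheme
  apply isRepresentable_of_schematicLocus_eq_univ hUT
  rw [Set.eq_univ_iff_forall]
  intro y
  obtain ⟨vt, rfl⟩ := Groth.Agent.H53.surjective_ofPt_of_surjective c hcs y
  rcases hcov (θ.left vt) with ⟨z, hz⟩ | ⟨t', ht'⟩
  · -- off the diagonal: induction hypothesis
    obtain ⟨Vn, v1, v2, sqVn⟩ : ∃ (Vn : Over S) (v1 : Vn ⟶ V') (v2 : Vn ⟶ C'),
        IsPullback v1 v2 τ (cι ≫ pr0) := ⟨_, _, _, IsPullback.of_hasPullback _ _⟩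
    have hd2w : v1 ≫ τ ≫ e = (v2 ≫ cι ≫ pr1) ≫ e := by
      rw [← Category.assoc, sqVn.w, Category.assoc, Category.assoc, Category.assoc,
        Category.assoc, sqT2.w]
    obtain ⟨d₂, hd21, hd22⟩ : ∃ d₂ : Vn ⟶ Vt, d₂ ≫ r1 = v1 ∧ d₂ ≫ r2 = v2 ≫ cι ≫ pr1 :=
      ⟨sqVt.lift v1 (v2 ≫ cι ≫ pr1) hd2w, sqVt.lift_fst _ _ _, sqVt.lift_snd _ _ _⟩
    have hd2θ : v2 ≫ cι = d₂ ≫ θ := by
      apply sqT2.hom_ext
      · rw [Category.assoc, Category.assoc, hθ0, ← Category.assoc d₂, hd21, sqVn.w]
      · rw [Category.assoc, Category.assoc, hθ1, hd22]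
    have sqd₂ : IsPullback v2 d₂ cι θ := by
      refine IsPullback.of_bot ?_ hd2θ sqθ
      rw [hd21]
      exact sqVn.flip
    obtain ⟨v, hv1, hv2⟩ := exists_preimage_of_isPullback (isPullback_left sqd₂) z vt hz
    -- new data
    obtain ⟨bU, hbU⟩ : ∃ bU : (yon S).obj Vn ⟶ UT, bU = (yon S).map d₂ ≫ c := ⟨_, rfl⟩
    obtain ⟨Pn, p2n, p1n, sqn⟩ : ∃ (Pn : Sp S) (p2n : Pn ⟶ P) (p1n : Pn ⟶ (yon S).obj C'),
        IsPullback p2n p1n p1 ((yon S).map (cι ≫ pr1)) := ⟨_, _, _, IsPullback.of_hasPullback _ _⟩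
    have heq : (yon S).map (cι ≫ pr0) ≫ (yon S).map e =
        (yon S).map (cι ≫ pr1) ≫ (yon S).map e := by
      rw [← Functor.map_comp, ← Functor.map_comp, Category.assoc, Category.assoc, sqT2.w]
    have hq0w : (p2n ≫ p2) ≫ f = (p1n ≫ (yon S).map (cι ≫ pr0)) ≫ (yon S).map e := by
      rw [Category.assoc, sq.w, ← Category.assoc, sqn.w, Category.assoc, Category.assoc, heq]
    obtain ⟨q₀, hq01, hq02⟩ : ∃ q₀ : Pn ⟶ P, q₀ ≫ p2 = p2n ≫ p2 ∧
        q₀ ≫ p1 = p1n ≫ (yon S).map (cι ≫ pr0) :=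
      ⟨sq.lift _ _ hq0w, sq.lift_fst _ _ _, sq.lift_snd _ _ _⟩
    have sqq₀ : IsPullback q₀ p1n p1 ((yon S).map (cι ≫ pr0)) := by
      refine IsPullback.of_right ?_ hq02 sq
      rw [hq01, heq]
      exact sqn.paste_horiz sq
    have hjnw : (bU ≫ k) ≫ p1 = (yon S).map v2 ≫ (yon S).map (cι ≫ pr1) := by
      rw [Category.assoc, hk2, hbU, Category.assoc, hc2, ← Functor.map_comp, ← Functor.map_comp,
        hd22]
    obtain ⟨jn, hjn1, hjn2⟩ : ∃ jn : (yon S).obj Vn ⟶ Pn, jn ≫ p2n = bU ≫ k ∧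
        jn ≫ p1n = (yon S).map v2 := ⟨sqn.lift _ _ hjnw, sqn.lift_fst _ _ _, sqn.lift_snd _ _ _⟩
    have hjq : jn ≫ q₀ = (yon S).map v1 ≫ j := by
      apply sq.hom_ext
      · rw [Category.assoc, hq01, ← Category.assoc, hjn1, Category.assoc, hk1, hbU,
          Category.assoc, ← Category.assoc c, hc1, Category.assoc, Category.assoc, hπι,
          ← Category.assoc, ← Functor.map_comp, hd21]
      · rw [Category.assoc, hq02, ← Category.assoc, hjn2, ← Functor.map_comp, ← sqVn.w,
          Functor.map_comp, hτ, Category.assoc]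
    have sqjn : IsPullback jn ((yon S).map v1) q₀ j := by
      refine IsPullback.of_right ?_ hjq sqq₀.flip
      rw [hjn2, ← hτ]
      exact (sqVn.flip).map (yon S)
    have hjn : RepWith @IsOpenImmersion jn := MorphismProperty.of_isPullback sqjn.flip hj
    have hVn : Vn.left.IsQuasiAffine := by
      have sqL := isPullback_left sqVn
      have h1 : IsAffineHom (cι ≫ pr0).left := inferInstance
      have h2 : IsAffineHom v1.left :=
        MorphismProperty.of_isPullback (P := @IsAffineHom) sqL.flip h1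
      exact Scheme.IsQuasiAffine.of_isAffineHom v1.left
    have hen : Etale (cι ≫ pr1).left := by
      have : Etale pr1.left :=
        MorphismProperty.of_isPullback (P := @Etale) (isPullback_left sqT2) he
      rw [Over.comp_left]
      infer_instance
    have hsep1 : IsSeparatedMor p1 :=
      Groth.Agent.H52.repWith_diagonal_of_isPullback @IsClosedImmersion sq hsep
    have hqf1 : LocP (@LocallyQuasiFinite ⊓ @LocallyOfFiniteType) p1 :=
      Groth.Agent.H52.isEtLocal_lqf_lft.locP_of_isPullback hX (IsAlgSpace.yon_obj T)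
        (IsAlgSpace.yon_obj T') sq hqf
    have hrn := IH hT' hC' (cι ≫ pr1) hen hnC hP p1 hsep1 hqf1 p1n p2n sqn hVn jn hjn
    rw [hjn1] at hrn
    have hp2ne : RepWith @Etale p2n :=
      MorphismProperty.of_isPullback sqn.flip ((repWith_yon_map_iff _ _).2 hen)
    have hbne : RepWith @Etale (bU ≫ k) := by
      rw [← hjn1]
      exact (RepWith (S := S) @Etale).comp_mem _ _ (Groth.Agent.H53.repWith_of_le hoe hjn) hp2ne
    have hιn : RepWith @IsOpenImmersion (Sheaf.imageι (bU ≫ k)) :=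
      Groth.Agent.H52.repWith_isOpenImmersion_imageι _ hbne
    obtain ⟨gn, hgn⟩ := Groth.Agent.H53.exists_factor_of_range_subset k hk
      (Sheaf.imageι (bU ≫ k)) (by
        rw [Groth.Agent.H52.range_points_map_imageι _ hbne]
        rintro _ ⟨w, rfl⟩
        exact ⟨Points.ofPt bU w, by rw [Points.map_ofPt]⟩)
    have hgno : RepWith @IsOpenImmersion gn :=
      Groth.Agent.H53.repWith_of_comp_mono _ gn k (by rw [hgn]; exact hιn)
    obtain ⟨⟨Yn, ⟨rn⟩⟩⟩ := hrn
    refine ⟨Yn, (isoOfRepresentableBy rn).hom ≫ gn,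
      MorphismProperty.RespectsIso.precomp _ _ _ hgno, ?_⟩
    have hx : Points.ofPt (bU ≫ k) v ∈ Set.range (Points.map (Sheaf.imageι (bU ≫ k))) := by
      rw [Groth.Agent.H52.range_points_map_imageι _ hbne]
      exact ⟨v, rfl⟩
    obtain ⟨w, hw⟩ := hx
    refine ⟨Points.map (isoOfRepresentableBy rn).inv w, ?_⟩
    rw [← Points.map_comp, Iso.inv_hom_id_assoc]
    apply hkinj
    rw [← Points.map_comp, hgn, hw, Points.map_ofPt, ← hv2, hbU, Category.assoc,
      Groth.Agent.H53.ofPt_yon_map_comp]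
  · -- on the diagonal: `V'` itself is an open subscheme
    obtain ⟨d₁, hd11, hd12⟩ : ∃ d₁ : V' ⟶ Vt, d₁ ≫ r1 = 𝟙 _ ∧ d₁ ≫ r2 = τ :=
      ⟨sqVt.lift (𝟙 _) τ (by rw [Category.id_comp]), sqVt.lift_fst _ _ _, sqVt.lift_snd _ _ _⟩
    have hd1θ : τ ≫ Δ = d₁ ≫ θ := by
      apply sqT2.hom_ext
      · rw [Category.assoc, Category.assoc, hΔ0, hθ0, ← Category.assoc, hd11, Category.comp_id,
          Category.id_comp]
      · rw [Category.assoc, Category.assoc, hΔ1, hθ1, hd12, Category.comp_id]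
    have sqd₁ : IsPullback τ d₁ Δ θ := by
      refine IsPullback.of_bot ?_ hd1θ sqθ
      rw [hd11, hΔ0]
      exact IsPullback.of_id_snd
    obtain ⟨v, hv1, hv2⟩ := exists_preimage_of_isPullback (isPullback_left sqd₁) t' vt ht'
    have hjU : ((yon S).map d₁ ≫ c) ≫ k = j := by
      apply sq.hom_ext
      · rw [Category.assoc, Category.assoc, hk1, ← Category.assoc c, hc1, Category.assoc,
          hπι, ← Category.assoc, ← Category.assoc, ← Functor.map_comp, hd11,
          CategoryTheory.Functor.map_id, Category.id_comp]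
      · rw [Category.assoc, Category.assoc, hk2, hc2, ← Functor.map_comp, hd12, hτ]
    have hjUo : RepWith @IsOpenImmersion ((yon S).map d₁ ≫ c) :=
      Groth.Agent.H53.repWith_of_comp_mono _ _ k (by rw [hjU]; exact hj)
    refine ⟨V', (yon S).map d₁ ≫ c, hjUo, Points.ofScheme V' v, ?_⟩
    rw [← Points.ofPt_eq_map_ofScheme, Groth.Agent.H53.ofPt_yon_map_comp, hv2]

/-- ZMT: a quasi-compact representable sheaf, separated and locally quasi-finite over an affine
scheme, is a quasi-affine scheme. -/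
theorem exists_quasiAffine_iso_of_lqf {T' : Over S} (hT' : IsAffine T'.left) {Y : Sp S}
    (hrep : Y.obj.IsRepresentable) (g : Y ⟶ (yon S).obj T') (hsep : IsSeparatedMor g)
    (hqf : LocP (@LocallyQuasiFinite ⊓ @LocallyOfFiniteType) g) (hqc : IsQuasiCompactSp Y) :
    ∃ (W : Over S) (w : W ⟶ T') (eW : (yon S).obj W ≅ Y),
      W.left.IsQuasiAffine ∧ eW.hom ≫ g = (yon S).map w := by
  obtain ⟨⟨W, ⟨r⟩⟩⟩ := hrep
  let eW : (yon S).obj W ≅ Y := isoOfRepresentableBy r
  obtain ⟨w, hw⟩ := (yon S).map_surjective (eW.hom ≫ g)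
  refine ⟨W, w, eW, ?_, hw.symm⟩
  have hsepw : IsSeparated w.left := by
    rw [← isSeparatedMor_yon_map_iff, hw]
    exact Groth.Agent.H52.repWith_diagonal_comp @IsClosedImmersion _ _
      (Groth.Agent.H52.isSeparatedMor_of_repWith_mono eW.hom) hsep
  have hloc : LocP (@LocallyQuasiFinite ⊓ @LocallyOfFiniteType) ((yon S).map w) := by
    rw [hw]
    exact Groth.Agent.H52.isEtLocal_lqf_lft.locP_precomp g eW.hom
      (Groth.Agent.H52.repWith_of_isIso _ _) hqf
  have hP := locP_yon_map hloc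
  have h1 : LocallyQuasiFinite w.left := hP.1
  have h2 : LocallyOfFiniteType w.left := hP.2
  have hc : CompactSpace ↥W.left :=
    Groth.Agent.H52.compactSpace_of_isQuasiCompactSp_yon _ (isQuasiCompactSp_of_iso eW.symm hqc)
  have h3 : QuasiCompact w.left :=
    (@HasAffineProperty.iff_of_isAffine @QuasiCompact _
      instHasAffinePropertyQuasiCompactCompactSpaceCarrierCarrierCommRingCat _ _ w.left _).mpr hc
  exact isQuasiAffine_of_lqf w.left

/-- The base change of a quasi-affine scheme over an affine scheme along a morphism of affine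
schemes is quasi-affine. -/
theorem isQuasiAffine_pullback_of_isAffine {W T' Z : Over S} (hT' : IsAffine T'.left)
    (hZ : IsAffine Z.left) (hW : W.left.IsQuasiAffine) (w : W ⟶ T') (g' : Z ⟶ T') :
    (pullback w g').left.IsQuasiAffine := by
  have sqL := isPullback_left (IsPullback.of_hasPullback w g')
  have h1 : IsAffineHom g'.left := inferInstance
  have h2 : IsAffineHom (pullback.fst w g').left :=
    MorphismProperty.of_isPullback (P := @IsAffineHom) sqL.flip h1
  exact Scheme.IsQuasiAffine.of_isAffineHom (pullback.fst w g').left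

/-- A sheaf isomorphic to a quasi-affine scheme is quasi-affine over any affine scheme. -/
theorem isQuasiAffineMor_of_iso_yon {T' W : Over S} (hT' : IsAffine T'.left)
    (hW : W.left.IsQuasiAffine) (w : W ⟶ T') {Y : Sp S} (eW : (yon S).obj W ≅ Y)
    (g : Y ⟶ (yon S).obj T') (h : eW.hom ≫ g = (yon S).map w) : IsQuasiAffineMor g := by
  intro Z hZ gZ
  obtain ⟨g', rfl⟩ := (yon S).map_surjective gZ
  have sq0 := (IsPullback.of_hasPullback w g').map (yon S)
  refine ⟨pullback w g', pullback.snd w g', (yon S).map (pullback.fst w g') ≫ eW.hom, ?_,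
    isQuasiAffine_pullback_of_isAffine hT' hZ hW w g'⟩
  refine IsPullback.of_iso sq0 (Iso.refl _) eW (Iso.refl _) (Iso.refl _) ?_ ?_ ?_ ?_
  · simp
  · simp
  · rw [← h]; simp
  · simp

/-- Étale descent of quasi-affineness along a non-surjective étale map whose image contains the
image of the structure morphism. -/
theorem isRepresentable_of_quasiAffine_after_etale {T T' : Over S} (e : T' ⟶ T)
    (he : Etale e.left) {U : Sp S} (hU : IsAlgSpace U) (g : U ⟶ (yon S).obj T)
    (hrange : ∀ x : Points U, ∃ t' : ↥T'.left, Points.map g x = Points.ofPt ((yon S).map e) t')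
    {UT : Sp S} (u1 : UT ⟶ U) (u2 : UT ⟶ (yon S).obj T')
    (sqU : IsPullback u1 u2 g ((yon S).map e)) (hqa : IsQuasiAffineMor u2) :
    U.obj.IsRepresentable := by
  obtain ⟨T0, p0, -, hp0, hp0e, hp0s⟩ := Groth.Agent.H52.exists_factor_open_image e
  have hoι : RepWith @IsOpenImmersion ((yon S).map (Groth.Agent.H52.overOpenι T T0)) :=
    (repWith_yon_map_iff _ _).2 (inferInstance : IsOpenImmersion T0.ι)
  have hmono : Mono ((yon S).map (Groth.Agent.H52.overOpenι T T0)) :=
    Groth.Agent.H52.mono_of_repWith _ @IsOpenImmersion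
      (fun _ _ φ hφ => by have := hφ; infer_instance) hoι
  obtain ⟨g₀, hg₀⟩ := Groth.Agent.H53.exists_factor_of_range_subset
    ((yon S).map (Groth.Agent.H52.overOpenι T T0)) hoι g (by
      rintro _ ⟨x, rfl⟩
      obtain ⟨t', ht'⟩ := hrange x
      refine ⟨Points.ofPt ((yon S).map p0) t', ?_⟩
      rw [ht', Points.map_ofPt, ← Functor.map_comp, hp0])
  have sq₀ : IsPullback u1 u2 g₀ ((yon S).map p0) := by
    apply Groth.Agent.H53.isPullback_of_comp_mono ((yon S).map (Groth.Agent.H52.overOpenι T T0))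
    rw [hg₀, ← Functor.map_comp, hp0]
    exact sqU
  let X' : AlgSp.Space S := ⟨U, hU⟩
  let Y' : AlgSp.Space S := ⟨(yon S).obj (Groth.Agent.H52.overOpen T T0), IsAlgSpace.yon_obj _⟩
  let f' : X' ⟶ Y' := ObjectProperty.homMk g₀
  have h := (Groth.Agent.S9946.result f' T' ((yon S).map p0) ((repWith_yon_map_iff _ _).2 hp0e)
    ((repWith_yon_map_iff _ _).2 hp0s) u1 u2 sq₀ hqa).1
  have hr : Representable g₀ := h
  have sq1 := hr.isPullback (𝟙 _)
  have hiso : IsIso (hr.fst (𝟙 ((yon S).obj (Groth.Agent.H52.overOpen T T0)))) :=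
    sq1.isIso_fst_of_isIso
  exact (representableByOfIso (asIso (hr.fst (𝟙 _)))).isRepresentable


theorem imageRepAt_zero : ImageRepAt S 0 := by
  intro T T' hT hT' e he hn X P hX f hsep hqf p1 p2 sq V' hV' j hj
  have hE : (RepWith (S := S) @Etale).IsMultiplicative := repWith_isMultiplicative _
  have hoe : ∀ ⦃A B : Scheme.{u}⦄ (φ : A ⟶ B), IsOpenImmersion φ → Etale φ :=
    fun _ _ φ hφ => by have := hφ; infer_instance
  have hemp : IsEmpty ↥T'.left := hn.isEmpty_of_zero
  obtain ⟨τ, hτ⟩ := (yon S).map_surjective (j ≫ p1)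
  have hp2e : RepWith @Etale p2 :=
    MorphismProperty.of_isPullback sq.flip ((repWith_yon_map_iff _ _).2 he)
  have hbe : RepWith @Etale (j ≫ p2) :=
    (RepWith (S := S) @Etale).comp_mem _ _ (Groth.Agent.H53.repWith_of_le hoe hj) hp2e
  apply isRepresentable_of_schematicLocus_eq_univ (Groth.Agent.H52.isAlgSpace_image hX _ hbe)
  rw [Set.eq_univ_iff_forall]
  intro x
  obtain ⟨v, -⟩ := Groth.Agent.H53.surjective_ofPt_of_surjective _
    (Groth.Agent.H52.repWith_surjective_toImage _ hbe) x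
  exact hemp.elim (τ.left v)

theorem imageRepAt_succ {n : ℕ} (IH : ImageRepAt S n) : ImageRepAt S (n + 1) := by
  intro T T' hT hT' e he hn X P hX f hsep hqf p1 p2 sq V' hV' j hj
  have hE : (RepWith (S := S) @Etale).IsMultiplicative := repWith_isMultiplicative _
  have hoe : ∀ ⦃A B : Scheme.{u}⦄ (φ : A ⟶ B), IsOpenImmersion φ → Etale φ :=
    fun _ _ φ hφ => by have := hφ; infer_instance
  obtain ⟨τ, hτ⟩ := (yon S).map_surjective (j ≫ p1)
  have hp2e : RepWith @Etale p2 :=
    MorphismProperty.of_isPullback sq.flip ((repWith_yon_map_iff _ _).2 he)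
  have hbe : RepWith @Etale (j ≫ p2) :=
    (RepWith (S := S) @Etale).comp_mem _ _ (Groth.Agent.H53.repWith_of_le hoe hj) hp2e
  have hU : IsAlgSpace (Sheaf.image (j ≫ p2)) := Groth.Agent.H52.isAlgSpace_image hX _ hbe
  have hι : RepWith @IsOpenImmersion (Sheaf.imageι (j ≫ p2)) :=
    Groth.Agent.H52.repWith_isOpenImmersion_imageι _ hbe
  have hπe : RepWith @Etale (Sheaf.toImage (j ≫ p2)) :=
    Groth.Agent.H52.repWith_etale_toImage _ hbe
  have hπs : RepWith @Surjective (Sheaf.toImage (j ≫ p2)) :=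
    Groth.Agent.H52.repWith_surjective_toImage _ hbe
  have hπι : Sheaf.toImage (j ≫ p2) ≫ Sheaf.imageι (j ≫ p2) = j ≫ p2 := Sheaf.toImage_ι _
  have sqU := IsPullback.of_hasPullback (Sheaf.imageι (j ≫ p2) ≫ f) ((yon S).map e)
  -- Step I: the base change is a scheme
  have hrepUT := isRepresentable_baseChange_of_imageRepAt IH hT hT' e he hn hX f hsep hqf p1 p2
    sq hV' j hj hU _ hι _ hπe hπs hπι _ _ sqU
  have hUT : IsAlgSpace (pullback (Sheaf.imageι (j ≫ p2) ≫ f) ((yon S).map e)) :=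
    Groth.Agent.H52.isAlgSpace_of_isPullback sqU hU (IsAlgSpace.yon_obj T) (IsAlgSpace.yon_obj T')
  -- Step I': it is quasi-affine
  have hsepιf : IsSeparatedMor (Sheaf.imageι (j ≫ p2) ≫ f) := by
    have hm : Mono (Sheaf.imageι (j ≫ p2)) := Groth.Agent.H52.mono_of_repWith _ @IsOpenImmersion
      (fun _ _ φ hφ => by have := hφ; infer_instance) hι
    exact Groth.Agent.H52.repWith_diagonal_comp @IsClosedImmersion _ _
      (Groth.Agent.H52.isSeparatedMor_of_repWith_mono _) hsep
  have hsepu2 : IsSeparatedMor (pullback.snd (Sheaf.imageι (j ≫ p2) ≫ f) ((yon S).map e)) :=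
    Groth.Agent.H52.repWith_diagonal_of_isPullback @IsClosedImmersion sqU hsepιf
  have hqfιf : LocP (@LocallyQuasiFinite ⊓ @LocallyOfFiniteType)
      (Sheaf.imageι (j ≫ p2) ≫ f) :=
    locP_precomp_isEtaleMor (isEtaleMor_of_repWith_isOpenImmersion hι) hqf
  have hqfu2 : LocP (@LocallyQuasiFinite ⊓ @LocallyOfFiniteType)
      (pullback.snd (Sheaf.imageι (j ≫ p2) ≫ f) ((yon S).map e)) :=
    Groth.Agent.H52.isEtLocal_lqf_lft.locP_of_isPullback hU (IsAlgSpace.yon_obj T)
      (IsAlgSpace.yon_obj T') sqU hqfιf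
  have hV'c : CompactSpace ↥V'.left := inferInstance
  have hUqc : IsQuasiCompactSp (Sheaf.image (j ≫ p2)) := ⟨V', _, hπe, hπs, hV'c⟩
  have heqc : IsQuasiCompactMor ((yon S).map e) :=
    Groth.Agent.H52.isQuasiCompactMor_of_repWith_quasiCompact _
      ((repWith_yon_map_iff _ _).2 (inferInstance : QuasiCompact e.left))
  have hUTqc : IsQuasiCompactSp (pullback (Sheaf.imageι (j ≫ p2) ≫ f) ((yon S).map e)) :=
    heqc hU hUqc _ _ _ sqU.flip
  obtain ⟨W, w, eW, hW, hw⟩ := exists_quasiAffine_iso_of_lqf hT' hrepUT _ hsepu2 hqfu2 hUTqc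
  have hqa := isQuasiAffineMor_of_iso_yon hT' hW w eW _ hw
  -- Step II: descend
  refine isRepresentable_of_quasiAffine_after_etale e he hU (Sheaf.imageι (j ≫ p2) ≫ f) ?_ _ _
    sqU hqa
  intro x
  obtain ⟨v, rfl⟩ := Groth.Agent.H53.surjective_ofPt_of_surjective _ hπs x
  refine ⟨τ.left v, ?_⟩
  rw [Points.map_ofPt, ← Category.assoc, hπι, Category.assoc, sq.w, ← Category.assoc, ← hτ,
    Groth.Agent.H53.ofPt_yon_map_comp]

theorem imageRepAt (n : ℕ) : ImageRepAt S n := by
  induction n with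
  | zero => exact imageRepAt_zero
  | succ n ih => exact imageRepAt_succ ih

/-- Stacks 0417 (core): let `X` be separated and locally quasi-finite over an affine scheme `T`,
`T' ⟶ T` étale with `T'` affine, and `V'` a quasi-affine open subscheme of `T' ×_T X`. Then the
image of `V'` in `X` is a scheme. -/
theorem isRepresentable_image_of_quasiAffine_over_etale {T T' : Over S} (hT : IsAffine T.left)
    (hT' : IsAffine T'.left) (e : T' ⟶ T) (he : Etale e.left) {X P : Sp S} (hX : IsAlgSpace X)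
    (f : X ⟶ (yon S).obj T) (hsep : IsSeparatedMor f)
    (hqf : LocP (@LocallyQuasiFinite ⊓ @LocallyOfFiniteType) f)
    (p1 : P ⟶ (yon S).obj T') (p2 : P ⟶ X) (sq : IsPullback p2 p1 f ((yon S).map e))
    {V' : Over S} (hV' : V'.left.IsQuasiAffine) (j : (yon S).obj V' ⟶ P)
    (hj : RepWith @IsOpenImmersion j) : (Sheaf.image (j ≫ p2)).obj.IsRepresentable := by
  have : LocallyQuasiFinite e.left := Groth.Agent.H53.locallyQuasiFinite_of_formallyUnramified e.left
  obtain ⟨n, hn⟩ := exists_fibBound_of_isAffine e.left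
  exact imageRepAt n hT hT' e he hn hX f hsep hqf p1 p2 sq hV' j hj

end Groth.Agent.Lib.Helper54
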