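import Groth.Agent.Lib.Helper54.MonoFibreProd
import Groth.Agent.H52.QFinFibre2
import Groth.Agent.H52.QC5
import Groth.Agent.H52.LocPInst

/-!
# Base change of "quasi-finite at a point" for morphisms of algebraic spaces, and finiteness of the fibre
of a fibre product over a pair of points
-/

set_option autoImplicit false
universe u
open AlgebraicGeometry CategoryTheory CategoryTheory.Limits
open AlgSp

namespace Groth.Agent.Lib.Helper54

variable {S : Scheme.{u}}

/-- Base change of a morphism that is locally quasi-finite and locally of finite type on an open neighbourhood. -/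
theorem lqf_lft_restrict_of_isPullback {F U G V : Scheme.{u}} {σ : F ⟶ U} {θ : F ⟶ G}
    {h : U ⟶ V} {τ : G ⟶ V} (sq : IsPullback σ θ h τ) (U' : U.Opens)
    (hq : LocallyQuasiFinite (U'.ι ≫ h)) (ht : LocallyOfFiniteType (U'.ι ≫ h)) :
    LocallyQuasiFinite ((σ ⁻¹ᵁ U').ι ≫ θ) ∧ LocallyOfFiniteType ((σ ⁻¹ᵁ U').ι ≫ θ) := by
  have left : IsPullback (σ ⁻¹ᵁ U').ι (σ ∣_ U') σ U'.ι := (isPullback_morphismRestrict σ U').flip
  have big := left.paste_horiz sq.flip
  exact ⟨MorphismProperty.of_isPullback big.flip hq, MorphismProperty.of_isPullback big.flip ht⟩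

/-- Quasi-finiteness at a point is stable under base change: if `W = X ×_Y Z` and `f : X ⟶ Y` is quasi-finite at the image
of `w` in `X`, then `q : W ⟶ Z` is quasi-finite at `w`. -/
theorem hasAtMor_quasiFinite_of_isPullback {X Y Z W : Sp S} (hZ : IsAlgSpace Z) {f : X ⟶ Y} {g : Z ⟶ Y}
    {p : W ⟶ X} {q : W ⟶ Z} (hW : IsPullback p q f g) (w : Points W)
    (hf : HasAtMor (fun U _ h u => ∃ W : U.Opens, u ∈ W ∧ LocallyQuasiFinite (W.ι ≫ h) ∧
      LocallyOfFiniteType (W.ι ≫ h)) f (Points.map p w)) :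
    HasAtMor (fun U _ h u => ∃ W : U.Opens, u ∈ W ∧ LocallyQuasiFinite (W.ι ≫ h) ∧
      LocallyOfFiniteType (W.ι ≫ h)) q w := by
  have : (RepWith (S := S) @Etale).IsMultiplicative := repWith_isMultiplicative _
  have : (RepWith (S := S) @Etale).IsStableUnderBaseChange := repWith_isStableUnderBaseChange _
  obtain ⟨U, V, a, b, h, u, ha, hb, hcomm, hu, U₀, huU₀, hq₀, hft₀⟩ := hf
  obtain ⟨Z₁, β, hβe, hβs⟩ := hZ.atlas
  -- the scheme `V' = V ×_Y Z₁`
  have sqV := hb.rep.isPullback (β ≫ g)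
  obtain ⟨τ, hτ⟩ := (yon S).map_surjective (hb.rep.fst (β ≫ g))
  rw [← hτ] at sqV
  have hσVe : Etale (hb.rep.snd (β ≫ g)).left := hb.property_snd (β ≫ g)
  -- the scheme `U' = U ×_V V'`
  have sqU₀ := IsPullback.of_hasPullback h τ
  have sqU := sqU₀.map (yon S)
  have sqsch : IsPullback (pullback.fst h τ).left (pullback.snd h τ).left h.left τ.left :=
    isPullback_left_of_isPullback_yon sqU
  have big1 : IsPullback ((yon S).map (pullback.snd h τ) ≫ (yon S).map (hb.rep.snd (β ≫ g)))
      ((yon S).map (pullback.fst h τ)) (β ≫ g) (a ≫ f) := by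
    rw [hcomm]
    exact sqU.flip.paste_horiz sqV.flip
  -- the chart `a' : h_{U'} ⟶ W`
  have comm' : ((yon S).map (pullback.fst h τ) ≫ a) ≫ f =
      ((yon S).map (pullback.snd h τ) ≫ (yon S).map (hb.rep.snd (β ≫ g)) ≫ β) ≫ g := by
    rw [Category.assoc, Category.assoc, Category.assoc]
    have := big1.w
    rw [Category.assoc] at this
    exact this.symm
  have ha'1 : hW.lift _ _ comm' ≫ p = (yon S).map (pullback.fst h τ) ≫ a := hW.lift_fst _ _ _
  have ha'2 : hW.lift _ _ comm' ≫ q =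
      (yon S).map (pullback.snd h τ) ≫ (yon S).map (hb.rep.snd (β ≫ g)) ≫ β := hW.lift_snd _ _ _
  -- `T' = h_U ×_X W`
  have sqT := IsPullback.of_hasPullback a p
  have hsnde : RepWith @Etale (pullback.snd a p) := MorphismProperty.of_isPullback sqT ha
  have bigT : IsPullback (pullback.snd a p ≫ q) (pullback.fst a p) g (a ≫ f) :=
    sqT.flip.paste_horiz hW.flip
  have hk1 : sqT.lift ((yon S).map (pullback.fst h τ)) (hW.lift _ _ comm') ha'1.symm ≫ pullback.fst a p =
      (yon S).map (pullback.fst h τ) := sqT.lift_fst _ _ _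
  have hk2 : sqT.lift ((yon S).map (pullback.fst h τ)) (hW.lift _ _ comm') ha'1.symm ≫ pullback.snd a p =
      hW.lift _ _ comm' := sqT.lift_snd _ _ _
  have topSq : IsPullback ((yon S).map (pullback.snd h τ) ≫ (yon S).map (hb.rep.snd (β ≫ g)))
      (sqT.lift ((yon S).map (pullback.fst h τ)) (hW.lift _ _ comm') ha'1.symm) β
      (pullback.snd a p ≫ q) := by
    refine IsPullback.of_bot ?_ ?_ bigT
    · rw [hk1]; exact big1
    · rw [← Category.assoc, hk2, ha'2, Category.assoc]
  have hke : RepWith @Etale (sqT.lift ((yon S).map (pullback.fst h τ)) (hW.lift _ _ comm') ha'1.symm) :=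
    MorphismProperty.of_isPullback topSq hβe
  have ha'e : RepWith @Etale (hW.lift _ _ comm') := by
    rw [← hk2]
    exact (RepWith (S := S) @Etale).comp_mem _ _ hke hsnde
  -- the points
  obtain ⟨t, ht1, ht2⟩ := exists_point_of_isPullback sqT (Points.ofScheme U u) w (by
    rw [← Points.ofPt_eq_map_ofScheme]; exact hu)
  obtain ⟨z₁, hz₁⟩ := Groth.Agent.H52.surjective_points_of_repWith_surjective β hβs
    (Points.map (pullback.snd a p ≫ q) t)
  obtain ⟨r, hr1, hr2⟩ := exists_point_of_isPullback topSq.flip t z₁ hz₁.symm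
  obtain ⟨u', rfl⟩ := exists_ofScheme_eq _ r
  have hu'w : Points.ofPt (hW.lift _ _ comm') u' = w := by
    rw [Points.ofPt_eq_map_ofScheme, ← hk2, Points.map_comp, hr1, ht2]
  have hu'u : (pullback.fst h τ).left u' = u := by
    apply (Points.schemeEquiv U).injective
    change Points.ofScheme U _ = Points.ofScheme U u
    rw [← Groth.Agent.H52.points_map_ofScheme, ← hk1, Points.map_comp, hr1, ht1]
  obtain ⟨hq₁, hft₁⟩ := lqf_lft_restrict_of_isPullback sqsch U₀ hq₀ hft₀
  have : LocallyQuasiFinite (hb.rep.snd (β ≫ g)).left := locallyQuasiFinite_of_etale _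
  refine ⟨pullback h τ, Z₁, hW.lift _ _ comm', β, pullback.snd h τ ≫ hb.rep.snd (β ≫ g), u', ha'e, hβe, ?_, hu'w,
    (pullback.fst h τ).left ⁻¹ᵁ U₀, ?_, ?_, ?_⟩
  · rw [ha'2, Functor.map_comp, Category.assoc]
  · change (pullback.fst h τ).left u' ∈ U₀
    rw [hu'u]; exact huU₀
  · change LocallyQuasiFinite (_ ≫ (pullback.snd h τ).left ≫ (hb.rep.snd (β ≫ g)).left)
    rw [← Category.assoc]
    infer_instance
  · change LocallyOfFiniteType (_ ≫ (pullback.snd h τ).left ≫ (hb.rep.snd (β ≫ g)).left)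
    rw [← Category.assoc]
    infer_instance

/-- Let `W = X ×_Y Z` be a fibre product of algebraic spaces, `x`, `z` points of `X`, `Z` over the same point of `Y`. If `f` is of
finite type and quasi-finite at `x`, then only finitely many points of `W` map to `x` and to `z`. -/
theorem finite_fibre_pullback_of_finiteType_quasiFiniteAt {X Y Z W : AlgSp.Space S} (f : X ⟶ Y)
    (g : Z ⟶ Y) (p : W ⟶ X) (q : W ⟶ Z) (hW : IsPullback p.hom q.hom f.hom g.hom) (x : AlgSp.Points X.obj)
    (z : AlgSp.Points Z.obj)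
    (hft : AlgSp.IsFiniteTypeMor f.hom)
    (hf : AlgSp.HasAtMor (fun U _ h u => ∃ W : U.Opens, u ∈ W ∧ LocallyQuasiFinite (W.ι ≫ h) ∧
      LocallyOfFiniteType (W.ι ≫ h)) f.hom x) :
    {w : AlgSp.Points W.obj | AlgSp.Points.map p.hom w = x ∧ AlgSp.Points.map q.hom w = z}.Finite := by
  have hqft : IsFiniteTypeMor q.hom :=
    ⟨Groth.Agent.H52.isEtLocal_lft.locP_of_isPullback X.property Y.property Z.property hW hft.1,
      Groth.Agent.H52.isQuasiCompactMor_of_isPullback hW hft.2⟩
  refine (Groth.Agent.H52.finite_setOf_quasiFiniteAt_over_point W.property Z.property q.hom hqft z).subset ?_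
  rintro w ⟨hwx, hwz⟩
  refine ⟨hwz, hasAtMor_quasiFinite_of_isPullback Z.property hW w ?_⟩
  rw [hwx]; exact hf

end Groth.Agent.Lib.Helper54
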