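import Groth.Agent.Lib.Helper54.EtaleField
import Groth.Agent.Lib.Helper54.MonoField
import Groth.Agent.Lib.Helper54.Points
import Groth.Agent.H53.FieldQuotPts
import Groth.Agent.H53.FieldQuotApp

/-!
# The fibre product `Spec κ(v) ×_X Spec κ(v')` for two points of an étale chart of a sheaf
-/

set_option autoImplicit false
set_option backward.isDefEq.respectTransparency false
universe u
open AlgebraicGeometry CategoryTheory CategoryTheory.Limits
open AlgSp

namespace Groth.Agent.Lib.Helper54

variable {S : Scheme.{u}}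

theorem residuePair_aux {X : Sp S} {U A : Over S} (φ : (yon S).obj U ⟶ X) (v v' : ↥U.left)
    (α : A ⟶ U) (β : A ⟶ residuePt U v)
    (sqA : IsPullback ((yon S).map α) ((yon S).map β) φ ((yon S).map (residueHom U v) ≫ φ))
    (hβe : Etale β.left) :
    ∃ (W : Over S) (s : W ⟶ residuePt U v) (t : W ⟶ residuePt U v'),
      IsPullback ((yon S).map s) ((yon S).map t) ((yon S).map (residueHom U v) ≫ φ)
        ((yon S).map (residueHom U v') ≫ φ) ∧ Etale s.left ∧
      ∀ (R : Over S) (sR tR : R ⟶ U), IsPullback ((yon S).map tR) ((yon S).map sR) φ φ →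
        ∃ j : W ⟶ R, Function.Injective j.left ∧ j ≫ tR = s ≫ residueHom U v ∧
          j ≫ sR = t ≫ residueHom U v' := by
  have sqW₀ := IsPullback.of_hasPullback α (residueHom U v')
  obtain ⟨W, pr1, pr2, sqW₀⟩ : ∃ (W : Over S) (pr1 : W ⟶ A) (pr2 : W ⟶ residuePt U v'),
      IsPullback pr1 pr2 α (residueHom U v') := ⟨_, _, _, sqW₀⟩
  have sqW := sqW₀.map (yon S)
  have big := sqW.paste_horiz sqA.flip
  have hmono1 : Mono pr1 := by
    have : Mono (residueHom U v') := inferInstance
    exact MorphismProperty.of_isPullback (P := MorphismProperty.monomorphisms (Over S)) sqW₀.flip this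
  have hmono2 : Mono pr1.left := inferInstance
  have hoi : IsOpenImmersion pr1.left := isOpenImmersion_of_mono_of_etale_field β.left pr1.left
  refine ⟨W, pr1 ≫ β, pr2, ?_, ?_, ?_⟩
  · rw [Functor.map_comp]; exact big
  · change Etale (pr1.left ≫ β.left)
    infer_instance
  · intro R sR tR sqR
    have hcomm : (yon S).map ((pr1 ≫ β) ≫ residueHom U v) ≫ φ =
        (yon S).map (pr2 ≫ residueHom U v') ≫ φ := by
      have := big.w
      rw [Functor.map_comp, Functor.map_comp, Functor.map_comp, Category.assoc, Category.assoc]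
      rw [Category.assoc] at this
      exact this
    obtain ⟨j, hj⟩ := (yon S).map_surjective (sqR.lift _ _ hcomm)
    have hj1 : j ≫ tR = (pr1 ≫ β) ≫ residueHom U v :=
      (yon S).map_injective (by rw [Functor.map_comp, hj, sqR.lift_fst])
    have hj2 : j ≫ sR = pr2 ≫ residueHom U v' :=
      (yon S).map_injective (by rw [Functor.map_comp, hj, sqR.lift_snd])
    refine ⟨j, ?_, hj1, hj2⟩
    have hjm : Mono j := by
      constructor
      intro T a b hab
      have e1 : a ≫ pr1 ≫ β = b ≫ pr1 ≫ β := by
        have h1 : (a ≫ j) ≫ tR = (b ≫ j) ≫ tR := by rw [hab]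
        rw [Category.assoc, Category.assoc, hj1] at h1
        have h1' : (a ≫ pr1 ≫ β) ≫ residueHom U v = (b ≫ pr1 ≫ β) ≫ residueHom U v := by
          simpa only [Category.assoc] using h1
        exact (cancel_mono (residueHom U v)).1 h1'
      have e2 : a ≫ pr2 = b ≫ pr2 := by
        have h1 : (a ≫ j) ≫ sR = (b ≫ j) ≫ sR := by rw [hab]
        rw [Category.assoc, Category.assoc, hj2] at h1
        have h1' : (a ≫ pr2) ≫ residueHom U v' = (b ≫ pr2) ≫ residueHom U v' := by
          simpa only [Category.assoc] using h1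
        exact (cancel_mono (residueHom U v')).1 h1'
      apply (yon S).map_injective
      apply big.hom_ext
      · simp only [← Functor.map_comp]; rw [e1]
      · simp only [← Functor.map_comp]; rw [e2]
    have : Mono j.left := inferInstance
    exact j.left.injective

/-- For an étale chart `φ : h_U ⟶ X` and points `v`, `v'` of `U`, the fibre product `Spec κ(v) ×_X Spec κ(v')` is a scheme `W`,
étale over `Spec κ(v)`, whose points inject into the points of `R = U ×_X U` over `(v, v')`. -/
theorem exists_residuePair {X : Sp S} {U : Over S} (φ : (yon S).obj U ⟶ X) (hφ : RepWith @Etale φ)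
    (v v' : ↥U.left) :
    ∃ (W : Over S) (s : W ⟶ residuePt U v) (t : W ⟶ residuePt U v'),
      IsPullback ((yon S).map s) ((yon S).map t) ((yon S).map (residueHom U v) ≫ φ)
        ((yon S).map (residueHom U v') ≫ φ) ∧ Etale s.left ∧
      ∀ (R : Over S) (sR tR : R ⟶ U), IsPullback ((yon S).map tR) ((yon S).map sR) φ φ →
        ∃ j : W ⟶ R, Function.Injective j.left ∧ j ≫ tR = s ≫ residueHom U v ∧
          j ≫ sR = t ≫ residueHom U v' := by
  have sqA := hφ.rep.isPullback ((yon S).map (residueHom U v) ≫ φ)
  obtain ⟨α, hα⟩ := (yon S).map_surjective (hφ.rep.fst ((yon S).map (residueHom U v) ≫ φ))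
  rw [← hα] at sqA
  have hβe : Etale (hφ.rep.snd ((yon S).map (residueHom U v) ≫ φ)).left := hφ.property_snd _
  exact residuePair_aux φ v v' α _ sqA hβe

end Groth.Agent.Lib.Helper54
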