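import Groth.Agent.Lib.Helper54.SplitFinite
import Groth.Agent.Lib.Helper54.QFinBaseChange
import Groth.Agent.Lib.Helper54.GenericFiniteSp3
import Groth.Agent.H52.LqfLocus
import Mathlib.AlgebraicGeometry.Limits

/-!
# Étale-local splitting off of a finite part at finitely many quasi-finite points (helper54)

Multi-point version of `SplitFinite`: for a separated morphism `f : X ⟶ Y` locally of finite type and finitely many
points `xs` over `y` at which `f` is quasi-finite, such that over every étale chart through `y` only finitely many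
points of the base change lie over the chart point and over `xs`, there is an étale neighbourhood `(T₁, t₁)` of `y`
such that `T₁ ×_Y X` has an open and closed subspace finite over `T₁` whose fibre over `t₁` consists exactly of the
points lying over `xs`.
-/

set_option autoImplicit false
universe u
open CategoryTheory CategoryTheory.Limits AlgebraicGeometry

namespace Groth.Agent.Lib.Helper54
open AlgSp

set_option backward.isDefEq.respectTransparency false in
theorem etale_coprodDesc {U V X : Scheme.{u}} (f : U ⟶ X) (g : V ⟶ X) [Etale f] [Etale g] :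
    Etale (coprod.desc f g) := by
  rw [IsZariskiLocalAtSource.iff_of_openCover (P := @Etale) (coprodOpenCover.{u, 0} U V)]
  rintro (_ | _)
  · simpa [coprodOpenCover] using ‹Etale f›
  · simpa [coprodOpenCover] using ‹Etale g›

theorem range_coprodDesc {U V X : Scheme.{u}} (f : U ⟶ X) (g : V ⟶ X) :
    Set.range (coprod.desc f g) = Set.range f ∪ Set.range g := by
  ext x
  constructor
  · rintro ⟨z, rfl⟩
    obtain ⟨(z | z), rfl⟩ := (coprodMk U V).surjective z
    · left
      refine ⟨z, ?_⟩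
      rw [coprodMk_inl, ← Scheme.Hom.comp_apply, coprod.inl_desc]
    · right
      refine ⟨z, ?_⟩
      rw [coprodMk_inr, ← Scheme.Hom.comp_apply, coprod.inr_desc]
  · rintro (⟨z, rfl⟩ | ⟨z, rfl⟩)
    · exact ⟨(coprod.inl : U ⟶ U ⨿ V) z, by rw [← Scheme.Hom.comp_apply, coprod.inl_desc]⟩
    · exact ⟨(coprod.inr : V ⟶ U ⨿ V) z, by rw [← Scheme.Hom.comp_apply, coprod.inr_desc]⟩

/-- A finite family of opens of `U'`, each finite over `T`, is the image of an étale morphism from a scheme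
finite over `T`. -/
theorem exists_finite_etale_of_finset {U' T : Scheme.{u}} (π : U' ⟶ T) (s : Finset U'.Opens)
    (hs : ∀ V ∈ s, IsFinite (V.ι ≫ π)) :
    ∃ (Z : Scheme.{u}) (ζ : Z ⟶ U'), Etale ζ ∧ IsFinite (ζ ≫ π) ∧
      Set.range ζ = ⋃ V ∈ s, (V : Set ↥U') := by
  classical
  induction s using Finset.induction_on with
  | empty =>
    refine ⟨⊥_ Scheme.{u}, initial.to _, inferInstance, inferInstance, ?_⟩
    simp only [Finset.notMem_empty, Set.iUnion_of_empty, Set.iUnion_empty]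
    exact Set.range_eq_empty _
  | insert V s hVs ih =>
    obtain ⟨Z, ζ, hζe, hζf, hζr⟩ := ih (fun V' hV' => hs V' (Finset.mem_insert_of_mem hV'))
    have hVf : IsFinite (V.ι ≫ π) := hs V (Finset.mem_insert_self V s)
    refine ⟨(V : Scheme.{u}) ⨿ Z, coprod.desc V.ι ζ, etale_coprodDesc _ _, ?_, ?_⟩
    · have : coprod.desc V.ι ζ ≫ π = coprod.desc (V.ι ≫ π) (ζ ≫ π) := by
        ext <;> simp
      rw [this]
      infer_instance
    · rw [range_coprodDesc, hζr, Finset.set_biUnion_insert]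
      congr 1
      exact Scheme.Opens.range_ι V

variable {S : Scheme.{u}}

set_option backward.isDefEq.respectTransparency false in
/-- Core of the multi-point étale splitting: everything happens over a fixed chart `U₀` of `Y` through `y`, a chart
`W₀` of the base change `P₀ = X ×_Y U₀` and finitely many points `xpt i` of `W₀` over `u₀` at which `W₀ ⟶ U₀` is
quasi-finite and which represent all points of `P₀` over `u₀` and `xs`. -/
theorem exists_etale_split_finite_core {X Y : Sp S} (hX : IsAlgSpace X) (hY : IsAlgSpace Y) (f : X ⟶ Y)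
    (xs : Set (Points X)) (hf2 : IsSeparatedMor f)
    {U₀ : Over S} (a₀ : (yon S).obj U₀ ⟶ Y) (u₀ : ↥U₀.left) (ha₀ : RepWith @Etale a₀)
    {P₀ : Sp S} (prX₀ : P₀ ⟶ X) (prU₀ : P₀ ⟶ (yon S).obj U₀) (sq₀ : IsPullback prX₀ prU₀ f a₀)
    {W₀ : Over S} (c₀ : (yon S).obj W₀ ⟶ P₀) (hc₀ : RepWith @Etale c₀) (g₀ : W₀ ⟶ U₀)
    (hg₀ : c₀ ≫ prU₀ = (yon S).map g₀) [LocallyOfFiniteType g₀.left]
    (n : ℕ) (xpt : Fin n → ↥W₀.left) (hinj : Function.Injective xpt) (hs : ∀ i, g₀.left (xpt i) = u₀)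
    (hqf : ∀ i, g₀.left.QuasiFiniteAt (xpt i))
    (hxs : ∀ i, Points.map prX₀ (Points.ofPt c₀ (xpt i)) ∈ xs)
    (hcovF : ∀ w : Points P₀, Points.map prX₀ w ∈ xs → Points.map prU₀ w = Points.ofScheme U₀ u₀ →
      ∃ i, Points.ofPt c₀ (xpt i) = w) :
    ∃ (T₁ : Over S) (a : (yon S).obj T₁ ⟶ Y) (t₁ : ↥T₁.left), IsEtaleMor a ∧
      Points.map a (Points.ofScheme T₁ t₁) = Points.ofPt a₀ u₀ ∧
      ∀ (P : Sp S) (prX : P ⟶ X) (prU : P ⟶ (yon S).obj T₁), IsPullback prX prU f a →
        ∃ (V : Sp S) (jV : V ⟶ P), IsAlgSpace V ∧ RepWith @IsOpenImmersion jV ∧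
          RepWith @IsClosedImmersion jV ∧ IsFiniteMor (jV ≫ prU) ∧
          (∀ v : Points V, Points.map (jV ≫ prU) v = Points.ofScheme T₁ t₁ →
            Points.map (jV ≫ prX) v ∈ xs) ∧
          ∀ w : Points P, w ∉ Set.range (Points.map jV) → Points.map prU w = Points.ofScheme T₁ t₁ →
            Points.map prX w ∉ xs := by
  classical
  have hE : (RepWith (S := S) @Etale).IsMultiplicative := repWith_isMultiplicative _
  have hBC : (RepWith (S := S) @Etale).IsStableUnderBaseChange := repWith_isStableUnderBaseChange _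
  obtain ⟨T₁s, e₁, t₁, he₁, ht₁, J, hJ, Vo, v, hV, -, hcov⟩ :=
    Groth.Agent.S1482.result g₀.left u₀ xpt hinj hs hqf
  -- objects over `S`
  let T₁ : Over S := Over.mk (e₁ ≫ U₀.hom)
  let e₁O : T₁ ⟶ U₀ := Over.homMk e₁ rfl
  let U' : Over S := Over.mk (pullback.fst g₀.left e₁ ≫ W₀.hom)
  let q1 : U' ⟶ W₀ := Over.homMk (pullback.fst g₀.left e₁) rfl
  let q2 : U' ⟶ T₁ := Over.homMk (pullback.snd g₀.left e₁) (by
    change pullback.snd g₀.left e₁ ≫ e₁ ≫ U₀.hom = pullback.fst g₀.left e₁ ≫ W₀.hom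
    rw [← Over.w g₀, ← Category.assoc, ← Category.assoc, ← pullback.condition])
  have sqU' : IsPullback q1 q2 g₀ e₁O := by
    refine IsPullback.of_map (Over.forget S) ?_ ?_
    · ext1
      exact pullback.condition
    · exact IsPullback.of_hasPullback g₀.left e₁
  -- the finite family of opens
  haveI : ∀ i, Finite (J i) := hJ
  let sV : Finset (pullback g₀.left e₁).Opens :=
    (Set.finite_range (fun p : Σ i, J i => Vo p.1 p.2)).toFinset
  have hsV : ∀ V ∈ sV, IsFinite (V.ι ≫ pullback.snd g₀.left e₁) := by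
    intro V hV'
    obtain ⟨p, rfl⟩ := (Set.Finite.mem_toFinset _).1 hV'
    exact (hV p.1 p.2).2.1
  obtain ⟨Zs, ζ, hζe, hζf, hζr⟩ := exists_finite_etale_of_finset (pullback.snd g₀.left e₁) sV hsV
  have hζr' : ∀ z : ↥(pullback g₀.left e₁), z ∈ Set.range ζ ↔ ∃ i j, z ∈ Vo i j := by
    intro z
    rw [hζr]
    simp only [Set.mem_iUnion, SetLike.mem_coe, exists_prop]
    constructor
    · rintro ⟨V, hV', hz⟩
      obtain ⟨p, rfl⟩ := (Set.Finite.mem_toFinset _).1 hV'
      exact ⟨p.1, p.2, hz⟩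
    · rintro ⟨i, j, hz⟩
      exact ⟨Vo i j, (Set.Finite.mem_toFinset _).2 ⟨⟨i, j⟩, rfl⟩, hz⟩
  let ZO : Over S := Over.mk (ζ ≫ U'.hom)
  let ζO : ZO ⟶ U' := Over.homMk ζ rfl
  let πZ : ZO ⟶ T₁ := ζO ≫ q2
  have hπZfin : IsFinite πZ.left := hζf
  obtain ⟨a, hadef⟩ : ∃ a : (yon S).obj T₁ ⟶ Y, a = (yon S).map e₁O ≫ a₀ := ⟨_, rfl⟩
  have hae : RepWith @Etale a := by
    rw [hadef]
    exact (RepWith (S := S) @Etale).comp_mem _ _ ((repWith_yon_map_iff _ _).2 he₁) ha₀
  have haet : IsEtaleMor a := fun _ φ hφ => (RepWith (S := S) @Etale).comp_mem _ _ hφ hae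
  refine ⟨T₁, a, t₁, haet, ?_, ?_⟩
  · rw [← Points.ofPt_eq_map_ofScheme, hadef, Groth.Agent.H53.ofPt_yon_map_comp]
    congr 1
  · intro P prX prU sqP
    have hP : IsAlgSpace P :=
      Groth.Agent.H52.isAlgSpace_of_isPullback sqP hX hY (IsAlgSpace.yon_obj T₁)
    have hsepU : IsSeparatedMor prU :=
      Groth.Agent.H52.repWith_diagonal_of_isPullback @IsClosedImmersion sqP hf2
    -- the comparison `k : P ⟶ P₀`
    have hkw : prX ≫ f = (prU ≫ (yon S).map e₁O) ≫ a₀ := by
      rw [Category.assoc, ← hadef]; exact sqP.w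
    obtain ⟨k, hk1, hk2⟩ : ∃ k : P ⟶ P₀, k ≫ prX₀ = prX ∧ k ≫ prU₀ = prU ≫ (yon S).map e₁O :=
      ⟨sq₀.lift _ _ hkw, sq₀.lift_fst _ _ _, sq₀.lift_snd _ _ _⟩
    have sqK : IsPullback k prU prU₀ ((yon S).map e₁O) := by
      refine IsPullback.of_right ?_ hk2 sq₀
      rw [hk1, ← hadef]
      exact sqP
    -- the chart `c' : h_{U'} ⟶ P`
    have hcw : ((yon S).map q1 ≫ c₀) ≫ prU₀ = (yon S).map q2 ≫ (yon S).map e₁O := by
      rw [Category.assoc, hg₀, ← Functor.map_comp, ← Functor.map_comp, sqU'.w]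
    obtain ⟨c', hc'1, hc'2⟩ : ∃ c' : (yon S).obj U' ⟶ P,
        c' ≫ k = (yon S).map q1 ≫ c₀ ∧ c' ≫ prU = (yon S).map q2 :=
      ⟨sqK.lift _ _ hcw, sqK.lift_fst _ _ _, sqK.lift_snd _ _ _⟩
    have sqC : IsPullback ((yon S).map q1) c' c₀ k := by
      have big : IsPullback ((yon S).map q1) (c' ≫ prU) (c₀ ≫ prU₀) ((yon S).map e₁O) := by
        rw [hc'2, hg₀]
        exact sqU'.map (yon S)
      exact IsPullback.of_bot big hc'1.symm sqK
    have hc'e : RepWith @Etale c' := MorphismProperty.of_isPullback sqC hc₀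
    obtain ⟨cV, hcVdef⟩ : ∃ cV : (yon S).obj ZO ⟶ P, cV = (yon S).map ζO ≫ c' := ⟨_, rfl⟩
    have hcVe : RepWith @Etale cV := by
      rw [hcVdef]
      exact (RepWith (S := S) @Etale).comp_mem _ _ ((repWith_yon_map_iff _ _).2 hζe) hc'e
    have hcVU : cV ≫ prU = (yon S).map πZ := by
      rw [hcVdef, Category.assoc, hc'2, ← Functor.map_comp]
    obtain ⟨hcl, hfinV⟩ := clopen_finite_image hP prU hsepU cV hcVe πZ hcVU hπZfin
    have hej : Sheaf.toImage cV ≫ Sheaf.imageι cV = cV := Sheaf.toImage_ι cV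
    have hsurjI : Function.Surjective (Points.map (Sheaf.toImage cV)) :=
      Groth.Agent.H52.surjective_points_of_repWith_surjective _
        (Groth.Agent.H52.repWith_surjective_toImage cV hcVe)
    refine ⟨Sheaf.image cV, Sheaf.imageι cV, Groth.Agent.H52.isAlgSpace_image hP cV hcVe,
      Groth.Agent.H52.repWith_isOpenImmersion_imageι cV hcVe, hcl, hfinV, ?_, ?_⟩
    · intro pt hpt
      obtain ⟨r, rfl⟩ := hsurjI pt
      obtain ⟨z, rfl⟩ := exists_ofScheme_eq _ r
      rw [← Points.map_comp, ← Category.assoc, hej] at hpt ⊢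
      rw [hcVU, Groth.Agent.H52.points_map_ofScheme] at hpt
      have hz1 : pullback.snd g₀.left e₁ (ζ z) = t₁ := (Points.schemeEquiv T₁).injective hpt
      obtain ⟨i, j, hzV⟩ := (hζr' (ζ z)).1 ⟨z, rfl⟩
      have hzv : ζ z = v i j := (hV i j).2.2.2.1 (ζ z) hzV hz1
      have hcVk : cV ≫ k = (yon S).map (ζO ≫ q1) ≫ c₀ := by
        rw [hcVdef, Category.assoc, hc'1, ← Category.assoc, ← Functor.map_comp]
      rw [← hk1, ← Category.assoc, hcVk, Points.map_comp, ← Points.ofPt_eq_map_ofScheme,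
        Groth.Agent.H53.ofPt_yon_map_comp]
      have : (ζO ≫ q1).left z = xpt i := by
        change pullback.fst g₀.left e₁ (ζ z) = xpt i
        rw [hzv]
        exact (hV i j).2.2.2.2.2
      rw [this]
      exact hxs i
    · intro w hw hwU hwX
      apply hw
      have h1 : Points.map prX₀ (Points.map k w) ∈ xs := by
        rw [← Points.map_comp, hk1]; exact hwX
      have h2 : Points.map prU₀ (Points.map k w) = Points.ofScheme U₀ u₀ := by
        rw [← Points.map_comp, hk2, Points.map_comp, hwU, Groth.Agent.H52.points_map_ofScheme]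
        congr 1
      obtain ⟨i, hi⟩ := hcovF _ h1 h2
      obtain ⟨r, hr1, hr2⟩ := exists_point_of_isPullback sqC (Points.ofScheme W₀ (xpt i)) w (by
        rw [← Points.ofPt_eq_map_ofScheme]; exact hi)
      obtain ⟨u', rfl⟩ := exists_ofScheme_eq _ r
      rw [Groth.Agent.H52.points_map_ofScheme] at hr1
      have hq1 : pullback.fst g₀.left e₁ u' = xpt i := (Points.schemeEquiv W₀).injective hr1
      have hq2 : pullback.snd g₀.left e₁ u' = t₁ := by
        apply (Points.schemeEquiv T₁).injective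
        change Points.ofScheme T₁ (q2.left u') = Points.ofScheme T₁ t₁
        rw [← Groth.Agent.H52.points_map_ofScheme, ← hc'2, Points.map_comp, hr2, hwU]
      obtain ⟨j, hj⟩ := hcov u' i hq2 hq1
      obtain ⟨z, hz⟩ := (hζr' u').2 ⟨i, j, by rw [hj]; exact (hV i j).1⟩
      refine ⟨Points.map (Sheaf.toImage cV) (Points.ofScheme ZO z), ?_⟩
      rw [← Points.map_comp, hej, hcVdef, Points.map_comp, Groth.Agent.H52.points_map_ofScheme, ← hr2]
      congr 2

set_option backward.isDefEq.respectTransparency false in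
/-- Étale localisation at finitely many quasi-finite points: sheaf-level form of S10676, with the finiteness
of the set of points over the chart point and `xs` as a hypothesis. -/
theorem exists_etale_split_finite_multi {X Y : Sp S} (hX : IsAlgSpace X) (hY : IsAlgSpace Y) (f : X ⟶ Y)
    (y : Points Y) (xs : Set (Points X))
    (hf1 : LocP @LocallyOfFiniteType f) (hf2 : IsSeparatedMor f)
    (hf3 : ∀ x ∈ xs, HasAtMor (fun U _ h u => ∃ W : U.Opens, u ∈ W ∧ LocallyQuasiFinite (W.ι ≫ h) ∧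
      LocallyOfFiniteType (W.ι ≫ h)) f x)
    (hfin : ∀ (U₀ : Over S) (a₀ : (yon S).obj U₀ ⟶ Y) (u₀ : ↥U₀.left), RepWith @Etale a₀ →
      Points.ofPt a₀ u₀ = y → ∀ (P : Sp S) (prX : P ⟶ X) (prU : P ⟶ (yon S).obj U₀),
        IsPullback prX prU f a₀ →
          {w : Points P | Points.map prX w ∈ xs ∧ Points.map prU w = Points.ofScheme U₀ u₀}.Finite) :
    ∃ (T₁ : Over S) (a : (yon S).obj T₁ ⟶ Y) (t₁ : ↥T₁.left), IsEtaleMor a ∧
      Points.map a (Points.ofScheme T₁ t₁) = y ∧
      ∀ (P : Sp S) (prX : P ⟶ X) (prU : P ⟶ (yon S).obj T₁), IsPullback prX prU f a →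
        ∃ (V : Sp S) (jV : V ⟶ P), IsAlgSpace V ∧ RepWith @IsOpenImmersion jV ∧
          RepWith @IsClosedImmersion jV ∧ IsFiniteMor (jV ≫ prU) ∧
          (∀ v : Points V, Points.map (jV ≫ prU) v = Points.ofScheme T₁ t₁ →
            Points.map (jV ≫ prX) v ∈ xs) ∧
          ∀ w : Points P, w ∉ Set.range (Points.map jV) → Points.map prU w = Points.ofScheme T₁ t₁ →
            Points.map prX w ∉ xs := by
  classical
  have hE : (RepWith (S := S) @Etale).IsMultiplicative := repWith_isMultiplicative _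
  -- the first chart
  obtain ⟨U₀, a₀, u₀, ha₀, hu₀⟩ := Groth.Agent.H52.exists_chart_through_point hY y
  have sq₀ := IsPullback.of_hasPullback f a₀
  have hP₀ : IsAlgSpace (pullback f a₀) :=
    Groth.Agent.H52.isAlgSpace_of_isPullback sq₀ hX hY (IsAlgSpace.yon_obj U₀)
  have hF := hfin U₀ a₀ u₀ ha₀ hu₀ _ _ _ sq₀
  have hlft₀ : LocP @LocallyOfFiniteType (pullback.snd f a₀) :=
    Groth.Agent.H52.isEtLocal_lft.locP_of_isPullback hX hY (IsAlgSpace.yon_obj U₀) sq₀ hf1
  -- a chart of `P₀` containing the finitely many points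
  obtain ⟨W₀, c₀, hc₀e, -, hFsub⟩ := exists_compact_chart_of_finite hP₀ _ hF
  obtain ⟨g₀, hg₀⟩ := (yon S).map_surjective (c₀ ≫ pullback.snd f a₀)
  have hid : RepWith @Etale (𝟙 ((yon S).obj U₀)) := Groth.Agent.H52.repWith_of_isIso _ _
  have hcomm₀ : c₀ ≫ pullback.snd f a₀ = (yon S).map g₀ ≫ 𝟙 _ := by rw [Category.comp_id, hg₀]
  have hg₀lft : LocallyOfFiniteType g₀.left := hlft₀ c₀ (𝟙 _) g₀ hc₀e hid hcomm₀
  -- enumerate the points
  haveI : Finite ↥{w : Points (pullback f a₀) | Points.map (pullback.fst f a₀) w ∈ xs ∧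
      Points.map (pullback.snd f a₀) w = Points.ofScheme U₀ u₀} := hF.to_subtype
  obtain ⟨n, ⟨e⟩⟩ := Finite.exists_equiv_fin ↥{w : Points (pullback f a₀) |
    Points.map (pullback.fst f a₀) w ∈ xs ∧ Points.map (pullback.snd f a₀) w = Points.ofScheme U₀ u₀}
  choose lift hlift using fun w : ↥{w : Points (pullback f a₀) |
    Points.map (pullback.fst f a₀) w ∈ xs ∧ Points.map (pullback.snd f a₀) w = Points.ofScheme U₀ u₀} =>
      hFsub w.2
  have hxpt : ∀ i, Points.ofPt c₀ (lift (e.symm i)) = (e.symm i).1 := fun i => hlift _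
  have hinj : Function.Injective fun i => lift (e.symm i) := by
    intro i i' h
    have h' : (e.symm i).1 = (e.symm i').1 := by rw [← hxpt i, ← hxpt i']; exact congrArg _ h
    exact e.symm.injective (Subtype.ext h')
  have hs : ∀ i, g₀.left (lift (e.symm i)) = u₀ := by
    intro i
    apply (Points.schemeEquiv U₀).injective
    change Points.ofScheme U₀ _ = Points.ofScheme U₀ u₀
    rw [← Groth.Agent.H52.points_map_ofScheme, hg₀, Points.map_comp, ← Points.ofPt_eq_map_ofScheme, hxpt i]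
    exact (e.symm i).2.2
  have hqf : ∀ i, g₀.left.QuasiFiniteAt (lift (e.symm i)) := by
    intro i
    have h1 := hasAtMor_quasiFinite_of_isPullback (IsAlgSpace.yon_obj U₀) sq₀ (e.symm i).1
      (hf3 _ (e.symm i).2.1)
    have h2 := (Groth.Agent.H52.mem_lqfLocus_iff_hasAtMor_nhd hP₀ (IsAlgSpace.yon_obj U₀) _ hlft₀ _).2 h1
    have h3 := (Groth.Agent.H52.mem_lqfLocus_iff_forall hP₀ (IsAlgSpace.yon_obj U₀) _ _).1 h2
      c₀ (𝟙 _) g₀ (lift (e.symm i)) hc₀e hid hcomm₀ (hxpt i)
    exact (Groth.Agent.H52.fibreDimAt_eq_zero_iff_quasiFiniteAt g₀.left _).1 h3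
  obtain ⟨T₁, a, t₁, haet, hat, H⟩ := exists_etale_split_finite_core hX hY f xs hf2 a₀ u₀ ha₀
    (pullback.fst f a₀) (pullback.snd f a₀) sq₀ c₀ hc₀e g₀ hg₀.symm n (fun i => lift (e.symm i)) hinj hs hqf
    (fun i => by rw [hxpt i]; exact (e.symm i).2.1)
    (fun w hw1 hw2 => ⟨e ⟨w, hw1, hw2⟩, by rw [hxpt, Equiv.symm_apply_apply]⟩)
  exact ⟨T₁, a, t₁, haet, hat.trans hu₀, H⟩

end Groth.Agent.Lib.Helper54
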