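import Groth.Agent.Lib.Helper54.ThickH1

/-!
# The square zero lifting theorem in terms of pushout squares of commutative rings
-/

set_option autoImplicit false
set_option linter.style.haveILetI false
set_option backward.isDefEq.respectTransparency false
universe u
open CategoryTheory CategoryTheory.Limits TensorProduct

namespace Groth.Agent.Lib.Helper54

/-- In a pushout square of commutative rings with a surjective leg `πB`, the opposite leg `πC` is
surjective and its kernel is generated by the kernel of `πB`. -/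
theorem ker_eq_map_of_isPushout {B1 C1 B0 C0 : CommRingCat.{u}} {t : B1 ⟶ C1} {πB : B1 ⟶ B0}
    {πC : C1 ⟶ C0} {t0 : B0 ⟶ C0} (h : IsPushout t πB πC t0)
    (hπ : Function.Surjective πB.hom) :
    RingHom.ker πC.hom = (RingHom.ker πB.hom).map t.hom ∧ Function.Surjective πC.hom := by
  have hw : ∀ x, πC.hom (t.hom x) = t0.hom (πB.hom x) := fun x => by
    have := congrArg (fun φ => φ.hom x) h.w
    simpa using this
  constructor
  · apply le_antisymm
    · intro x hx
      let I := RingHom.ker πB.hom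
      let mk := Ideal.Quotient.mk (I.map t.hom)
      let ψ₀ : B1 ⧸ I →+* C1 ⧸ I.map t.hom :=
        Ideal.Quotient.lift I (mk.comp t.hom) (fun i hi => by
          rw [RingHom.comp_apply, Ideal.Quotient.eq_zero_iff_mem]
          exact Ideal.mem_map_of_mem _ hi)
      let ψ : B0 →+* C1 ⧸ I.map t.hom :=
        ψ₀.comp (RingHom.quotientKerEquivOfSurjective hπ).symm.toRingHom
      have hψ : ∀ y, ψ (πB.hom y) = mk (t.hom y) := by
        intro y
        change ψ₀ ((RingHom.quotientKerEquivOfSurjective hπ).symm (πB.hom y)) = _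
        have : (RingHom.quotientKerEquivOfSurjective hπ).symm (πB.hom y) =
            Ideal.Quotient.mk I y := by
          rw [RingEquiv.symm_apply_eq]
          rfl
        rw [this]
        rfl
      have hcomm : t ≫ CommRingCat.ofHom mk = πB ≫ CommRingCat.ofHom ψ := by
        ext y
        exact (hψ y).symm
      have hd := h.inl_desc (CommRingCat.ofHom mk) (CommRingCat.ofHom ψ) hcomm
      have hx' : mk x = 0 := by
        have := congrArg (fun φ => φ.hom x) hd
        simp only [CommRingCat.hom_comp, RingHom.comp_apply, CommRingCat.hom_ofHom] at this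
        rw [← this, (RingHom.mem_ker).1 hx, map_zero]
      exact Ideal.Quotient.eq_zero_iff_mem.1 hx'
    · rw [Ideal.map_le_iff_le_comap]
      intro i hi
      rw [Ideal.mem_comap, RingHom.mem_ker, hw, (RingHom.mem_ker).1 hi, map_zero]
  · have hcl := CommRingCat.closure_range_union_range_eq_top_of_isPushout h
    have hsub : Set.range t0.hom ⊆ Set.range πC.hom := by
      rintro _ ⟨y, rfl⟩
      obtain ⟨y', rfl⟩ := hπ y
      exact ⟨t.hom y', hw y'⟩
    have h2 : Subring.closure (Set.range πC.hom ∪ Set.range t0.hom) ≤ πC.hom.range := by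
      rw [Subring.closure_le]
      rintro z (hz | hz)
      · exact hz
      · exact hsub hz
    intro z
    have : z ∈ πC.hom.range := h2 (by
      change z ∈ Subring.closure (Set.range ⇑(ConcreteCategory.hom πC) ∪ Set.range ⇑(ConcreteCategory.hom t0)) at *
      rw [hcl]; trivial)
    exact this

/-- A pushout of commutative rings is the tensor product. -/
theorem exists_equiv_tensor_of_isPushout {A B C X : CommRingCat.{u}} {f : A ⟶ B} {g : A ⟶ C}
    {a : B ⟶ X} {b : C ⟶ X} (H : IsPushout f g a b) :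
    letI := f.hom.toAlgebra
    letI := g.hom.toAlgebra
    ∃ e : X ≃+* B ⊗[A] C, (∀ x, e (a.hom x) = x ⊗ₜ 1) ∧ (∀ y, e (b.hom y) = 1 ⊗ₜ y) := by
  letI := f.hom.toAlgebra
  letI := g.hom.toAlgebra
  have H0 := CommRingCat.isPushout_tensorProduct A B C
  have H' : IsPushout (CommRingCat.ofHom (algebraMap A B)) (CommRingCat.ofHom (algebraMap A C)) a b := H
  let E := H0.isoIsPushout B C H'
  refine ⟨E.commRingCatIsoToRingEquiv.symm, fun x => ?_, fun y => ?_⟩
  · rw [RingEquiv.symm_apply_eq]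
    have := congrArg (fun φ => φ.hom x) (H0.inl_isoIsPushout_hom B C H')
    exact this.symm
  · rw [RingEquiv.symm_apply_eq]
    have := congrArg (fun φ => φ.hom y) (H0.inr_isoIsPushout_hom B C H')
    exact this.symm

/-- Invariant functions lift along a square zero thickening: formulation by pushout squares of
commutative rings (as produced by pullback squares of affine schemes). -/
theorem exists_invariant_lift' {A0 B0 C0 D0 B1 C1 D1 : CommRingCat.{u}}
    (f : A0 ⟶ B0) (s0 t0 : B0 ⟶ C0) (u12 : C0 ⟶ D0) (u3 : B0 ⟶ D0)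
    (πB : B1 ⟶ B0) (πC : C1 ⟶ C0) (πD : D1 ⟶ D0) (s t : B1 ⟶ C1) (p12 p13 p23 : C1 ⟶ D1)
    (P1 : IsPushout f f s0 t0) (P2 : IsPushout (f ≫ s0) f u12 u3)
    (P3 : IsPushout t πB πC t0) (P4 : IsPushout (t ≫ p23) πB πD u3)
    (c1 : s ≫ πC = πB ≫ s0) (c2 : p12 ≫ πD = πC ≫ u12)
    (e1 : s ≫ p12 = s ≫ p13) (e2 : t ≫ p12 = s ≫ p23) (e3 : t ≫ p23 = t ≫ p13)
    (hf : f.hom.FaithfullyFlat) (ht : t.hom.Flat) (hq : (t ≫ p23).hom.Flat)
    (hπ : Function.Surjective πB.hom)
    (hsq : ∀ x y, x ∈ RingHom.ker πB.hom → y ∈ RingHom.ker πB.hom → x * y = 0) (a : A0) :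
    ∃ b : B1, πB.hom b = f.hom a ∧ s.hom b = t.hom b := by
  letI : Algebra A0 B0 := f.hom.toAlgebra
  haveI : Module.FaithfullyFlat A0 B0 := hf
  obtain ⟨eC, heC1, heC2⟩ := exists_equiv_tensor_of_isPushout P1
  letI : Algebra A0 C0 := (f ≫ s0).hom.toAlgebra
  obtain ⟨eD₀, heD1, heD2⟩ := exists_equiv_tensor_of_isPushout P2
  let eCa : C0 ≃ₐ[A0] B0 ⊗[A0] B0 :=
    { eC with
      commutes' := fun r => by
        change eC (s0.hom (f.hom r)) = _
        rw [heC1]
        rfl }
  let cg : C0 ⊗[A0] B0 ≃ₐ[A0] (B0 ⊗[A0] B0) ⊗[A0] B0 :=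
    Algebra.TensorProduct.congr eCa AlgEquiv.refl
  have hcg : ∀ (c : C0) (y : B0), cg (c ⊗ₜ y) = eC c ⊗ₜ y := fun c y => rfl
  let πC' : C1 →+* B0 ⊗[A0] B0 := eC.toRingHom.comp πC.hom
  let πD' : D1 →+* (B0 ⊗[A0] B0) ⊗[A0] B0 :=
    (cg : C0 ⊗[A0] B0 →+* (B0 ⊗[A0] B0) ⊗[A0] B0).comp (eD₀.toRingHom.comp πD.hom)
  have hc1 : ∀ x, πC.hom (s.hom x) = s0.hom (πB.hom x) := fun x => by
    have := congrArg (fun φ => φ.hom x) c1
    exact this
  have hc2 : ∀ x, πD.hom (p12.hom x) = u12.hom (πC.hom x) := fun x => by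
    have := congrArg (fun φ => φ.hom x) c2
    exact this
  have hw3 : ∀ x, πC.hom (t.hom x) = t0.hom (πB.hom x) := fun x => by
    have := congrArg (fun φ => φ.hom x) P3.w
    exact this
  have hw4 : ∀ x, πD.hom (p23.hom (t.hom x)) = u3.hom (πB.hom x) := fun x => by
    have := congrArg (fun φ => φ.hom x) P4.w
    exact this
  obtain ⟨kC, -⟩ := ker_eq_map_of_isPushout P3 hπ
  obtain ⟨kD, -⟩ := ker_eq_map_of_isPushout P4 hπ
  refine exists_invariant_lift πB.hom πC' πD' s.hom t.hom p12.hom p13.hom p23.hom hπ hsq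
    ?_ ?_ ?_ ?_ ?_ ?_ ?_ ht hq ?_ ?_ a
  · intro x
    change eC (πC.hom (s.hom x)) = _
    rw [hc1, heC1]
  · intro x
    change eC (πC.hom (t.hom x)) = _
    rw [hw3, heC2]
  · intro c
    change cg (eD₀ (πD.hom (p12.hom c))) = _
    rw [hc2, heD1, hcg]
    rfl
  · intro x
    change cg (eD₀ (πD.hom (p23.hom (t.hom x)))) = _
    rw [hw4, heD2, hcg, map_one]
  · intro x
    exact congrArg (fun φ => φ.hom x) e1
  · intro x
    exact congrArg (fun φ => φ.hom x) e2
  · intro x
    exact congrArg (fun φ => φ.hom x) e3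
  · rw [← kC]
    ext x
    change eC (πC.hom x) = 0 ↔ πC.hom x = 0
    exact eC.map_eq_zero_iff
  · rw [show p23.hom.comp t.hom = (t ≫ p23).hom from rfl, ← kD]
    ext x
    change cg (eD₀ (πD.hom x)) = 0 ↔ πD.hom x = 0
    rw [map_eq_zero_iff cg cg.injective]
    exact eD₀.map_eq_zero_iff

end Groth.Agent.Lib.Helper54
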