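import Mathlib

/-!
# Finitely generated approximation of invariant ideals
-/

set_option autoImplicit false

namespace Groth.Agent.Lib.Helper54

variable {B C : Type*} [CommRing B] [CommRing C]

/-- A finitely generated ideal inside the extension of `J` is inside the extension of a finitely
generated subideal of `J`. -/
theorem exists_fg_le_of_le_map (s : B →+* C) (J : Ideal B) (D : Ideal C) (hD : D.FG)
    (hle : D ≤ J.map s) : ∃ J₀ : Ideal B, J₀.FG ∧ J₀ ≤ J ∧ D ≤ J₀.map s := by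
  classical
  revert hle
  refine Submodule.fg_induction (R := C) (M := C) (motive := fun D _ => D ≤ J.map s →
    ∃ J₀ : Ideal B, J₀.FG ∧ J₀ ≤ J ∧ D ≤ J₀.map s) ?_ ?_ D hD
  · intro x hx
    have hx' : x ∈ Ideal.span (s '' (J : Set B)) := hx (Submodule.mem_span_singleton_self x)
    obtain ⟨T, hT, hxT⟩ := Submodule.mem_span_finite_of_mem_span hx'
    obtain ⟨F, hF, hFT⟩ := Finset.subset_set_image_iff.1 hT
    subst hFT
    refine ⟨Ideal.span (F : Set B), ⟨F, rfl⟩, Ideal.span_le.2 hF, ?_⟩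
    rw [Ideal.map_span, Submodule.span_singleton_le_iff_mem]
    simpa using hxT
  · intro D₁ D₂ _ _ h₁ h₂ hle
    obtain ⟨J₁, hJ₁fg, hJ₁le, hD₁⟩ := h₁ (le_sup_left.trans hle)
    obtain ⟨J₂, hJ₂fg, hJ₂le, hD₂⟩ := h₂ (le_sup_right.trans hle)
    refine ⟨J₁ ⊔ J₂, Submodule.FG.sup hJ₁fg hJ₂fg, sup_le hJ₁le hJ₂le, ?_⟩
    rw [Ideal.map_sup]
    exact sup_le_sup hD₁ hD₂

/-- For an ideal `J` with `J.map s = J.map t` and a finitely generated ideal `D` inside `J.map s`,
there is a finitely generated `J₀' ≤ J` such that `D` lies in the extension along `s` of the ideal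
of all `b` with `t b ∈ J₀'.map s`. -/
theorem exists_fg_invariant_approx (s t : B →+* C) (J : Ideal B) (hJ : J.map s = J.map t)
    (D : Ideal C) (hD : D.FG) (hle : D ≤ J.map s) :
    ∃ J₀' : Ideal B, J₀'.FG ∧ J₀' ≤ J ∧ D ≤ ((J₀'.map s).comap t).map s := by
  obtain ⟨J₀, hJ₀fg, hJ₀le, hD₀⟩ := exists_fg_le_of_le_map s J D hD hle
  have h1 : J₀.map t ≤ J.map s := by
    rw [hJ]; exact Ideal.map_mono hJ₀le
  obtain ⟨J₀', hfg, hle', h2⟩ := exists_fg_le_of_le_map s J (J₀.map t) (hJ₀fg.map t) h1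
  refine ⟨J₀', hfg, hle', hD₀.trans (Ideal.map_mono ?_)⟩
  rw [← Ideal.map_le_iff_le_comap]
  exact h2

end Groth.Agent.Lib.Helper54
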