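import Groth.Agent.Lib.Helper54.ThickT1
import Groth.Agent.Lib.Helper54.AffineDescent
import Groth.Agent.Lib.Helper54.ThickAlg2

/-!
# Base change of an etale presentation along a thickening
-/

set_option autoImplicit false
set_option backward.isDefEq.respectTransparency false
universe u
open CategoryTheory CategoryTheory.Limits AlgebraicGeometry
open AlgSp

namespace Groth.Agent.Lib.Helper54

variable {S : Scheme.{u}} {X' : Sp S} {T : Over S} (c : (yon S).obj T ⟶ X')

theorem exists_thick_baseChange (hc : IsThickMor c) {Z : Over S} (z : (yon S).obj Z ⟶ X') :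
    ∃ (ZT : Over S) (fZ : ZT ⟶ T) (sZ : ZT ⟶ Z),
      IsPullback ((yon S).map fZ) ((yon S).map sZ) c z ∧ thick sZ.left := by
  have hrep := hc.rep
  obtain ⟨fZ, hfZ⟩ := (yon S).map_surjective (hrep.fst z)
  refine ⟨hrep.pullback z, fZ, hrep.snd z, ?_, hc.property_snd z⟩
  rw [hfZ]
  exact hrep.isPullback z

/-- Reflecting pullback squares along the Yoneda embedding. -/
theorem isPullback_of_yon {A B C D : Over S} {f : A ⟶ B} {g : A ⟶ C} {h : B ⟶ D} {k : C ⟶ D}
    (sq : IsPullback ((yon S).map f) ((yon S).map g) ((yon S).map h) ((yon S).map k)) :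
    IsPullback f g h k :=
  IsPullback.of_map (yon S) ((yon S).map_injective (by
    rw [Functor.map_comp, Functor.map_comp]; exact sq.w)) sq

variable {c}

/-- Base change along `c` of a morphism of schemes over `X'`. -/
theorem exists_baseChange_map {Z W ZT WT : Over S} {zZ : (yon S).obj Z ⟶ X'}
    {zW : (yon S).obj W ⟶ X'} {fZ : ZT ⟶ T} {sZ : ZT ⟶ Z} {fW : WT ⟶ T} {sW : WT ⟶ W}
    (hZ : IsPullback ((yon S).map fZ) ((yon S).map sZ) c zZ)
    (hW : IsPullback ((yon S).map fW) ((yon S).map sW) c zW)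
    (g : Z ⟶ W) (hg : (yon S).map g ≫ zW = zZ) :
    ∃ gT : ZT ⟶ WT, gT ≫ fW = fZ ∧ IsPullback gT sZ sW g := by
  obtain ⟨gT, hgT⟩ := (yon S).map_surjective (hW.lift ((yon S).map fZ) ((yon S).map (sZ ≫ g))
    (by rw [hZ.w, Functor.map_comp, Category.assoc, hg]))
  have h1 : (yon S).map gT ≫ (yon S).map fW = (yon S).map fZ := by
    rw [hgT]; exact hW.lift_fst _ _ _
  have h2 : (yon S).map gT ≫ (yon S).map sW = (yon S).map sZ ≫ (yon S).map g := by
    rw [hgT]; exact (hW.lift_snd _ _ _).trans (Functor.map_comp _ _ _)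
  refine ⟨gT, (yon S).map_injective (by rw [Functor.map_comp, h1]), isPullback_of_yon ?_⟩
  refine IsPullback.of_right ?_ h2 hW
  rw [h1, hg]
  exact hZ

/-- Base change along `c` of a fibre product over `X'`. -/
theorem isPullback_baseChange_of_isPullback {Z W₁ W₂ ZT W₁T W₂T : Over S}
    {w₁ : (yon S).obj W₁ ⟶ X'} {w₂ : (yon S).obj W₂ ⟶ X'} {z₁ : Z ⟶ W₁} {z₂ : Z ⟶ W₂}
    (K : IsPullback ((yon S).map z₁) ((yon S).map z₂) w₁ w₂)
    {fZ : ZT ⟶ T} {sZ : ZT ⟶ Z} {f₁ : W₁T ⟶ T} {s₁ : W₁T ⟶ W₁} {f₂ : W₂T ⟶ T} {s₂ : W₂T ⟶ W₂}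
    (h₁ : IsPullback ((yon S).map f₁) ((yon S).map s₁) c w₁)
    (h₂ : IsPullback ((yon S).map f₂) ((yon S).map s₂) c w₂)
    {g₁ : ZT ⟶ W₁T} {g₂ : ZT ⟶ W₂T} (hg₁ : g₁ ≫ f₁ = fZ) (sq₁ : IsPullback g₁ sZ s₁ z₁)
    (hg₂ : g₂ ≫ f₂ = fZ) (sq₂ : g₂ ≫ s₂ = sZ ≫ z₂) : IsPullback g₁ g₂ f₁ f₂ := by
  apply isPullback_of_yon
  have S1 := (sq₁.map (yon S)).flip
  have big := S1.paste_horiz K.flip
  rw [← Functor.map_comp, ← sq₂, Functor.map_comp, ← h₁.w] at big
  have := IsPullback.of_right big (by rw [← Functor.map_comp, ← Functor.map_comp, hg₁, hg₂]) h₂.flip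
  exact this.flip

/-- The source of a thickening of schemes with affine source is affine. -/
theorem isAffine_of_thick {A B : Scheme.{u}} (g : A ⟶ B) (hg : thick g) [IsAffine A] : IsAffine B := by
  have : IsClosedImmersion g := hg.1
  have : Surjective g := hg.2
  exact Groth.Agent.Lib.Helper18.ThickAffine.isAffine_of_isClosedImmersion_of_surjective g g.surjective

/-- Along a square zero thickening `c : T ⟶ X'` of an affine scheme, every function on `T` lifts to
a function on an affine etale chart `U'` of `X'` which is invariant under the relation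
`R' = U' ×_{X'} U'`. -/
theorem exists_invariant_lift_of_sqZero [IsAffine T.left] (hc : IsThickMor c) {U' : Over S}
    [IsAffine U'.left] (a' : (yon S).obj U' ⟶ X') (ha' : RepWith @Etale a')
    (has : RepWith @Surjective a') {UT : Over S} (fU : UT ⟶ T) (sU : UT ⟶ U')
    (hU : IsPullback ((yon S).map fU) ((yon S).map sU) c a')
    (hsq : ∀ x y, x ∈ RingHom.ker sU.left.appTop.hom → y ∈ RingHom.ker sU.left.appTop.hom →
      x * y = 0)
    {R' : Over S} (s t : R' ⟶ U') (K : IsPullback ((yon S).map s) ((yon S).map t) a' a')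
    (x : Γ(T.left, ⊤)) :
    ∃ b : Γ(U'.left, ⊤), sU.left.appTop.hom b = fU.left.appTop.hom x ∧
      s.left.appTop.hom b = t.left.appTop.hom b := by
  have hse : Etale s.left :=
    (repWith_yon_map_iff @Etale s).1 (MorphismProperty.of_isPullback K.flip ha')
  have hte : Etale t.left :=
    (repWith_yon_map_iff @Etale t).1 (MorphismProperty.of_isPullback K ha')
  have sq3 : IsPullback (pullback.fst t s) (pullback.snd t s) t s := IsPullback.of_hasPullback t s
  generalize hp12 : pullback.fst t s = p12 at sq3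
  generalize hp23 : pullback.snd t s = p23 at sq3
  have K3 : IsPullback ((yon S).map p12) ((yon S).map (p23 ≫ t)) ((yon S).map t ≫ a') a' := by
    have := (sq3.map (yon S)).flip.paste_horiz K.flip
    rw [← Functor.map_comp] at this
    exact this.flip
  have hcomp : (yon S).map (p12 ≫ s) ≫ a' = (yon S).map (p23 ≫ t) ≫ a' := by
    rw [Functor.map_comp, Category.assoc, K.w, ← Category.assoc, ← Functor.map_comp, sq3.w,
      Functor.map_comp, Category.assoc, K.w, Functor.map_comp, Category.assoc]
  obtain ⟨p13, hp13⟩ := (yon S).map_surjective (K.lift _ _ hcomp)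
  have hp13s : p13 ≫ s = p12 ≫ s := (yon S).map_injective (by
    rw [Functor.map_comp, hp13]; exact K.lift_fst _ _ _)
  have hp13t : p13 ≫ t = p23 ≫ t := (yon S).map_injective (by
    rw [Functor.map_comp, hp13]; exact K.lift_snd _ _ _)
  obtain ⟨RT, fR, sR, hR, hsRth⟩ := exists_thick_baseChange c hc ((yon S).map t ≫ a')
  obtain ⟨R3T, f3, s3, h3, hs3th⟩ :=
    exists_thick_baseChange c hc ((yon S).map p12 ≫ (yon S).map t ≫ a')
  obtain ⟨tT, htT1, htT2⟩ := exists_baseChange_map hR hU t rfl
  obtain ⟨sT, hsT1, hsT2⟩ := exists_baseChange_map hR hU s K.w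
  obtain ⟨p12T, hp1, hp2⟩ := exists_baseChange_map h3 hR p12 rfl
  obtain ⟨q3T, hq1, hq2⟩ := exists_baseChange_map h3 hU (p23 ≫ t) K3.w.symm
  have G1 : IsPullback sT tT fU fU :=
    isPullback_baseChange_of_isPullback K hU hU hsT1 hsT2 htT1 htT2.w
  have G2 : IsPullback p12T q3T fR fU :=
    isPullback_baseChange_of_isPullback K3 hR hU hp1 hp2 hq1 hq2.w
  have hsUth : thick sU.left := hc.property a' _ sU hU
  have : IsClosedImmersion sU.left := hsUth.1
  have hUTaff : IsAffine UT.left := (IsClosedImmersion.isAffine_surjective_of_isAffine sU.left).1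
  have hRTaff : IsAffine RT.left := IsAffine.of_isPullback (isPullback_left G1)
  have hR'aff : IsAffine R'.left := isAffine_of_thick sR.left hsRth
  have hR3Taff : IsAffine R3T.left := IsAffine.of_isPullback (isPullback_left G2)
  have hR3aff : IsAffine (pullback t s).left := isAffine_of_thick s3.left hs3th
  have hfe : Etale fU.left :=
    (repWith_yon_map_iff @Etale fU).1 (MorphismProperty.of_isPullback hU.flip ha')
  have hfs : Surjective fU.left :=
    (repWith_yon_map_iff @Surjective fU).1 (MorphismProperty.of_isPullback hU.flip has)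
  have hp23e : Etale p23.left :=
    MorphismProperty.of_isPullback (P := @Etale) (isPullback_left sq3) hte
  have P1 := isPushout_appTop_of_isPullback (isPullback_left G1)
  have P2 := isPushout_appTop_of_isPullback (isPullback_left G2)
  have P3 := (isPushout_appTop_of_isPullback (isPullback_left htT2)).flip
  have P4 := (isPushout_appTop_of_isPullback (isPullback_left hq2)).flip
  have hfR : fR.left.appTop = fU.left.appTop ≫ sT.left.appTop := by rw [← hsT1]; rfl
  rw [hfR] at P2
  refine exists_invariant_lift' fU.left.appTop sT.left.appTop tT.left.appTop p12T.left.appTop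
    q3T.left.appTop sU.left.appTop sR.left.appTop s3.left.appTop s.left.appTop t.left.appTop
    p12.left.appTop p13.left.appTop p23.left.appTop P1 P2 P3 P4 ?_ ?_ ?_ ?_ ?_ ?_ ?_ ?_ ?_ hsq x
  · exact (congrArg (fun m => m.left.appTop) hsT2.w).symm
  · exact (congrArg (fun m => m.left.appTop) hp2.w).symm
  · exact (congrArg (fun m => m.left.appTop) hp13s).symm
  · exact congrArg (fun m => m.left.appTop) sq3.w
  · exact (congrArg (fun m => m.left.appTop) hp13t).symm
  · exact (Flat.flat_and_surjective_iff_faithfullyFlat_of_isAffine fU.left).1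
      ⟨inferInstance, hfs⟩
  · exact Scheme.Hom.flat_appTop t.left
  · have : Etale (p23 ≫ t).left := by
      rw [Over.comp_left]; infer_instance
    exact Scheme.Hom.flat_appTop (p23 ≫ t).left
  · exact (IsClosedImmersion.isAffine_surjective_of_isAffine sU.left).2

end Groth.Agent.Lib.Helper54
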