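import Groth.Agent.Lib.Helper54.ThickLocal
import Groth.Agent.Lib.Helper7.EtaleLift.Global

/-!
# Essential surjectivity of base change of etale sites along thickenings: local lifts
-/

set_option autoImplicit false
set_option backward.isDefEq.respectTransparency false
universe u
open CategoryTheory CategoryTheory.Limits AlgebraicGeometry
open AlgSp

namespace Groth.Agent.Lib.Helper54

variable {S : Scheme.{u}}

/-- Etale locally, an etale scheme over `X` lifts to an etale scheme over a thickening `X'`. -/
theorem exists_local_etale_lift {X X' : Sp S} (hX' : IsAlgSpace X') (i : X ⟶ X')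
    (hi : IsThickMor i) {U : Over S} (a : (yon S).obj U ⟶ X) (ha : RepWith @Etale a) :
    ∃ (W' W : Over S) (b' : (yon S).obj W' ⟶ X') (kW : W ⟶ W') (ε : W ⟶ U),
      RepWith @Etale b' ∧ Etale ε.left ∧ Surjective ε.left ∧
      IsPullback ((yon S).map ε ≫ a) ((yon S).map kW) i b' := by
  obtain ⟨V', p', hp'e, hp's⟩ := hX'.atlas
  have sqV := hi.rep.isPullback p'
  have hqe : RepWith @Etale (hi.rep.fst p') := MorphismProperty.of_isPullback sqV.flip hp'e
  have hqs : RepWith @Surjective (hi.rep.fst p') := MorphismProperty.of_isPullback sqV.flip hp's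
  have hth : thick (hi.rep.snd p').left := hi.property_snd p'
  have sqW := ha.rep.isPullback (hi.rep.fst p')
  obtain ⟨ε, hε⟩ := (yon S).map_surjective (ha.rep.fst (hi.rep.fst p'))
  have hεe : Etale ε.left := hqe.property a _ ε (by rw [hε]; exact sqW.flip)
  have hεs : Surjective ε.left := hqs.property a _ ε (by rw [hε]; exact sqW.flip)
  have hwV : Etale (ha.rep.snd (hi.rep.fst p')).left := ha.property_snd (hi.rep.fst p')
  have : IsClosedImmersion (hi.rep.snd p').left := hth.1
  have : Surjective (hi.rep.snd p').left := hth.2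
  obtain ⟨W'₀, k₀, w', hlift⟩ := Groth.Agent.Lib.Helper7.EtaleLift.exists_isEtLift
    (hi.rep.snd p').left (ha.rep.snd (hi.rep.fst p')).left
  have hw' : Etale w' := hlift.etale
  let W' : Over S := Over.mk (w' ≫ V'.hom)
  let w'O : W' ⟶ V' := Over.homMk w' rfl
  let kW : ha.rep.pullback (hi.rep.fst p') ⟶ W' := Over.homMk k₀ (by
    change k₀ ≫ w' ≫ V'.hom = (ha.rep.pullback (hi.rep.fst p')).hom
    rw [← Category.assoc, hlift.isPullback.w, Category.assoc, Over.w, Over.w])
  have sqO : IsPullback kW (ha.rep.snd (hi.rep.fst p')) w'O (hi.rep.snd p') :=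
    IsPullback.of_map (Over.forget S) (by ext; exact hlift.isPullback.w) hlift.isPullback
  have big := ((sqO.map (yon S)).paste_vert sqV.flip).flip
  rw [← sqW.w, ← hε] at big
  have hE : (RepWith (S := S) @Etale).IsMultiplicative := repWith_isMultiplicative _
  refine ⟨W', _, (yon S).map w'O ≫ p', kW, ε, ?_, hεe, hεs, big⟩
  exact (RepWith @Etale).comp_mem _ _ ((repWith_yon_map_iff _ _).2 hw') hp'e

end Groth.Agent.Lib.Helper54
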