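import Groth.Agent.Lib.Helper54.ThickEss1
import Groth.Agent.H53.Unram
import Groth.Agent.H53.FiniteComp
import Groth.Agent.H53.SchImageRed
import Groth.Agent.H53.Proper

/-!
# Essential surjectivity of base change of etale sites along thickenings: the relation
-/

set_option autoImplicit false
set_option backward.isDefEq.respectTransparency false
universe u
open CategoryTheory CategoryTheory.Limits AlgebraicGeometry
open AlgSp

namespace Groth.Agent.Lib.Helper54

variable {S : Scheme.{u}}

/-- An etale local lift of an etale `a : U ⟶ X` along a thickening `i : X ⟶ X'`. -/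
structure LiftData {X X' : Sp S} (i : X ⟶ X') {U : Over S} (a : (yon S).obj U ⟶ X) where
  W' : Over S
  W : Over S
  b' : (yon S).obj W' ⟶ X'
  kW : W ⟶ W'
  ε : W ⟶ U
  hb' : RepWith @Etale b'
  hεe : Etale ε.left
  hεs : Surjective ε.left
  sq : IsPullback ((yon S).map ε ≫ a) ((yon S).map kW) i b'

namespace LiftData

variable {X X' : Sp S} {i : X ⟶ X'} {U : Over S} {a : (yon S).obj U ⟶ X} (D : LiftData i a)

noncomputable def aW : (yon S).obj D.W ⟶ X := (yon S).map D.ε ≫ a

theorem aW_def : D.aW = (yon S).map D.ε ≫ a := rfl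

theorem sq' : IsPullback D.aW ((yon S).map D.kW) i D.b' := D.sq

/-- The inclusion of the kernel pair of `W ⟶ U` into `W ×_X W`. -/
noncomputable def m₀ : pullback ((yon S).map D.ε) ((yon S).map D.ε) ⟶ pullback D.aW D.aW :=
  pullback.map ((yon S).map D.ε) ((yon S).map D.ε) ((yon S).map D.ε ≫ a) ((yon S).map D.ε ≫ a)
    (𝟙 _) (𝟙 _) a (Category.id_comp _).symm (Category.id_comp _).symm

/-- The thickening `W ×_X W ⟶ W' ×_{X'} W'`. -/
noncomputable def κ : pullback D.aW D.aW ⟶ pullback D.b' D.b' :=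
  pullback.map D.aW D.aW D.b' D.b' ((yon S).map D.kW) ((yon S).map D.kW) i D.sq'.w D.sq'.w

theorem m₀_fst : D.m₀ ≫ pullback.fst D.aW D.aW = pullback.fst _ _ :=
  (pullback.lift_fst _ _ _).trans (Category.comp_id _)

theorem m₀_snd : D.m₀ ≫ pullback.snd D.aW D.aW = pullback.snd _ _ :=
  (pullback.lift_snd _ _ _).trans (Category.comp_id _)

theorem κ_fst : D.κ ≫ pullback.fst D.b' D.b' = pullback.fst _ _ ≫ (yon S).map D.kW := by
  simp [κ]

theorem κ_snd : D.κ ≫ pullback.snd D.b' D.b' = pullback.snd _ _ ≫ (yon S).map D.kW := by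
  simp [κ]

theorem repWith_isOpenImmersion_m₀ (ha : RepWith @Etale a) : RepWith @IsOpenImmersion D.m₀ :=
  MorphismProperty.of_isPullback
    (pullback_map_diagonal_isPullback ((yon S).map D.ε) ((yon S).map D.ε) a)
    (Groth.Agent.H53.repWith_isOpenImmersion_diagonal_of_etale a ha)

theorem isPullback_κ :
    IsPullback (pullback.fst D.aW D.aW ≫ D.aW) D.κ i (pullback.fst D.b' D.b' ≫ D.b') := by
  have w : (pullback.fst D.aW D.aW ≫ D.aW) ≫ i = D.κ ≫ pullback.fst D.b' D.b' ≫ D.b' := by
    rw [← Category.assoc D.κ, κ_fst, Category.assoc, Category.assoc, D.sq'.w]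
  refine ⟨⟨w⟩, ⟨PullbackCone.IsLimit.mk w
    (fun s => pullback.lift
      (D.sq'.lift s.fst (s.snd ≫ pullback.fst D.b' D.b') (by rw [s.condition, Category.assoc]))
      (D.sq'.lift s.fst (s.snd ≫ pullback.snd D.b' D.b') (by
        rw [s.condition, Category.assoc]
        exact congrArg (s.snd ≫ ·) pullback.condition))
      (by rw [D.sq'.lift_fst, D.sq'.lift_fst])) ?_ ?_ ?_⟩⟩
  · intro s
    rw [← Category.assoc, pullback.lift_fst, D.sq'.lift_fst]
  · intro s
    apply pullback.hom_ext
    · rw [Category.assoc, κ_fst, ← Category.assoc, pullback.lift_fst, D.sq'.lift_snd]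
    · rw [Category.assoc, κ_snd, ← Category.assoc, pullback.lift_snd, D.sq'.lift_snd]
  · intro s m h1 h2
    apply pullback.hom_ext
    · rw [pullback.lift_fst]
      apply D.sq'.hom_ext
      · rw [D.sq'.lift_fst, Category.assoc, h1]
      · rw [D.sq'.lift_snd, Category.assoc, ← κ_fst, ← Category.assoc, h2]
    · rw [pullback.lift_snd]
      apply D.sq'.hom_ext
      · rw [D.sq'.lift_fst, Category.assoc, ← pullback.condition, h1]
      · rw [D.sq'.lift_snd, Category.assoc, ← κ_snd, ← Category.assoc, h2]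

theorem isThickMor_κ (hi : IsThickMor i) : IsThickMor D.κ :=
  MorphismProperty.of_isPullback (P := RepWith (S := S) thick) D.isPullback_κ hi

/-- The open subset of `W' ×_{X'} W'` corresponding to `W ×_U W ⊂ W ×_X W`. -/
def O : Set (Points (pullback D.b' D.b')) := Points.map D.κ '' Set.range (Points.map D.m₀)

theorem isOpen_O (hi : IsThickMor i) (ha : RepWith @Etale a) : IsOpen D.O :=
  isOpenMap_points_of_isThickMor D.κ (D.isThickMor_κ hi) _
    (Groth.Agent.H53.ZarGlue.isOpen_range_points_map_of_isOpenImmersion D.m₀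
      (D.repWith_isOpenImmersion_m₀ ha))

/-- The equivalence relation on `T`-points of `W'`: same image in `X'`, and the induced points of
`W` over the closed subscheme `T ×_{X'} X` have the same image in `U`. -/
def Rel {T : Over S} (w₁ w₂ : T ⟶ D.W') : Prop :=
  (yon S).map w₁ ≫ D.b' = (yon S).map w₂ ≫ D.b' ∧
    ∀ (Z : Over S) (z : Z ⟶ T) (v₁ v₂ : Z ⟶ D.W), v₁ ≫ D.kW = z ≫ w₁ → v₂ ≫ D.kW = z ≫ w₂ →
      v₁ ≫ D.ε = v₂ ≫ D.ε

theorem thick_kW (hi : IsThickMor i) : thick D.kW.left := hi.property D.b' D.aW D.kW D.sq'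

theorem mono_kW (hi : IsThickMor i) : Mono D.kW := by
  have : IsClosedImmersion D.kW.left := (D.thick_kW hi).1
  have : Mono ((Over.forget S).map D.kW) := inferInstanceAs (Mono D.kW.left)
  exact (Over.forget S).mono_of_mono_map this

theorem exists_lift_W {Z : Over S} (v₁ : Z ⟶ D.W) (w : Z ⟶ D.W')
    (h : (yon S).map w ≫ D.b' = (yon S).map (v₁ ≫ D.kW) ≫ D.b') :
    ∃ v₂ : Z ⟶ D.W, v₂ ≫ D.kW = w := by
  obtain ⟨v₂, hv₂⟩ := (yon S).map_surjective (D.sq'.lift ((yon S).map v₁ ≫ D.aW) ((yon S).map w)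
    (by rw [Category.assoc, D.sq'.w, h, Functor.map_comp, Category.assoc]))
  refine ⟨v₂, (yon S).map_injective ?_⟩
  rw [Functor.map_comp, hv₂, D.sq'.lift_snd]

theorem rel_equivalence (hi : IsThickMor i) (T : Over S) :
    Equivalence (D.Rel (T := T)) where
  refl w := ⟨rfl, fun Z z v₁ v₂ h1 h2 => by
    have := D.mono_kW hi
    have : v₁ = v₂ := by rw [← cancel_mono D.kW, h1, h2]
    rw [this]⟩
  symm h := ⟨h.1.symm, fun Z z v₁ v₂ h1 h2 => (h.2 Z z v₂ v₁ h2 h1).symm⟩
  trans {w₁ w₂ w₃} h12 h23 := ⟨h12.1.trans h23.1, fun Z z v₁ v₃ h1 h3 => by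
    obtain ⟨v₂, hv₂⟩ := D.exists_lift_W v₁ (z ≫ w₂) (by
      rw [h1, Functor.map_comp, Functor.map_comp, Category.assoc, Category.assoc, h12.1])
    exact (h12.2 Z z v₁ v₂ h1 hv₂).trans (h23.2 Z z v₂ v₃ hv₂ h3)⟩

theorem mono_i (hi : IsThickMor i) : Mono i :=
  Groth.Agent.H53.SchImageRed.mono_of_repWith_isClosedImmersion i
    ⟨hi.rep, fun _ _ g fst snd sq => (hi.property g fst snd sq).1⟩

theorem exists_lift_W₀ {Z : Over S} (x₀ : (yon S).obj Z ⟶ X) (w : Z ⟶ D.W')
    (hw : x₀ ≫ i = (yon S).map w ≫ D.b') :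
    ∃ v : Z ⟶ D.W, v ≫ D.kW = w ∧ (yon S).map v ≫ D.aW = x₀ := by
  obtain ⟨v, hv⟩ := (yon S).map_surjective (D.sq'.lift x₀ ((yon S).map w) hw)
  refine ⟨v, (yon S).map_injective ?_, ?_⟩
  · rw [Functor.map_comp, hv, D.sq'.lift_snd]
  · rw [hv, D.sq'.lift_fst]

theorem rel_iff_points (hi : IsThickMor i) (ha : RepWith @Etale a) {T : Over S}
    (w₁ w₂ : T ⟶ D.W') (h : (yon S).map w₁ ≫ D.b' = (yon S).map w₂ ≫ D.b') :
    (∀ x : T.left, Points.ofPt (pullback.lift ((yon S).map w₁) ((yon S).map w₂) h) x ∈ D.O) ↔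
      D.Rel w₁ w₂ := by
  constructor
  · intro hx
    refine ⟨h, fun Z z v₁ v₂ h1 h2 => ?_⟩
    have hmi := mono_i hi
    have hv : (yon S).map v₁ ≫ D.aW = (yon S).map v₂ ≫ D.aW := by
      rw [← cancel_mono i, Category.assoc, Category.assoc, D.sq'.w, ← Category.assoc,
        ← Category.assoc, ← Functor.map_comp, ← Functor.map_comp, h1, h2, Functor.map_comp,
        Functor.map_comp, Category.assoc, Category.assoc, h]
    have hgκ : pullback.lift ((yon S).map v₁) ((yon S).map v₂) hv ≫ D.κ =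
        (yon S).map z ≫ pullback.lift ((yon S).map w₁) ((yon S).map w₂) h := by
      apply pullback.hom_ext
      · rw [Category.assoc, κ_fst, ← Category.assoc, pullback.lift_fst, Category.assoc,
          pullback.lift_fst, ← Functor.map_comp, ← Functor.map_comp, h1]
      · rw [Category.assoc, κ_snd, ← Category.assoc, pullback.lift_snd, Category.assoc,
          pullback.lift_snd, ← Functor.map_comp, ← Functor.map_comp, h2]
    have hrange : Set.range (Points.map (pullback.lift ((yon S).map v₁) ((yon S).map v₂) hv)) ⊆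
        Set.range (Points.map D.m₀) := by
      rintro _ ⟨p, rfl⟩
      obtain ⟨y, rfl⟩ := (Points.schemeHomeo Z).surjective p
      have h3 : Points.map D.κ
          (Points.ofPt (pullback.lift ((yon S).map v₁) ((yon S).map v₂) hv) y) ∈ D.O := by
        rw [Points.map_ofPt, hgκ, Groth.Agent.H52.ofPt_yon_map_comp]
        exact hx _
      obtain ⟨q, hq, hq'⟩ := h3
      have h4 := injective_points_of_isThickMor D.κ (D.isThickMor_κ hi) hq'
      rw [Points.ofPt_eq_map_ofScheme] at h4
      rw [h4] at hq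
      exact hq
    obtain ⟨f, hf⟩ := Groth.Agent.H53.exists_factor_of_range_subset D.m₀
      (D.repWith_isOpenImmersion_m₀ ha) _ hrange
    apply (yon S).map_injective
    have e1 : (yon S).map v₁ = f ≫ pullback.fst _ _ := by
      rw [← D.m₀_fst, ← Category.assoc, hf, pullback.lift_fst]
    have e2 : (yon S).map v₂ = f ≫ pullback.snd _ _ := by
      rw [← D.m₀_snd, ← Category.assoc, hf, pullback.lift_snd]
    rw [Functor.map_comp, Functor.map_comp, e1, e2, Category.assoc, Category.assoc,
      pullback.condition]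
  · intro hrel x
    have sqT := hi.rep.isPullback ((yon S).map w₁ ≫ D.b')
    have hτ : thick (hi.rep.snd ((yon S).map w₁ ≫ D.b')).left := hi.property_snd _
    obtain ⟨y, rfl⟩ := hτ.2.surj x
    obtain ⟨v₁, hv₁, hv₁'⟩ := D.exists_lift_W₀ (hi.rep.fst ((yon S).map w₁ ≫ D.b'))
      (hi.rep.snd ((yon S).map w₁ ≫ D.b') ≫ w₁) (by
        rw [sqT.w, Functor.map_comp, Category.assoc])
    obtain ⟨v₂, hv₂, hv₂'⟩ := D.exists_lift_W₀ (hi.rep.fst ((yon S).map w₁ ≫ D.b'))
      (hi.rep.snd ((yon S).map w₁ ≫ D.b') ≫ w₂) (by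
        rw [sqT.w, Functor.map_comp, Category.assoc, h])
    have hε := hrel.2 _ _ v₁ v₂ hv₁ hv₂
    have hfκ : pullback.lift ((yon S).map v₁) ((yon S).map v₂)
        (by rw [← Functor.map_comp, ← Functor.map_comp, hε]) ≫ D.m₀ ≫ D.κ =
        (yon S).map (hi.rep.snd ((yon S).map w₁ ≫ D.b')) ≫
          pullback.lift ((yon S).map w₁) ((yon S).map w₂) h := by
      apply pullback.hom_ext
      · rw [Category.assoc, Category.assoc, κ_fst, ← Category.assoc D.m₀, m₀_fst,
          ← Category.assoc, pullback.lift_fst, Category.assoc, pullback.lift_fst,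
          ← Functor.map_comp, ← Functor.map_comp, hv₁]
      · rw [Category.assoc, Category.assoc, κ_snd, ← Category.assoc D.m₀, m₀_snd,
          ← Category.assoc, pullback.lift_snd, Category.assoc, pullback.lift_snd,
          ← Functor.map_comp, ← Functor.map_comp, hv₂]
    rw [← Groth.Agent.H52.ofPt_yon_map_comp, ← hfκ]
    refine ⟨Points.map D.m₀ (Points.ofPt (pullback.lift ((yon S).map v₁) ((yon S).map v₂)
      (by rw [← Functor.map_comp, ← Functor.map_comp, hε])) y), ⟨_, rfl⟩, ?_⟩
    rw [Points.map_ofPt, Points.map_ofPt, Category.assoc]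

/-- The relation is represented by a scheme, an etale equivalence relation on `W'`. -/
theorem exists_relScheme (hi : IsThickMor i) (ha : RepWith @Etale a) :
    ∃ (R' : Over S) (s' t' : R' ⟶ D.W'), IsEtaleEqvRel s' t' ∧
      ∀ {T : Over S} (w₁ w₂ : T ⟶ D.W'),
        (∃ r : T ⟶ R', r ≫ t' = w₁ ∧ r ≫ s' = w₂) ↔ D.Rel w₁ w₂ := by
  have hρ : RepWith @IsOpenImmersion (openSubι (pullback D.b' D.b') D.O) :=
    repWith_isOpenImmersion_openSubι _ _ (D.isOpen_O hi ha)
  have hρe : RepWith @Etale (openSubι (pullback D.b' D.b') D.O) :=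
    Groth.Agent.H53.repWith_of_le (fun A B φ hφ => by
      have : IsOpenImmersion φ := hφ
      infer_instance) hρ
  have hE : (RepWith (S := S) @Etale).IsMultiplicative := repWith_isMultiplicative _
  have hri : (RepWith (S := S) @Etale).RespectsIso :=
    MorphismProperty.IsStableUnderBaseChange.respectsIso
  have h1 : RepWith @Etale (pullback.fst D.b' D.b') :=
    MorphismProperty.of_isPullback (IsPullback.of_hasPullback D.b' D.b').flip D.hb'
  have h2 : RepWith @Etale (pullback.snd D.b' D.b') :=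
    MorphismProperty.of_isPullback (IsPullback.of_hasPullback D.b' D.b') D.hb'
  have ht'' : RepWith @Etale (openSubι (pullback D.b' D.b') D.O ≫ pullback.fst D.b' D.b') :=
    (RepWith @Etale).comp_mem _ _ hρe h1
  have hs'' : RepWith @Etale (openSubι (pullback D.b' D.b') D.O ≫ pullback.snd D.b' D.b') :=
    (RepWith @Etale).comp_mem _ _ hρe h2
  obtain ⟨R', t', e, he, het, ht'⟩ := Groth.Agent.H53.exists_iso_yon_of_repWith @Etale _ ht''
  obtain ⟨s', hs'⟩ := (yon S).map_surjective
    (e ≫ openSubι (pullback D.b' D.b') D.O ≫ pullback.snd D.b' D.b')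
  have hs'e : Etale s'.left := by
    refine (repWith_yon_map_iff _ _).1 ?_
    rw [hs']
    exact MorphismProperty.RespectsIso.precomp (RepWith (S := S) @Etale) e _ hs''
  have key : ∀ {T : Over S} (w₁ w₂ : T ⟶ D.W'),
      (∃ r : T ⟶ R', r ≫ t' = w₁ ∧ r ≫ s' = w₂) ↔ D.Rel w₁ w₂ := by
    intro T w₁ w₂
    constructor
    · rintro ⟨r, rfl, rfl⟩
      have e1 : ((yon S).map r ≫ e ≫ openSubι (pullback D.b' D.b') D.O) ≫
          pullback.fst D.b' D.b' = (yon S).map (r ≫ t') := by
        rw [Functor.map_comp, ← het]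
        simp only [Category.assoc]
      have e2 : ((yon S).map r ≫ e ≫ openSubι (pullback D.b' D.b') D.O) ≫
          pullback.snd D.b' D.b' = (yon S).map (r ≫ s') := by
        rw [Functor.map_comp, hs']
        simp only [Category.assoc]
      have h : (yon S).map (r ≫ t') ≫ D.b' = (yon S).map (r ≫ s') ≫ D.b' := by
        rw [← e1, ← e2]
        simp only [Category.assoc]
        rw [pullback.condition]
      have e3 : (yon S).map r ≫ e ≫ openSubι (pullback D.b' D.b') D.O =
          pullback.lift ((yon S).map (r ≫ t')) ((yon S).map (r ≫ s')) h := by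
        apply pullback.hom_ext
        · rw [e1, pullback.lift_fst]
        · rw [e2, pullback.lift_snd]
      refine (D.rel_iff_points hi ha _ _ h).1 ?_
      rw [← e3]
      exact (exists_factor_openSubι_iff _).1 ⟨(yon S).map r ≫ e, by rw [Category.assoc]⟩
    · intro hrel
      obtain ⟨b₀, hb₀⟩ := (exists_factor_openSubι_iff _).2
        ((D.rel_iff_points hi ha w₁ w₂ hrel.1).2 hrel)
      obtain ⟨r, hr⟩ := (yon S).map_surjective (b₀ ≫ inv e)
      refine ⟨r, (yon S).map_injective ?_, (yon S).map_injective ?_⟩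
      · rw [Functor.map_comp, hr, ← het, Category.assoc, IsIso.inv_hom_id_assoc,
          ← Category.assoc, hb₀, pullback.lift_fst]
      · rw [Functor.map_comp, hr, hs', Category.assoc, IsIso.inv_hom_id_assoc,
          ← Category.assoc, hb₀, pullback.lift_snd]
  refine ⟨R', s', t', ⟨⟨?_, ?_⟩, hs'e, ht'⟩, key⟩
  · intro T r r' h1 h2
    apply (yon S).map_injective
    rw [← cancel_mono e]
    apply openSubι_cancel
    apply pullback.hom_ext
    · rw [Category.assoc, Category.assoc, Category.assoc, Category.assoc, het,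
        ← Functor.map_comp, ← Functor.map_comp, h1]
    · rw [Category.assoc, Category.assoc, Category.assoc, Category.assoc, ← hs',
        ← Functor.map_comp, ← Functor.map_comp, h2]
  · intro T
    have heq : (fun a b : T ⟶ D.W' => ∃ r : T ⟶ R', r ≫ t' = a ∧ r ≫ s' = b) = D.Rel := by
      funext a b
      exact propext (key a b)
    rw [heq]
    exact D.rel_equivalence hi T

end LiftData

end Groth.Agent.Lib.Helper54
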