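import Groth.Agent.Lib.Helper54.ThickEss2
import Groth.Agent.S9868
import Groth.Agent.S9869
import Groth.Agent.H53.EtaleMor
import Groth.Agent.H52.ThickLift

/-!
# Essential surjectivity of base change of etale sites along thickenings: the quotient
-/

set_option autoImplicit false
set_option backward.isDefEq.respectTransparency false
universe u
open CategoryTheory CategoryTheory.Limits AlgebraicGeometry
open AlgSp

namespace Groth.Agent.Lib.Helper54

variable {S : Scheme.{u}}

namespace LiftData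

variable {X X' : Sp S} {i : X ⟶ X'} {U : Over S} {a : (yon S).obj U ⟶ X} (D : LiftData i a)

theorem rel_of_eq_ε (hi : IsThickMor i) {T : Over S} (v₁ v₂ : T ⟶ D.W)
    (h : v₁ ≫ D.ε = v₂ ≫ D.ε) : D.Rel (v₁ ≫ D.kW) (v₂ ≫ D.kW) := by
  have := D.mono_kW hi
  refine ⟨?_, fun Z z u₁ u₂ h1 h2 => ?_⟩
  · rw [Functor.map_comp, Functor.map_comp, Category.assoc, Category.assoc, ← D.sq'.w,
      aW_def, ← Category.assoc, ← Category.assoc, ← Category.assoc, ← Category.assoc,
      ← Functor.map_comp, ← Functor.map_comp, h]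
  · rw [← Category.assoc] at h1 h2
    rw [(cancel_mono D.kW).1 h1, (cancel_mono D.kW).1 h2, Category.assoc, Category.assoc, h]

theorem eq_ε_of_rel {T : Over S} (v₁ v₂ : T ⟶ D.W) (h : D.Rel (v₁ ≫ D.kW) (v₂ ≫ D.kW)) :
    v₁ ≫ D.ε = v₂ ≫ D.ε :=
  h.2 T (𝟙 T) v₁ v₂ (Category.id_comp _).symm (Category.id_comp _).symm

include D in
/-- An etale scheme over `X` which lifts etale locally along a thickening `X ⟶ X'` lifts. -/
theorem exists_etale_lift (hX' : IsAlgSpace X') (hi : IsThickMor i) (ha : RepWith @Etale a) :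
    ∃ (U' : Over S) (β : (yon S).obj U' ⟶ X') (c : U ⟶ U'), RepWith @Etale β ∧
      IsPullback a ((yon S).map c) i β := by
  obtain ⟨R', s', t', hER, key⟩ := D.exists_relScheme hi ha
  have hQ := Groth.Agent.S9868.result S s' t' hER
  have hP := Groth.Agent.S9869.result S s' t' hER hQ
  obtain ⟨Q, hQ, π, hπe, hπs, sqπ⟩ : ∃ (Q : Sp S) (_ : IsAlgSpace Q) (π : (yon S).obj D.W' ⟶ Q),
      RepWith @Etale π ∧ RepWith @Surjective π ∧
        IsPullback ((yon S).map t') ((yon S).map s') π π :=
    ⟨_, hQ, _, hP.etale, hP.surjective, hP.isPullback⟩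
  have hπepi : Epi π := Groth.Agent.H52.epi_of_repWith_etale_surjective π hπe hπs
  -- the map to `X'`
  have hts : (yon S).map t' ≫ D.b' = (yon S).map s' ≫ D.b' :=
    ((key t' s').1 ⟨𝟙 _, Category.id_comp _, Category.id_comp _⟩).1
  obtain ⟨β, hβ⟩ := Groth.Agent.H52.exists_desc_of_epi π D.b' (fun P p₁ p₂ h => by
    have e1 := sqπ.lift_fst p₁ p₂ h
    have e2 := sqπ.lift_snd p₁ p₂ h
    calc p₁ ≫ D.b' = (sqπ.lift p₁ p₂ h ≫ (yon S).map t') ≫ D.b' := by rw [e1]
      _ = (sqπ.lift p₁ p₂ h ≫ (yon S).map s') ≫ D.b' := by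
        rw [Category.assoc, hts, Category.assoc]
      _ = p₂ ≫ D.b' := by rw [e2])
  have hβe : IsEtaleMor β :=
    Groth.Agent.H53.isEtaleMor_of_chart (fun T t => hX'.representable_from_yon t) β π hπe hπs
      (by rw [hβ]; exact D.hb')
  -- the map from `U`
  have hεe : RepWith @Etale ((yon S).map D.ε) := (repWith_yon_map_iff _ _).2 D.hεe
  have hεs : RepWith @Surjective ((yon S).map D.ε) := (repWith_yon_map_iff _ _).2 D.hεs
  have hεepi : Epi ((yon S).map D.ε) :=
    Groth.Agent.H52.epi_of_repWith_etale_surjective _ hεe hεs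
  obtain ⟨c₀, hc₀⟩ := Groth.Agent.H52.exists_desc_of_epi ((yon S).map D.ε)
    ((yon S).map D.kW ≫ π) (fun P p₁ p₂ h => by
      apply Groth.Agent.H52.sp_hom_ext
      intro T x
      obtain ⟨v₁, hv₁⟩ := (yon S).map_surjective (x ≫ p₁)
      obtain ⟨v₂, hv₂⟩ := (yon S).map_surjective (x ≫ p₂)
      have hv : v₁ ≫ D.ε = v₂ ≫ D.ε := (yon S).map_injective (by
        rw [Functor.map_comp, Functor.map_comp, hv₁, hv₂, Category.assoc, Category.assoc, h])
      obtain ⟨r, hr1, hr2⟩ := (key _ _).2 (D.rel_of_eq_ε hi v₁ v₂ hv)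
      have e : (yon S).map (v₁ ≫ D.kW) ≫ π = (yon S).map (v₂ ≫ D.kW) ≫ π := by
        rw [← hr1, ← hr2, Functor.map_comp, Functor.map_comp, Category.assoc, Category.assoc,
          sqπ.w]
      rw [Functor.map_comp, Functor.map_comp, hv₁, hv₂] at e
      simpa only [Category.assoc] using e)
  have hmi := mono_i hi
  have w : a ≫ i = c₀ ≫ β := by
    rw [← cancel_epi ((yon S).map D.ε)]
    calc (yon S).map D.ε ≫ a ≫ i = ((yon S).map D.ε ≫ a) ≫ i := (Category.assoc _ _ _).symm
      _ = (yon S).map D.kW ≫ D.b' := D.sq.w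
      _ = (yon S).map D.kW ≫ π ≫ β := by rw [hβ]
      _ = ((yon S).map D.ε ≫ c₀) ≫ β := by rw [hc₀, Category.assoc]
      _ = (yon S).map D.ε ≫ c₀ ≫ β := Category.assoc _ _ _
  -- the comparison map is an isomorphism
  have hψsq : IsPullback ((yon S).map D.ε ≫ pullback.lift a c₀ w) ((yon S).map D.kW)
      (pullback.snd i β) π := by
    refine IsPullback.of_right ?_ ?_ (IsPullback.of_hasPullback i β)
    · rw [Category.assoc, pullback.lift_fst, hβ]
      exact D.sq
    · rw [Category.assoc, pullback.lift_snd, hc₀]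
  have hψe : RepWith @Etale ((yon S).map D.ε ≫ pullback.lift a c₀ w) :=
    MorphismProperty.of_isPullback hψsq.flip hπe
  have hψs : RepWith @Surjective ((yon S).map D.ε ≫ pullback.lift a c₀ w) :=
    MorphismProperty.of_isPullback hψsq.flip hπs
  have hψepi : Epi ((yon S).map D.ε ≫ pullback.lift a c₀ w) :=
    Groth.Agent.H52.epi_of_repWith_etale_surjective _ hψe hψs
  have hθepi : Epi (pullback.lift a c₀ w) := epi_of_epi ((yon S).map D.ε) _
  have hθmono : Mono (pullback.lift a c₀ w) := by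
    apply Groth.Agent.Lib.Helper51.mono_of_forall_yon
    intro T α α' hα
    have hαc : α ≫ c₀ = α' ≫ c₀ := by
      have := congrArg (· ≫ pullback.snd i β) hα
      simpa only [Category.assoc, pullback.lift_snd] using this
    -- a common etale cover on which both lift to `W`
    have sq1 := hεe.rep.isPullback α
    have sq2 := hεe.rep.isPullback ((yon S).map (hεe.rep.snd α) ≫ α')
    have hz1e : Etale (hεe.rep.snd α).left := hεe.property_snd α
    have hz1s : Surjective (hεe.rep.snd α).left := hεs.property _ _ _ sq1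
    have hz2e : Etale (hεe.rep.snd ((yon S).map (hεe.rep.snd α) ≫ α')).left :=
      hεe.property_snd _
    have hz2s : Surjective (hεe.rep.snd ((yon S).map (hεe.rep.snd α) ≫ α')).left :=
      hεs.property _ _ _ sq2
    obtain ⟨w₁, hw₁⟩ := (yon S).map_surjective (hεe.rep.fst α)
    obtain ⟨w₂, hw₂⟩ := (yon S).map_surjective
      (hεe.rep.fst ((yon S).map (hεe.rep.snd α) ≫ α'))
    have hzepi : Epi ((yon S).map (hεe.rep.snd ((yon S).map (hεe.rep.snd α) ≫ α') ≫
        hεe.rep.snd α)) := by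
      refine Groth.Agent.H52.epi_of_repWith_etale_surjective _
        ((repWith_yon_map_iff _ _).2 ?_) ((repWith_yon_map_iff _ _).2 ?_)
      · rw [Over.comp_left]; infer_instance
      · rw [Over.comp_left]; infer_instance
    rw [← cancel_epi ((yon S).map (hεe.rep.snd ((yon S).map (hεe.rep.snd α) ≫ α') ≫
        hεe.rep.snd α))]
    have e1 : (yon S).map (hεe.rep.snd ((yon S).map (hεe.rep.snd α) ≫ α') ≫ w₁) ≫
        (yon S).map D.ε = (yon S).map (hεe.rep.snd ((yon S).map (hεe.rep.snd α) ≫ α') ≫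
        hεe.rep.snd α) ≫ α := by
      rw [Functor.map_comp, Functor.map_comp, Category.assoc, Category.assoc, hw₁, sq1.w]
    have e2 : (yon S).map w₂ ≫ (yon S).map D.ε =
        (yon S).map (hεe.rep.snd ((yon S).map (hεe.rep.snd α) ≫ α') ≫
        hεe.rep.snd α) ≫ α' := by
      rw [hw₂, sq2.w, Functor.map_comp, Category.assoc]
    have e3 : (yon S).map (hεe.rep.snd ((yon S).map (hεe.rep.snd α) ≫ α') ≫ w₁) ≫
        (yon S).map D.kW ≫ π = (yon S).map w₂ ≫ (yon S).map D.kW ≫ π := by
      rw [← hc₀, ← Category.assoc, ← Category.assoc, e1, e2, Category.assoc, Category.assoc, hαc]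
    obtain ⟨r, hr⟩ := (yon S).map_surjective (sqπ.lift
      ((yon S).map (hεe.rep.snd ((yon S).map (hεe.rep.snd α) ≫ α') ≫ w₁) ≫ (yon S).map D.kW)
      ((yon S).map w₂ ≫ (yon S).map D.kW) (by
      simpa only [Category.assoc] using e3))
    have hr1 : r ≫ t' = (hεe.rep.snd ((yon S).map (hεe.rep.snd α) ≫ α') ≫ w₁) ≫ D.kW :=
      (yon S).map_injective (by
        rw [Functor.map_comp, hr, sqπ.lift_fst]
        simp only [Functor.map_comp, Category.assoc])
    have hr2 : r ≫ s' = w₂ ≫ D.kW := (yon S).map_injective (by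
        rw [Functor.map_comp, hr, sqπ.lift_snd]
        simp only [Functor.map_comp])
    have hrel := (key _ _).1 ⟨r, hr1, hr2⟩
    have := D.eq_ε_of_rel _ _ hrel
    rw [← e1, ← e2, ← Functor.map_comp, ← Functor.map_comp, this]
  have hθiso : IsIso (pullback.lift a c₀ w) := isIso_of_mono_of_epi _
  have sqU : IsPullback a c₀ i β :=
    IsPullback.of_iso_pullback ⟨w⟩ (asIso (pullback.lift a c₀ w)) (pullback.lift_fst _ _ _)
      (pullback.lift_snd _ _ _)
  have hc₀th : IsThickMor c₀ :=
    MorphismProperty.of_isPullback (P := RepWith (S := S) thick) sqU hi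
  obtain ⟨U', ⟨e⟩⟩ := exists_iso_yon_of_isThickMor hQ c₀ hc₀th
  obtain ⟨c, hc⟩ := (yon S).map_surjective (c₀ ≫ e.inv)
  have hE : (RepWith (S := S) @Etale).IsMultiplicative := repWith_isMultiplicative _
  have hri : (RepWith (S := S) @Etale).RespectsIso :=
    MorphismProperty.IsStableUnderBaseChange.respectsIso
  refine ⟨U', e.hom ≫ β, c, hβe e.hom (MorphismProperty.of_isIso (RepWith (S := S) @Etale) e.hom),
    ?_⟩
  rw [hc]
  exact IsPullback.of_iso sqU (Iso.refl _) (Iso.refl _) e.symm (Iso.refl _) (by simp) (by simp)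
    (by simp) (by simp)

end LiftData

/-- **Topological invariance of the etale site of an algebraic space, essential surjectivity**:
every scheme etale over `X` lifts to a scheme etale over a thickening `X'` of `X`. -/
theorem exists_etale_lift_of_isThickMor {X X' : Sp S} (hX' : IsAlgSpace X') (i : X ⟶ X')
    (hi : IsThickMor i) {U : Over S} (a : (yon S).obj U ⟶ X) (ha : RepWith @Etale a) :
    ∃ (U' : Over S) (β : (yon S).obj U' ⟶ X') (c : U ⟶ U'), RepWith @Etale β ∧
      IsPullback a ((yon S).map c) i β := by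
  obtain ⟨W', W, b', kW, ε, hb', hεe, hεs, sq⟩ := exists_local_etale_lift hX' i hi a ha
  exact LiftData.exists_etale_lift ⟨W', W, b', kW, ε, hb', hεe, hεs, sq⟩ hX' hi ha

end Groth.Agent.Lib.Helper54
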