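import Groth.Agent.H52.ThickLift2
import Groth.Agent.H52.EtLift

/-!
# Lifting along thickenings of algebraic spaces against representable etale morphisms
-/

set_option autoImplicit false
set_option backward.isDefEq.respectTransparency false
universe u
open CategoryTheory CategoryTheory.Limits AlgebraicGeometry
open AlgSp

namespace Groth.Agent.Lib.Helper54

variable {S : Scheme.{u}}

/-- Unique lifting along a thickening of algebraic spaces against a representable etale morphism of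
sheaves. -/
theorem existsUnique_lift_etale_of_isThickMor {X Y T T' : Sp S} (hT' : IsAlgSpace T') (f : X ⟶ Y)
    (hf : RepWith @Etale f) (j : T ⟶ T') (hj : IsThickMor j) (a : T ⟶ X) (b : T' ⟶ Y)
    (w : j ≫ b = a ≫ f) : ∃! l : T' ⟶ X, j ≫ l = a ∧ l ≫ f = b := by
  refine Groth.Agent.H52.existsUnique_lift_of_affLocSolvable hT' hj ?_
  intro R _ r _
  have hrep := hj.rep
  have sq := hrep.isPullback r
  have hth : thick (hrep.snd r).left := hj.property_snd r
  have : IsClosedImmersion (hrep.snd r).left := hth.1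
  have : Surjective (hrep.snd r).left := hth.2
  obtain ⟨m, ⟨hm1, hm2⟩, hmu⟩ := Groth.Agent.H52.existsUnique_lift_of_repWith_etale f hf
    (hrep.snd r) (hrep.fst r ≫ a) (r ≫ b)
    (by rw [Category.assoc, ← w, ← Category.assoc, sq.w, Category.assoc])
  exact ⟨m, Groth.Agent.H52.IsLocLift.of_isPullback sq hm1 hm2,
    fun m' hm' => hmu m' ⟨hm'.2 _ _ _ sq.w, hm'.1⟩⟩

/-- Two algebraic spaces etale over `X'` with a common thickening source are isomorphic over `X'`. -/
theorem exists_iso_of_etale_of_isThickMor {X' P P' Z : Sp S} (hP : IsAlgSpace P)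
    (hP' : IsAlgSpace P') (e : P ⟶ X') (he : RepWith @Etale e) (e' : P' ⟶ X')
    (he' : RepWith @Etale e') (j : Z ⟶ P) (hj : IsThickMor j) (j' : Z ⟶ P') (hj' : IsThickMor j')
    (w : j ≫ e = j' ≫ e') : ∃ φ : P ≅ P', φ.hom ≫ e' = e ∧ j ≫ φ.hom = j' := by
  obtain ⟨l, ⟨hl1, hl2⟩, -⟩ := existsUnique_lift_etale_of_isThickMor hP e' he' j hj j' e w
  obtain ⟨l', ⟨hl'1, hl'2⟩, -⟩ := existsUnique_lift_etale_of_isThickMor hP' e he j' hj' j e' w.symm
  obtain ⟨_, -, hu⟩ := existsUnique_lift_etale_of_isThickMor hP e he j hj j e rfl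
  obtain ⟨_, -, hu'⟩ := existsUnique_lift_etale_of_isThickMor hP' e' he' j' hj' j' e' rfl
  refine ⟨⟨l, l', ?_, ?_⟩, hl2, hl1⟩
  · rw [hu (l ≫ l') ⟨by rw [← Category.assoc, hl1, hl'1], by rw [Category.assoc, hl'2, hl2]⟩,
      hu (𝟙 P) ⟨Category.comp_id _, Category.id_comp _⟩]
  · rw [hu' (l' ≫ l) ⟨by rw [← Category.assoc, hl'1, hl1], by rw [Category.assoc, hl2, hl'2]⟩,
      hu' (𝟙 P') ⟨Category.comp_id _, Category.id_comp _⟩]

end Groth.Agent.Lib.Helper54
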