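import Groth.Agent.Lib.Helper54.ThickEt
import Groth.Prelude.Def_AlgSpOX2

/-!
# Base change of the small etale site along a thickening is fully faithful
-/

set_option autoImplicit false
set_option backward.isDefEq.respectTransparency false
universe u
open CategoryTheory CategoryTheory.Limits AlgebraicGeometry
open AlgSp

namespace Groth.Agent.Lib.Helper54

variable {S : Scheme.{u}} {X X' : Sp S} {i : X ⟶ X'}

theorem isThickMor_bcπ (hi : IsThickMor i) (E : EtOver X') :
    IsThickMor ((yon S).map (EtOver.bcπ hi.1 E)) :=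
  (isThickMor_yon_map_iff _).2 (hi.property_snd E.obj.hom)

/-- The lifting problem solved by morphisms of the small etale site of a thickening. -/
theorem existsUnique_lift_bc (hi : IsThickMor i) (E E' : EtOver X')
    (φ : (EtOver.bc hi.1).obj E ⟶ (EtOver.bc hi.1).obj E') :
    ∃! l : (yon S).obj E.obj.left ⟶ (yon S).obj E'.obj.left,
      (yon S).map (EtOver.bcπ hi.1 E) ≫ l =
        (yon S).map (φ.hom.left ≫ EtOver.bcπ hi.1 E') ∧ l ≫ E'.obj.hom = E.obj.hom := by
  refine existsUnique_lift_etale_of_isThickMor (IsAlgSpace.yon_obj E.obj.left) E'.obj.hom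
    E'.property _ (isThickMor_bcπ hi E) _ E.obj.hom ?_
  have h1 := (hi.1.isPullback E.obj.hom).w
  have h2 := (hi.1.isPullback E'.obj.hom).w
  have h3 := EtOver.w φ
  rw [Functor.map_comp, Category.assoc, ← h2, ← h1, ← Category.assoc]
  exact congrArg (· ≫ i) h3.symm

theorem bc_faithful (hi : IsThickMor i) : (EtOver.bc hi.1).Faithful where
  map_injective {E E'} ψ ψ' h := by
    obtain ⟨l, -, hu⟩ := existsUnique_lift_bc hi E E' ((EtOver.bc hi.1).map ψ)
    have key : ∀ χ : E ⟶ E', (EtOver.bc hi.1).map χ = (EtOver.bc hi.1).map ψ →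
        (yon S).map χ.hom.left = l := by
      intro χ hχ
      refine hu _ ⟨?_, EtOver.w χ⟩
      rw [← Functor.map_comp, ← hχ]
      exact congrArg (yon S).map (EtOver.bcMap_snd hi.1 χ).symm
    apply EtOver.hom_ext
    apply (yon S).map_injective
    rw [key ψ rfl, key ψ' h.symm]

theorem bc_full (hi : IsThickMor i) : (EtOver.bc hi.1).Full where
  map_surjective {E E'} φ := by
    obtain ⟨l, ⟨hl1, hl2⟩, -⟩ := existsUnique_lift_bc hi E E' φ
    obtain ⟨ψ₀, rfl⟩ := (yon S).map_surjective l
    refine ⟨EtOver.homMk ψ₀ hl2, ?_⟩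
    apply EtOver.hom_ext
    apply hi.1.hom_ext
    · rw [EtOver.bc_map, EtOver.map_bcMap_fst]
      exact (EtOver.w φ).symm
    · rw [EtOver.bc_map, EtOver.bcMap_snd]
      apply (yon S).map_injective
      rw [Functor.map_comp]
      exact hl1

end Groth.Agent.Lib.Helper54
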