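import Groth.Agent.Lib.Helper54.ThickBC
import Mathlib.AlgebraicGeometry.AffineSpace

/-!
# Morphisms from sheaves to affine space
-/

set_option autoImplicit false
set_option backward.isDefEq.respectTransparency false
universe u
open CategoryTheory CategoryTheory.Limits AlgebraicGeometry
open AlgSp

namespace Groth.Agent.Lib.Helper54

variable {S : Scheme.{u}}

/-- Affine space over `S` as an object of `Over S`. -/
noncomputable def affOver (n : Type u) (S : Scheme.{u}) : Over S := Over.mk (𝔸(n; S) ↘ S)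

/-- The morphism to affine space over `S` given by a vector of functions. -/
noncomputable def vecHom {n : Type u} (Z : Over S) (v : n → Γ(Z.left, ⊤)) : Z ⟶ affOver n S :=
  Over.homMk (AffineSpace.homOfVector Z.hom v) (AffineSpace.homOfVector_over _ _)

theorem vecHom_appTop_coord {n : Type u} (Z : Over S) (v : n → Γ(Z.left, ⊤)) (i : n) :
    (vecHom Z v).left.appTop.hom (AffineSpace.coord S i) = v i :=
  AffineSpace.homOfVector_appTop_coord _ _ _

theorem hom_affOver_ext {n : Type u} {Z : Over S} (φ ψ : Z ⟶ affOver n S)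
    (h : ∀ i, φ.left.appTop.hom (AffineSpace.coord S i) = ψ.left.appTop.hom (AffineSpace.coord S i)) :
    φ = ψ := by
  apply Over.OverMorphism.ext
  apply AffineSpace.hom_ext
  · exact (Over.w φ).trans (Over.w ψ).symm
  · exact h

theorem eq_vecHom {n : Type u} {Z : Over S} (φ : Z ⟶ affOver n S) :
    φ = vecHom Z (fun i => φ.left.appTop.hom (AffineSpace.coord S i)) :=
  hom_affOver_ext _ _ fun i =>
    (vecHom_appTop_coord Z (fun i => φ.left.appTop.hom (AffineSpace.coord S i)) i).symm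

theorem comp_vecHom {n : Type u} {Z Z' : Over S} (g : Z' ⟶ Z) (v : n → Γ(Z.left, ⊤)) :
    g ≫ vecHom Z v = vecHom Z' (fun i => g.left.appTop.hom (v i)) := by
  apply hom_affOver_ext
  intro i
  rw [vecHom_appTop_coord]
  change g.left.appTop.hom ((vecHom Z v).left.appTop.hom (AffineSpace.coord S i)) = _
  rw [vecHom_appTop_coord]

/-- Descent of a vector of functions on a chart to a morphism to affine space. -/
theorem exists_desc_vecHom {X' : Sp S} {U' : Over S} (a' : (yon S).obj U' ⟶ X') [Epi a']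
    {n : Type u} (b : n → Γ(U'.left, ⊤))
    (hb : ∀ (Z : Over S) (z₁ z₂ : Z ⟶ U'), (yon S).map z₁ ≫ a' = (yon S).map z₂ ≫ a' →
      ∀ i, z₁.left.appTop.hom (b i) = z₂.left.appTop.hom (b i)) :
    ∃ φ : X' ⟶ (yon S).obj (affOver n S), a' ≫ φ = (yon S).map (vecHom U' b) := by
  refine Groth.Agent.H52.exists_desc_of_epi a' _ ?_
  intro P p₁ p₂ h12
  apply Groth.Agent.H52.sp_hom_ext
  intro Z x
  obtain ⟨z₁, hz₁⟩ := (yon S).map_surjective (x ≫ p₁)
  obtain ⟨z₂, hz₂⟩ := (yon S).map_surjective (x ≫ p₂)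
  rw [← Category.assoc, ← Category.assoc, ← hz₁, ← hz₂, ← Functor.map_comp, ← Functor.map_comp,
    comp_vecHom, comp_vecHom]
  congr 2
  funext i
  exact hb Z z₁ z₂ (by rw [hz₁, hz₂, Category.assoc, Category.assoc, h12]) i

/-- A morphism from a thickening of `T` to a scheme factors through an open subscheme as soon as
its restriction to `T` does. -/
theorem exists_factor_through_open {X' : Sp S} {T Y W : Over S} (c : (yon S).obj T ⟶ X')
    (hc : IsThickMor c) (φ : X' ⟶ (yon S).obj Y) (ι : W ⟶ Y) [IsOpenImmersion ι.left]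
    (ψ₀ : T ⟶ W) (h : c ≫ φ = (yon S).map (ψ₀ ≫ ι)) :
    ∃ ψ : X' ⟶ (yon S).obj W, ψ ≫ (yon S).map ι = φ := by
  refine Groth.Agent.H53.exists_factor_of_range_subset ((yon S).map ι)
    ((repWith_yon_map_iff _ _).2 inferInstance) φ ?_
  rintro _ ⟨x', rfl⟩
  obtain ⟨t, rfl⟩ := surjective_points_of_isThickMor c hc x'
  refine ⟨Points.map ((yon S).map ψ₀) t, ?_⟩
  rw [← Points.map_comp, ← Points.map_comp, h, Functor.map_comp]

theorem isPullback_of_comp_mono {C : Type*} [Category C] {A B D E F : C} {fst : A ⟶ B} {snd : A ⟶ D}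
    {f : B ⟶ E} {g : D ⟶ E} (i : E ⟶ F) [Mono i] (sq : IsPullback fst snd (f ≫ i) (g ≫ i)) :
    IsPullback fst snd f g := by
  have w : fst ≫ f = snd ≫ g := by
    rw [← cancel_mono i, Category.assoc, Category.assoc]; exact sq.w
  refine ⟨⟨w⟩, ⟨PullbackCone.IsLimit.mk w
    (fun s => sq.lift s.fst s.snd (by rw [← Category.assoc, s.condition, Category.assoc]))
    (fun s => sq.lift_fst _ _ _) (fun s => sq.lift_snd _ _ _) ?_⟩⟩
  intro s m h1 h2
  apply sq.hom_ext
  · rw [h1, sq.lift_fst]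
  · rw [h2, sq.lift_snd]

/-- A thickening `X'` of an affine scheme `T` such that some etale covering of `T` refining a chart
of `X'` is the base change of an etale `V ⟶ Y` with `V` affine along a morphism `X' ⟶ Y`, is an
affine scheme. -/
theorem exists_iso_yon_affine_of_model {X' : Sp S} (hX' : IsAlgSpace X') {T U' P₀ Y V : Over S}
    [IsAffine T.left] (c : (yon S).obj T ⟶ X') (hc : IsThickMor c) (a' : (yon S).obj U' ⟶ X')
    (ha' : RepWith @Etale a') [IsAffine P₀.left] [IsAffine V.left] (p₁ : P₀ ⟶ T)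
    [Surjective p₁.left]
    (k : (yon S).obj P₀ ⟶ (yon S).obj U') (hk : k ≫ a' = (yon S).map p₁ ≫ c)
    (φ : X' ⟶ (yon S).obj Y) (v : V ⟶ Y) [Etale v.left] (p₂ : P₀ ⟶ V)
    (sq : IsPullback ((yon S).map p₁) ((yon S).map p₂) (c ≫ φ) ((yon S).map v)) :
    ∃ T' : Over S, IsAffine T'.left ∧ Nonempty ((yon S).obj T' ≅ X') := by
  obtain ⟨φ₀, hφ₀⟩ := (yon S).map_surjective (c ≫ φ)
  have hw : p₁ ≫ φ₀ = p₂ ≫ v := (yon S).map_injective (by
    rw [Functor.map_comp, Functor.map_comp, hφ₀]; exact sq.w)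
  let W : Y.left.Opens := ⟨Set.range v.left, v.left.isOpenMap.isOpen_range⟩
  let Wo : Over S := Over.mk (W.ι ≫ Y.hom)
  let ι : Wo ⟶ Y := Over.homMk W.ι rfl
  have hι : IsOpenImmersion ι.left := inferInstanceAs (IsOpenImmersion W.ι)
  have hv : Set.range v.left ⊆ Set.range W.ι := by
    rw [Scheme.Opens.range_ι]; exact subset_rfl
  have hφr : Set.range φ₀.left ⊆ Set.range W.ι := by
    rw [Scheme.Opens.range_ι]
    rintro _ ⟨t, rfl⟩
    obtain ⟨x, rfl⟩ := p₁.left.surjective t
    refine ⟨p₂.left x, ?_⟩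
    rw [← Scheme.Hom.comp_apply, ← Scheme.Hom.comp_apply, ← Over.comp_left, ← Over.comp_left, hw]
  let v' : V ⟶ Wo := Over.homMk (IsOpenImmersion.lift W.ι v.left hv) (by
    change IsOpenImmersion.lift W.ι v.left hv ≫ W.ι ≫ Y.hom = V.hom
    rw [← Category.assoc, IsOpenImmersion.lift_fac, Over.w])
  let ψ₀ : T ⟶ Wo := Over.homMk (IsOpenImmersion.lift W.ι φ₀.left hφr) (by
    change IsOpenImmersion.lift W.ι φ₀.left hφr ≫ W.ι ≫ Y.hom = T.hom
    rw [← Category.assoc, IsOpenImmersion.lift_fac, Over.w])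
  have hv' : v' ≫ ι = v := by
    ext; exact IsOpenImmersion.lift_fac _ _ _
  have hψ₀ : ψ₀ ≫ ι = φ₀ := by
    ext; exact IsOpenImmersion.lift_fac _ _ _
  have : Etale (v'.left ≫ ι.left) := by
    rw [← Over.comp_left, hv']; infer_instance
  have hv'e : Etale v'.left := Etale.of_comp v'.left ι.left
  have hv's : Surjective v'.left := by
    constructor
    intro w
    obtain ⟨x, hx⟩ : W.ι w ∈ Set.range v.left := w.2
    refine ⟨x, ?_⟩
    apply W.ι.injective
    rw [← hx]
    exact congrArg (fun m : V ⟶ Y => m.left x) hv'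
  obtain ⟨ψ, hψ⟩ := exists_factor_through_open c hc φ ι ψ₀ (by rw [hψ₀, hφ₀])
  have : Mono ((yon S).map ι) := by
    have : Mono ι.left := inferInstance
    have : Mono ι := (Over.forget S).mono_of_mono_map ‹_›
    exact Groth.Agent.H52.mono_yon_map ι
  have sq' : IsPullback ((yon S).map p₁) ((yon S).map p₂) (c ≫ ψ) ((yon S).map v') := by
    apply isPullback_of_comp_mono ((yon S).map ι)
    rw [Category.assoc, hψ, ← Functor.map_comp, hv']
    exact sq
  exact exists_iso_yon_affine_of_chart hX' c hc a' ha' p₁ k hk ψ v' p₂ sq'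

/-- Extension of a morphism `T ⟶ 𝔸ⁿ` to a thickening `X'` of `T`, from invariant functions on a
chart lifting the coordinates. -/
theorem exists_extension_of_invariant {X' : Sp S} {T U' UT : Over S} (c : (yon S).obj T ⟶ X')
    (a' : (yon S).obj U' ⟶ X') (ha' : RepWith @Etale a') (has : RepWith @Surjective a')
    (fU : UT ⟶ T) (sU : UT ⟶ U')
    (hU : IsPullback ((yon S).map fU) ((yon S).map sU) c a') {n : Type u}
    (φ₀ : T ⟶ affOver n S) (b : n → Γ(U'.left, ⊤))
    (hb1 : ∀ i, sU.left.appTop.hom (b i) =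
      fU.left.appTop.hom (φ₀.left.appTop.hom (AffineSpace.coord S i)))
    (hb2 : ∀ (Z : Over S) (z₁ z₂ : Z ⟶ U'), (yon S).map z₁ ≫ a' = (yon S).map z₂ ≫ a' →
      ∀ i, z₁.left.appTop.hom (b i) = z₂.left.appTop.hom (b i)) :
    ∃ φ : X' ⟶ (yon S).obj (affOver n S), c ≫ φ = (yon S).map φ₀ := by
  have : Epi a' := Groth.Agent.H52.epi_of_repWith_etale_surjective a' ha' has
  obtain ⟨φ, hφ⟩ := exists_desc_vecHom a' b hb2
  have : Epi ((yon S).map fU) :=
    Groth.Agent.H52.epi_of_repWith_etale_surjective _ (MorphismProperty.of_isPullback hU.flip ha')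
      (MorphismProperty.of_isPullback hU.flip has)
  refine ⟨φ, ?_⟩
  rw [← cancel_epi ((yon S).map fU), ← Category.assoc, hU.w, Category.assoc, hφ,
    ← Functor.map_comp, ← Functor.map_comp, comp_vecHom, eq_vecHom φ₀, comp_vecHom]
  congr 2
  funext i
  exact hb1 i

end Groth.Agent.Lib.Helper54
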