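import Mathlib

/-!
# Algebra for square zero thickenings: vanishing of the first cohomology of a twisted cobar complex
-/

set_option autoImplicit false
set_option linter.unusedSectionVars false
set_option linter.style.haveILetI false
set_option backward.isDefEq.respectTransparency false
open TensorProduct

namespace Groth.Agent.Lib.Helper54

section Cobar

variable {A B : Type*} [CommRing A] [CommRing B] [Algebra A B]

/-- Multiplication of the first two factors `c ⊗ (b ⊗ m) ↦ (c * b) ⊗ m`. -/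
noncomputable def hmul (M : Type*) [AddCommGroup M] [Module A M] : B ⊗[A] (B ⊗[A] M) →ₗ[A] B ⊗[A] M :=
  (LinearMap.rTensor M (LinearMap.mul' A B)) ∘ₗ (TensorProduct.assoc A B B M).symm.toLinearMap

@[simp]
theorem hmul_tmul (M : Type*) [AddCommGroup M] [Module A M] (c b : B) (m : M) :
    hmul (A := A) M (c ⊗ₜ[A] (b ⊗ₜ[A] m)) = (c * b) ⊗ₜ[A] m := by
  simp [hmul]

variable {J : Type*} [AddCommGroup J] [Module A J]

/-- The twisted differential `B ⊗ J ⟶ B ⊗ B ⊗ J`. -/
noncomputable def cobarD (θ : J →ₗ[A] B ⊗[A] J) : B ⊗[A] J →ₗ[A] B ⊗[A] (B ⊗[A] J) :=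
  TensorProduct.mk A B (B ⊗[A] J) 1 - LinearMap.lTensor B (TensorProduct.mk A B J 1) + LinearMap.lTensor B θ

/-- The twisted differential `J ⟶ B ⊗ J`. -/
noncomputable def cobarδ (θ : J →ₗ[A] B ⊗[A] J) : J →ₗ[A] B ⊗[A] J :=
  TensorProduct.mk A B J 1 - θ

theorem cobar_homotopy (θ : J →ₗ[A] B ⊗[A] J) (x : B ⊗[A] (B ⊗[A] J)) :
    hmul (A := A) (B ⊗[A] J) (LinearMap.lTensor B (cobarD θ) x) +
      LinearMap.lTensor B (cobarδ θ) (hmul (A := A) J x) = x := by
  induction x using TensorProduct.induction_on with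
  | zero => simp
  | tmul c y =>
    induction y using TensorProduct.induction_on with
    | zero => simp
    | tmul b u =>
      simp only [cobarD, cobarδ, LinearMap.lTensor_tmul, LinearMap.add_apply, LinearMap.sub_apply,
        TensorProduct.mk_apply, hmul_tmul, tmul_add, tmul_sub, map_add, map_sub, mul_one]
      abel
    | add y₁ y₂ h₁ h₂ =>
      rw [tmul_add, map_add, map_add, map_add, map_add]
      have := congrArg₂ (· + ·) h₁ h₂
      rw [← this]
      abel
  | add x₁ x₂ h₁ h₂ =>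
    rw [map_add, map_add, map_add, map_add]
    have := congrArg₂ (· + ·) h₁ h₂
    rw [← this]
    abel

/-- Exactness of the twisted cobar complex in degree one, for a faithfully flat algebra and an
arbitrary twist `θ`. -/
theorem cobar_exact [Module.FaithfullyFlat A B] (θ : J →ₗ[A] B ⊗[A] J) (w : B ⊗[A] J)
    (hw : cobarD θ w = 0) : ∃ u : J, cobarδ θ u = w := by
  let q := (LinearMap.range (cobarδ θ)).mkQ
  let e := (LinearMap.ker (cobarD θ)).subtype
  have hqδ : q ∘ₗ cobarδ θ = 0 := LinearMap.range_mkQ_comp _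
  have h0 : LinearMap.lTensor B (q ∘ₗ e) = 0 := by
    apply TensorProduct.ext'
    intro c k
    have hk : cobarD θ k.1 = 0 := k.2
    have h1 := cobar_homotopy θ (c ⊗ₜ[A] k.1)
    rw [LinearMap.lTensor_tmul, hk, tmul_zero, map_zero, zero_add] at h1
    have h2 : LinearMap.lTensor B (q ∘ₗ e) (c ⊗ₜ[A] k) = LinearMap.lTensor B q (c ⊗ₜ[A] k.1) := by
      simp [e]
    rw [h2, ← h1, ← LinearMap.comp_apply, ← LinearMap.lTensor_comp, hqδ]
    simp
  have h1 : q ∘ₗ e = 0 := by
    have := Module.FaithfullyFlat.zero_iff_lTensor_zero A B (N := ↥(LinearMap.ker (cobarD θ)))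
      (N' := (B ⊗[A] J) ⧸ LinearMap.range (cobarδ θ)) (q ∘ₗ e)
    exact this.2 h0
  have h2 : q w = 0 := by
    have := congrArg (fun f => f ⟨w, hw⟩) h1
    simpa [e] using this
  have h3 : w ∈ LinearMap.range (cobarδ θ) := by
    rwa [Submodule.mkQ_apply, Submodule.Quotient.mk_eq_zero] at h2
  exact h3

end Cobar

section BC

variable {A Q0 E0 Q1 E1 P1 : Type*} [CommRing A] [CommRing Q0] [CommRing E0] [Algebra A Q0]
  [Algebra A E0] [CommRing Q1] [CommRing E1] [CommRing P1]
  (πQ : Q1 →+* Q0) (πE : E1 →+* E0) (πP : P1 →+* E0 ⊗[A] Q0) (v : Q1 →+* P1) (σ : E1 →+* P1)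
  [Module Q0 (RingHom.ker πQ)] [Module A (RingHom.ker πQ)] [IsScalarTower A Q0 (RingHom.ker πQ)]

/-- The hypotheses of the base change lemma for square zero kernels. -/
structure BCData : Prop where
  surjQ : Function.Surjective πQ
  surjE : Function.Surjective πE
  hv : ∀ x, πP (v x) = 1 ⊗ₜ[A] πQ x
  hσ : ∀ x, πP (σ x) = πE x ⊗ₜ[A] 1
  flat : v.Flat
  sq : ∀ x y, x ∈ RingHom.ker πQ → y ∈ RingHom.ker πQ → x * y = 0
  ker : RingHom.ker πP = (RingHom.ker πQ).map v
  smul : ∀ (x : Q1) (n : RingHom.ker πQ), πQ x • n = x • n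

namespace BCData

variable {πQ πE πP v σ} (h : BCData πQ πE πP v σ)
include h

theorem kerP_mul {x y : P1} (hx : x ∈ RingHom.ker πP) (hy : y ∈ RingHom.ker πP) : x * y = 0 := by
  have h1 : RingHom.ker πQ * RingHom.ker πQ = ⊥ := by
    rw [eq_bot_iff, Ideal.mul_le]
    intro x hx y hy
    rw [h.sq x y hx hy]
    exact Ideal.zero_mem _
  have h2 : RingHom.ker πP * RingHom.ker πP = ⊥ := by
    rw [h.ker, ← Ideal.map_mul, h1, Ideal.map_bot]
  have := Ideal.mul_mem_mul hx hy
  rw [h2] at this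
  exact this

theorem map_mem_kerP (n : RingHom.ker πQ) : v n ∈ RingHom.ker πP := by
  rw [h.ker]
  exact Ideal.mem_map_of_mem _ n.2

theorem sigma_sub_mem_kerP {x x' : E1} (hx : πE x = πE x') : σ x - σ x' ∈ RingHom.ker πP := by
  rw [RingHom.mem_ker, map_sub, h.hσ, h.hσ, hx, sub_self]

theorem tmul_eq_zero_of_mem_kerP {k : P1} (hk : k ∈ RingHom.ker πP) (n : RingHom.ker πQ) :
    letI := v.toAlgebra
    (k ⊗ₜ[Q1] n : P1 ⊗[Q1] RingHom.ker πQ) = 0 := by
  letI := v.toAlgebra
  rw [h.ker] at hk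
  change k ∈ Ideal.span (v '' (RingHom.ker πQ : Set Q1)) at hk
  induction hk using Submodule.span_induction with
  | mem x hx =>
    obtain ⟨n', hn', rfl⟩ := hx
    have e1 : v n' = n' • (1 : P1) := by
      rw [Algebra.smul_def, mul_one]; rfl
    rw [e1, TensorProduct.smul_tmul]
    have e2 : n' • n = 0 := by
      ext
      change n' * (n : Q1) = 0
      exact h.sq _ _ hn' n.2
    rw [e2, tmul_zero]
  | zero => exact zero_tmul _ _
  | add x y _ _ hx hy => rw [add_tmul, hx, hy, add_zero]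
  | smul a x _ hx =>
    rw [smul_eq_mul, ← smul_eq_mul, ← TensorProduct.smul_tmul', hx, smul_zero]

theorem exists_f :
    letI := v.toAlgebra
    ∃ f : E0 ⊗[A] (RingHom.ker πQ) →+ P1 ⊗[Q1] (RingHom.ker πQ),
      ∀ x n, f (πE x ⊗ₜ[A] n) = σ x ⊗ₜ[Q1] n := by
  letI := v.toAlgebra
  have key : ∀ {x x' : E1}, πE x = πE x' → ∀ n : RingHom.ker πQ,
      (σ x ⊗ₜ[Q1] n : P1 ⊗[Q1] RingHom.ker πQ) = σ x' ⊗ₜ[Q1] n := by
    intro x x' hx n
    have := h.tmul_eq_zero_of_mem_kerP (h.sigma_sub_mem_kerP hx) n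
    rwa [sub_tmul, sub_eq_zero] at this
  let s := Function.surjInv h.surjE
  have hs : ∀ e, πE (s e) = e := Function.surjInv_eq h.surjE
  let f₀ : E0 →+ (RingHom.ker πQ) →+ P1 ⊗[Q1] (RingHom.ker πQ) :=
    AddMonoidHom.mk' (fun e => AddMonoidHom.mk' (fun n => σ (s e) ⊗ₜ[Q1] n)
      (fun n n' => tmul_add _ _ _))
      (fun e e' => by
        ext n
        simp only [AddMonoidHom.mk'_apply, AddMonoidHom.add_apply]
        rw [key (x' := s e + s e') (by rw [hs, map_add, hs, hs]) n, map_add, add_tmul])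
  refine ⟨TensorProduct.liftAddHom f₀ ?_, ?_⟩
  · intro a e n
    change σ (s (a • e)) ⊗ₜ[Q1] n = σ (s e) ⊗ₜ[Q1] (a • n)
    obtain ⟨ã, hã⟩ := h.surjQ (algebraMap A Q0 a)
    obtain ⟨ãE, hãE⟩ := h.surjE (algebraMap A E0 a)
    have e1 : a • n = ã • n := by
      rw [← h.smul, hã, algebraMap_smul]
    rw [e1, ← TensorProduct.smul_tmul]
    have e2 : ã • σ (s e) = v ã * σ (s e) := by rw [Algebra.smul_def]; rfl
    rw [e2, key (x' := ãE * s e) (by rw [hs, map_mul, hãE, hs, Algebra.smul_def]) n, map_mul]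
    have hk : σ ãE - v ã ∈ RingHom.ker πP := by
      rw [RingHom.mem_ker, map_sub, h.hσ, h.hv, hãE, hã, sub_eq_zero]
      rw [Algebra.algebraMap_eq_smul_one, Algebra.algebraMap_eq_smul_one, TensorProduct.smul_tmul]
    have := h.tmul_eq_zero_of_mem_kerP ((RingHom.ker πP).mul_mem_right (σ (s e)) hk) n
    rwa [sub_mul, sub_tmul, sub_eq_zero] at this
  · intro x n
    rw [TensorProduct.liftAddHom_tmul]
    exact key (hs _) n

theorem exists_g :
    letI := v.toAlgebra
    ∃ g : P1 ⊗[Q1] (RingHom.ker πQ) →+ E0 ⊗[A] (RingHom.ker πQ),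
      ∀ (x : E1) n, g (σ x ⊗ₜ[Q1] n) = πE x ⊗ₜ[A] n := by
  letI := v.toAlgebra
  let star : RingHom.ker πQ →ₗ[A] (E0 ⊗[A] Q0) →ₗ[A] (E0 ⊗[A] RingHom.ker πQ) :=
    (LinearMap.lTensorHom E0).comp ((Algebra.lsmul A A (RingHom.ker πQ)).toLinearMap.flip)
  have hstar : ∀ (n : RingHom.ker πQ) (e : E0) (q : Q0), star n (e ⊗ₜ q) = e ⊗ₜ (q • n) := by
    intro n e q
    simp [star]
  let g₀ : P1 →+ RingHom.ker πQ →+ E0 ⊗[A] RingHom.ker πQ :=
    AddMonoidHom.mk' (fun p => AddMonoidHom.mk' (fun n => star n (πP p)) (fun n n' => by simp))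
      (fun p p' => by ext n; simp)
  refine ⟨TensorProduct.liftAddHom g₀ ?_, ?_⟩
  · intro q p n
    change star n (πP (q • p)) = star (q • n) (πP p)
    have e1 : q • p = v q * p := by rw [Algebra.smul_def]; rfl
    rw [e1, map_mul, h.hv, ← h.smul]
    generalize πP p = t
    induction t using TensorProduct.induction_on with
    | zero => simp
    | tmul e q' =>
      rw [Algebra.TensorProduct.tmul_mul_tmul, hstar, hstar, one_mul, mul_comm, mul_smul]
    | add t₁ t₂ h₁ h₂ => rw [mul_add, map_add, map_add, h₁, h₂]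
  · intro x n
    rw [TensorProduct.liftAddHom_tmul]
    change star n (πP (σ x)) = _
    rw [h.hσ, hstar, one_smul]

/-- The base change lemma: the kernel of `πP` is `E0 ⊗ ker πQ` through `e ⊗ n ↦ σ ẽ * v n`. -/
theorem exists_beta : ∃ β : E0 ⊗[A] (RingHom.ker πQ) →+ P1,
    (∀ (x : E1) (n : RingHom.ker πQ), β (πE x ⊗ₜ[A] n) = σ x * v n) ∧ Function.Injective β ∧
      ∀ p, p ∈ RingHom.ker πP ↔ ∃ w, β w = p := by
  letI := v.toAlgebra
  haveI : Module.Flat Q1 P1 := h.flat
  obtain ⟨f, hf⟩ := h.exists_f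
  obtain ⟨g, hg⟩ := h.exists_g
  let μ : P1 ⊗[Q1] (RingHom.ker πQ) →ₗ[Q1] P1 :=
    (TensorProduct.rid Q1 P1).toLinearMap ∘ₗ LinearMap.lTensor P1 (RingHom.ker πQ).subtype
  have hμ : ∀ (p : P1) (n : RingHom.ker πQ), μ (p ⊗ₜ n) = p * v n := by
    intro p n
    change (TensorProduct.rid Q1 P1) (p ⊗ₜ[Q1] (n : Q1)) = _
    rw [TensorProduct.rid_tmul, Algebra.smul_def, mul_comm]
    rfl
  have hμinj : Function.Injective μ :=
    (TensorProduct.rid Q1 P1).injective.comp
      (Module.Flat.lTensor_preserves_injective_linearMap _ Subtype.val_injective)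
  have hgf : ∀ w, g (f w) = w := by
    intro w
    induction w using TensorProduct.induction_on with
    | zero => rw [f.map_zero, g.map_zero]
    | tmul e n =>
      obtain ⟨x, rfl⟩ := h.surjE e
      rw [hf, hg]
    | add w₁ w₂ h₁ h₂ => rw [f.map_add, g.map_add, h₁, h₂]
  let β : E0 ⊗[A] (RingHom.ker πQ) →+ P1 := μ.toAddMonoidHom.comp f
  have hβ : ∀ (x : E1) (n : RingHom.ker πQ), β (πE x ⊗ₜ n) = σ x * v n := by
    intro x n
    change μ (f _) = _
    rw [hf, hμ]
  refine ⟨β, hβ, ?_, ?_⟩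
  · intro w w' hww
    have : f w = f w' := hμinj hww
    rw [← hgf w, ← hgf w', this]
  · have hmem : ∀ w, β w ∈ RingHom.ker πP := by
      intro w
      induction w using TensorProduct.induction_on with
      | zero => rw [β.map_zero]; exact Ideal.zero_mem _
      | tmul e n =>
        obtain ⟨x, rfl⟩ := h.surjE e
        rw [hβ]
        exact Ideal.mul_mem_left _ _ (h.map_mem_kerP n)
      | add w₁ w₂ h₁ h₂ => rw [β.map_add]; exact Ideal.add_mem _ h₁ h₂
    have hd : ∀ t : E0 ⊗[A] Q0, ∃ p'' : P1, πP p'' = t ∧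
        ∀ n : RingHom.ker πQ, ∃ w, β w = p'' * v n := by
      intro t
      induction t using TensorProduct.induction_on with
      | zero => exact ⟨0, map_zero _, fun n => ⟨0, by rw [β.map_zero, zero_mul]⟩⟩
      | tmul e q =>
        obtain ⟨x, rfl⟩ := h.surjE e
        obtain ⟨y, rfl⟩ := h.surjQ q
        refine ⟨σ x * v y, by rw [map_mul, h.hσ, h.hv, Algebra.TensorProduct.tmul_mul_tmul,
          mul_one, one_mul], fun n => ⟨πE x ⊗ₜ (y • n), ?_⟩⟩
        rw [hβ]
        change σ x * v (y * n) = _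
        rw [map_mul, mul_assoc]
      | add t₁ t₂ h₁ h₂ =>
        obtain ⟨p₁, hp₁, H₁⟩ := h₁
        obtain ⟨p₂, hp₂, H₂⟩ := h₂
        refine ⟨p₁ + p₂, by rw [map_add, hp₁, hp₂], fun n => ?_⟩
        obtain ⟨w₁, hw₁⟩ := H₁ n
        obtain ⟨w₂, hw₂⟩ := H₂ n
        exact ⟨w₁ + w₂, by rw [β.map_add, hw₁, hw₂, add_mul]⟩
    have hd' : ∀ (p' : P1) (n : RingHom.ker πQ), ∃ w, β w = p' * v n := by
      intro p' n
      obtain ⟨p'', hp'', H⟩ := hd (πP p')
      obtain ⟨w, hw⟩ := H n
      refine ⟨w, ?_⟩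
      have : (p' - p'') * v n = 0 :=
        h.kerP_mul (by rw [RingHom.mem_ker, map_sub, hp'', sub_self]) (h.map_mem_kerP n)
      rw [hw]
      rw [sub_mul, sub_eq_zero] at this
      exact this.symm
    have hd2 : ∀ w (p' : P1), ∃ w', β w' = p' * β w := by
      intro w p'
      induction w using TensorProduct.induction_on with
      | zero => exact ⟨0, by rw [β.map_zero, mul_zero]⟩
      | tmul e n =>
        obtain ⟨x, rfl⟩ := h.surjE e
        rw [hβ, ← mul_assoc]
        exact hd' _ n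
      | add w₁ w₂ h₁ h₂ =>
        obtain ⟨a, ha⟩ := h₁
        obtain ⟨b, hb⟩ := h₂
        exact ⟨a + b, by rw [β.map_add, β.map_add, ha, hb, mul_add]⟩
    intro p
    constructor
    · intro hp
      rw [h.ker] at hp
      change p ∈ Ideal.span _ at hp
      induction hp using Submodule.span_induction with
      | mem x hx =>
        obtain ⟨n, hn, rfl⟩ := hx
        obtain ⟨w, hw⟩ := hd' 1 ⟨n, hn⟩
        exact ⟨w, by rw [hw, one_mul]⟩
      | zero => exact ⟨0, β.map_zero⟩
      | add x y _ _ hx hy =>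
        obtain ⟨a, ha⟩ := hx
        obtain ⟨b, hb⟩ := hy
        exact ⟨a + b, by rw [β.map_add, ha, hb]⟩
      | smul a x _ hx =>
        obtain ⟨w, hw⟩ := hx
        obtain ⟨w', hw'⟩ := hd2 w a
        exact ⟨w', by rw [hw', hw, smul_eq_mul]⟩
    · rintro ⟨w, rfl⟩
      exact hmem w

end BCData

end BC

section KerModule

variable {R R0 : Type*} [CommRing R] [CommRing R0] (π : R →+* R0)
  (hπ : Function.Surjective π)
  (hsq : ∀ x y, x ∈ RingHom.ker π → y ∈ RingHom.ker π → x * y = 0)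

/-- The action of the quotient ring on a square zero kernel, through a set theoretic section. -/
@[reducible] noncomputable def kerSMul : SMul R0 (RingHom.ker π) := ⟨fun r n => Function.surjInv hπ r • n⟩

include hsq in
theorem kerSMul_map (c : R) (n : RingHom.ker π) :
    letI := kerSMul π hπ
    π c • n = c • n := by
  letI := kerSMul π hπ
  change Function.surjInv hπ (π c) • n = c • n
  ext
  change Function.surjInv hπ (π c) * (n : R) = c * n
  have h1 : Function.surjInv hπ (π c) - c ∈ RingHom.ker π := by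
    rw [RingHom.mem_ker, map_sub, Function.surjInv_eq hπ, sub_self]
  have := hsq _ _ h1 n.2
  rwa [sub_mul, sub_eq_zero] at this

/-- The module structure of a square zero kernel over the quotient ring. -/
@[reducible] noncomputable def kerModule : Module R0 (RingHom.ker π) :=
  letI := kerSMul π hπ
  Function.Surjective.moduleLeft π hπ (kerSMul_map π hπ hsq)

end KerModule

section CA

variable {A0 B0 B1 C1 D1 : Type*} [CommRing A0] [CommRing B0] [Algebra A0 B0]
  [Module.FaithfullyFlat A0 B0] [CommRing B1] [CommRing C1] [CommRing D1]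
  (πB : B1 →+* B0) (πC : C1 →+* B0 ⊗[A0] B0) (πD : D1 →+* (B0 ⊗[A0] B0) ⊗[A0] B0)
  (s t : B1 →+* C1) (p12 p13 p23 : C1 →+* D1)

/-- Invariant functions lift along a square zero thickening of an affine scheme, in terms of the
rings of an etale presentation: `B1`, `C1`, `D1` are the rings of the chart, of the relation and of
the triple overlap, and `B0` is the reduction of `B1`, faithfully flat over `A0`. -/
theorem exists_invariant_lift (hπB : Function.Surjective πB)
    (hsq : ∀ x y, x ∈ RingHom.ker πB → y ∈ RingHom.ker πB → x * y = 0)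
    (hs : ∀ x, πC (s x) = πB x ⊗ₜ[A0] 1) (ht : ∀ x, πC (t x) = 1 ⊗ₜ[A0] πB x)
    (h12 : ∀ c, πD (p12 c) = πC c ⊗ₜ[A0] 1) (h3 : ∀ x, πD (p23 (t x)) = 1 ⊗ₜ[A0] πB x)
    (e1 : ∀ x, p12 (s x) = p13 (s x)) (e2 : ∀ x, p12 (t x) = p23 (s x))
    (e3 : ∀ x, p23 (t x) = p13 (t x))
    (tflat : t.Flat) (qflat : (p23.comp t).Flat)
    (kerC : RingHom.ker πC = (RingHom.ker πB).map t)
    (kerD : RingHom.ker πD = (RingHom.ker πB).map (p23.comp t))
    (a : A0) : ∃ b : B1, πB b = algebraMap A0 B0 a ∧ s b = t b := by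
  letI : Module B0 (RingHom.ker πB) := kerModule πB hπB hsq
  letI : Module A0 (RingHom.ker πB) := Module.compHom _ (algebraMap A0 B0)
  haveI : IsScalarTower A0 B0 (RingHom.ker πB) := IsScalarTower.of_algebraMap_smul (fun r x => rfl)
  have hsmul : ∀ (x : B1) (n : RingHom.ker πB), πB x • n = x • n := kerSMul_map πB hπB hsq
  have hπC : Function.Surjective πC := by
    intro z
    induction z using TensorProduct.induction_on with
    | zero => exact ⟨0, map_zero _⟩
    | tmul x y =>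
      obtain ⟨x', rfl⟩ := hπB x
      obtain ⟨y', rfl⟩ := hπB y
      exact ⟨s x' * t y', by rw [map_mul, hs, ht, Algebra.TensorProduct.tmul_mul_tmul, mul_one,
        one_mul]⟩
    | add z₁ z₂ h₁ h₂ =>
      obtain ⟨c₁, rfl⟩ := h₁
      obtain ⟨c₂, rfl⟩ := h₂
      exact ⟨c₁ + c₂, map_add _ _ _⟩
  have bc1 : BCData πB πB πC t s := ⟨hπB, hπB, ht, hs, tflat, hsq, kerC, hsmul⟩
  have bc2 : BCData πB πC πD (p23.comp t) p12 := ⟨hπB, hπC, h3, h12, qflat, hsq, kerD, hsmul⟩
  obtain ⟨β, hβ, βinj, βrange⟩ := bc1.exists_beta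
  obtain ⟨γ₂, hγ₂, γ₂inj, -⟩ := bc2.exists_beta
  let γ : B0 ⊗[A0] (B0 ⊗[A0] RingHom.ker πB) →+ D1 :=
    γ₂.comp (TensorProduct.assoc A0 B0 B0 (RingHom.ker πB)).symm.toLinearMap.toAddMonoidHom
  have hγ : ∀ (x y : B1) (n : RingHom.ker πB),
      γ (πB x ⊗ₜ (πB y ⊗ₜ n)) = p12 (s x) * p12 (t y) * p23 (t n) := by
    intro x y n
    change γ₂ ((TensorProduct.assoc A0 B0 B0 (RingHom.ker πB)).symm (πB x ⊗ₜ (πB y ⊗ₜ n))) = _
    rw [TensorProduct.assoc_symm_tmul]
    have : (πB x ⊗ₜ[A0] πB y) = πC (s x * t y) := by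
      rw [map_mul, hs, ht, Algebra.TensorProduct.tmul_mul_tmul, mul_one, one_mul]
    rw [this, hγ₂, map_mul]
    rfl
  have γinj : Function.Injective γ :=
    γ₂inj.comp (TensorProduct.assoc A0 B0 B0 (RingHom.ker πB)).symm.injective
  have hsker : ∀ n : RingHom.ker πB, s n ∈ RingHom.ker πC := fun n => by
    rw [RingHom.mem_ker, hs, (RingHom.mem_ker).1 n.2, zero_tmul]
  choose θf hθf using fun n : RingHom.ker πB => (βrange _).1 (hsker n)
  have hβsmul : ∀ (a : A0) (x : B1), πB x = algebraMap A0 B0 a →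
      ∀ w, β (a • w) = s x * β w := by
    intro a x hx w
    induction w using TensorProduct.induction_on with
    | zero => rw [smul_zero, β.map_zero, mul_zero]
    | tmul y n =>
      obtain ⟨y', rfl⟩ := hπB y
      rw [TensorProduct.smul_tmul', Algebra.smul_def, ← hx, ← map_mul, hβ, hβ, map_mul, mul_assoc]
    | add w₁ w₂ h₁ h₂ => rw [smul_add, β.map_add, β.map_add, h₁, h₂, mul_add]
  let θ : RingHom.ker πB →ₗ[A0] B0 ⊗[A0] RingHom.ker πB :=
    { toFun := θf
      map_add' := fun n n' => by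
        apply βinj
        rw [β.map_add, hθf, hθf, hθf]
        change s ((n : B1) + n') = _
        rw [map_add]
      map_smul' := fun a n => by
        apply βinj
        obtain ⟨x, hx⟩ := hπB (algebraMap A0 B0 a)
        rw [RingHom.id_apply, hβsmul a x hx, hθf, hθf]
        have : (a • n : RingHom.ker πB) = x • n := by
          rw [← hsmul, hx]
          rfl
        rw [this]
        change s (x * n) = _
        rw [map_mul] }
  have hθ : ∀ n, β (θ n) = s n := hθf
  have I1 : ∀ w, γ ((1 : B0) ⊗ₜ[A0] w) = p23 (β w) := by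
    intro w
    induction w using TensorProduct.induction_on with
    | zero => rw [tmul_zero, γ.map_zero, β.map_zero, map_zero]
    | tmul y n =>
      obtain ⟨y', rfl⟩ := hπB y
      have := hγ 1 y' n
      rw [map_one, map_one, map_one, one_mul] at this
      rw [this, hβ, map_mul, e2]
    | add w₁ w₂ h₁ h₂ => rw [tmul_add, γ.map_add, β.map_add, map_add, h₁, h₂]
  have I2 : ∀ w, γ (LinearMap.lTensor B0 (TensorProduct.mk A0 B0 (RingHom.ker πB) 1) w) =
      p13 (β w) := by
    intro w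
    induction w using TensorProduct.induction_on with
    | zero => rw [map_zero, γ.map_zero, β.map_zero, map_zero]
    | tmul y n =>
      obtain ⟨y', rfl⟩ := hπB y
      rw [LinearMap.lTensor_tmul, TensorProduct.mk_apply]
      have := hγ y' 1 n
      rw [map_one, map_one, map_one, mul_one] at this
      rw [this, hβ, map_mul, e1, e3]
    | add w₁ w₂ h₁ h₂ => rw [map_add, γ.map_add, β.map_add, map_add, h₁, h₂]
  have I3' : ∀ (x : B1) w, γ (πB x ⊗ₜ[A0] w) = p12 (s x) * p23 (β w) := by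
    intro x w
    induction w using TensorProduct.induction_on with
    | zero => rw [tmul_zero, γ.map_zero, β.map_zero, map_zero, mul_zero]
    | tmul y n =>
      obtain ⟨y', rfl⟩ := hπB y
      rw [hγ, hβ, map_mul, e2, mul_assoc]
    | add w₁ w₂ h₁ h₂ => rw [tmul_add, γ.map_add, β.map_add, map_add, h₁, h₂, mul_add]
  have I3 : ∀ w, γ (LinearMap.lTensor B0 θ w) = p12 (β w) := by
    intro w
    induction w using TensorProduct.induction_on with
    | zero => rw [map_zero, γ.map_zero, β.map_zero, map_zero]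
    | tmul y n =>
      obtain ⟨y', rfl⟩ := hπB y
      rw [LinearMap.lTensor_tmul, I3', hθ, hβ, map_mul, e2]
    | add w₁ w₂ h₁ h₂ => rw [map_add, γ.map_add, β.map_add, map_add, h₁, h₂]
  obtain ⟨b, hb⟩ := hπB (algebraMap A0 B0 a)
  have hκ : t b - s b ∈ RingHom.ker πC := by
    rw [RingHom.mem_ker, map_sub, hs, ht, hb, sub_eq_zero, Algebra.algebraMap_eq_smul_one,
      TensorProduct.smul_tmul]
  obtain ⟨κ', hκ'⟩ := (βrange _).1 hκ
  have hcoc : cobarD θ κ' = 0 := by
    apply γinj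
    rw [γ.map_zero]
    change γ (TensorProduct.mk A0 B0 _ 1 κ' - LinearMap.lTensor B0 (TensorProduct.mk A0 B0 _ 1) κ' +
      LinearMap.lTensor B0 θ κ') = 0
    rw [γ.map_add, γ.map_sub, TensorProduct.mk_apply, I1, I2, I3, hκ', map_sub, map_sub, map_sub,
      e1, e2, e3]
    ring
  obtain ⟨u, hu⟩ := cobar_exact θ κ' hcoc
  have hu' : t u - s u = t b - s b := by
    rw [← hκ', ← hu]
    change _ = β (TensorProduct.mk A0 B0 _ 1 u - θ u)
    rw [β.map_sub, hθ, TensorProduct.mk_apply]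
    have := hβ 1 u
    rw [map_one, map_one, one_mul] at this
    rw [this]
  refine ⟨b - u, ?_, ?_⟩
  · rw [map_sub, (RingHom.mem_ker).1 u.2, sub_zero, hb]
  · rw [map_sub, map_sub]
    linear_combination hu'

end CA

end Groth.Agent.Lib.Helper54
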