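import Groth.Agent.Lib.Helper54.ThickSub
import Groth.Agent.Lib.Helper54.ThickAlg3

/-!
# Thickenings of affine schemes with an etale model are affine
-/

set_option autoImplicit false
set_option backward.isDefEq.respectTransparency false
universe u
open CategoryTheory CategoryTheory.Limits AlgebraicGeometry
open AlgSp

namespace Groth.Agent.Lib.Helper54

variable {S : Scheme.{u}} {X' : Sp S} {T : Over S} {c : (yon S).obj T ⟶ X'}

/-- The ideal of the thickening in a chart is invariant under the relation, and functions on the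
chart which come from `T` along the thickening are invariant modulo this ideal. -/
theorem ker_relation (hc : IsThickMor c) [IsAffine T.left] {U' : Over S} [IsAffine U'.left]
    (a' : (yon S).obj U' ⟶ X') {UT : Over S} (fU : UT ⟶ T) (sU : UT ⟶ U')
    (hU : IsPullback ((yon S).map fU) ((yon S).map sU) c a') {R' : Over S} (s t : R' ⟶ U')
    (K : IsPullback ((yon S).map s) ((yon S).map t) a' a') :
    Ideal.map s.left.appTop.hom (RingHom.ker sU.left.appTop.hom) =
        Ideal.map t.left.appTop.hom (RingHom.ker sU.left.appTop.hom) ∧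
      ∀ (b : Γ(U'.left, ⊤)) (a : Γ(T.left, ⊤)), sU.left.appTop.hom b = fU.left.appTop.hom a →
        s.left.appTop.hom b - t.left.appTop.hom b ∈
          Ideal.map s.left.appTop.hom (RingHom.ker sU.left.appTop.hom) := by
  obtain ⟨RT, fR, sR, hR, hsRth⟩ := exists_thick_baseChange c hc ((yon S).map t ≫ a')
  obtain ⟨tT, htT1, htT2⟩ := exists_baseChange_map hR hU t rfl
  obtain ⟨sT, hsT1, hsT2⟩ := exists_baseChange_map hR hU s K.w
  have hR'aff : IsAffine R'.left := isAffine_fibreProduct_of_thick hc a' a' s t K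
  have hsUth : thick sU.left := hc.property a' _ sU hU
  have : IsClosedImmersion sU.left := hsUth.1
  have hUTaff : IsAffine UT.left := (IsClosedImmersion.isAffine_surjective_of_isAffine sU.left).1
  have hπ : Function.Surjective sU.left.appTop.hom :=
    (IsClosedImmersion.isAffine_surjective_of_isAffine sU.left).2
  have P3 := (isPushout_appTop_of_isPullback (isPullback_left htT2)).flip
  have P3s := (isPushout_appTop_of_isPullback (isPullback_left hsT2)).flip
  obtain ⟨kt, -⟩ := ker_eq_map_of_isPushout P3 hπ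
  obtain ⟨ks, -⟩ := ker_eq_map_of_isPushout P3s hπ
  refine ⟨ks.symm.trans kt, fun b a hba => ?_⟩
  rw [← ks, RingHom.mem_ker, map_sub, sub_eq_zero]
  have e1 : sR.left.appTop.hom (s.left.appTop.hom b) = sT.left.appTop.hom (sU.left.appTop.hom b) :=
    congrArg (fun m : RT ⟶ U' => m.left.appTop.hom b) hsT2.w.symm
  have e2 : sR.left.appTop.hom (t.left.appTop.hom b) = tT.left.appTop.hom (sU.left.appTop.hom b) :=
    congrArg (fun m : RT ⟶ U' => m.left.appTop.hom b) htT2.w.symm
  have e3 : sT.left.appTop.hom (fU.left.appTop.hom a) = tT.left.appTop.hom (fU.left.appTop.hom a) :=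
    congrArg (fun m : RT ⟶ T => m.left.appTop.hom a) (hsT1.trans htT1.symm)
  rw [e1, e2, hba, e3]

/-- The ideal of functions whose pullback under `t` lies in the extension of `I₀` along `s` is
contained in `I₀`. -/
theorem comap_map_le_of_kernelPair {U' R' : Over S} (a' : (yon S).obj U' ⟶ X') (s t : R' ⟶ U')
    (K : IsPullback ((yon S).map s) ((yon S).map t) a' a') (I₀ : Ideal Γ(U'.left, ⊤)) :
    Ideal.comap t.left.appTop.hom (Ideal.map s.left.appTop.hom I₀) ≤ I₀ := by
  obtain ⟨e, he⟩ := (yon S).map_surjective (K.lift (𝟙 _) (𝟙 _) rfl)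
  have hes : e ≫ s = 𝟙 _ := (yon S).map_injective (by
    rw [Functor.map_comp, he, CategoryTheory.Functor.map_id]; exact K.lift_fst _ _ _)
  have het : e ≫ t = 𝟙 _ := (yon S).map_injective (by
    rw [Functor.map_comp, he, CategoryTheory.Functor.map_id]; exact K.lift_snd _ _ _)
  intro b hb
  have h1 := Ideal.mem_map_of_mem e.left.appTop.hom (Ideal.mem_comap.1 hb)
  rw [Ideal.map_map] at h1
  have h2 : e.left.appTop.hom.comp s.left.appTop.hom = RingHom.id _ := by
    have := congrArg (fun m : U' ⟶ U' => m.left.appTop.hom) hes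
    simpa using this
  have h3 : e.left.appTop.hom (t.left.appTop.hom b) = b := by
    have := congrArg (fun m : U' ⟶ U' => m.left.appTop.hom b) het
    simpa using this
  rwa [h2, Ideal.map_id, h3] at h1

/-- The kernel on global sections of a thickening consists of nilpotent elements. -/
theorem ker_le_nilradical_of_thick {A B : Scheme.{u}} (g : A ⟶ B) (hg : thick g) [CompactSpace B] :
    RingHom.ker g.appTop.hom ≤ nilradical Γ(B, ⊤) := by
  intro x hx
  rw [mem_nilradical, Scheme.isNilpotent_iff_basicOpen_eq_bot]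
  have : Surjective g := hg.2
  have h1 : g ⁻¹ᵁ B.basicOpen x = ⊥ := by
    rw [Scheme.preimage_basicOpen_top, (RingHom.mem_ker).1 hx, Scheme.basicOpen_zero]
  ext y
  simp only [TopologicalSpace.Opens.coe_bot, Set.mem_empty_iff_false, iff_false]
  intro hy
  obtain ⟨z, rfl⟩ := g.surjective y
  have : z ∈ g ⁻¹ᵁ B.basicOpen x := hy
  rw [h1] at this
  exact this

/-- A thickening `c` factors through the closed subspace `X₁` as soon as it does so on a chart;
the factor is a thickening with an induced chart. -/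
theorem exists_factor_chart_of_ker_le {X₁ : Sp S} {U' U₁ UT : Over S} [IsAffine U'.left]
    (hc : IsThickMor c)
    (a' : (yon S).obj U' ⟶ X') (ha' : RepWith @Etale a') (has : RepWith @Surjective a')
    (i₁ : X₁ ⟶ X') (hi₁ : RepWith @IsClosedImmersion i₁) (ι₁ : U₁ ⟶ U')
    (a₁ : (yon S).obj U₁ ⟶ X₁) (sq₁ : IsPullback a₁ ((yon S).map ι₁) i₁ a')
    (fU : UT ⟶ T) (sU : UT ⟶ U') (hU : IsPullback ((yon S).map fU) ((yon S).map sU) c a')
    (hle : RingHom.ker ι₁.left.appTop.hom ≤ RingHom.ker sU.left.appTop.hom) :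
    ∃ (c₁ : (yon S).obj T ⟶ X₁) (m : UT ⟶ U₁), c₁ ≫ i₁ = c ∧ m ≫ ι₁ = sU ∧ IsThickMor i₁ ∧
      IsThickMor c₁ ∧ IsPullback ((yon S).map fU) ((yon S).map m) c₁ a₁ := by
  have : Mono i₁ := Groth.Agent.H53.SchImageRed.mono_of_repWith_isClosedImmersion i₁ hi₁
  have : Epi ((yon S).map fU) :=
    Groth.Agent.H52.epi_of_repWith_etale_surjective _ (MorphismProperty.of_isPullback hU.flip ha')
      (MorphismProperty.of_isPullback hU.flip has)
  have hci : IsClosedImmersion ι₁.left := hi₁.property a' a₁ ι₁ sq₁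
  have hk : ι₁.left.ker ≤ sU.left.ker := by
    rw [Scheme.ker_of_isAffine, Scheme.ker_of_isAffine]
    apply Scheme.IdealSheafData.le_of_isAffine
    simpa using hle
  let m : UT ⟶ U₁ := Over.homMk (IsClosedImmersion.lift ι₁.left sU.left hk) (by
    rw [← Over.w ι₁, ← Category.assoc, IsClosedImmersion.lift_fac, Over.w])
  have hm : m ≫ ι₁ = sU := by
    ext; exact IsClosedImmersion.lift_fac _ _ _
  have key : (yon S).map m ≫ a₁ ≫ i₁ = (yon S).map fU ≫ c := by
    rw [sq₁.w, ← Category.assoc, ← Functor.map_comp, hm, hU.w]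
  obtain ⟨c₁, hc₁⟩ := Groth.Agent.H52.exists_desc_of_epi ((yon S).map fU) ((yon S).map m ≫ a₁) (by
    intro P p₁ p₂ h12
    rw [← cancel_mono i₁, Category.assoc, Category.assoc, key, Category.assoc, Category.assoc, key,
      ← Category.assoc, h12, Category.assoc])
  have hfac : c₁ ≫ i₁ = c := by
    rw [← cancel_epi ((yon S).map fU), ← Category.assoc, hc₁, Category.assoc, key]
  obtain ⟨hi₁th, hc₁th⟩ := isThickMor_of_factor hc i₁ hi₁ c₁ hfac
  refine ⟨c₁, m, hfac, hm, hi₁th, hc₁th, ?_⟩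
  refine (IsPullback.of_right ?_ hc₁.symm sq₁.flip).flip
  rw [← Functor.map_comp, hm, hfac]
  exact hU.flip

/-- An etale model passes to a closed subspace through which the thickening factors. -/
theorem HasModel.of_closed {X₁ : Sp S} {U' U₁ : Over S} {a' : (yon S).obj U' ⟶ X'}
    (hm : HasModel c a') (i₁ : X₁ ⟶ X') (ι₁ : U₁ ⟶ U') (a₁ : (yon S).obj U₁ ⟶ X₁)
    (sq₁ : IsPullback a₁ ((yon S).map ι₁) i₁ a') (c₁ : (yon S).obj T ⟶ X₁) (h : c₁ ≫ i₁ = c) :
    HasModel c₁ a₁ := by
  obtain ⟨n, hn, V, P₀, v, φ₀, p₁, p₂, k, hV, hP₀, hv, hp₁, sqM, hk⟩ := hm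
  refine ⟨n, hn, V, P₀, v, φ₀, p₁, p₂, sq₁.lift ((yon S).map p₁ ≫ c₁) k
    (by rw [Category.assoc, h, hk]), hV, hP₀, hv, hp₁, sqM, sq₁.lift_fst _ _ _⟩

/-- An etale model passes from `T` to an affine thickening `T₁` of `T` inside `X'`. -/
theorem HasModel.of_affine_thick {U' T₁ : Over S} [IsAffine T.left] [IsAffine T₁.left]
    {a' : (yon S).obj U' ⟶ X'} (ha' : RepWith @Etale a') (hm : HasModel c a')
    (i' : (yon S).obj T₁ ⟶ X') (j : T ⟶ T₁) (hj : thick j.left) (h : (yon S).map j ≫ i' = c) :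
    HasModel i' a' := by
  obtain ⟨n, hn, V, P₀, v, φ₀, p₁, p₂, k, hV, hP₀, hv, hp₁, sqM, hk⟩ := hm
  have : IsClosedImmersion j.left := hj.1
  have : Surjective j.left := hj.2
  have hjs : Function.Surjective j.left.appTop.hom :=
    (IsClosedImmersion.isAffine_surjective_of_isAffine j.left).2
  choose a₁ ha₁ using fun i : n => hjs (φ₀.left.appTop.hom (AffineSpace.coord S i))
  let φ₀' : T₁ ⟶ affOver n S := vecHom T₁ a₁
  have hφ : j ≫ φ₀' = φ₀ := by
    rw [comp_vecHom, eq_vecHom φ₀]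
    congr 1
    funext i
    exact ha₁ i
  have sq' := IsPullback.of_hasPullback φ₀' v
  let jP : P₀ ⟶ pullback φ₀' v := pullback.lift (p₁ ≫ j) p₂ (by
    rw [Category.assoc, hφ]; exact sqM.w)
  have hjP1 : jP ≫ pullback.fst φ₀' v = p₁ ≫ j := pullback.lift_fst _ _ _
  have hjP2 : jP ≫ pullback.snd φ₀' v = p₂ := pullback.lift_snd _ _ _
  have sqJ : IsPullback jP p₁ (pullback.fst φ₀' v) j := by
    refine IsPullback.of_right ?_ hjP1 sq'.flip
    rw [hjP2, hφ]
    exact sqM.flip
  have hjPth : thick jP.left :=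
    MorphismProperty.of_isPullback (P := thick) (isPullback_left sqJ).flip hj
  have : IsClosedImmersion jP.left := hjPth.1
  have : Surjective jP.left := hjPth.2
  have hP₀' : IsAffine (pullback φ₀' v).left := isAffine_of_thick jP.left hjPth
  have hsurj : Surjective (pullback.fst φ₀' v).left := by
    constructor
    intro t₁
    obtain ⟨t, rfl⟩ := j.left.surjective t₁
    obtain ⟨x, rfl⟩ := p₁.left.surjective t
    exact ⟨jP.left x, congrArg (fun m : P₀ ⟶ T₁ => m.left x) hjP1⟩
  obtain ⟨k', ⟨-, hk'⟩, -⟩ := Groth.Agent.H52.existsUnique_lift_of_repWith_etale a' ha' jP k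
    ((yon S).map (pullback.fst φ₀' v) ≫ i') (by
      rw [hk, ← h, ← Category.assoc, ← Category.assoc, ← Functor.map_comp, ← Functor.map_comp,
        hjP1])
  exact ⟨n, hn, V, pullback φ₀' v, v, φ₀', pullback.fst φ₀' v, pullback.snd φ₀' v, k', hV, hP₀',
    hv, hsurj, sq', hk'⟩

/-- Once a closed subspace `X₁` of `X'` containing `T` is known to be an affine scheme `T₁`, the
data of the thickening `T ⟶ X'` pass to the thickening `T₁ ⟶ X'`. -/
theorem exists_stage2 [IsAffine T.left] {X₁ : Sp S} {U' U₁ T₁ : Over S} [IsAffine T₁.left]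
    (a' : (yon S).obj U' ⟶ X') (ha' : RepWith @Etale a') (hm : HasModel c a')
    (i₁ : X₁ ⟶ X') (ι₁ : U₁ ⟶ U') (a₁ : (yon S).obj U₁ ⟶ X₁)
    (sq₁ : IsPullback a₁ ((yon S).map ι₁) i₁ a') (c₁ : (yon S).obj T ⟶ X₁) (hfac : c₁ ≫ i₁ = c)
    (hi₁th : IsThickMor i₁) (hc₁th : IsThickMor c₁) (e : (yon S).obj T₁ ≅ X₁) :
    ∃ (i' : (yon S).obj T₁ ⟶ X') (f₁ : U₁ ⟶ T₁), IsThickMor i' ∧ HasModel i' a' ∧
      IsPullback ((yon S).map f₁) ((yon S).map ι₁) i' a' := by
  have hri : (RepWith (S := S) thick).RespectsIso :=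
    MorphismProperty.IsStableUnderBaseChange.respectsIso
  obtain ⟨j, hj⟩ := (yon S).map_surjective (c₁ ≫ e.inv)
  obtain ⟨f₁, hf₁⟩ := (yon S).map_surjective (a₁ ≫ e.inv)
  have hjth : thick j.left := by
    rw [← repWith_yon_map_iff thick j, hj]
    exact MorphismProperty.RespectsIso.postcomp (RepWith (S := S) thick) _ _ hc₁th
  have hi'th : IsThickMor (e.hom ≫ i₁) :=
    MorphismProperty.RespectsIso.precomp (RepWith (S := S) thick) _ _ hi₁th
  refine ⟨e.hom ≫ i₁, f₁, hi'th, ?_, ?_⟩
  · exact hm.of_affine_thick ha' (e.hom ≫ i₁) j hjth (by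
      rw [hj, Category.assoc, Iso.inv_hom_id_assoc, hfac])
  · rw [hf₁]
    exact IsPullback.of_iso sq₁ (Iso.refl _) e.symm (Iso.refl _) (Iso.refl _) (by simp) (by simp)
      (by simp) (by simp)

/-- A thickening of an affine scheme, nilpotent in a chart and with an etale model, is an affine
scheme. -/
theorem exists_iso_yon_affine_of_nilpotent (n : ℕ) : ∀ {X' : Sp S} (_ : IsAlgSpace X')
    {T U' UT : Over S} [IsAffine T.left] (c : (yon S).obj T ⟶ X') (_ : IsThickMor c)
    [IsAffine U'.left] (a' : (yon S).obj U' ⟶ X') (_ : RepWith @Etale a')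
    (_ : RepWith @Surjective a') (fU : UT ⟶ T) (sU : UT ⟶ U')
    (_ : IsPullback ((yon S).map fU) ((yon S).map sU) c a')
    (_ : RingHom.ker sU.left.appTop.hom ^ n = ⊥) (_ : HasModel c a'),
    ∃ T' : Over S, IsAffine T'.left ∧ Nonempty ((yon S).obj T' ≅ X') := by
  induction n with
  | zero =>
    intro X' hX' T U' UT _ c hc _ a' ha' has fU sU hU hnil hm
    refine exists_iso_yon_affine_of_sqZero hX' c hc a' ha' has fU sU hU ?_ hm
    intro x y _ _
    have : (⊤ : Ideal Γ(U'.left, ⊤)) = ⊥ := by rw [← hnil, pow_zero, Ideal.one_eq_top]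
    have h1 : x * y ∈ (⊥ : Ideal Γ(U'.left, ⊤)) := by rw [← this]; trivial
    exact h1
  | succ k ih =>
    intro X' hX' T U' UT _ c hc _ a' ha' has fU sU hU hnil hm
    by_cases hk : k + 1 ≤ 2
    · refine exists_iso_yon_affine_of_sqZero hX' c hc a' ha' has fU sU hU ?_ hm
      intro x y hx hy
      have h2 : RingHom.ker sU.left.appTop.hom ^ 2 ≤ RingHom.ker sU.left.appTop.hom ^ (k + 1) :=
        Ideal.pow_le_pow_right hk
      rw [hnil] at h2
      have : x * y ∈ RingHom.ker sU.left.appTop.hom ^ 2 := by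
        rw [pow_two]; exact Ideal.mul_mem_mul hx hy
      exact h2 this
    · have hk2 : 2 ≤ k := by omega
      obtain ⟨R', s, t, K⟩ := exists_kernelPair_of_rep a' ha'.rep
      obtain ⟨X₁, i₁, U₁, ι₁, a₁, hX₁, hi₁, sq₁, hker⟩ := exists_closed_subspace_of_ideal hX' hc a'
        ha' s t K (RingHom.ker sU.left.appTop.hom ^ k)
      have hinv := (ker_relation hc a' fU sU hU s t K).1
      have hJ₁le : RingHom.ker ι₁.left.appTop.hom ≤ RingHom.ker sU.left.appTop.hom ^ k := by
        rw [hker]; exact comap_map_le_of_kernelPair a' s t K _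
      have hJkle : RingHom.ker sU.left.appTop.hom ^ k ≤ RingHom.ker ι₁.left.appTop.hom := by
        rw [hker, ← Ideal.map_le_iff_le_comap, Ideal.map_pow, Ideal.map_pow, hinv]
      have hJ₁J : RingHom.ker ι₁.left.appTop.hom ≤ RingHom.ker sU.left.appTop.hom :=
        hJ₁le.trans (Ideal.pow_le_self (by omega))
      obtain ⟨c₁, m, hfac, hmι, hi₁th, hc₁th, sqc₁⟩ :=
        exists_factor_chart_of_ker_le hc a' ha' has i₁ hi₁ ι₁ a₁ sq₁ fU sU hU hJ₁J
      have hci : IsClosedImmersion ι₁.left := hi₁.property a' a₁ ι₁ sq₁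
      have hU₁ : IsAffine U₁.left := (IsClosedImmersion.isAffine_surjective_of_isAffine ι₁.left).1
      have hι₁s : Function.Surjective ι₁.left.appTop.hom :=
        (IsClosedImmersion.isAffine_surjective_of_isAffine ι₁.left).2
      have ha₁ : RepWith @Etale a₁ := MorphismProperty.of_isPullback sq₁.flip ha'
      have has₁ : RepWith @Surjective a₁ := MorphismProperty.of_isPullback sq₁.flip has
      have hcomp : sU.left.appTop.hom = m.left.appTop.hom.comp ι₁.left.appTop.hom := by
        rw [← hmι]; rfl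
      have hkm : RingHom.ker m.left.appTop.hom =
          Ideal.map ι₁.left.appTop.hom (RingHom.ker sU.left.appTop.hom) := by
        rw [hcomp, ← RingHom.comap_ker, Ideal.map_comap_of_surjective _ hι₁s]
      have hnil₁ : RingHom.ker m.left.appTop.hom ^ k = ⊥ := by
        rw [hkm, ← Ideal.map_pow, eq_bot_iff]
        refine (Ideal.map_mono hJkle).trans ?_
        rw [Ideal.map_le_iff_le_comap]
        intro x hx
        rw [Ideal.mem_comap, (RingHom.mem_ker).1 hx]
        exact Ideal.zero_mem _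
      have hm₁ := hm.of_closed i₁ ι₁ a₁ sq₁ c₁ hfac
      obtain ⟨T₁, hT₁, ⟨e⟩⟩ := ih hX₁ c₁ hc₁th a₁ ha₁ has₁ fU m sqc₁ hnil₁ hm₁
      obtain ⟨i', f₁, hi'th, hm', sq'⟩ :=
        exists_stage2 a' ha' hm i₁ ι₁ a₁ sq₁ c₁ hfac hi₁th hc₁th e
      refine exists_iso_yon_affine_of_sqZero hX' i' hi'th a' ha' has f₁ ι₁ sq' ?_ hm'
      intro x y hx hy
      have h1 : x * y ∈ RingHom.ker sU.left.appTop.hom ^ k * RingHom.ker sU.left.appTop.hom ^ k :=
        Ideal.mul_mem_mul (hJ₁le hx) (hJ₁le hy)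
      rw [← pow_add] at h1
      have h2 : RingHom.ker sU.left.appTop.hom ^ (k + k) ≤
          RingHom.ker sU.left.appTop.hom ^ (k + 1) := Ideal.pow_le_pow_right (by omega)
      rw [hnil] at h2
      exact h2 h1

end Groth.Agent.Lib.Helper54
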