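import Groth.Agent.Lib.Helper54.ThickInd

/-!
# Thickenings of affine schemes with an etale model are affine: the general (nil) case
-/

set_option autoImplicit false
set_option backward.isDefEq.respectTransparency false
universe u
open CategoryTheory CategoryTheory.Limits AlgebraicGeometry
open AlgSp

namespace Groth.Agent.Lib.Helper54

variable {S : Scheme.{u}}

/-- A thickening of an affine scheme with an etale model is an affine scheme. -/
theorem exists_iso_yon_affine_of_hasModel {X' : Sp S} (hX' : IsAlgSpace X') {T U' UT : Over S}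
    [IsAffine T.left] (c : (yon S).obj T ⟶ X') (hc : IsThickMor c) [IsAffine U'.left]
    (a' : (yon S).obj U' ⟶ X') (ha' : RepWith @Etale a') (has : RepWith @Surjective a')
    (fU : UT ⟶ T) (sU : UT ⟶ U') (hU : IsPullback ((yon S).map fU) ((yon S).map sU) c a')
    (hm : HasModel c a') :
    ∃ T' : Over S, IsAffine T'.left ∧ Nonempty ((yon S).obj T' ≅ X') := by
  obtain ⟨n, hn, V, P₀, v, φ₀, p₁, p₂, k, hV, hP₀, hv, hp₁, sqM, hk⟩ := hm
  have hm : HasModel c a' := ⟨n, hn, V, P₀, v, φ₀, p₁, p₂, k, hV, hP₀, hv, hp₁, sqM, hk⟩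
  obtain ⟨R', s, t, K⟩ := exists_kernelPair_of_rep a' ha'.rep
  obtain ⟨hinv, hδ⟩ := ker_relation hc a' fU sU hU s t K
  have hsUth : thick sU.left := hc.property a' _ sU hU
  have : IsClosedImmersion sU.left := hsUth.1
  have hsUs : Function.Surjective sU.left.appTop.hom :=
    (IsClosedImmersion.isAffine_surjective_of_isAffine sU.left).2
  choose b hb using fun i : n => hsUs (fU.left.appTop.hom (φ₀.left.appTop.hom
    (AffineSpace.coord S i)))
  let δ : n → Γ(R'.left, ⊤) := fun i => s.left.appTop.hom (b i) - t.left.appTop.hom (b i)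
  have hDfg : (Ideal.span (Set.range δ)).FG := Submodule.fg_span (Set.finite_range δ)
  have hDle : Ideal.span (Set.range δ) ≤
      Ideal.map s.left.appTop.hom (RingHom.ker sU.left.appTop.hom) := by
    rw [Ideal.span_le]
    rintro _ ⟨i, rfl⟩
    exact hδ (b i) _ (hb i)
  obtain ⟨J₀', hfg, hle, hD⟩ := exists_fg_invariant_approx s.left.appTop.hom t.left.appTop.hom
    (RingHom.ker sU.left.appTop.hom) hinv _ hDfg hDle
  obtain ⟨X₁, i₁, U₁, ι₁, a₁, hX₁, hi₁, sq₁, hker⟩ :=
    exists_closed_subspace_of_ideal hX' hc a' ha' s t K J₀'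
  have hJ₁le : RingHom.ker ι₁.left.appTop.hom ≤ J₀' := by
    rw [hker]; exact comap_map_le_of_kernelPair a' s t K _
  have hδ₁ : ∀ i, δ i ∈ Ideal.map s.left.appTop.hom (RingHom.ker ι₁.left.appTop.hom) := by
    intro i
    rw [hker]
    exact hD (Ideal.subset_span ⟨i, rfl⟩)
  obtain ⟨c₁, m, hfac, hmι, hi₁th, hc₁th, sqc₁⟩ :=
    exists_factor_chart_of_ker_le hc a' ha' has i₁ hi₁ ι₁ a₁ sq₁ fU sU hU (hJ₁le.trans hle)
  have hci : IsClosedImmersion ι₁.left := hi₁.property a' a₁ ι₁ sq₁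
  have hU₁ : IsAffine U₁.left := (IsClosedImmersion.isAffine_surjective_of_isAffine ι₁.left).1
  have ha₁ : RepWith @Etale a₁ := MorphismProperty.of_isPullback sq₁.flip ha'
  have has₁ : RepWith @Surjective a₁ := MorphismProperty.of_isPullback sq₁.flip has
  -- the functions restricted to `U₁` descend to `X₁`
  obtain ⟨φ₁, hφ₁⟩ := exists_extension_of_invariant c₁ a₁ ha₁ has₁ fU m sqc₁ φ₀
    (fun i => ι₁.left.appTop.hom (b i))
    (fun i => by
      rw [← hb i]
      exact congrArg (fun q : UT ⟶ U' => q.left.appTop.hom (b i)) hmι)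
    (fun Z z₁ z₂ hz i => by
      have hz' : (yon S).map (z₁ ≫ ι₁) ≫ a' = (yon S).map (z₂ ≫ ι₁) ≫ a' := by
        rw [Functor.map_comp, Functor.map_comp, Category.assoc, Category.assoc, ← sq₁.w,
          ← Category.assoc, ← Category.assoc, hz]
      obtain ⟨r, hr⟩ := (yon S).map_surjective (K.lift _ _ hz')
      have h1 : r ≫ s = z₁ ≫ ι₁ := (yon S).map_injective (by
        rw [Functor.map_comp, hr]; exact K.lift_fst _ _ _)
      have h2 : r ≫ t = z₂ ≫ ι₁ := (yon S).map_injective (by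
        rw [Functor.map_comp, hr]; exact K.lift_snd _ _ _)
      have e1 : z₁.left.appTop.hom (ι₁.left.appTop.hom (b i)) =
          r.left.appTop.hom (s.left.appTop.hom (b i)) :=
        congrArg (fun q : Z ⟶ U' => q.left.appTop.hom (b i)) h1.symm
      have e2 : z₂.left.appTop.hom (ι₁.left.appTop.hom (b i)) =
          r.left.appTop.hom (t.left.appTop.hom (b i)) :=
        congrArg (fun q : Z ⟶ U' => q.left.appTop.hom (b i)) h2.symm
      rw [e1, e2, ← sub_eq_zero, ← map_sub]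
      have h3 := Ideal.mem_map_of_mem r.left.appTop.hom (hδ₁ i)
      rw [Ideal.map_map] at h3
      have h4 : r.left.appTop.hom.comp s.left.appTop.hom =
          z₁.left.appTop.hom.comp ι₁.left.appTop.hom :=
        congrArg (fun q : Z ⟶ U' => q.left.appTop.hom) h1
      rw [h4, ← Ideal.map_map, (Ideal.map_eq_bot_iff_le_ker _).2 le_rfl, Ideal.map_bot] at h3
      exact h3)
  -- `X₁` is affine
  have hk₁ : sq₁.lift ((yon S).map p₁ ≫ c₁) k (by rw [Category.assoc, hfac, hk]) ≫ a₁ =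
      (yon S).map p₁ ≫ c₁ := sq₁.lift_fst _ _ _
  obtain ⟨T₁, hT₁, ⟨e⟩⟩ := exists_iso_yon_affine_of_model hX₁ c₁ hc₁th a₁ ha₁ p₁ _ hk₁ φ₁ v p₂ (by
    rw [hφ₁]; exact sqM.map (yon S))
  obtain ⟨i', f₁, hi'th, hm', sq'⟩ :=
    exists_stage2 a' ha' hm i₁ ι₁ a₁ sq₁ c₁ hfac hi₁th hc₁th e
  -- `X₁ ⟶ X'` is nilpotent in the chart
  have hnilr : J₀' ≤ nilradical Γ(U'.left, ⊤) :=
    hle.trans (ker_le_nilradical_of_thick sU.left hsUth)
  obtain ⟨N, hN⟩ := (Ideal.FG.isNilpotent_iff_le_nilradical hfg).2 hnilr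
  have hnil : RingHom.ker ι₁.left.appTop.hom ^ N = ⊥ := by
    rw [eq_bot_iff, ← Ideal.zero_eq_bot, ← hN]
    exact Ideal.pow_right_mono hJ₁le N
  exact exists_iso_yon_affine_of_nilpotent N hX' i' hi'th a' ha' has f₁ ι₁ sq' hnil hm'

end Groth.Agent.Lib.Helper54
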