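import Groth.Agent.Lib.Helper54.ThickModel
import Groth.Agent.Lib.Helper54.ThickNil
import Mathlib.RingTheory.Unramified.LocalStructure
import Groth.Agent.Lib.Helper18.ThickAffine
import Groth.Agent.Lib.Helper54.AffineDescent
import Groth.Agent.H53.ZarGlueAff
import Groth.Agent.H53.ZarGlueMax
import Groth.Agent.H52.QC
import Groth.Agent.H52.LocPCalc5

/-!
# Thickenings of schemes are schemes, locally
-/

set_option autoImplicit false
set_option backward.isDefEq.respectTransparency false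
universe u
open CategoryTheory CategoryTheory.Limits AlgebraicGeometry
open AlgSp

namespace Groth.Agent.Lib.Helper54

variable {S : Scheme.{u}}

/-- Standard etale neighbourhoods: an etale morphism of affine schemes is, near any point of the
source, standard etale. -/
theorem exists_stdEtale_nbhd {T₁ UT₁ : Over S} [IsAffine T₁.left] [IsAffine UT₁.left]
    (fU₁ : UT₁ ⟶ T₁) [Etale fU₁.left] (u : UT₁.left) :
    ∃ (Q₁ : Over S) (qU : Q₁ ⟶ UT₁) (A C : CommRingCat.{u}) (γ : A ⟶ C) (eT : T₁.left ≅ Spec A)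
      (eQ : Q₁.left ≅ Spec C), IsAffine Q₁.left ∧ IsOpenImmersion qU.left ∧
      u ∈ Set.range qU.left ∧ @Algebra.IsStandardEtale A C _ _ γ.hom.toAlgebra ∧
      (qU ≫ fU₁).left ≫ eT.hom = eQ.hom ≫ Spec.map γ := by
  let A : CommRingCat := Γ(T₁.left, ⊤)
  let C₁ : CommRingCat := Γ(UT₁.left, ⊤)
  have hφ₁ : fU₁.left.appTop.hom.Etale :=
    (HasRingHomProperty.iff_of_isAffine (P := @Etale)).mp inferInstance
  letI : Algebra A C₁ := fU₁.left.appTop.hom.toAlgebra
  have hEt : Algebra.Etale A C₁ := hφ₁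
  let x₀ : Spec C₁ := UT₁.left.isoSpec.hom u
  let q₀ : Ideal C₁ := x₀.asIdeal
  have hq₀ : q₀.IsPrime := x₀.isPrime
  have : Algebra.IsEtaleAt A q₀ := by
    have : Algebra.FormallyEtale A C₁ := hEt.formallyEtale
    infer_instance
  obtain ⟨g, hg, hstd⟩ := Algebra.IsEtaleAt.exists_isStandardEtale (R := A) q₀
  let γ : A ⟶ CommRingCat.of (Localization.Away g) :=
    CommRingCat.ofHom (algebraMap A (Localization.Away g))
  have hstd' : @Algebra.IsStandardEtale A (CommRingCat.of (Localization.Away g)) _ _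
      γ.hom.toAlgebra := by
    have : (γ.hom.toAlgebra : Algebra A (Localization.Away g)) =
        (inferInstance : Algebra A (Localization.Away g)) :=
      Algebra.algebra_ext _ _ (fun _ => rfl)
    rw [this]
    exact hstd
  let loc : C₁ ⟶ CommRingCat.of (Localization.Away g) :=
    CommRingCat.ofHom (algebraMap C₁ (Localization.Away g))
  have hγ : γ = fU₁.left.appTop ≫ loc := by
    ext a
    exact IsScalarTower.algebraMap_apply A C₁ (Localization.Away g) a
  have : IsOpenImmersion (Spec.map loc) := IsOpenImmersion.of_isLocalization g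
  let o₁ : Spec (CommRingCat.of (Localization.Away g)) ⟶ UT₁.left :=
    Spec.map loc ≫ UT₁.left.isoSpec.inv
  let Q₁ : Over S := Over.mk (o₁ ≫ UT₁.hom)
  let qU : Q₁ ⟶ UT₁ := Over.homMk o₁ rfl
  refine ⟨Q₁, qU, A, _, γ, T₁.left.isoSpec, Iso.refl _, ?_, ?_, ?_, hstd', ?_⟩
  · change IsAffine (Spec _)
    infer_instance
  · change IsOpenImmersion (Spec.map loc ≫ UT₁.left.isoSpec.inv)
    infer_instance
  · have h1 : x₀ ∈ Set.range (Spec.map loc) := by
      have := PrimeSpectrum.localization_away_comap_range (Localization.Away g) g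
      change x₀ ∈ Set.range (PrimeSpectrum.comap (algebraMap C₁ (Localization.Away g)))
      rw [this]
      exact hg
    obtain ⟨z, hz⟩ := h1
    refine ⟨z, ?_⟩
    change (Spec.map loc ≫ UT₁.left.isoSpec.inv) z = u
    rw [Scheme.Hom.comp_apply, hz, ← Scheme.Hom.comp_apply, Iso.hom_inv_id]
    rfl
  · change (o₁ ≫ fU₁.left) ≫ T₁.left.isoSpec.hom = 𝟙 _ ≫ Spec.map γ
    rw [Category.id_comp, hγ, Spec.map_comp, Category.assoc, Category.assoc,
      ← Scheme.isoSpec_hom_naturality, Iso.inv_hom_id_assoc]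

/-- Restriction of a thickening with chart to an open subscheme of the source. -/
theorem exists_restrict_chart {X₁ : Sp S} (hX₁ : IsAlgSpace X₁) {T₁ U₁ UT₁ TD : Over S}
    [IsAffine T₁.left] [IsAffine UT₁.left] [IsAffine TD.left]
    (c₁ : (yon S).obj T₁ ⟶ X₁) (hc₁ : IsThickMor c₁)
    (a₁ : (yon S).obj U₁ ⟶ X₁) (ha₁ : RepWith @Etale a₁) (has₁ : RepWith @Surjective a₁)
    (fU₁ : UT₁ ⟶ T₁) (sU₁ : UT₁ ⟶ U₁)
    (hU₁ : IsPullback ((yon S).map fU₁) ((yon S).map sU₁) c₁ a₁)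
    (jD : TD ⟶ T₁) [IsOpenImmersion jD.left] :
    ∃ (XD : Sp S) (uD : XD ⟶ X₁) (cD : (yon S).obj TD ⟶ XD) (U' UT : Over S)
      (a' : (yon S).obj U' ⟶ XD) (pD : UT ⟶ TD) (pU : UT ⟶ UT₁) (sU : UT ⟶ U'),
      IsAlgSpace XD ∧ RepWith @IsOpenImmersion uD ∧ IsThickMor cD ∧
      (yon S).map jD ≫ c₁ = cD ≫ uD ∧ RepWith @Etale a' ∧ RepWith @Surjective a' ∧
      IsAffine UT.left ∧ IsAffine U'.left ∧ IsPullback pD pU jD fU₁ ∧
      IsPullback ((yon S).map pD) ((yon S).map sU) cD a' := by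
  have hjD : RepWith @IsOpenImmersion ((yon S).map jD) :=
    (repWith_yon_map_iff _ _).2 inferInstance
  obtain ⟨XD, uD, cD, hXD, huD, sqβ⟩ := exists_open_of_isThickMor (IsAlgSpace.yon_obj T₁) hX₁
    (IsAlgSpace.yon_obj TD) c₁ hc₁ ((yon S).map jD) hjD
  have hcD : IsThickMor cD := MorphismProperty.of_isPullback (P := RepWith (S := S) thick) sqβ hc₁
  have sqγ : IsPullback (huD.rep.fst a₁) ((yon S).map (huD.rep.snd a₁)) uD a₁ :=
    huD.rep.isPullback a₁
  have ha' : RepWith @Etale (huD.rep.fst a₁) := MorphismProperty.of_isPullback sqγ.flip ha₁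
  have has' : RepWith @Surjective (huD.rep.fst a₁) := MorphismProperty.of_isPullback sqγ.flip has₁
  let UT : Over S := Over.mk (pullback.fst jD.left fU₁.left ≫ TD.hom)
  let pD : UT ⟶ TD := Over.homMk (pullback.fst jD.left fU₁.left) rfl
  let pU : UT ⟶ UT₁ := Over.homMk (pullback.snd jD.left fU₁.left) (by
    change pullback.snd jD.left fU₁.left ≫ UT₁.hom = pullback.fst jD.left fU₁.left ≫ TD.hom
    rw [← Over.w fU₁, ← Over.w jD, ← Category.assoc, ← Category.assoc, pullback.condition])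
  have sqδ : IsPullback pD pU jD fU₁ :=
    IsPullback.of_map (Over.forget S) (by ext; exact pullback.condition)
      (IsPullback.of_hasPullback jD.left fU₁.left)
  have hUT : IsAffine UT.left := by
    change IsAffine (pullback jD.left fU₁.left)
    infer_instance
  have big : IsPullback ((yon S).map pU ≫ (yon S).map sU₁) ((yon S).map pD) a₁
      ((yon S).map jD ≫ c₁) := (sqδ.map (yon S)).flip.paste_horiz hU₁.flip
  rw [sqβ.w] at big
  have sqL := IsPullback.of_right' big sqγ.flip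
  obtain ⟨sU, hsU⟩ := (yon S).map_surjective (sqγ.flip.lift ((yon S).map pU ≫ (yon S).map sU₁)
    ((yon S).map pD ≫ cD) (by rw [big.w, Category.assoc]))
  rw [← hsU] at sqL
  have hth : thick sU.left := hcD.property _ _ sU sqL.flip
  have : IsClosedImmersion sU.left := hth.1
  have hU' : IsAffine (huD.rep.pullback a₁).left :=
    Groth.Agent.Lib.Helper18.ThickAffine.isAffine_of_isClosedImmersion_of_surjective sU.left
      hth.2.surj
  exact ⟨XD, uD, cD, _, UT, huD.rep.fst a₁, pD, pU, sU, hXD, huD, hcD, sqβ.w, ha', has', hUT, hU',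
    sqδ, sqL.flip⟩

open Groth.Agent.H53.ZarGlue in
/-- A thickening of an affine scheme lying over an affine open of the base is, locally, an affine
scheme. -/
theorem exists_affine_open_of_isThickMor_affine {X₁ : Sp S} (hX₁ : IsAlgSpace X₁) {T₁ : Over S}
    [IsAffine T₁.left] (c₁ : (yon S).obj T₁ ⟶ X₁) (hc₁ : IsThickMor c₁) {Sα : Scheme.{u}}
    [IsAffine Sα] (ι : Sα ⟶ S) [IsOpenImmersion ι] (f₁ : T₁.left ⟶ Sα) (hf₁ : f₁ ≫ ι = T₁.hom)
    (t₁ : T₁.left) :
    ∃ (T' : Over S) (a : (yon S).obj T' ⟶ X₁), IsAffine T'.left ∧ RepWith @IsOpenImmersion a ∧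
      Points.ofPt c₁ t₁ ∈ Set.range (Points.map a) := by
  have hqc : IsQuasiCompactSp X₁ := Groth.Agent.H52.isQuasiCompactSp_of_surjective hX₁ c₁
    (surjective_points_of_isThickMor c₁ hc₁) (Groth.Agent.H52.isQuasiCompactSp_yon T₁)
  obtain ⟨U₁, a₁, hU₁aff, ha₁, has₁⟩ := exists_affine_etale_chart hqc
  obtain ⟨fU₁, hfU₁⟩ := (yon S).map_surjective (hc₁.rep.fst a₁)
  have hU₁ : IsPullback ((yon S).map fU₁) ((yon S).map (hc₁.rep.snd a₁)) c₁ a₁ := by
    rw [hfU₁]
    exact hc₁.rep.isPullback a₁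
  have hth₁ : thick (hc₁.rep.snd a₁).left := hc₁.property _ _ _ hU₁
  have : IsClosedImmersion (hc₁.rep.snd a₁).left := hth₁.1
  have hUT₁ : IsAffine (hc₁.rep.pullback a₁).left := isAffine_of_isAffineHom (hc₁.rep.snd a₁).left
  have hfe : Etale fU₁.left := ha₁.property c₁ _ fU₁ hU₁.flip
  have hfs : Surjective fU₁.left := has₁.property c₁ _ fU₁ hU₁.flip
  obtain ⟨u, hu⟩ := hfs.surj t₁
  obtain ⟨Q₁, qU, A, C, γ, eT, eQ, hQ₁, hqU, huQ, hstd, hq⟩ := exists_stdEtale_nbhd fU₁ u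
  have hqe : Etale (qU ≫ fU₁).left := by
    rw [Over.comp_left]
    infer_instance
  have hopen : IsOpen (Set.range (qU ≫ fU₁).left) := (qU ≫ fU₁).left.isOpenMap.isOpen_range
  have ht₁ : t₁ ∈ Set.range (qU ≫ fU₁).left := by
    obtain ⟨z, hz⟩ := huQ
    exact ⟨z, by rw [Over.comp_left, Scheme.Hom.comp_apply, hz, hu]⟩
  obtain ⟨D, hD, htD, hDsub⟩ := TopologicalSpace.Opens.isBasis_iff_nbhd.mp
    T₁.left.isBasis_affineOpens (show t₁ ∈ (⟨_, hopen⟩ : T₁.left.Opens) from ht₁)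
  have hDaff : IsAffine (ov T₁ D).left := hD
  have : IsOpenImmersion (ovι T₁ D).left := inferInstanceAs (IsOpenImmersion (Scheme.Opens.ι D))
  obtain ⟨XD, uD, cD, U', UT, a', pD, pU, sU, hXD, huD, hcD, hw, ha', has', hUT, hU', sqδ, hU⟩ :=
    exists_restrict_chart hX₁ c₁ hc₁ a₁ ha₁ has₁ fU₁ (hc₁.rep.snd a₁) hU₁ (ovι T₁ D)
  have hrange : Set.range (ovι T₁ D).left ⊆ Set.range (qU ≫ fU₁).left := by
    change Set.range (Scheme.Opens.ι D) ⊆ _
    rw [Scheme.Opens.range_ι]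
    exact hDsub
  obtain ⟨n, hn, V, P₀, v, φ₀, p₁, p₂, p₀, hV, hP₀, hv, hp₁, sqM, sqP⟩ :=
    exists_model_of_range_subset ι (qU ≫ fU₁) f₁ hf₁ γ hstd eT eQ hq (ovι T₁ D) hrange
  have hl1 : sqδ.lift p₁ (p₀ ≫ qU) (by rw [Category.assoc]; exact sqP.w) ≫ pD = p₁ :=
    sqδ.lift_fst _ _ _
  have hm : HasModel cD a' := ⟨n, hn, V, P₀, v, φ₀, p₁, p₂,
    (yon S).map (sqδ.lift p₁ (p₀ ≫ qU) (by rw [Category.assoc]; exact sqP.w)) ≫ (yon S).map sU,
    hV, hP₀, hv, hp₁, sqM, by
      rw [Category.assoc, ← hU.w, ← Category.assoc, ← Functor.map_comp, hl1]⟩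
  obtain ⟨T', hT', ⟨e⟩⟩ := exists_iso_yon_affine_of_hasModel hXD cD hcD a' ha' has' pD sU hU hm
  have hri : (RepWith (S := S) @IsOpenImmersion).RespectsIso :=
    MorphismProperty.IsStableUnderBaseChange.respectsIso
  refine ⟨T', e.hom ≫ uD, hT', MorphismProperty.RespectsIso.precomp _ _ _ huD, ?_⟩
  have h1 : Points.ofPt c₁ t₁ = Points.map uD (Points.ofPt cD ⟨t₁, htD⟩) := by
    rw [Points.map_ofPt, ← hw, Groth.Agent.H52.ofPt_yon_map_comp]
    rfl
  rw [h1]
  refine ⟨Points.map e.inv (Points.ofPt cD ⟨t₁, htD⟩), ?_⟩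
  rw [Points.map_comp, ← Points.map_comp e.inv e.hom, Iso.inv_hom_id, Points.map_id]

open Groth.Agent.H53.ZarGlue in
/-- A thickening of a scheme is, locally, an affine scheme. -/
theorem exists_affine_open_of_isThickMor' {X' : Sp S} (hX' : IsAlgSpace X') {T : Over S}
    (c : (yon S).obj T ⟶ X') (hc : IsThickMor c) (t : T.left) :
    ∃ (T' : Over S) (a : (yon S).obj T' ⟶ X'), IsAffine T'.left ∧ RepWith @IsOpenImmersion a ∧
      Points.ofPt c t ∈ Set.range (Points.map a) := by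
  have hs : T.hom t ∈ Set.range (S.affineCover.f (S.affineCover.idx (T.hom t))) :=
    S.affineCover.covers (T.hom t)
  have htW : t ∈ T.hom ⁻¹ᵁ (S.affineCover.f (S.affineCover.idx (T.hom t))).opensRange := hs
  obtain ⟨D₁, hD₁, htD₁, hD₁W⟩ := TopologicalSpace.Opens.isBasis_iff_nbhd.mp
    T.left.isBasis_affineOpens htW
  have hD₁aff : IsAffine (ov T D₁).left := hD₁
  have : IsOpenImmersion (ovι T D₁).left := inferInstanceAs (IsOpenImmersion (Scheme.Opens.ι D₁))
  have hr : Set.range (Scheme.Opens.ι D₁ ≫ T.hom) ⊆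
      Set.range (S.affineCover.f (S.affineCover.idx (T.hom t))) := by
    rintro _ ⟨x, rfl⟩
    exact hD₁W x.2
  have hf₁ : IsOpenImmersion.lift (S.affineCover.f (S.affineCover.idx (T.hom t)))
      (Scheme.Opens.ι D₁ ≫ T.hom) hr ≫ S.affineCover.f (S.affineCover.idx (T.hom t)) =
      (ov T D₁).hom := IsOpenImmersion.lift_fac _ _ _
  obtain ⟨X₁, u₁, c₁, hX₁, hu₁, sq₁⟩ := exists_open_of_isThickMor (IsAlgSpace.yon_obj T) hX'
    (IsAlgSpace.yon_obj (ov T D₁)) c hc ((yon S).map (ovι T D₁))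
    ((repWith_yon_map_iff _ _).2 inferInstance)
  have hc₁ : IsThickMor c₁ := MorphismProperty.of_isPullback (P := RepWith (S := S) thick) sq₁ hc
  obtain ⟨T', a, hT', ha, y, hy⟩ := exists_affine_open_of_isThickMor_affine hX₁ c₁ hc₁
    (S.affineCover.f (S.affineCover.idx (T.hom t))) _ hf₁ ⟨t, htD₁⟩
  refine ⟨T', a ≫ u₁, hT', (RepWith (S := S) @IsOpenImmersion).comp_mem _ _ ha hu₁, y, ?_⟩
  rw [Points.map_comp, hy, Points.map_ofPt, ← sq₁.w, Groth.Agent.H52.ofPt_yon_map_comp]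
  rfl

open Groth.Agent.H53.ZarGlue in
/-- **A thickening of a scheme is a scheme.** -/
theorem exists_iso_yon_of_isThickMor {X' : Sp S} (hX' : IsAlgSpace X') {T : Over S}
    (c : (yon S).obj T ⟶ X') (hc : IsThickMor c) :
    ∃ T' : Over S, Nonempty ((yon S).obj T' ≅ X') := by
  have hloc : schematicLocus X' = Set.univ := by
    rw [Set.eq_univ_iff_forall]
    intro x'
    obtain ⟨x, rfl⟩ := surjective_points_of_isThickMor c hc x'
    obtain ⟨t, rfl⟩ := (Points.schemeHomeo T).surjective x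
    obtain ⟨T', a, -, ha, hpt⟩ := exists_affine_open_of_isThickMor' hX' c hc t
    refine ⟨T', a, ha, ?_⟩
    rw [Points.ofPt_eq_map_ofScheme] at hpt
    exact hpt
  obtain ⟨Y, ⟨e⟩⟩ := exists_iso_yon_openSub_schematicLocus hX'
  obtain ⟨e', -⟩ := exists_iso_of_range_eq (openSubι X' (schematicLocus X')) (𝟙 X')
    (repWith_isOpenImmersion_openSubι X' _ (isOpen_schematicLocus X'))
    ((RepWith (S := S) @IsOpenImmersion).id_mem X') (by
      rw [range_points_map_openSubι, hloc]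
      ext x
      simp)
  exact ⟨Y, ⟨e ≪≫ e'⟩⟩

end Groth.Agent.Lib.Helper54
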