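import Groth.Agent.Lib.Helper54.ThickFun

/-!
# Square zero thickenings of affine schemes with an etale model are affine
-/

set_option autoImplicit false
set_option backward.isDefEq.respectTransparency false
universe u
open CategoryTheory CategoryTheory.Limits AlgebraicGeometry
open AlgSp

namespace Groth.Agent.Lib.Helper54

variable {S : Scheme.{u}}

/-- An etale model of a chart: finitely many functions on `T`, giving `φ₀ : T ⟶ 𝔸ⁿ`, and an etale
`V ⟶ 𝔸ⁿ` with `V` affine whose base change to `T` is affine, surjective onto `T`, and refines the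
chart `a'` of the thickening `c : T ⟶ X'`. -/
def HasModel {X' : Sp S} {T U' : Over S} (c : (yon S).obj T ⟶ X') (a' : (yon S).obj U' ⟶ X') :
    Prop :=
  ∃ (n : Type u) (_ : Finite n) (V P₀ : Over S) (v : V ⟶ affOver n S) (φ₀ : T ⟶ affOver n S)
    (p₁ : P₀ ⟶ T) (p₂ : P₀ ⟶ V) (k : (yon S).obj P₀ ⟶ (yon S).obj U'),
    IsAffine V.left ∧ IsAffine P₀.left ∧ Etale v.left ∧ Surjective p₁.left ∧
      IsPullback p₁ p₂ φ₀ v ∧ k ≫ a' = (yon S).map p₁ ≫ c

/-- Functions invariant under the relation are coequalized by every pair of points with the same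
image. -/
theorem appTop_eq_of_invariant {X' : Sp S} {U' R' : Over S} (a' : (yon S).obj U' ⟶ X')
    (s t : R' ⟶ U') (K : IsPullback ((yon S).map s) ((yon S).map t) a' a')
    (b : Γ(U'.left, ⊤)) (hb : s.left.appTop.hom b = t.left.appTop.hom b)
    (Z : Over S) (z₁ z₂ : Z ⟶ U') (hz : (yon S).map z₁ ≫ a' = (yon S).map z₂ ≫ a') :
    z₁.left.appTop.hom b = z₂.left.appTop.hom b := by
  obtain ⟨r, hr⟩ := (yon S).map_surjective (K.lift _ _ hz)
  have h1 : r ≫ s = z₁ := (yon S).map_injective (by
    rw [Functor.map_comp, hr]; exact K.lift_fst _ _ _)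
  have h2 : r ≫ t = z₂ := (yon S).map_injective (by
    rw [Functor.map_comp, hr]; exact K.lift_snd _ _ _)
  rw [← h1, ← h2]
  change r.left.appTop.hom (s.left.appTop.hom b) = r.left.appTop.hom (t.left.appTop.hom b)
  rw [hb]

/-- A square zero thickening of an affine scheme, with an etale model, is an affine scheme. -/
theorem exists_iso_yon_affine_of_sqZero {X' : Sp S} (hX' : IsAlgSpace X') {T U' UT : Over S}
    [IsAffine T.left] (c : (yon S).obj T ⟶ X') (hc : IsThickMor c) [IsAffine U'.left]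
    (a' : (yon S).obj U' ⟶ X') (ha' : RepWith @Etale a') (has : RepWith @Surjective a')
    (fU : UT ⟶ T) (sU : UT ⟶ U')
    (hU : IsPullback ((yon S).map fU) ((yon S).map sU) c a')
    (hsq : ∀ x y, x ∈ RingHom.ker sU.left.appTop.hom → y ∈ RingHom.ker sU.left.appTop.hom →
      x * y = 0)
    (hm : HasModel c a') :
    ∃ T' : Over S, IsAffine T'.left ∧ Nonempty ((yon S).obj T' ≅ X') := by
  obtain ⟨n, _, V, P₀, v, φ₀, p₁, p₂, k, hV, hP₀, hv, hp₁, sqM, hk⟩ := hm
  obtain ⟨R', s, t, K⟩ := exists_kernelPair_of_rep a' ha'.rep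
  choose b hb1 hb2 using fun i : n => exists_invariant_lift_of_sqZero hc a' ha' has fU sU hU hsq
    s t K (φ₀.left.appTop.hom (AffineSpace.coord S i))
  obtain ⟨φ, hφ⟩ := exists_extension_of_invariant c a' ha' has fU sU hU φ₀ b hb1
    (fun Z z₁ z₂ hz i => appTop_eq_of_invariant a' s t K (b i) (hb2 i) Z z₁ z₂ hz)
  refine exists_iso_yon_affine_of_model hX' c hc a' ha' p₁ k hk φ v p₂ ?_
  rw [hφ]
  exact sqM.map (yon S)

end Groth.Agent.Lib.Helper54
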