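import Groth.Agent.Lib.Helper54.ThickStd
import Groth.Agent.Lib.Helper54.ThickSq

/-!
# Etale models of standard etale morphisms
-/

set_option autoImplicit false
set_option backward.isDefEq.respectTransparency false
universe u
open CategoryTheory CategoryTheory.Limits AlgebraicGeometry
open AlgSp

namespace Groth.Agent.Lib.Helper54

variable {S : Scheme.{u}}

/-- A standard etale morphism of affine schemes over `S`, whose target maps into an affine open of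
`S`, is the base change of an etale morphism `V ⟶ 𝔸ⁿ_S` with `V` affine. -/
theorem exists_model_of_isStandardEtale {Sα : Scheme.{u}} [IsAffine Sα] (ι : Sα ⟶ S)
    [IsOpenImmersion ι] {T₁ Q₁ : Over S} (q : Q₁ ⟶ T₁)
    (f₁ : T₁.left ⟶ Sα) (hf₁ : f₁ ≫ ι = T₁.hom) {A C : CommRingCat.{u}} (γ : A ⟶ C)
    (hstd : @Algebra.IsStandardEtale A C _ _ γ.hom.toAlgebra)
    (eT : T₁.left ≅ Spec A) (eQ : Q₁.left ≅ Spec C) (hq : q.left ≫ eT.hom = eQ.hom ≫ Spec.map γ) :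
    ∃ (n : Type u) (_ : Finite n) (V : Over S) (v : V ⟶ affOver n S) (φ₁ : T₁ ⟶ affOver n S)
      (p₂ : Q₁ ⟶ V), IsAffine V.left ∧ Etale v.left ∧ IsPullback q p₂ φ₁ v := by
  obtain ⟨n, hn, π, B, φ, ψ, hφ, hpo⟩ := exists_int_model γ hstd
  have sq0 := isPullback_SpecMap_of_isPushout π φ γ ψ hpo
  have sq1 : IsPullback q.left (eQ.hom ≫ Spec.map ψ)
      (eT.hom ≫ Spec.map π) (Spec.map φ) := by
    refine IsPullback.of_iso sq0 eQ.symm eT.symm (Iso.refl _)
      (Iso.refl _) ?_ ?_ ?_ ?_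
    · change Spec.map γ ≫ eT.inv = eQ.inv ≫ q.left
      rw [Iso.eq_inv_comp, ← Category.assoc, ← hq, Category.assoc, Iso.hom_inv_id,
        Category.comp_id]
    · simp
    · simp
    · simp
  let τ₁ : T₁.left ⟶ Spec (CommRingCat.of (MvPolynomial n (ULift.{u} ℤ))) :=
    eT.hom ≫ Spec.map π
  let φα : T₁.left ⟶ 𝔸(n; Sα) := pullback.lift f₁ τ₁ (terminal.hom_ext _ _)
  have hφα1 : φα ≫ (𝔸(n; Sα) ↘ Sα) = f₁ := pullback.lift_fst _ _ _
  have hφα2 : φα ≫ AffineSpace.toSpecMvPoly n Sα = τ₁ := pullback.lift_snd _ _ _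
  have hEt : Etale (Spec.map φ) := (HasRingHomProperty.Spec_iff (P := @Etale)).mpr hφ
  let V₀ : Scheme.{u} := pullback (AffineSpace.toSpecMvPoly n Sα) (Spec.map φ)
  let vα : V₀ ⟶ 𝔸(n; Sα) := pullback.fst _ _
  have hvα : Etale vα := MorphismProperty.pullback_fst _ _ hEt
  let p₂' : Q₁.left ⟶ V₀ := pullback.lift (q.left ≫ φα) (eQ.hom ≫ Spec.map ψ) (by
    rw [Category.assoc, hφα2]; exact sq1.w)
  have hp₂'1 : p₂' ≫ vα = q.left ≫ φα := pullback.lift_fst _ _ _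
  have hp₂'2 : p₂' ≫ pullback.snd _ _ = eQ.hom ≫ Spec.map ψ := pullback.lift_snd _ _ _
  have sq2 : IsPullback q.left p₂' φα vα := by
    refine (IsPullback.of_right (h₁₂ := pullback.snd _ _) (h₂₂ := AffineSpace.toSpecMvPoly n Sα)
      ?_ hp₂'1 (IsPullback.of_hasPullback _ _).flip).flip
    rw [hp₂'2, hφα2]
    exact sq1.flip
  let m : 𝔸(n; Sα) ⟶ 𝔸(n; S) := AffineSpace.map n ι
  have hm : IsOpenImmersion m :=
    MorphismProperty.of_isPullback (AffineSpace.isPullback_map (n := n) ι).flip inferInstance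
  have sq3 : IsPullback q.left p₂' (φα ≫ m) (vα ≫ m) := isPullback_comp_mono sq2 m
  have hφS : (φα ≫ m) ≫ (𝔸(n; S) ↘ S) = T₁.hom := by
    rw [Category.assoc, AffineSpace.map_over, ← Category.assoc, hφα1, hf₁]
  let φ₁ : T₁ ⟶ affOver n S := Over.homMk (φα ≫ m) hφS
  let v : Over.mk ((vα ≫ m) ≫ (affOver n S).hom) ⟶ affOver n S := Over.homMk (vα ≫ m) rfl
  have hv : Etale v.left := by
    change Etale (vα ≫ m)
    infer_instance
  have hp₂S : p₂' ≫ (vα ≫ m) ≫ (affOver n S).hom = Q₁.hom := by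
    rw [← Category.assoc, sq3.w.symm, Category.assoc]
    change q.left ≫ (φα ≫ m) ≫ (𝔸(n; S) ↘ S) = Q₁.hom
    rw [hφS, Over.w]
  let p₂ : Q₁ ⟶ Over.mk ((vα ≫ m) ≫ (affOver n S).hom) := Over.homMk p₂' hp₂S
  refine ⟨n, hn, _, v, φ₁, p₂, ?_, hv, ?_⟩
  · change IsAffine V₀
    infer_instance
  · exact IsPullback.of_map (Over.forget S) (by ext; exact sq3.w) sq3

/-- Restriction of the model of a standard etale morphism to an affine scheme mapping into its
image. -/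
theorem exists_model_of_range_subset {Sα : Scheme.{u}} [IsAffine Sα] (ι : Sα ⟶ S)
    [IsOpenImmersion ι] {T₁ Q₁ D : Over S} [IsAffine T₁.left] [IsAffine Q₁.left] [IsAffine D.left]
    (q : Q₁ ⟶ T₁) (f₁ : T₁.left ⟶ Sα) (hf₁ : f₁ ≫ ι = T₁.hom) {A C : CommRingCat.{u}} (γ : A ⟶ C)
    (hstd : @Algebra.IsStandardEtale A C _ _ γ.hom.toAlgebra)
    (eT : T₁.left ≅ Spec A) (eQ : Q₁.left ≅ Spec C) (hq : q.left ≫ eT.hom = eQ.hom ≫ Spec.map γ)
    (j : D ⟶ T₁) (hj : Set.range j.left ⊆ Set.range q.left) :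
    ∃ (n : Type u) (_ : Finite n) (V P₀ : Over S) (v : V ⟶ affOver n S) (φ₀ : D ⟶ affOver n S)
      (p₁ : P₀ ⟶ D) (p₂ : P₀ ⟶ V) (p₀ : P₀ ⟶ Q₁), IsAffine V.left ∧ IsAffine P₀.left ∧
        Etale v.left ∧ Surjective p₁.left ∧ IsPullback p₁ p₂ φ₀ v ∧ IsPullback p₁ p₀ j q := by
  obtain ⟨n, hn, V, v, φ₁, p₂, hV, hv, sqB⟩ := exists_model_of_isStandardEtale ι q f₁ hf₁ γ hstd eT eQ hq
  let P₀ : Over S := Over.mk (pullback.fst j.left q.left ≫ D.hom)
  let p₁ : P₀ ⟶ D := Over.homMk (pullback.fst j.left q.left) rfl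
  let p₀ : P₀ ⟶ Q₁ := Over.homMk (pullback.snd j.left q.left) (by
    change pullback.snd j.left q.left ≫ Q₁.hom = pullback.fst j.left q.left ≫ D.hom
    rw [← Over.w q, ← Over.w j, ← Category.assoc, ← Category.assoc, pullback.condition])
  have sqA : IsPullback p₁ p₀ j q :=
    IsPullback.of_map (Over.forget S) (by ext; exact pullback.condition)
      (IsPullback.of_hasPullback j.left q.left)
  refine ⟨n, hn, V, P₀, v, j ≫ φ₁, p₁, p₀ ≫ p₂, p₀, hV, ?_, hv, ?_, ?_, sqA⟩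
  · change IsAffine (pullback j.left q.left)
    infer_instance
  · constructor
    intro d
    obtain ⟨x, hx⟩ := hj ⟨d, rfl⟩
    obtain ⟨z, hz, -⟩ := Scheme.Pullback.exists_preimage_pullback d x hx.symm
    exact ⟨z, hz⟩
  · exact (sqA.flip.paste_horiz sqB.flip).flip

end Groth.Agent.Lib.Helper54
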