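import Groth.Agent.Lib.Helper54.ThickLocal
import Groth.Agent.H53.SchImageRed
import Groth.Agent.H52.FibreProd

/-!
# Morphisms of thickenings of algebraic spaces
-/

set_option autoImplicit false
set_option backward.isDefEq.respectTransparency false
universe u
open CategoryTheory CategoryTheory.Limits AlgebraicGeometry
open AlgSp

namespace Groth.Agent.Lib.Helper54

variable {S : Scheme.{u}}

/-- For a morphism of thickenings `(f, f') : (X ⊂ X') ⟶ (Y ⊂ Y')`: if the base change of `f` to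
the closed subscheme `Y ×_{Y'} Z'` of a scheme `Z'` over `Y'` is a scheme `W`, then the base change
of `f'` to `Z'` is a scheme, a thickening of `W`. -/
theorem exists_thick_of_baseChange {X X' Y Y' : Sp S} (hX' : IsAlgSpace X') (hY' : IsAlgSpace Y')
    (i : X ⟶ X') (j : Y ⟶ Y') (f : X ⟶ Y) (f' : X' ⟶ Y') (hi : IsThickMor i) (hj : IsThickMor j)
    (w : i ≫ f' = f ≫ j) {Z' : Over S} (g' : (yon S).obj Z' ⟶ Y') {W : Over S}
    (iw : W ⟶ hj.rep.pullback g') (wf : (yon S).obj W ⟶ X)
    (sqW : IsPullback wf ((yon S).map iw) f (hj.rep.fst g')) :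
    ∃ (T' : Over S) (sn : T' ⟶ Z') (tf : (yon S).obj T' ⟶ X') (cw : W ⟶ T'),
      IsPullback tf ((yon S).map sn) f' g' ∧ thick cw.left ∧ cw ≫ sn = iw ≫ hj.rep.snd g' := by
  have sqP := IsPullback.of_hasPullback f' g'
  have hP' : IsAlgSpace (pullback f' g') :=
    Groth.Agent.H52.isAlgSpace_of_isPullback sqP hX' hY' (IsAlgSpace.yon_obj Z')
  have sqV := hj.rep.isPullback g'
  have big : IsPullback wf ((yon S).map iw ≫ (yon S).map (hj.rep.snd g')) (f ≫ j) g' :=
    sqW.paste_vert sqV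
  rw [← w] at big
  have sqc := IsPullback.of_bot' big sqP
  have hc : IsThickMor (sqP.lift (wf ≫ i) ((yon S).map iw ≫ (yon S).map (hj.rep.snd g'))
      (by rw [Category.assoc, big.w])) :=
    MorphismProperty.of_isPullback (P := RepWith (S := S) thick) sqc hi
  obtain ⟨T', ⟨e⟩⟩ := exists_iso_yon_of_isThickMor hP' _ hc
  obtain ⟨sn, hsn⟩ := (yon S).map_surjective (e.hom ≫ pullback.snd f' g')
  have hri : (RepWith (S := S) thick).RespectsIso :=
    MorphismProperty.IsStableUnderBaseChange.respectsIso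
  have hc' : IsThickMor (sqP.lift (wf ≫ i) ((yon S).map iw ≫ (yon S).map (hj.rep.snd g'))
      (by rw [Category.assoc, big.w]) ≫ e.inv) :=
    MorphismProperty.RespectsIso.postcomp (RepWith (S := S) thick) _ _ hc
  obtain ⟨cw, hcw⟩ := (yon S).map_surjective (sqP.lift (wf ≫ i)
    ((yon S).map iw ≫ (yon S).map (hj.rep.snd g')) (by rw [Category.assoc, big.w]) ≫ e.inv)
  rw [← hcw] at hc'
  refine ⟨T', sn, e.hom ≫ pullback.fst f' g', cw, ?_, (isThickMor_yon_map_iff cw).1 hc', ?_⟩
  · rw [hsn]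
    exact IsPullback.of_iso sqP e.symm (Iso.refl _) (Iso.refl _) (Iso.refl _) (by simp) (by simp)
      (by simp) (by simp)
  · apply (yon S).map_injective
    rw [Functor.map_comp, Functor.map_comp, hcw, hsn, Category.assoc, Iso.inv_hom_id_assoc,
      sqP.lift_snd]

/-- For a morphism of thickenings `(f, f') : (X ⊂ X') ⟶ (Y ⊂ Y')`: the base change of `f` along
`Z ⟶ Y` is the closed subscheme `X ×_{X'} W'` of the base change `W'` of `f'` along `Z ⟶ Y ⟶ Y'`. -/
theorem isPullback_of_thick_comp {X X' Y Y' : Sp S} (i : X ⟶ X') (j : Y ⟶ Y') (f : X ⟶ Y)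
    (f' : X' ⟶ Y') (hi : IsThickMor i) (hj : IsThickMor j) (w : i ≫ f' = f ≫ j) {Z W' : Over S}
    (g : (yon S).obj Z ⟶ Y) (i' : W' ⟶ Z) (fst' : (yon S).obj W' ⟶ X')
    (sq1 : IsPullback fst' ((yon S).map i') f' (g ≫ j)) :
    IsPullback (hi.rep.fst fst') ((yon S).map (hi.rep.snd fst' ≫ i')) f g := by
  have hjm : Mono j := Groth.Agent.H53.SchImageRed.mono_of_repWith_isClosedImmersion j
    ⟨hj.rep, fun _ _ g fst snd sq => (hj.property g fst snd sq).1⟩
  have sq2 := hi.rep.isPullback fst'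
  have big := (sq2.flip.paste_horiz sq1.flip).flip
  rw [w, ← Functor.map_comp] at big
  exact isPullback_of_comp_mono j big

end Groth.Agent.Lib.Helper54
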