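import Groth.Agent.Lib.Helper7.EtaleLift.StdEtale

/-!
# Standard etale algebras are base changes of etale algebras over polynomial rings over `ℤ`
-/

set_option autoImplicit false

namespace Groth.Agent.Lib.Helper54

open Polynomial TensorProduct CategoryTheory Limits

universe u

/-- Lift a standard étale pair along a ring map whose range contains the coefficients, up to
multiplying `g` by `f'`. -/
theorem exists_standardEtalePair_lift' {A A₀ : Type u} [CommRing A] [CommRing A₀] (π : A →+* A₀)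
    (P₀ : StandardEtalePair A₀) (hf : P₀.f ∈ Polynomial.lifts π) (hg : P₀.g ∈ Polynomial.lifts π) :
    ∃ P : StandardEtalePair A, (P.map π).f = P₀.f ∧ (P.map π).g = P₀.g * derivative P₀.f := by
  obtain ⟨f, hf1, -, hf3⟩ := Polynomial.lifts_and_natDegree_eq_and_monic hf P₀.monic_f
  obtain ⟨g₁, hg₁⟩ := (Polynomial.mem_lifts _).1 hg
  refine ⟨⟨f, hf3, g₁ * derivative f, ⟨g₁, 0, 1, by ring⟩⟩, hf1, ?_⟩
  simp only [StandardEtalePair.map_g, Polynomial.map_mul, hg₁]
  rw [← Polynomial.derivative_map, hf1]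

/-- Standard étale algebras descend along ring maps whose range contains the coefficients. -/
theorem exists_etale_lift' (A A₀ C : Type u) [CommRing A] [CommRing A₀] [CommRing C] [Algebra A A₀]
    [Algebra A₀ C] (Q₀ : StandardEtalePresentation A₀ C)
    (hf : Q₀.P.f ∈ Polynomial.lifts (algebraMap A A₀))
    (hg : Q₀.P.g ∈ Polynomial.lifts (algebraMap A A₀)) :
    ∃ (B : Type u) (_ : CommRing B) (_ : Algebra A B), Algebra.Etale A B ∧
      Nonempty (C ≃ₐ[A₀] A₀ ⊗[A] B) := by
  obtain ⟨P, hPf, hPg⟩ := exists_standardEtalePair_lift' (algebraMap A A₀) Q₀.P hf hg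
  let QP : StandardEtalePresentation A P.Ring :=
    ⟨P, P.X, P.hasMap_X, by simpa [StandardEtalePair.lift_X_left] using Function.bijective_id⟩
  let e₁ : A₀ ⊗[A] P.Ring ≃ₐ[A₀] (P.map (algebraMap A A₀)).Ring :=
    (QP.baseChange (T := A₀)).equivRing
  let e₂ : (P.map (algebraMap A A₀)).Ring ≃ₐ[A₀] Q₀.P.Ring :=
    Groth.Agent.Lib.Helper7.EtaleLift.equivOfEq Q₀.P _ hPf hPg
  exact ⟨P.Ring, inferInstance, inferInstance, inferInstance,
    ⟨(Q₀.equivRing.trans e₂.symm).trans e₁.symm⟩⟩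

/-- `CommRingCat` form of `exists_etale_lift'`. -/
theorem exists_etale_lift_commRingCat' {A A₀ C : CommRingCat.{u}} (π : A ⟶ A₀) [Algebra A₀ C]
    (Q₀ : StandardEtalePresentation A₀ C)
    (hf : Q₀.P.f ∈ Polynomial.lifts π.hom) (hg : Q₀.P.g ∈ Polynomial.lifts π.hom) :
    ∃ (B : CommRingCat.{u}) (φ : A ⟶ B) (ψ : B ⟶ C), φ.hom.Etale ∧
      IsPushout π φ (CommRingCat.ofHom (algebraMap A₀ C)) ψ := by
  let _ : Algebra A A₀ := π.hom.toAlgebra
  obtain ⟨B, _, _, hB, ⟨e⟩⟩ := exists_etale_lift' A A₀ C Q₀ hf hg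
  refine ⟨CommRingCat.of B, CommRingCat.ofHom (algebraMap A B),
    CommRingCat.ofHom (e.symm.toRingEquiv.toRingHom.comp
      (Algebra.TensorProduct.includeRight (R := A) (A := A₀) (B := B)).toRingHom), ?_, ?_⟩
  · exact RingHom.etale_algebraMap.mpr hB
  · have h0 := CommRingCat.isPushout_tensorProduct A A₀ B
    refine h0.of_iso (Iso.refl _) (Iso.refl _) (Iso.refl _) e.symm.toRingEquiv.toCommRingCatIso
      ?_ ?_ ?_ ?_
    · ext x; rfl
    · ext x; rfl
    · ext x
      simp only [Iso.refl_hom, Category.id_comp]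
      show e.symm (x ⊗ₜ 1) = algebraMap A₀ C x
      rw [show (x ⊗ₜ[A] (1 : B) : A₀ ⊗[A] B) = algebraMap A₀ (A₀ ⊗[A] B) x from rfl,
        AlgEquiv.commutes]
    · ext x; rfl

/-- A standard étale algebra is the base change of an étale algebra over a polynomial ring over
`ℤ` in finitely many variables. -/
theorem exists_int_model {A C : CommRingCat.{u}} (γ : A ⟶ C)
    (hγ : @Algebra.IsStandardEtale A C _ _ γ.hom.toAlgebra) :
    ∃ (n : Type u) (_ : Finite n) (π : CommRingCat.of (MvPolynomial n (ULift.{u} ℤ)) ⟶ A)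
      (B : CommRingCat.{u}) (φ : CommRingCat.of (MvPolynomial n (ULift.{u} ℤ)) ⟶ B) (ψ : B ⟶ C),
      φ.hom.Etale ∧ IsPushout π φ γ ψ := by
  classical
  let _ : Algebra A C := γ.hom.toAlgebra
  let Q₀ : StandardEtalePresentation A C :=
    Algebra.IsStandardEtale.nonempty_standardEtalePresentation.some
  let s : Finset A := Q₀.P.f.coeffs ∪ Q₀.P.g.coeffs
  let n : Type u := {a : A // a ∈ s}
  let π₀ : MvPolynomial n (ULift.{u} ℤ) →+* A :=
    MvPolynomial.eval₂Hom ((Int.castRingHom A).comp (ULift.ringEquiv (R := ℤ)).toRingHom)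
      (fun i : n => i.1)
  have hmem : ∀ p : A[X], p.coeffs ⊆ s → p ∈ Polynomial.lifts π₀ := by
    intro p hp
    rw [Polynomial.lifts_iff_coeff_lifts]
    intro k
    by_cases hk : p.coeff k = 0
    · exact ⟨0, by rw [map_zero, hk]⟩
    · refine ⟨MvPolynomial.X ⟨p.coeff k, hp (Polynomial.coeff_mem_coeffs hk)⟩, ?_⟩
      simp [π₀]
  obtain ⟨B, φ, ψ, hφ, hpo⟩ := exists_etale_lift_commRingCat' (CommRingCat.ofHom π₀) Q₀
    (hmem _ Finset.subset_union_left) (hmem _ Finset.subset_union_right)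
  exact ⟨n, inferInstance, CommRingCat.ofHom π₀, B, φ, ψ, hφ, hpo⟩

end Groth.Agent.Lib.Helper54
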