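import Groth.Agent.Lib.Helper54.ThickSq
import Groth.Agent.H53.QcImageD
import Groth.Agent.H53.QcIdeal
import Groth.Agent.H53.SchImage
import Groth.Agent.H53.SchImageRed

/-!
# Closed subspaces of a thickening of an affine scheme defined by ideals of a chart
-/

set_option autoImplicit false
set_option backward.isDefEq.respectTransparency false
universe u
open CategoryTheory CategoryTheory.Limits AlgebraicGeometry
open AlgSp

namespace Groth.Agent.Lib.Helper54

variable {S : Scheme.{u}} {X' : Sp S} {T : Over S} {c : (yon S).obj T ⟶ X'}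

/-- Fibre products of affine schemes over a thickening of an affine scheme are affine. -/
theorem isAffine_fibreProduct_of_thick (hc : IsThickMor c) [IsAffine T.left] {W Z P : Over S}
    [IsAffine W.left] [IsAffine Z.left] (w : (yon S).obj W ⟶ X') (z : (yon S).obj Z ⟶ X')
    (p₁ : P ⟶ W) (p₂ : P ⟶ Z) (K : IsPullback ((yon S).map p₁) ((yon S).map p₂) w z) :
    IsAffine P.left := by
  obtain ⟨WT, fW, sW, hW, hsW⟩ := exists_thick_baseChange c hc w
  obtain ⟨ZT, fZ, sZ, hZ, hsZ⟩ := exists_thick_baseChange c hc z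
  obtain ⟨PT, fP, sP, hP, hsP⟩ := exists_thick_baseChange c hc ((yon S).map p₁ ≫ w)
  obtain ⟨p₁T, h11, h12⟩ := exists_baseChange_map hP hW p₁ rfl
  obtain ⟨p₂T, h21, h22⟩ := exists_baseChange_map hP hZ p₂ K.w.symm
  have G := isPullback_baseChange_of_isPullback K hW hZ h11 h12 h21 h22.w
  have : IsClosedImmersion sW.left := hsW.1
  have : IsClosedImmersion sZ.left := hsZ.1
  have hWT : IsAffine WT.left := (IsClosedImmersion.isAffine_surjective_of_isAffine sW.left).1
  have hZT : IsAffine ZT.left := (IsClosedImmersion.isAffine_surjective_of_isAffine sZ.left).1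
  have hPT : IsAffine PT.left := IsAffine.of_isPullback (isPullback_left G)
  exact isAffine_of_thick sP.left hsP

/-- An affine chart of a thickening of an affine scheme is an affine morphism. -/
theorem isAffineMor_of_thick (hX' : IsAlgSpace X') (hc : IsThickMor c) [IsAffine T.left]
    {U' : Over S} [IsAffine U'.left] (a' : (yon S).obj U' ⟶ X') : IsAffineMor a' := by
  intro Z hZ z
  obtain ⟨P, snd, fst, sq⟩ := hX'.representable_from_yon a' z
  obtain ⟨fst', rfl⟩ := (yon S).map_surjective fst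
  exact ⟨P, snd, (yon S).map fst', sq, isAffine_fibreProduct_of_thick hc a' z fst' snd sq⟩

theorem repWith_quasiCompact_of_thick (hX' : IsAlgSpace X') (hc : IsThickMor c) [IsAffine T.left]
    {U' : Over S} [IsAffine U'.left] (a' : (yon S).obj U' ⟶ X') : RepWith @QuasiCompact a' := by
  have h := Groth.Agent.H53.ZarGlue.repWith_isAffineHom_of_isAffineMor
    (isAffineMor_of_thick hX' hc a')
  refine ⟨h.rep, fun _ _ g fst snd sq => ?_⟩
  have : IsAffineHom snd.left := h.property g fst snd sq
  change QuasiCompact snd.left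
  infer_instance

theorem ringKer_eq_of_ker_eq {A B Y : Scheme.{u}} [IsAffine Y] (f : A ⟶ Y) (g : B ⟶ Y)
    (h : f.ker = g.ker) : RingHom.ker f.appTop.hom = RingHom.ker g.appTop.hom := by
  rw [Scheme.ker_of_isAffine f, Scheme.ker_of_isAffine g] at h
  have := congrArg (fun I => I.ideal ⟨⊤, isAffineOpen_top Y⟩) h
  simpa using this

theorem ringKer_subschemeι {Y : Scheme.{u}} [IsAffine Y] (I₀ : Ideal Γ(Y, ⊤)) :
    RingHom.ker (Scheme.IdealSheafData.ofIdealTop I₀).subschemeι.appTop.hom = I₀ := by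
  have h := (Scheme.IdealSheafData.ofIdealTop I₀).ker_subschemeι
  rw [Scheme.ker_of_isAffine] at h
  have := congrArg (fun I => I.ideal ⟨⊤, isAffineOpen_top Y⟩) h
  simpa using this

/-- The closed subspace of a thickening `X'` of an affine scheme generated by the closed subscheme
`V(I₀)` of an affine etale chart `U'`: its trace on the chart is cut out by the ideal of functions
whose pullback under `t` vanishes on `s⁻¹ V(I₀)`. -/
theorem exists_closed_subspace_of_ideal (hX' : IsAlgSpace X') (hc : IsThickMor c)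
    [IsAffine T.left] {U' : Over S} [IsAffine U'.left] (a' : (yon S).obj U' ⟶ X')
    (ha' : RepWith @Etale a') {R' : Over S} (s t : R' ⟶ U')
    (K : IsPullback ((yon S).map s) ((yon S).map t) a' a') (I₀ : Ideal Γ(U'.left, ⊤)) :
    ∃ (X₁ : Sp S) (i₁ : X₁ ⟶ X') (U₁ : Over S) (ι₁ : U₁ ⟶ U') (a₁ : (yon S).obj U₁ ⟶ X₁),
      IsAlgSpace X₁ ∧ RepWith @IsClosedImmersion i₁ ∧ IsPullback a₁ ((yon S).map ι₁) i₁ a' ∧
      RingHom.ker ι₁.left.appTop.hom =
        Ideal.comap t.left.appTop.hom (Ideal.map s.left.appTop.hom I₀) := by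
  have hR' : IsAffine R'.left := isAffine_fibreProduct_of_thick hc a' a' s t K
  let I := Scheme.IdealSheafData.ofIdealTop I₀
  let Z₀ : Over S := Over.mk (I.subschemeι ≫ U'.hom)
  let ι₀ : Z₀ ⟶ U' := Over.homMk I.subschemeι rfl
  have hι₀ci : IsClosedImmersion ι₀.left := inferInstanceAs (IsClosedImmersion I.subschemeι)
  have hZ₀ : IsAffine Z₀.left := (IsClosedImmersion.isAffine_surjective_of_isAffine ι₀.left).1
  have hι₀surj : Function.Surjective ι₀.left.appTop.hom :=
    (IsClosedImmersion.isAffine_surjective_of_isAffine ι₀.left).2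
  have hkerι₀ : RingHom.ker ι₀.left.appTop.hom = I₀ := ringKer_subschemeι I₀
  let g : (yon S).obj Z₀ ⟶ X' := (yon S).map ι₀ ≫ a'
  have hQC : (RepWith (S := S) @QuasiCompact).IsMultiplicative := repWith_isMultiplicative _
  have hg : IsQuasiCompactMor g := by
    apply Groth.Agent.H52.isQuasiCompactMor_of_repWith_quasiCompact
    exact (RepWith @QuasiCompact).comp_mem _ _
      ((repWith_yon_map_iff _ _).2 (inferInstance : QuasiCompact ι₀.left))
      (repWith_quasiCompact_of_thick hX' hc a')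
  obtain ⟨X₁, i₁, hX₁, hIm⟩ := Groth.Agent.H53.SchImage.exists_isSchImage (IsAlgSpace.yon_obj Z₀) hX' g
  have hi₁ : RepWith @IsClosedImmersion i₁ := hIm.1
  have hrep := hi₁.rep
  have sqZ := hrep.isPullback a'
  have sqR := IsPullback.of_hasPullback ι₀ s
  generalize hpr₁ : pullback.fst ι₀ s = pr₁ at sqR
  generalize hpr₂ : pullback.snd ι₀ s = pr₂ at sqR
  have sqV : IsPullback ((yon S).map pr₁) ((yon S).map (pr₂ ≫ t)) g a' := by
    have := (sqR.map (yon S)).flip.paste_horiz K.flip
    rw [← Functor.map_comp] at this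
    exact this.flip
  have hflat : LocP @Flat a' := Groth.Agent.H53.QcImage.locP_flat_of_isEtaleMor
    (Groth.Agent.H52.isEtaleMor_of_repWith_etale a' ha')
  have hIm' := Groth.Agent.H53.QcImage.isSchImage_pullback_of_flat (IsAlgSpace.yon_obj U') hX'
    (IsAlgSpace.yon_obj Z₀) a' hflat g hg i₁ hIm _ _ sqV _ _ sqZ
  have hker := Groth.Agent.H53.QcIdeal.ker_eq_of_isSchImage_yon (pr₂ ≫ t) (hrep.snd a') hIm'
  have hRZ : IsAffine (pullback ι₀ s).left := IsAffine.of_isPullback (isPullback_left sqR)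
  have hpush := (isPushout_appTop_of_isPullback (isPullback_left sqR)).flip
  obtain ⟨hk2, -⟩ := ker_eq_map_of_isPushout hpush hι₀surj
  refine ⟨X₁, i₁, hrep.pullback a', hrep.snd a', hrep.fst a', hX₁, hi₁, sqZ, ?_⟩
  rw [ringKer_eq_of_ker_eq _ _ hker]
  change RingHom.ker (pr₂.left.appTop.hom.comp t.left.appTop.hom) = _
  rw [← RingHom.comap_ker, hk2, hkerι₀]

/-- A closed subspace through which a thickening factors is a thickening, and so is the factor. -/
theorem isThickMor_of_factor {X₁ : Sp S} (hc : IsThickMor c) (i₁ : X₁ ⟶ X')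
    (hi₁ : RepWith @IsClosedImmersion i₁) (c₁ : (yon S).obj T ⟶ X₁) (h : c₁ ≫ i₁ = c) :
    IsThickMor i₁ ∧ IsThickMor c₁ := by
  have : Mono i₁ := Groth.Agent.H53.SchImageRed.mono_of_repWith_isClosedImmersion i₁ hi₁
  constructor
  · refine ⟨hi₁.rep, fun U V g fst snd sq => ⟨hi₁.property g fst snd sq, ?_⟩⟩
    obtain ⟨ZT, fZ, sZ, hZ, hsZ⟩ := exists_thick_baseChange c hc g
    obtain ⟨m, hm⟩ := (yon S).map_surjective (sq.lift ((yon S).map fZ ≫ c₁) ((yon S).map sZ)
      (by rw [Category.assoc, h, hZ.w]))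
    have hms : m ≫ snd = sZ := (yon S).map_injective (by
      rw [Functor.map_comp, hm]; exact sq.lift_snd _ _ _)
    have : Surjective sZ.left := hsZ.2
    constructor
    intro z
    obtain ⟨x, rfl⟩ := sZ.left.surjective z
    exact ⟨m.left x, congrArg (fun k : ZT ⟶ U => k.left x) hms⟩
  · have sq : IsPullback (𝟙 _) c₁ c i₁ :=
      (IsPullback.of_vert_isIso_mono ⟨by rw [h, Category.id_comp]⟩).flip
    exact MorphismProperty.of_isPullback (P := RepWith (S := S) thick) sq hc

/-- A thickening `c` factors through the closed subspace `X₁` as soon as it does so on a chart. -/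
theorem exists_factor_of_ker_le {X₁ : Sp S} {U' U₁ UT : Over S} [IsAffine U'.left]
    (a' : (yon S).obj U' ⟶ X') (ha' : RepWith @Etale a') (has : RepWith @Surjective a')
    (i₁ : X₁ ⟶ X') (hi₁ : RepWith @IsClosedImmersion i₁) (ι₁ : U₁ ⟶ U')
    (a₁ : (yon S).obj U₁ ⟶ X₁) (sq₁ : IsPullback a₁ ((yon S).map ι₁) i₁ a')
    (fU : UT ⟶ T) (sU : UT ⟶ U') (hU : IsPullback ((yon S).map fU) ((yon S).map sU) c a')
    (hle : RingHom.ker ι₁.left.appTop.hom ≤ RingHom.ker sU.left.appTop.hom) :
    ∃ c₁ : (yon S).obj T ⟶ X₁, c₁ ≫ i₁ = c := by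
  have : Mono i₁ := Groth.Agent.H53.SchImageRed.mono_of_repWith_isClosedImmersion i₁ hi₁
  have : Epi ((yon S).map fU) :=
    Groth.Agent.H52.epi_of_repWith_etale_surjective _ (MorphismProperty.of_isPullback hU.flip ha')
      (MorphismProperty.of_isPullback hU.flip has)
  have hci : IsClosedImmersion ι₁.left := hi₁.property a' a₁ ι₁ sq₁
  have hk : ι₁.left.ker ≤ sU.left.ker := by
    rw [Scheme.ker_of_isAffine, Scheme.ker_of_isAffine]
    apply Scheme.IdealSheafData.le_of_isAffine
    simpa using hle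
  let m : UT ⟶ U₁ := Over.homMk (IsClosedImmersion.lift ι₁.left sU.left hk) (by
    rw [← Over.w ι₁, ← Category.assoc, IsClosedImmersion.lift_fac, Over.w])
  have hm : m ≫ ι₁ = sU := by
    ext; exact IsClosedImmersion.lift_fac _ _ _
  have key : (yon S).map m ≫ a₁ ≫ i₁ = (yon S).map fU ≫ c := by
    rw [sq₁.w, ← Category.assoc, ← Functor.map_comp, hm, hU.w]
  obtain ⟨c₁, hc₁⟩ := Groth.Agent.H52.exists_desc_of_epi ((yon S).map fU) ((yon S).map m ≫ a₁) (by
    intro P p₁ p₂ h12
    rw [← cancel_mono i₁, Category.assoc, Category.assoc, key, Category.assoc, Category.assoc, key,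
      ← Category.assoc, h12, Category.assoc])
  refine ⟨c₁, ?_⟩
  rw [← cancel_epi ((yon S).map fU), ← Category.assoc, hc₁, Category.assoc, key]

end Groth.Agent.Lib.Helper54
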