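import Groth.Agent.Lib.Helper54.ThickEt
import Groth.Agent.Lib.Helper54.Thick
import Groth.Agent.Lib.Helper7.EtaleLift.Global
import Groth.Agent.Lib.Helper18.ThickAffine
import Groth.Agent.Lib.Helper51.QuotSpFppf
import Groth.Agent.H53.ZarGlueAff
import Groth.Agent.H52.FibreProd
import Groth.Agent.S10533

/-!
# A thickening of an affine scheme with enough functions is affine
-/

set_option autoImplicit false
set_option backward.isDefEq.respectTransparency false
universe u
open CategoryTheory CategoryTheory.Limits AlgebraicGeometry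
open AlgSp

namespace Groth.Agent.Lib.Helper54

variable {S : Scheme.{u}}

/-- Lifting an etale scheme over `T`, refining a chart, along a thickening `T ⟶ X'` to an affine etale
scheme over `X'`. -/
theorem exists_affine_etale_lift_of_chart {X' : Sp S} {T U' P₀ : Over S} (c : (yon S).obj T ⟶ X')
    (hc : IsThickMor c) (a' : (yon S).obj U' ⟶ X') (ha' : RepWith @Etale a')
    [IsAffine P₀.left] (p₁ : P₀ ⟶ T) [Etale p₁.left] (k : (yon S).obj P₀ ⟶ (yon S).obj U')
    (hk : k ≫ a' = (yon S).map p₁ ≫ c) :
    ∃ (P' : Over S) (e' : (yon S).obj P' ⟶ X') (j' : P₀ ⟶ P'), IsAffine P'.left ∧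
      RepWith @Etale e' ∧ thick j'.left ∧ IsPullback ((yon S).map p₁) ((yon S).map j') c e' := by
  have hrep := hc.rep
  have sqU := hrep.isPullback a'
  obtain ⟨fstU, hfstU⟩ := (yon S).map_surjective (hrep.fst a')
  rw [← hfstU] at sqU
  have hth : thick (hrep.snd a').left := hc.property_snd a'
  have : IsClosedImmersion (hrep.snd a').left := hth.1
  have : Surjective (hrep.snd a').left := hth.2
  have hfe : Etale fstU.left :=
    (repWith_yon_map_iff @Etale fstU).1 (MorphismProperty.of_isPullback sqU.flip ha')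
  obtain ⟨k₀, hk₀⟩ := (yon S).map_surjective (sqU.lift ((yon S).map p₁) k hk.symm)
  have hk₀1 : k₀ ≫ fstU = p₁ := by
    apply (yon S).map_injective
    rw [Functor.map_comp, hk₀]
    exact sqU.lift_fst _ _ _
  have hk₀2 : (yon S).map k₀ ≫ (yon S).map (hrep.snd a') = k := by
    rw [hk₀]
    exact sqU.lift_snd _ _ _
  have : Etale (k₀.left ≫ fstU.left) := by
    rw [← Over.comp_left, hk₀1]
    infer_instance
  have hk₀e : Etale k₀.left := Etale.of_comp k₀.left fstU.left
  obtain ⟨P's, kk, u, hlift⟩ :=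
    Groth.Agent.Lib.Helper7.EtaleLift.exists_isEtLift (hrep.snd a').left k₀.left
  have hkk : thick kk := MorphismProperty.of_isPullback (P := thick) hlift.isPullback.flip hth
  have : IsClosedImmersion kk := hkk.1
  have : Surjective kk := hkk.2
  have hPaff : IsAffine P's :=
    Groth.Agent.Lib.Helper18.ThickAffine.isAffine_of_isClosedImmersion_of_surjective kk kk.surjective
  let P' : Over S := Over.mk (u ≫ U'.hom)
  have hw : kk ≫ u ≫ U'.hom = P₀.hom := by
    rw [← Category.assoc, hlift.isPullback.w, Category.assoc, Over.w (hrep.snd a'), Over.w k₀]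
  let j' : P₀ ⟶ P' := Over.homMk kk hw
  let uO : P' ⟶ U' := Over.homMk u rfl
  have sqP : IsPullback j' k₀ uO (hrep.snd a') :=
    IsPullback.of_map (Over.forget S) (by ext; exact hlift.isPullback.w) hlift.isPullback
  have hE : (RepWith (S := S) @Etale).IsMultiplicative := repWith_isMultiplicative _
  have hue : Etale u := hlift.etale
  refine ⟨P', (yon S).map uO ≫ a', j', hPaff, ?_, hkk, ?_⟩
  · exact (RepWith @Etale).comp_mem _ _ ((repWith_yon_map_iff _ _).2 hue) ha'
  · have big := (IsPullback.paste_vert (sqP.map (yon S)) sqU.flip).flip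
    rw [← Functor.map_comp, hk₀1] at big
    exact big

/-- In the situation of `exists_affine_etale_lift_of_chart`, if the etale scheme `P₀` over `T` is
the base change of an etale `V ⟶ Y` along `T ⟶ X' ⟶ Y`, then the base change of `X'` to `V` is an
affine scheme, so that the projection to `V` is affine. -/
theorem isAffineMor_snd_of_chart {X' : Sp S} (hX' : IsAlgSpace X') {T U' P₀ Y V : Over S}
    (c : (yon S).obj T ⟶ X') (hc : IsThickMor c) (a' : (yon S).obj U' ⟶ X')
    (ha' : RepWith @Etale a') [IsAffine P₀.left] [IsAffine V.left] (p₁ : P₀ ⟶ T)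
    (k : (yon S).obj P₀ ⟶ (yon S).obj U') (hk : k ≫ a' = (yon S).map p₁ ≫ c)
    (φ : X' ⟶ (yon S).obj Y) (v : V ⟶ Y) [Etale v.left] (p₂ : P₀ ⟶ V)
    (sq : IsPullback ((yon S).map p₁) ((yon S).map p₂) (c ≫ φ) ((yon S).map v))
    {P : Sp S} (e : P ⟶ X') (q : P ⟶ (yon S).obj V) (sqP : IsPullback e q φ ((yon S).map v)) :
    IsAffineMor q := by
  have hve : RepWith @Etale ((yon S).map v) := (repWith_yon_map_iff _ _).2 ‹Etale v.left›
  have : Etale p₁.left :=
    (repWith_yon_map_iff @Etale p₁).1 (MorphismProperty.of_isPullback sq.flip hve)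
  obtain ⟨P', e', j', hP'aff, he', hj'th, sqj'⟩ :=
    exists_affine_etale_lift_of_chart c hc a' ha' p₁ k hk
  have he : RepWith @Etale e := MorphismProperty.of_isPullback sqP.flip hve
  let j : (yon S).obj P₀ ⟶ P := sqP.lift ((yon S).map p₁ ≫ c) ((yon S).map p₂)
    (by rw [Category.assoc]; exact sq.w)
  have hj1 : j ≫ e = (yon S).map p₁ ≫ c := sqP.lift_fst _ _ _
  have hj2 : j ≫ q = (yon S).map p₂ := sqP.lift_snd _ _ _
  have lsq : IsPullback ((yon S).map p₁) j c e := by
    refine (IsPullback.of_right ?_ hj1 sqP.flip).flip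
    rw [hj2]
    exact sq.flip
  have hj : IsThickMor j := MorphismProperty.of_isPullback (P := RepWith (S := S) thick) lsq hc
  have hj' : IsThickMor ((yon S).map j') := (repWith_yon_map_iff thick j').2 hj'th
  have hP : IsAlgSpace P :=
    Groth.Agent.H52.isAlgSpace_of_isPullback sqP hX' (IsAlgSpace.yon_obj Y) (IsAlgSpace.yon_obj V)
  obtain ⟨ψ, hψ1, -⟩ := exists_iso_of_etale_of_isThickMor hP (IsAlgSpace.yon_obj P') e he e' he'
    j hj ((yon S).map j') hj' (by rw [hj1]; exact sqj'.w)
  obtain ⟨m, hm⟩ := (yon S).map_surjective (ψ.inv ≫ q)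
  intro Z hZ g
  obtain ⟨g', rfl⟩ := (yon S).map_surjective g
  have sqW := IsPullback.of_hasPullback m g'
  have sqWl := sqW.map (Over.forget S)
  have hWaff : IsAffine (pullback m g').left := by
    have e := sqWl.isoPullback
    change (pullback m g').left ≅ pullback m.left g'.left at e
    exact IsAffine.of_isIso e.hom
  refine ⟨pullback m g', pullback.snd m g', (yon S).map (pullback.fst m g') ≫ ψ.inv, ?_, hWaff⟩
  have s1 := sqW.map (yon S)
  rw [hm] at s1
  have s2 : IsPullback ψ.inv (ψ.inv ≫ q) q (𝟙 ((yon S).obj V)) :=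
    IsPullback.of_horiz_isIso ⟨by rw [Category.comp_id]⟩
  have := s1.paste_horiz s2
  rwa [Category.comp_id] at this

/-- A thickening `X'` of an affine scheme `T` such that some etale covering of `T` refining a chart
of `X'` is the base change of an etale surjective `V ⟶ Y` with `V` affine along a morphism
`X' ⟶ Y`, is an affine scheme. -/
theorem exists_iso_yon_affine_of_chart {X' : Sp S} (hX' : IsAlgSpace X') {T U' P₀ Y V : Over S}
    [IsAffine T.left] (c : (yon S).obj T ⟶ X') (hc : IsThickMor c) (a' : (yon S).obj U' ⟶ X')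
    (ha' : RepWith @Etale a') [IsAffine P₀.left] [IsAffine V.left] (p₁ : P₀ ⟶ T)
    (k : (yon S).obj P₀ ⟶ (yon S).obj U') (hk : k ≫ a' = (yon S).map p₁ ≫ c)
    (φ : X' ⟶ (yon S).obj Y) (v : V ⟶ Y) [Etale v.left] [Surjective v.left] (p₂ : P₀ ⟶ V)
    (sq : IsPullback ((yon S).map p₁) ((yon S).map p₂) (c ≫ φ) ((yon S).map v)) :
    ∃ T' : Over S, IsAffine T'.left ∧ Nonempty ((yon S).obj T' ≅ X') := by
  have sqP := IsPullback.of_hasPullback φ ((yon S).map v)
  have hq := isAffineMor_snd_of_chart hX' c hc a' ha' p₁ k hk φ v p₂ sq _ _ sqP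
  have hP : IsAlgSpace (pullback φ ((yon S).map v)) :=
    Groth.Agent.H52.isAlgSpace_of_isPullback sqP hX' (IsAlgSpace.yon_obj Y) (IsAlgSpace.yon_obj V)
  have hcov : IsFpqcCover (fun _ : PUnit.{u + 1} => (yon S).obj V) (fun _ => (yon S).map v) :=
    Groth.Agent.Lib.Helper51.isFpqcCover_yon_of_fppf_family (fun _ : PUnit.{u + 1} => V)
      (fun _ => v) (fun _ => inferInstance) (fun _ => inferInstance)
      (fun x => ⟨PUnit.unit, v.left.surjective x⟩)
  have hφ : IsAffineMor φ :=
    (Groth.Agent.S10533.result S (fun _ : PUnit.{u + 1} => (yon S).obj V)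
      (fun _ => (yon S).map v) (IsAlgSpace.yon_obj Y) (fun _ => IsAlgSpace.yon_obj V) hcov φ hX'
      (fun _ => pullback φ ((yon S).map v)) (fun _ => pullback.snd _ _) (fun _ => pullback.fst _ _)
      (fun _ => hP) (fun _ => sqP)).2 (fun _ => hq)
  have hrep : Representable φ := Groth.Agent.H53.ZarGlue.representable_of_isAffineMor hφ
  obtain ⟨T', snd, fst, sqT⟩ := hrep (𝟙 ((yon S).obj Y))
  have : IsIso fst := sqT.isIso_fst_of_isIso
  obtain ⟨m, hm⟩ := (yon S).map_surjective (c ≫ inv fst)
  have hmth : IsThickMor ((yon S).map m) := by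
    rw [hm]
    have : (RepWith (S := S) thick).RespectsIso :=
      MorphismProperty.IsStableUnderBaseChange.respectsIso
    exact MorphismProperty.RespectsIso.postcomp (RepWith (S := S) thick) _ _ hc
  have hth : thick m.left := (repWith_yon_map_iff thick m).1 hmth
  have : IsClosedImmersion m.left := hth.1
  have : Surjective m.left := hth.2
  exact ⟨T', Groth.Agent.Lib.Helper18.ThickAffine.isAffine_of_isClosedImmersion_of_surjective
    m.left m.left.surjective, ⟨asIso fst⟩⟩

end Groth.Agent.Lib.Helper54
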