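import Groth.Agent.Lib.Helper54.FiniteFibre
import Mathlib

/-!
# Finite schemes over a field: rank computations and descent along flat surjections
-/

set_option autoImplicit false
universe u
open AlgebraicGeometry CategoryTheory Module Function

namespace Groth.Agent.Lib.Helper54

/-- The `K`-algebra structure map on global sections of a scheme over `Spec K`. -/
noncomputable abbrev strΓ {T : Scheme.{u}} {K : Type u} [Field K] (c : T ⟶ Spec (CommRingCat.of K)) :
    CommRingCat.of K ⟶ Γ(T, ⊤) :=
  (Scheme.ΓSpecIso (CommRingCat.of K)).inv ≫ c.appTop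

theorem strΓ_comp {P T : Scheme.{u}} {K : Type u} [Field K] (π : P ⟶ T) (c : T ⟶ Spec (CommRingCat.of K)) :
    strΓ (π ≫ c) = strΓ c ≫ π.appTop := by
  simp [strΓ]

/-- For an affine scheme `T` over a field `K` with finite-dimensional global sections, the structure morphism is
finite and its rank is the dimension of the global sections. -/
theorem isFinite_and_finrank_eq {T : Scheme.{u}} [IsAffine T] {K : Type u} [Field K]
    (c : T ⟶ Spec (CommRingCat.of K)) (hfin : (strΓ c).hom.Finite) :
    IsFinite c ∧ ∀ s, c.finrank s =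
      @Module.finrank K Γ(T, ⊤) _ _ (strΓ c).hom.toAlgebra.toModule := by
  have hc : c = T.isoSpec.hom ≫ Spec.map (strΓ c) := hom_eq_toSpecΓ_comp c
  have hfin' : IsFinite (Spec.map (strΓ c)) := (IsFinite.SpecMap_iff (strΓ c)).mpr hfin
  have hcfin : IsFinite c := by rw [hc]; infer_instance
  refine ⟨hcfin, fun s => ?_⟩
  have hψflat : (strΓ c).hom.Flat := by
    algebraize [(strΓ c).hom]
    exact (RingHom.flat_algebraMap_iff).mpr inferInstance
  algebraize [(strΓ c).hom]
  have hfinM : Module.Finite K Γ(T, ⊤) := RingHom.finite_algebraMap.mp hfin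
  conv_lhs => rw [hc]
  rw [Scheme.Hom.finrank_comp_left_of_isIso, Scheme.Hom.finrank_SpecMap_eq_finrank hfin hψflat,
    ← RingHom.algebraMap_toAlgebra (strΓ c).hom, RingHom.finrank_algebraMap,
    Module.rankAtStalk_eq_finrank_of_free]
  rfl

/-- For a finite morphism to the spectrum of a field, the global sections are finite-dimensional and the rank is their
dimension. -/
theorem finite_and_finrank_eq_of_isFinite {T : Scheme.{u}} {K : Type u} [Field K]
    (c : T ⟶ Spec (CommRingCat.of K)) [IsFinite c] :
    IsAffine T ∧ (strΓ c).hom.Finite := by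
  have : IsAffine T := isAffine_of_isAffineHom c
  refine ⟨this, ?_⟩
  have hc : c = T.isoSpec.hom ≫ Spec.map (strΓ c) := hom_eq_toSpecΓ_comp c
  have hfin : IsFinite (Spec.map (strΓ c)) := by
    have h1 : Spec.map (strΓ c) = T.isoSpec.inv ≫ c := by rw [Iso.eq_inv_comp]; exact hc.symm
    rw [h1]; infer_instance
  exact (IsFinite.SpecMap_iff (strΓ c)).mp hfin

/-- Finiteness and the dimension bound pass to a subalgebra. -/
theorem finite_and_finrank_le_of_injective_comp {K A B : Type*} [Field K] [CommRing A] [CommRing B]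
    (ψ : K →+* A) (φ : A →+* B) (χ : K →+* B) (hχ : χ = φ.comp ψ) (hφ : Function.Injective φ)
    (h : χ.Finite) :
    ψ.Finite ∧ @Module.finrank K A _ _ ψ.toAlgebra.toModule ≤
      @Module.finrank K B _ _ χ.toAlgebra.toModule := by
  subst hχ
  let _ := ψ.toAlgebra
  let _ := (φ.comp ψ).toAlgebra
  let _ := φ.toAlgebra
  have : IsScalarTower K A B := IsScalarTower.of_algebraMap_eq (fun _ => rfl)
  have hB : Module.Finite K B := h
  have hinj : Function.Injective (IsScalarTower.toAlgHom K A B).toLinearMap := hφ
  have hA : Module.Finite K A := Module.Finite.of_injective _ hinj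
  exact ⟨hA, LinearMap.finrank_le_finrank_of_injective hinj⟩

/-- Descent of finiteness and of the degree bound along a flat surjection, for schemes over a field. -/
theorem isFinite_of_flat_surjective_comp {P T : Scheme.{u}} {K : Type u} [Field K] (π : P ⟶ T) [Flat π]
    [AlgebraicGeometry.Surjective π] (c : T ⟶ Spec (CommRingCat.of K)) [IsFinite (π ≫ c)] (n : ℕ)
    (h : ∀ s, (π ≫ c).finrank s ≤ n) : IsFinite c ∧ ∀ s, c.finrank s ≤ n := by
  obtain ⟨hPaff, hPfin⟩ := finite_and_finrank_eq_of_isFinite (π ≫ c)
  obtain ⟨hFinP, -⟩ := card_le_of_isFinite_of_finrank_le (π ≫ c) n h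
  -- `P` is discrete
  have hPdisc : DiscreteTopology ↥P := by
    have hA : IsArtinianRing Γ(P, ⊤) := by
      algebraize [(strΓ (π ≫ c)).hom]
      have : Module.Finite K Γ(P, ⊤) := RingHom.finite_algebraMap.mp hPfin
      exact IsArtinianRing.of_finite K _
    have : DiscreteTopology ↥(Spec Γ(P, ⊤)) := inferInstanceAs (DiscreteTopology (PrimeSpectrum Γ(P, ⊤)))
    exact (Scheme.homeoOfIso P.isoSpec).isEmbedding.discreteTopology
  -- `T` is finite and discrete, hence affine
  have hFinT : Finite ↥T := Finite.of_surjective π π.surjective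
  have hT1 : T1Space ↥T := by
    refine ⟨fun t => ?_⟩
    rw [← closure_eq_iff_isClosed]
    refine subset_antisymm (fun t' ht' => ?_) subset_closure
    have hspec : t ⤳ t' := specializes_iff_mem_closure.mpr ht'
    obtain ⟨p', rfl⟩ := π.surjective t'
    obtain ⟨p, hp, hpt⟩ := (Flat.generalizingMap π) hspec
    have : p = p' := hp.eq
    rw [Set.mem_singleton_iff, ← hpt, this]
  have hTdisc : DiscreteTopology ↥T := inferInstance
  have hTaff : IsAffine T := inferInstance
  -- the ring map on global sections is injective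
  have hff : π.appTop.hom.FaithfullyFlat :=
    (Flat.flat_and_surjective_iff_faithfullyFlat_of_isAffine π).mp ⟨inferInstance, inferInstance⟩
  have hcomp : (strΓ (π ≫ c)).hom = (π.appTop.hom).comp (strΓ c).hom := by
    rw [strΓ_comp]; rfl
  obtain ⟨hTfin, hle⟩ := finite_and_finrank_le_of_injective_comp (strΓ c).hom π.appTop.hom
    (strΓ (π ≫ c)).hom hcomp hff.injective hPfin
  obtain ⟨hcfin, hrank⟩ := isFinite_and_finrank_eq c hTfin
  refine ⟨hcfin, fun s => ?_⟩
  obtain ⟨-, hrankP⟩ := isFinite_and_finrank_eq (π ≫ c) hPfin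
  rw [hrank s]
  refine hle.trans ?_
  have := h s
  rw [hrankP s] at this
  exact this

end Groth.Agent.Lib.Helper54
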