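import Groth.Agent.Lib.Helper54.UnivBdd2
import Groth.Agent.Lib.Helper54.MonoField

/-!
# Universally bounded fibres: composition
-/

set_option autoImplicit false
universe u
open CategoryTheory CategoryTheory.Limits AlgebraicGeometry TensorProduct

namespace Groth.Agent.Lib.Helper54

/-- Finiteness and dimension bound for the middle term of a right exact sequence. -/
theorem finite_finrank_le_of_exact {K : Type*} [Field K] {P' P P'' : Type*} [AddCommGroup P'] [AddCommGroup P]
    [AddCommGroup P''] [Module K P'] [Module K P] [Module K P''] (f : P' →ₗ[K] P) (g : P →ₗ[K] P'')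
    (hfg : Function.Exact f g) (hg : Function.Surjective g) [Module.Finite K P'] [Module.Finite K P''] :
    Module.Finite K P ∧ Module.finrank K P ≤ Module.finrank K P' + Module.finrank K P'' := by
  have hker : LinearMap.ker g = LinearMap.range f := (LinearMap.exact_iff.mp hfg)
  have h1 : Module.Finite K (LinearMap.ker g) := by
    rw [hker]; infer_instance
  have h2 : Module.Finite K (P ⧸ LinearMap.ker g) :=
    Module.Finite.equiv (g.quotKerEquivOfSurjective hg).symm
  have hP : Module.Finite K P := Module.Finite.of_submodule_quotient (LinearMap.ker g)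
  refine ⟨hP, ?_⟩
  have h3 := LinearMap.finrank_range_add_finrank_ker g
  rw [LinearMap.range_eq_top.mpr hg, finrank_top] at h3
  have h4 : Module.finrank K (LinearMap.ker g) ≤ Module.finrank K P' := by
    rw [hker]; exact LinearMap.finrank_range_le f
  omega

/-- If all the fibres `κ ⊗[A] B` of an `A`-module `B` over the residue fields `κ` of `A` have dimension at most `m`, then
`dim_K (M ⊗[A] B) ≤ m * dim_K M` for every `A`-module `M` of finite dimension over the field `K`. -/
theorem finite_finrank_tensor_le {K A : Type u} [Field K] [CommRing A] [Algebra K A]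
    (B : Type u) [AddCommGroup B] [Module A B] (m : ℕ)
    (hB : ∀ (κ : Type u) [Field κ] [Algebra A κ], Function.Surjective (algebraMap A κ) →
      Module.Finite κ (κ ⊗[A] B) ∧ Module.finrank κ (κ ⊗[A] B) ≤ m)
    (M : Type u) [AddCommGroup M] [Module A M] [Module K M] [IsScalarTower K A M] [Module.Finite K M] :
    Module.Finite K (M ⊗[A] B) ∧ Module.finrank K (M ⊗[A] B) ≤ m * Module.finrank K M := by
  induction' hd : Module.finrank K M using Nat.strong_induction_on with d ih generalizing M
  by_cases hM : Subsingleton M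
  · have : Subsingleton (M ⊗[A] B) := inferInstance
    refine ⟨inferInstance, ?_⟩
    rw [Module.finrank_zero_of_subsingleton]
    exact Nat.zero_le _
  rw [not_subsingleton_iff_nontrivial] at hM
  have hArt : IsArtinian A M := isArtinian_of_tower K (inferInstance : IsArtinian K M)
  obtain ⟨N, hN⟩ := IsAtomic.exists_atom (Submodule A M)
  have hsimple : IsSimpleModule A N := isSimpleModule_iff_isAtom.mpr hN
  obtain ⟨𝔭, h𝔭, ⟨e⟩⟩ := isSimpleModule_iff_quot_maximal.mp hsimple
  let _ : Field (A ⧸ 𝔭) := Ideal.Quotient.field 𝔭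
  obtain ⟨h1, h2⟩ := hB (A ⧸ 𝔭) Ideal.Quotient.mk_surjective
  -- the `K`-linear exact sequence `N → M → M ⧸ N`
  let f : N →ₗ[K] M := N.subtype.restrictScalars K
  let g : M →ₗ[K] M ⧸ N := N.mkQ.restrictScalars K
  have hfinj : Function.Injective f := N.injective_subtype
  have hgsurj : Function.Surjective g := N.mkQ_surjective
  have hfg : Function.Exact f g := LinearMap.exact_subtype_mkQ N
  have hNfin : Module.Finite K N := Module.Finite.of_injective f hfinj
  have hQfin : Module.Finite K (M ⧸ N) := Module.Finite.of_surjective g hgsurj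
  have hdim : Module.finrank K M = Module.finrank K N + Module.finrank K (M ⧸ N) := by
    have h3 := LinearMap.finrank_range_add_finrank_ker g
    rw [LinearMap.range_eq_top.mpr hgsurj, finrank_top, LinearMap.exact_iff.mp hfg,
      LinearMap.finrank_range_of_inj hfinj] at h3
    omega
  have hNpos : 0 < Module.finrank K N := by
    have : Nontrivial N := Submodule.nontrivial_iff_ne_bot.mpr hN.1
    exact Module.finrank_pos
  -- induction hypothesis for the quotient
  obtain ⟨hQ1, hQ2⟩ := ih (Module.finrank K (M ⧸ N)) (by omega) (M ⧸ N) rfl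
  -- the simple part
  let eK : N ≃ₗ[K] A ⧸ 𝔭 := e.restrictScalars K
  have hκfin : Module.Finite K (A ⧸ 𝔭) := Module.Finite.equiv eK
  have hκdim : Module.finrank K (A ⧸ 𝔭) = Module.finrank K N := eK.finrank_eq.symm
  have hVfin : Module.Finite K ((A ⧸ 𝔭) ⊗[A] B) := Module.Finite.trans (A ⧸ 𝔭) _
  have hVdim : Module.finrank K ((A ⧸ 𝔭) ⊗[A] B) ≤ m * Module.finrank K N := by
    rw [← Module.finrank_mul_finrank K (A ⧸ 𝔭) ((A ⧸ 𝔭) ⊗[A] B), hκdim, mul_comm]
    exact Nat.mul_le_mul_right _ h2
  let eT : N ⊗[A] B ≃ₗ[K] (A ⧸ 𝔭) ⊗[A] B := (LinearEquiv.rTensor B e).restrictScalars K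
  have hP'fin : Module.Finite K (N ⊗[A] B) := Module.Finite.equiv eT.symm
  have hP'dim : Module.finrank K (N ⊗[A] B) ≤ m * Module.finrank K N := by
    rw [eT.finrank_eq]; exact hVdim
  -- tensoring the exact sequence
  let fT : N ⊗[A] B →ₗ[K] M ⊗[A] B := (LinearMap.rTensor B N.subtype).restrictScalars K
  let gT : M ⊗[A] B →ₗ[K] (M ⧸ N) ⊗[A] B := (LinearMap.rTensor B N.mkQ).restrictScalars K
  have hT : Function.Exact fT gT := rTensor_exact B (LinearMap.exact_subtype_mkQ N) N.mkQ_surjective
  have hgT : Function.Surjective gT := LinearMap.rTensor_surjective B N.mkQ_surjective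
  obtain ⟨hfinal1, hfinal2⟩ := finite_finrank_le_of_exact fT gT hT hgT
  refine ⟨hfinal1, ?_⟩
  calc Module.finrank K (M ⊗[A] B) ≤ Module.finrank K (N ⊗[A] B) + Module.finrank K ((M ⧸ N) ⊗[A] B) := hfinal2
    _ ≤ m * Module.finrank K N + m * Module.finrank K (M ⧸ N) := Nat.add_le_add hP'dim hQ2
    _ = m * Module.finrank K M := by rw [hdim, Nat.mul_add]
    _ = m * d := by rw [hd]

/-- The case `M = A`: if all the fibres of the `A`-algebra `B` have dimension at most `m`, then
`dim_K B ≤ m * dim_K A`. -/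
theorem finite_finrank_le_of_fibres {K A B : Type u} [Field K] [CommRing A] [Algebra K A] [Module.Finite K A]
    [CommRing B] [Algebra A B] [Algebra K B] [IsScalarTower K A B] (m : ℕ)
    (hB : ∀ (κ : Type u) [Field κ] [Algebra A κ], Function.Surjective (algebraMap A κ) →
      Module.Finite κ (κ ⊗[A] B) ∧ Module.finrank κ (κ ⊗[A] B) ≤ m) :
    Module.Finite K B ∧ Module.finrank K B ≤ m * Module.finrank K A := by
  obtain ⟨h1, h2⟩ := finite_finrank_tensor_le (K := K) B m hB A
  let e : A ⊗[A] B ≃ₗ[K] B := (TensorProduct.lid A B).restrictScalars K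
  exact ⟨Module.Finite.equiv e, by rw [← e.finrank_eq]; exact h2⟩

/-- A scheme mapping to a finite discrete scheme with finite discrete scheme-theoretic fibres is finite discrete. -/
theorem finite_discrete_of_fibres {T'' T : Scheme.{u}} (lam : T'' ⟶ T) [Finite ↥T] [DiscreteTopology ↥T]
    (h : ∀ t₀ : ↥T, Finite ↥(pullback lam (T.fromSpecResidueField t₀)) ∧
      DiscreteTopology ↥(pullback lam (T.fromSpecResidueField t₀))) :
    Finite ↥T'' ∧ DiscreteTopology ↥T'' := by
  have hrange : ∀ t₀ : ↥T, Set.range (pullback.fst lam (T.fromSpecResidueField t₀)) = lam ⁻¹' {t₀} := by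
    intro t₀
    rw [Scheme.Pullback.range_fst, Scheme.range_fromSpecResidueField]
  constructor
  · rw [← Set.finite_univ_iff]
    have : (Set.univ : Set ↥T'') = ⋃ t₀ : ↥T, lam ⁻¹' {t₀} := by
      ext x; simp
    rw [this]
    refine Set.finite_iUnion fun t₀ => ?_
    rw [← hrange t₀]
    have := (h t₀).1
    exact Set.finite_range _
  · rw [discreteTopology_iff_isOpen_singleton]
    intro x
    have hx : x ∈ Set.range (pullback.fst lam (T.fromSpecResidueField (lam x))) := by
      rw [hrange]; rfl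
    obtain ⟨y, hy⟩ := hx
    have := (h (lam x)).2
    have hoe : Topology.IsOpenEmbedding (pullback.fst lam (T.fromSpecResidueField (lam x))) :=
      ⟨(pullback.fst lam (T.fromSpecResidueField (lam x))).isEmbedding, by
        rw [hrange]; exact (isOpen_discrete _).preimage lam.continuous⟩
    have := hoe.isOpenMap _ (isOpen_discrete {y})
    rwa [Set.image_singleton, hy] at this

/-- The rank of the spectrum of a finite algebra over a field. -/
theorem finrank_SpecMap_algebraMap_field {κ R : Type u} [Field κ] [CommRing R] [Algebra κ R] [Module.Finite κ R]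
    (s : ↥(Spec (CommRingCat.of κ))) :
    (Spec.map (CommRingCat.ofHom (algebraMap κ R))).finrank s = Module.finrank κ R := by
  rw [Scheme.Hom.finrank_SpecMap_algebraMap κ R s, Module.rankAtStalk_eq_finrank_of_free]
  rfl

/-- If `T` is finite of degree at most `n` over a field `K` and all the fibres of `T'' ⟶ T` over field-valued points of `T`
are finite of degree at most `m`, then `T''` is finite of degree at most `m * n` over `K`. -/
theorem isFinite_comp_of_fibres {T'' T : Scheme.{u}} {K : Type u} [Field K] (lam : T'' ⟶ T)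
    (c : T ⟶ Spec (CommRingCat.of K)) [IsFinite c] (n m : ℕ) (hn : ∀ s, c.finrank s ≤ n)
    (hfib : ∀ (κ : Type u) [Field κ] (t : Spec (CommRingCat.of κ) ⟶ T) (F : Scheme.{u}) (a : F ⟶ T'')
      (b : F ⟶ Spec (CommRingCat.of κ)), IsPullback a b lam t → IsFinite b ∧ ∀ s, b.finrank s ≤ m) :
    IsFinite (lam ≫ c) ∧ ∀ s, (lam ≫ c).finrank s ≤ m * n := by
  obtain ⟨hTaff, hTfin⟩ := finite_and_finrank_eq_of_isFinite c
  obtain ⟨-, hrankT⟩ := isFinite_and_finrank_eq c hTfin
  obtain ⟨hTF, hTD⟩ := finite_discrete_of_isFinite c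
  -- `T''` is finite and discrete, hence affine
  obtain ⟨hT''F, hT''D⟩ := finite_discrete_of_fibres lam (fun t₀ => by
    obtain ⟨hb, -⟩ := hfib (T.residueField t₀) (T.fromSpecResidueField t₀) _ _ _
      (IsPullback.of_hasPullback lam (T.fromSpecResidueField t₀))
    exact @finite_discrete_of_isFinite _ _ _ (pullback.snd lam (T.fromSpecResidueField t₀)) hb)
  have hT''aff : IsAffine T'' := inferInstance
  -- the algebra structures
  let : Algebra K Γ(T, ⊤) := (strΓ c).hom.toAlgebra
  let : Algebra Γ(T, ⊤) Γ(T'', ⊤) := lam.appTop.hom.toAlgebra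
  let : Algebra K Γ(T'', ⊤) := (strΓ (lam ≫ c)).hom.toAlgebra
  have : IsScalarTower K Γ(T, ⊤) Γ(T'', ⊤) := IsScalarTower.of_algebraMap_eq' (by
    change (strΓ (lam ≫ c)).hom = lam.appTop.hom.comp (strΓ c).hom
    rw [strΓ_comp]; rfl)
  have : Module.Finite K Γ(T, ⊤) := RingHom.finite_algebraMap.mp hTfin
  obtain ⟨hBfin, hBrank⟩ := finite_finrank_le_of_fibres (K := K) (A := Γ(T, ⊤)) (B := Γ(T'', ⊤)) m
    (fun κ _ _ hsurj => by
      let t : Spec (CommRingCat.of κ) ⟶ T :=
        Spec.map (CommRingCat.ofHom (algebraMap Γ(T, ⊤) κ)) ≫ T.isoSpec.inv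
      let b : Spec (CommRingCat.of (κ ⊗[Γ(T, ⊤)] Γ(T'', ⊤))) ⟶ Spec (CommRingCat.of κ) :=
        Spec.map (CommRingCat.ofHom (algebraMap κ (κ ⊗[Γ(T, ⊤)] Γ(T'', ⊤))))
      let a₀ : Spec (CommRingCat.of (κ ⊗[Γ(T, ⊤)] Γ(T'', ⊤))) ⟶ Spec Γ(T'', ⊤) :=
        Spec.map (CommRingCat.ofHom (Algebra.TensorProduct.includeRight.toRingHom))
      have sq₀ : IsPullback b a₀ (Spec.map (CommRingCat.ofHom (algebraMap Γ(T, ⊤) κ)))
          (Spec.map lam.appTop) :=
        isPullback_SpecMap_of_isPushout _ _ _ _ (CommRingCat.isPushout_tensorProduct Γ(T, ⊤) κ Γ(T'', ⊤))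
      have sq : IsPullback (a₀ ≫ T''.isoSpec.inv) b lam t :=
        IsPullback.of_iso sq₀.flip (Iso.refl _) T''.isoSpec.symm (Iso.refl _) T.isoSpec.symm
          (by simp) (by simp) (Scheme.isoSpec_inv_naturality lam) (by simp [t])
      obtain ⟨hbfin, hbrank⟩ := hfib κ t _ _ b sq
      have h1 : Module.Finite κ (κ ⊗[Γ(T, ⊤)] Γ(T'', ⊤)) :=
        RingHom.finite_algebraMap.mp ((IsFinite.SpecMap_iff _).mp hbfin)
      refine ⟨h1, ?_⟩
      obtain ⟨s⟩ : Nonempty ↥(Spec (CommRingCat.of κ)) := ⟨IsLocalRing.closedPoint κ⟩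
      exact (finrank_SpecMap_algebraMap_field s).symm.trans_le (hbrank s))
  have hfinB : (strΓ (lam ≫ c)).hom.Finite := RingHom.finite_algebraMap.mpr hBfin
  obtain ⟨hfin, hrank⟩ := isFinite_and_finrank_eq (lam ≫ c) hfinB
  refine ⟨hfin, fun s => ?_⟩
  rw [hrank s]
  refine hBrank.trans (Nat.mul_le_mul_left m ?_)
  obtain ⟨s₀⟩ : Nonempty ↥(Spec (CommRingCat.of K)) := ⟨IsLocalRing.closedPoint K⟩
  have := hn s₀
  rwa [hrankT s₀] at this

end Groth.Agent.Lib.Helper54
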