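import Groth.Agent.Lib.Helper54.UnivBdd2
import Groth.Agent.Lib.Helper54.FpqcTop
import Groth.Agent.Lib.Helper54.MonoField
import Groth.Prelude.Def_W4decUnivBdd

/-!
# Universally bounded fibres: descent along a representable base change whose image contains the image of the chart
-/

set_option autoImplicit false
universe u
open CategoryTheory CategoryTheory.Limits AlgebraicGeometry
open AlgSp

namespace Groth.Agent.Lib.Helper54

variable {S : Scheme.{u}}

theorem hasUnivBddFibres_of_baseChange {X Y : Sp S} (g : Y ⟶ X) {U V : Over S} (f : (yon S).obj U ⟶ X)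
    (fst : (yon S).obj V ⟶ (yon S).obj U) (f' : (yon S).obj V ⟶ Y) (h : IsPullback fst f' f g)
    (him : Set.range (Points.ofPt f) ⊆ Set.range (Points.map g)) (hf' : W4dec.HasUnivBddFibres f') :
    W4dec.HasUnivBddFibres f := by
  obtain ⟨n, hn⟩ := hf'
  refine ⟨n, ?_⟩
  intro q T c snd sq
  by_cases hT : IsEmpty ↥T.left
  · exact isFinite_finrank_le_of_isEmpty (K := q.K) c.left n
  rw [not_isEmpty_iff] at hT
  obtain ⟨t⟩ := hT
  obtain ⟨σ, rfl⟩ := (yon S).map_surjective snd
  have hx : Points.ofPt f (σ.left t) = Points.mk q := by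
    rw [← ofPt_yon_map_comp, ← sq.w, ofPt_yon_map_comp, Points.ofPt_toHom]
  obtain ⟨y, hy⟩ := him ⟨_, hx⟩
  obtain ⟨r, rfl⟩ := Points.mk_surjective y
  rw [Points.map_mk, Points.mk_eq_mk_iff, rel_iff_toHom] at hy
  obtain ⟨Ω, _, w, b, a, hab⟩ := hy
  rw [FieldPt.toHom_map] at hab
  change Over.mk w ⟶ r.pt at b
  change Over.mk w ⟶ q.pt at a
  replace hab : (yon S).map b ≫ r.toHom ≫ g = (yon S).map a ≫ q.toHom := hab
  have hq' : (fieldPtOfHom Ω w ((yon S).map b ≫ r.toHom)).toHom = (yon S).map b ≫ r.toHom :=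
    fieldPtOfHom_toHom _ _ _
  -- base change of `c` along `a`
  have hrepc := representable_yon_map (S := S) c
  have sqc := hrepc.isPullback ((yon S).map a)
  obtain ⟨ϕ, hϕ⟩ := (yon S).map_surjective (hrepc.fst ((yon S).map a))
  rw [← hϕ] at sqc
  have big : IsPullback ((yon S).map ϕ ≫ (yon S).map σ) ((yon S).map (hrepc.snd ((yon S).map a))) f
      ((yon S).map a ≫ q.toHom) := sqc.paste_horiz sq.flip
  have comm : ((yon S).map ϕ ≫ (yon S).map σ) ≫ f =
      ((yon S).map (hrepc.snd ((yon S).map a)) ≫ (fieldPtOfHom Ω w ((yon S).map b ≫ r.toHom)).toHom) ≫ g := by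
    rw [hq', Category.assoc, Category.assoc, Category.assoc, hab, ← sq.w, ← Category.assoc, sqc.w,
      Category.assoc]
  have hlift1 := h.lift_fst _ _ comm
  have hlift2 := h.lift_snd _ _ comm
  have left : IsPullback (h.lift _ _ comm) ((yon S).map (hrepc.snd ((yon S).map a))) f'
      (fieldPtOfHom Ω w ((yon S).map b ≫ r.toHom)).toHom := by
    refine IsPullback.of_right ?_ hlift2 h
    rw [hlift1, hq', Category.assoc, hab]
    exact big
  obtain ⟨hfin, hrank⟩ := hn (fieldPtOfHom Ω w ((yon S).map b ≫ r.toHom)) _ (hrepc.snd ((yon S).map a)) _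
    left.flip
  have sqsch := isPullback_left_of_isPullback_yon sqc
  exact isFinite_of_isPullback_fieldExt (K := q.K) (Ω := Ω) c.left a.left ϕ.left
    (hrepc.snd ((yon S).map a)).left sqsch n hrank

end Groth.Agent.Lib.Helper54
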