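import Groth.Agent.Lib.Helper54.UnivBddCover
import Groth.Agent.Lib.Helper54.UnivBddSp
import Groth.Agent.Lib.Helper54.LargestOpen
import Groth.Agent.H52.QC
import Groth.Agent.H53.OpenSub

/-!
# Universally bounded fibres: finite flat covers of the source (sheaf level)
-/

set_option autoImplicit false
universe u
open AlgebraicGeometry CategoryTheory CategoryTheory.Limits
open AlgSp

namespace Groth.Agent.Lib.Helper54

variable {S : Scheme.{u}}

/-- If `h_V ⟶ X` becomes a morphism with universally bounded fibres after composing with each member of a finite jointly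
surjective family of flat morphisms `P j ⟶ V`, then it has universally bounded fibres. -/
theorem hasUnivBddFibres_of_finite_flat_cover {X : Sp S} {V : Over S} (ψ : (yon S).obj V ⟶ X)
    {J : Type u} [Finite J] (P : J → Over S) (e : ∀ j, P j ⟶ V) (he : ∀ j, Flat (e j).left)
    (hsurj : ∀ v : ↥V.left, ∃ j, v ∈ Set.range (e j).left)
    (hb : ∀ j, W4dec.HasUnivBddFibres ((yon S).map (e j) ≫ ψ)) : W4dec.HasUnivBddFibres ψ := by
  choose n hn using hb
  refine ⟨∑ᶠ j, n j, ?_⟩
  intro q T c snd sq
  obtain ⟨s, rfl⟩ := (yon S).map_surjective snd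
  have key : ∀ j, IsFinite ((pullback.fst s (e j)).left ≫ c.left) ∧
      ∀ x, ((pullback.fst s (e j)).left ≫ c.left).finrank x ≤ n j := by
    intro j
    have top := (IsPullback.of_hasPullback s (e j)).map (yon S)
    have big := (top.flip.paste_vert sq.flip).flip
    rw [← Functor.map_comp] at big
    exact hn j q (pullback s (e j)) (pullback.fst s (e j) ≫ c) ((yon S).map (pullback.snd s (e j))) big
  refine isFinite_finrank_le_of_finite_flat_cover c.left (fun j => (pullback s (e j)).left)
    (fun j => (pullback.fst s (e j)).left) (fun j => ?_) (fun t => ?_) n key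
  · have sq' := (IsPullback.of_hasPullback s (e j)).map (Over.forget S)
    exact MorphismProperty.of_isPullback (P := @Flat) sq'.flip (he j)
  · obtain ⟨j, p, hp⟩ := hsurj (s.left t)
    have sq' : IsPullback (pullback.fst s (e j)).left (pullback.snd s (e j)).left s.left (e j).left :=
      (IsPullback.of_hasPullback s (e j)).map (Over.forget S)
    obtain ⟨z, hz1, -⟩ := Scheme.Pullback.exists_preimage_pullback (f := s.left) (g := (e j).left) t p hp.symm
    refine ⟨j, sq'.isoPullback.inv z, ?_⟩
    rw [← Scheme.Hom.comp_apply, sq'.isoPullback_inv_fst]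
    exact hz1

/-- A representable open immersion is representable étale. -/
theorem repWith_etale_of_isOpenImmersion {A B : Sp S} (j : A ⟶ B) (hj : RepWith @IsOpenImmersion j) :
    RepWith @Etale j :=
  MorphismProperty.relative_monotone (fun _ _ f hf => by
    have : IsOpenImmersion f.left := hf
    exact (inferInstance : Etale f.left)) _ hj

/-- Finite affine open covers of the source: if every point of the affine scheme `U` has an affine open neighbourhood
`A` such that `h_A ⟶ h_U ⟶ X` has universally bounded fibres, then so has `h_U ⟶ X`. -/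
theorem hasUnivBddFibres_of_forall_exists_affine_nhd {X : Sp S} {U : Over S} (φ : (yon S).obj U ⟶ X)
    [CompactSpace ↥U.left]
    (key : ∀ u : ↥U.left, ∃ A : U.left.Opens, u ∈ A ∧
      W4dec.HasUnivBddFibres ((yon S).map (Groth.Agent.H52.overOpenι U A) ≫ φ)) :
    W4dec.HasUnivBddFibres φ := by
  choose A huA hA using key
  obtain ⟨F, hF⟩ := isCompact_univ.elim_finite_subcover (fun u : ↥U.left => ((A u : U.left.Opens) : Set ↥U.left))
    (fun u => (A u).isOpen) (fun u _ => Set.mem_iUnion.2 ⟨u, huA u⟩)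
  refine hasUnivBddFibres_of_finite_flat_cover φ (J := ↥F)
    (fun u => Groth.Agent.H52.overOpen U (A u.1)) (fun u => Groth.Agent.H52.overOpenι U (A u.1))
    (fun u => ?_) (fun v => ?_) (fun u => hA u.1)
  · change Flat (A u.1).ι
    infer_instance
  · obtain ⟨u, hu, hv⟩ := Set.mem_iUnion₂.1 (hF (Set.mem_univ v))
    refine ⟨⟨u, hu⟩, ⟨v, hv⟩, rfl⟩

/-- Universally bounded fibres of étale maps from affine schemes can be checked Zariski locally on the space. -/
theorem hasUnivBddFibres_of_isZarCover (X : AlgSp.Space S) {ι : Type u}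
    (Xi : ι → AlgSp.Space S) (j : ∀ i, Xi i ⟶ X)
    (hj : AlgSp.IsZarCover (fun i => (Xi i).obj) (fun i => (j i).hom))
    (h : ∀ (i : ι) (V : Over S) (ψ : (AlgSp.yon S).obj V ⟶ (Xi i).obj), IsAffine V.left →
      AlgSp.RepWith @Etale ψ → W4dec.HasUnivBddFibres ψ)
    (U : Over S) (φ : (AlgSp.yon S).obj U ⟶ X.obj) (hU : IsAffine U.left) (hφ : AlgSp.RepWith @Etale φ) :
    W4dec.HasUnivBddFibres φ := by
  have : (RepWith (S := S) @Etale).IsMultiplicative := repWith_isMultiplicative _
  obtain ⟨hjo, hjs⟩ := hj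
  refine hasUnivBddFibres_of_forall_exists_affine_nhd φ fun u => ?_
  obtain ⟨i, y, hy⟩ := hjs (Points.ofPt φ u)
  have hrep := (hjo i).rep
  have sq := hrep.isPullback φ
  have hsnd : IsOpenImmersion (hrep.snd φ).left := (hjo i).property_snd φ
  obtain ⟨v, -, hv⟩ := exists_pt_of_isPullback_yon sq y u hy
  obtain ⟨A, hA, huA, hAle⟩ := exists_isAffineOpen_mem_and_subset (x := u)
    (U := (hrep.snd φ).left.opensRange) ⟨v, hv⟩
  refine ⟨A, huA, ?_⟩
  have hrange : Set.range (Points.map ((yon S).map (Groth.Agent.H52.overOpenι U A) ≫ φ)) ⊆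
      Set.range (Points.map (j i).hom) := by
    rintro _ ⟨a', rfl⟩
    obtain ⟨a, rfl⟩ := exists_ofScheme_eq _ a'
    obtain ⟨w, hw⟩ := hAle a.2
    refine ⟨Points.ofPt (hrep.fst φ) w, ?_⟩
    rw [Points.map_ofPt, sq.w, ← Points.map_ofPt, Points.ofPt_eq_map_ofScheme,
      Groth.Agent.H52.points_map_ofScheme, Points.map_comp, Groth.Agent.H52.points_map_ofScheme]
    congr 2
  obtain ⟨g₁, hg₁⟩ := Groth.Agent.H53.exists_factor_of_range_subset (j i).hom (hjo i) _ hrange
  have hcomp : RepWith @Etale ((yon S).map (Groth.Agent.H52.overOpenι U A) ≫ φ) :=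
    (RepWith (S := S) @Etale).comp_mem _ _ (Groth.Agent.H52.repWith_etale_overOpenι U A) hφ
  have hg₁e : RepWith @Etale g₁ :=
    repWith_etale_of_postcomp g₁ (j i).hom (repWith_etale_of_isOpenImmersion _ (hjo i)) (hg₁ ▸ hcomp)
  have hb := h i (Groth.Agent.H52.overOpen U A) g₁ hA hg₁e
  have hmono := mono_of_isOpenImmersion (j i).hom (hjo i)
  refine hasUnivBddFibres_of_baseChange (j i).hom _ (𝟙 _) g₁
    (IsPullback.of_horiz_isIso_mono ⟨by rw [Category.id_comp, hg₁]⟩) ?_ hb
  rintro _ ⟨a, rfl⟩
  exact hrange ⟨Points.ofScheme _ a, (Points.ofPt_eq_map_ofScheme _ a).symm⟩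

end Groth.Agent.Lib.Helper54
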