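import Groth.Agent.Lib.Helper54.EtaleBoundSch
import Groth.Agent.Lib.Helper54.UnivBddCoverSp

/-!
# Universally bounded fibres: étale morphisms between affine schemes, open immersions, étale covers
-/

set_option autoImplicit false
universe u
open AlgebraicGeometry CategoryTheory CategoryTheory.Limits
open AlgSp

namespace Groth.Agent.Lib.Helper54

variable {S : Scheme.{u}}

/-- An étale morphism between affine schemes over `S` has universally bounded fibres. -/
theorem hasUnivBddFibres_yon_map_of_etale_affine {P U : Over S} (f : P ⟶ U) [IsAffine P.left]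
    [IsAffine U.left] (hf : Etale f.left) : W4dec.HasUnivBddFibres ((yon S).map f) := by
  obtain ⟨n, hn⟩ := exists_bound_of_etale_affine f.left
  refine ⟨n, ?_⟩
  intro q T c snd sq
  obtain ⟨s, rfl⟩ := (yon S).map_surjective snd
  obtain ⟨t, ht⟩ := (yon S).map_surjective q.toHom
  rw [← ht] at sq
  exact hn q.K t.left T.left c.left s.left (isPullback_left_of_isPullback_yon sq)

/-- An open immersion of schemes over `S` has universally bounded fibres (of degree at most one). -/
theorem hasUnivBddFibres_yon_map_of_isOpenImmersion {W U : Over S} (j : W ⟶ U)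
    (hj : IsOpenImmersion j.left) : W4dec.HasUnivBddFibres ((yon S).map j) := by
  refine ⟨1, ?_⟩
  intro q T c snd sq
  obtain ⟨s, rfl⟩ := (yon S).map_surjective snd
  obtain ⟨t, ht⟩ := (yon S).map_surjective q.toHom
  rw [← ht] at sq
  have sq' := isPullback_left_of_isPullback_yon sq
  have hc : IsOpenImmersion c.left := MorphismProperty.of_isPullback (P := @IsOpenImmersion) sq'.flip hj
  by_cases hT : IsEmpty ↥T.left
  · exact isFinite_finrank_le_of_isEmpty (K := q.K) c.left 1
  rw [not_isEmpty_iff] at hT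
  obtain ⟨x⟩ := hT
  have hsurj : AlgebraicGeometry.Surjective c.left := by
    refine ⟨fun y => ⟨x, ?_⟩⟩
    have : Subsingleton ↥(Spec (CommRingCat.of q.K)) := inferInstanceAs (Subsingleton (PrimeSpectrum q.K))
    exact Subsingleton.elim (α := ↥(Spec (CommRingCat.of q.K))) _ _
  have hiso : IsIso c.left := (isIso_iff_isOpenImmersion_and_surjective _).mpr ⟨hc, hsurj⟩
  refine ⟨inferInstance, fun y => ?_⟩
  rw [Scheme.Hom.finrank_eq_one_of_isIso]
  rfl

/-- Finite étale covers of the source: if every point of the quasi-compact scheme `V` is in the image of a flat, open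
morphism `e : P ⟶ V` such that `h_P ⟶ h_V ⟶ X` has universally bounded fibres, then so has `h_V ⟶ X`. -/
theorem hasUnivBddFibres_of_forall_exists_flat_open_nhd {X : Sp S} {V : Over S} (ψ : (yon S).obj V ⟶ X)
    [CompactSpace ↥V.left]
    (key : ∀ v : ↥V.left, ∃ (P : Over S) (e : P ⟶ V), Flat e.left ∧ IsOpenMap e.left ∧
      v ∈ Set.range e.left ∧ W4dec.HasUnivBddFibres ((yon S).map e ≫ ψ)) :
    W4dec.HasUnivBddFibres ψ := by
  choose P e hfl hop hv hb using key
  obtain ⟨F, hF⟩ := isCompact_univ.elim_finite_subcover (fun v : ↥V.left => Set.range (e v).left)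
    (fun v => (hop v).isOpen_range) (fun v _ => Set.mem_iUnion.2 ⟨v, hv v⟩)
  refine hasUnivBddFibres_of_finite_flat_cover ψ (J := ↥F) (fun v => P v.1) (fun v => e v.1)
    (fun v => hfl v.1) (fun w => ?_) (fun v => hb v.1)
  obtain ⟨v, hvF, hw⟩ := Set.mem_iUnion₂.1 (hF (Set.mem_univ w))
  exact ⟨⟨v, hvF⟩, hw⟩

/-- If an algebraic space has an étale covering by schemes with universally bounded fibres, then every étale morphism from
an affine scheme has universally bounded fibres. -/
theorem hasUnivBddFibres_affine_etale_of_etale_cover (X : AlgSp.Space S) {ι : Type u} (U : ι → Over S)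
    (φ : ∀ i, (AlgSp.yon S).obj (U i) ⟶ X.obj) (hφ : ∀ i, AlgSp.RepWith @Etale (φ i))
    (hsurj : ∀ x : AlgSp.Points X.obj, ∃ (i : ι) (v : ↥(U i).left), AlgSp.Points.ofPt (φ i) v = x)
    (hb : ∀ i, W4dec.HasUnivBddFibres (φ i)) {V : Over S} [IsAffine V.left]
    (ψ : (AlgSp.yon S).obj V ⟶ X.obj) (hψ : AlgSp.RepWith @Etale ψ) : W4dec.HasUnivBddFibres ψ := by
  refine hasUnivBddFibres_of_forall_exists_flat_open_nhd ψ fun v => ?_
  obtain ⟨i, u, hu⟩ := hsurj (Points.ofPt ψ v)
  have hrep := (hφ i).rep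
  have sq := hrep.isPullback ψ
  obtain ⟨ρ, hρ⟩ := (yon S).map_surjective (hrep.fst ψ)
  rw [← hρ] at sq
  have hsnd : Etale (hrep.snd ψ).left := (hφ i).property_snd ψ
  have hρe : Etale ρ.left := hψ.2 (φ i) ((yon S).map (hrep.snd ψ)) ρ sq.flip
  obtain ⟨p, hp1, hp2⟩ := exists_pt_of_isPullback_yon sq (Points.ofScheme (U i) u) v (by
    rw [← Points.ofPt_eq_map_ofScheme]; exact hu)
  have hρp : ρ.left p = u := by
    have := congrArg (Points.toScheme (U i)) hp1
    rwa [Points.toScheme_ofPt, Points.toScheme_ofScheme] at this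
  obtain ⟨U', hU', huU', -⟩ := exists_isAffineOpen_mem_and_subset (x := u) (U := (⊤ : (U i).left.Opens)) trivial
  obtain ⟨P', hP', hpP', hle0⟩ := exists_isAffineOpen_mem_and_subset (x := p) (U := ρ.left ⁻¹ᵁ U')
    (by change ρ.left p ∈ U'; rw [hρp]; exact huU')
  have hle : P' ≤ ρ.left ⁻¹ᵁ U' := hle0
  -- the restricted morphism `P' ⟶ U'`
  let ρ' : Groth.Agent.H52.overOpen (hrep.pullback ψ) P' ⟶ Groth.Agent.H52.overOpen (U i) U' :=
    Over.homMk (ρ.left.resLE U' P' hle) (by
      change ρ.left.resLE U' P' hle ≫ U'.ι ≫ (U i).hom = P'.ι ≫ (hrep.pullback ψ).hom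
      rw [Scheme.Hom.resLE_comp_ι_assoc, Over.w ρ])
  have hρ'comm : ρ' ≫ Groth.Agent.H52.overOpenι (U i) U' =
      Groth.Agent.H52.overOpenι (hrep.pullback ψ) P' ≫ ρ := by
    apply Over.OverMorphism.ext
    exact Scheme.Hom.resLE_comp_ι _ _
  have hρ'e : Etale ρ'.left := by
    refine MorphismProperty.HasOfPostcompProperty.of_postcomp (W := @Etale) ρ'.left U'.ι
      (inferInstance : Etale U'.ι) ?_
    change Etale (ρ.left.resLE U' P' hle ≫ U'.ι)
    rw [Scheme.Hom.resLE_comp_ι]
    infer_instance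
  have haffP' : IsAffine (Groth.Agent.H52.overOpen (hrep.pullback ψ) P').left := hP'
  have haffU' : IsAffine (Groth.Agent.H52.overOpen (U i) U').left := hU'
  have h1 := hasUnivBddFibres_yon_map_of_etale_affine ρ' hρ'e
  have h2 := hasUnivBddFibres_yon_map_of_isOpenImmersion (Groth.Agent.H52.overOpenι (U i) U')
    (by change IsOpenImmersion U'.ι; infer_instance)
  have h3 := hasUnivBddFibres_comp X (Groth.Agent.H52.overOpenι (U i) U') (φ i) h2 (hb i)
  have h4 := hasUnivBddFibres_comp X ρ' _ h1 h3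
  refine ⟨Groth.Agent.H52.overOpen (hrep.pullback ψ) P',
    Groth.Agent.H52.overOpenι (hrep.pullback ψ) P' ≫ hrep.snd ψ, ?_, ?_, ⟨⟨p, hpP'⟩, hp2⟩, ?_⟩
  · change Flat (P'.ι ≫ (hrep.snd ψ).left)
    infer_instance
  · change IsOpenMap (P'.ι ≫ (hrep.snd ψ).left)
    exact (P'.ι ≫ (hrep.snd ψ).left).isOpenMap
  · have e : (yon S).map (Groth.Agent.H52.overOpenι (hrep.pullback ψ) P' ≫ hrep.snd ψ) ≫ ψ =
        (yon S).map ρ' ≫ (yon S).map (Groth.Agent.H52.overOpenι (U i) U') ≫ φ i := by
      rw [← Category.assoc, ← Functor.map_comp, hρ'comm, Functor.map_comp, Functor.map_comp,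
        Category.assoc, Category.assoc, sq.w]
    rw [e]
    exact h4

end Groth.Agent.Lib.Helper54
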