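import Groth.Agent.Lib.Helper54.UnivBddEtale

/-!
# Universally bounded fibres: base change and representable morphisms
-/

set_option autoImplicit false
universe u
open AlgebraicGeometry CategoryTheory CategoryTheory.Limits
open AlgSp

namespace Groth.Agent.Lib.Helper54

variable {S : Scheme.{u}}

/-- Universally bounded fibres are stable under base change. -/
theorem hasUnivBddFibres_of_isPullback {X Y : Sp S} (f : X ⟶ Y) {V W : Over S}
    (b : (yon S).obj V ⟶ Y) (fst : (yon S).obj W ⟶ X) (snd : W ⟶ V)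
    (sq : IsPullback fst ((yon S).map snd) f b) (hb : W4dec.HasUnivBddFibres b) :
    W4dec.HasUnivBddFibres fst := by
  obtain ⟨n, hn⟩ := hb
  refine ⟨n, ?_⟩
  intro q T c s' sqT
  have big := (sqT.flip.paste_horiz sq.flip).flip
  have := hn (q.map f) T c (s' ≫ (yon S).map snd) (by rw [FieldPt.toHom_map]; exact big)
  exact this

/-- If `X ⟶ Y` is representable and every étale morphism from an affine scheme to `Y` has universally bounded fibres, then
the same holds for `X`. -/
theorem hasUnivBddFibres_affine_etale_of_representable {X Y : AlgSp.Space S} (f : X ⟶ Y)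
    (hf : AlgSp.Representable f.hom)
    (hY : ∀ (V : Over S) (ψ : (AlgSp.yon S).obj V ⟶ Y.obj), IsAffine V.left → AlgSp.RepWith @Etale ψ →
      W4dec.HasUnivBddFibres ψ)
    (U : Over S) (φ : (AlgSp.yon S).obj U ⟶ X.obj) (hU : IsAffine U.left) (hφ : AlgSp.RepWith @Etale φ) :
    W4dec.HasUnivBddFibres φ := by
  have : (RepWith (S := S) @Etale).IsMultiplicative := repWith_isMultiplicative _
  have : (RepWith (S := S) @Etale).IsStableUnderBaseChange := repWith_isStableUnderBaseChange _
  obtain ⟨V, b, hbe, hbs⟩ := Y.property.atlas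
  -- the affine opens of the atlas
  let bk : ∀ k : V.left.affineOpens, (yon S).obj (Groth.Agent.H52.overOpen V k.1) ⟶ Y.obj :=
    fun k => (yon S).map (Groth.Agent.H52.overOpenι V k.1) ≫ b
  have hbke : ∀ k, RepWith @Etale (bk k) := fun k =>
    (RepWith (S := S) @Etale).comp_mem _ _ (Groth.Agent.H52.repWith_etale_overOpenι V k.1) hbe
  have hbkb : ∀ k, W4dec.HasUnivBddFibres (bk k) := fun k => hY _ (bk k) k.2 (hbke k)
  have sqk : ∀ k, IsPullback (hf.fst (bk k)) ((yon S).map (hf.snd (bk k))) f.hom (bk k) :=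
    fun k => hf.isPullback (bk k)
  refine hasUnivBddFibres_affine_etale_of_etale_cover X (fun k : V.left.affineOpens => hf.pullback (bk k))
    (fun k => hf.fst (bk k)) (fun k => MorphismProperty.of_isPullback (sqk k).flip (hbke k)) (fun x => ?_)
    (fun k => hasUnivBddFibres_of_isPullback f.hom (bk k) _ _ (sqk k) (hbkb k)) φ hφ
  obtain ⟨v', hv'⟩ := Groth.Agent.H52.surjective_points_of_repWith_surjective b hbs (Points.map f.hom x)
  obtain ⟨v, rfl⟩ := exists_ofScheme_eq V v'
  obtain ⟨_, ⟨A, hA, rfl⟩, hvA, -⟩ := V.left.isBasis_affineOpens.exists_subset_of_mem_open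
    (a := v) (Set.mem_univ v) isOpen_univ
  obtain ⟨t, ht⟩ : ∃ t : ↥(Groth.Agent.H52.overOpen V A).left,
      (Groth.Agent.H52.overOpenι V A).left t = v := ⟨(⟨v, hvA⟩ : ↥A), rfl⟩
  obtain ⟨w, hw, -⟩ := exists_pt_of_isPullback_yon (sqk ⟨A, hA⟩) x t (by
    rw [← hv']
    change Points.map b (Points.ofScheme V v) =
      Points.ofPt ((yon S).map (Groth.Agent.H52.overOpenι V A) ≫ b) t
    rw [Points.ofPt_eq_map_ofScheme, Points.map_comp, Groth.Agent.H52.points_map_ofScheme, ht])
  exact ⟨⟨A, hA⟩, w, hw⟩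

end Groth.Agent.Lib.Helper54
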